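import Mathlib
import Cfsg.Prelude.Def_Blocks

/-!
# The local ring of algebraic integers at a maximal ideal (helper17)

`H17.S M` is the subring of `ℂ` of local integers at `M`, `H17.Pm M` its maximal ideal as an
additive subgroup of `ℂ`, `H17.F M` the residue field.
-/

set_option autoImplicit false

open Cfsg

namespace H17

/-- `M` is a maximal ideal of the algebraic integers over the prime `p`, as a class. -/
class PM (p : outParam ℕ) (M : Ideal AlgInt) : Prop where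
  out : IsPModular p M

instance PM.isMaximal {p : ℕ} {M : Ideal AlgInt} [h : PM p M] : M.IsMaximal := h.out.2.1

section Basic

variable (M : Ideal AlgInt) [hM : M.IsMaximal]

theorem one_notMem : (1 : AlgInt) ∉ M := (Ideal.ne_top_iff_one M).mp hM.ne_top

variable {M}

theorem mul_notMem {a b : AlgInt} (ha : a ∉ M) (hb : b ∉ M) : a * b ∉ M := fun h =>
  (hM.isPrime.mem_or_mem h).elim ha hb

omit hM in
theorem coe_ne_zero_of_notMem {b : AlgInt} (hb : b ∉ M) : (b : ℂ) ≠ 0 := fun h =>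
  hb (by rw [show b = 0 from Subtype.ext h]; exact M.zero_mem)

variable (M)

/-- The local integers at `M`. -/
def S : Subring ℂ where
  carrier := {z | MemLocalRing M z}
  mul_mem' := by
    rintro _ _ ⟨a, b, hb, rfl⟩ ⟨c, d, hd, rfl⟩
    exact ⟨a * c, b * d, mul_notMem hb hd, by push_cast; rw [div_mul_div_comm]⟩
  one_mem' := ⟨1, 1, one_notMem M, by simp⟩
  add_mem' := by
    rintro _ _ ⟨a, b, hb, rfl⟩ ⟨c, d, hd, rfl⟩
    exact ⟨a * d + b * c, b * d, mul_notMem hb hd, by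
      push_cast; rw [div_add_div _ _ (coe_ne_zero_of_notMem hb) (coe_ne_zero_of_notMem hd)]⟩
  zero_mem' := ⟨0, 1, one_notMem M, by simp⟩
  neg_mem' := by
    rintro _ ⟨a, b, hb, rfl⟩
    exact ⟨-a, b, hb, by push_cast; rw [neg_div]⟩

/-- The local ideal at `M`, as an additive subgroup of `ℂ`. -/
def Pm : AddSubgroup ℂ where
  carrier := {z | MemLocalIdeal M z}
  add_mem' := by
    rintro _ _ ⟨a, b, ha, hb, rfl⟩ ⟨c, d, hc, hd, rfl⟩
    exact ⟨a * d + b * c, b * d, M.add_mem (M.mul_mem_right _ ha) (M.mul_mem_left _ hc),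
      mul_notMem hb hd, by
      push_cast; rw [div_add_div _ _ (coe_ne_zero_of_notMem hb) (coe_ne_zero_of_notMem hd)]⟩
  zero_mem' := ⟨0, 1, M.zero_mem, one_notMem M, by simp⟩
  neg_mem' := by
    rintro _ ⟨a, b, ha, hb, rfl⟩
    exact ⟨-a, b, M.neg_mem ha, hb, by push_cast; rw [neg_div]⟩

variable {M}

theorem mem_S {z : ℂ} : z ∈ S M ↔ MemLocalRing M z := Iff.rfl

theorem mem_Pm {z : ℂ} : z ∈ Pm M ↔ MemLocalIdeal M z := Iff.rfl

theorem S_of_Pm {z : ℂ} (h : z ∈ Pm M) : z ∈ S M := by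
  obtain ⟨a, b, -, hb, rfl⟩ := h
  exact ⟨a, b, hb, rfl⟩

theorem S_of_isIntegral {z : ℂ} (h : IsIntegral ℤ z) : z ∈ S M :=
  ⟨⟨z, h⟩, 1, one_notMem M, by simp⟩

theorem coe_mem_S (a : AlgInt) : (a : ℂ) ∈ S M := S_of_isIntegral a.2

theorem Pm_mul_left {a b : ℂ} (ha : a ∈ S M) (hb : b ∈ Pm M) : a * b ∈ Pm M := by
  obtain ⟨a, c, hc, rfl⟩ := ha
  obtain ⟨b, d, hb, hd, rfl⟩ := hb
  exact ⟨a * b, c * d, M.mul_mem_left _ hb, mul_notMem hc hd, by push_cast; rw [div_mul_div_comm]⟩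

theorem Pm_mul_right {a b : ℂ} (ha : a ∈ Pm M) (hb : b ∈ S M) : a * b ∈ Pm M := by
  rw [mul_comm]; exact Pm_mul_left hb ha

theorem coe_mem_Pm {a : AlgInt} : (a : ℂ) ∈ Pm M ↔ a ∈ M := by
  constructor
  · rintro ⟨c, d, hc, hd, h⟩
    have h1 : c = a * d := by
      apply Subtype.ext
      rw [div_eq_iff (coe_ne_zero_of_notMem hd)] at h
      simpa using h
    rw [h1] at hc
    exact (hM.isPrime.mem_or_mem hc).resolve_right hd
  · intro h
    exact ⟨a, 1, h, one_notMem M, by simp⟩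

theorem one_notMem_Pm : (1 : ℂ) ∉ Pm M := fun h =>
  one_notMem M (coe_mem_Pm.mp (by simpa using h))

theorem ne_zero_of_notMem_Pm {z : ℂ} (h : z ∉ Pm M) : z ≠ 0 := by
  rintro rfl; exact h (Pm M).zero_mem

theorem inv_mem_S {z : ℂ} (hz : z ∈ S M) (h : z ∉ Pm M) : z⁻¹ ∈ S M := by
  obtain ⟨a, b, hb, rfl⟩ := hz
  have ha : a ∉ M := fun ha => h ⟨a, b, ha, hb, rfl⟩
  exact ⟨b, a, ha, by rw [inv_div]⟩

theorem Pm_of_mul_left {a b : ℂ} (ha : a ∈ S M) (ha' : a ∉ Pm M) (h : a * b ∈ Pm M) :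
    b ∈ Pm M := by
  have := Pm_mul_left (inv_mem_S ha ha') h
  rwa [← mul_assoc, inv_mul_cancel₀ (ne_zero_of_notMem_Pm ha'), one_mul] at this

theorem Pm_of_mul_right {a b : ℂ} (hb : b ∈ S M) (hb' : b ∉ Pm M) (h : a * b ∈ Pm M) :
    a ∈ Pm M := Pm_of_mul_left hb hb' (by rwa [mul_comm])

theorem S_of_mul_left {a b : ℂ} (ha : a ∈ S M) (ha' : a ∉ Pm M) (h : a * b ∈ S M) :
    b ∈ S M := by
  have := (S M).mul_mem (inv_mem_S ha ha') h
  rwa [← mul_assoc, inv_mul_cancel₀ (ne_zero_of_notMem_Pm ha'), one_mul] at this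

theorem mul_notMem_Pm {a b : ℂ} (ha : a ∈ S M) (ha' : a ∉ Pm M) (hb' : b ∉ Pm M) :
    a * b ∉ Pm M := fun h => hb' (Pm_of_mul_left ha ha' h)

theorem inv_notMem_Pm {z : ℂ} (hz : z ∈ S M) (h : z ∉ Pm M) : z⁻¹ ∉ Pm M := fun h' => by
  have := Pm_mul_left hz h'
  rw [mul_inv_cancel₀ (ne_zero_of_notMem_Pm h)] at this
  exact one_notMem_Pm this

theorem div_mem_S {a b : ℂ} (ha : a ∈ S M) (hb : b ∈ S M) (hb' : b ∉ Pm M) : a / b ∈ S M := by
  rw [div_eq_mul_inv]; exact (S M).mul_mem ha (inv_mem_S hb hb')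

theorem div_mem_Pm {a b : ℂ} (ha : a ∈ Pm M) (hb : b ∈ S M) (hb' : b ∉ Pm M) :
    a / b ∈ Pm M := by
  rw [div_eq_mul_inv]; exact Pm_mul_right ha (inv_mem_S hb hb')

theorem notMem_Pm_of_sub {a b : ℂ} (h : a - b ∈ Pm M) (hb : b ∉ Pm M) : a ∉ Pm M := fun ha =>
  hb (by simpa using (Pm M).sub_mem ha h)

theorem mem_Pm_of_sub {a b : ℂ} (h : a - b ∈ Pm M) (hb : b ∈ Pm M) : a ∈ Pm M := by
  simpa using (Pm M).add_mem h hb

theorem sub_mem_Pm_symm {a b : ℂ} (h : a - b ∈ Pm M) : b - a ∈ Pm M := by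
  simpa using (Pm M).neg_mem h

theorem sub_mem_Pm_trans {a b c : ℂ} (h : a - b ∈ Pm M) (h' : b - c ∈ Pm M) : a - c ∈ Pm M := by
  simpa using (Pm M).add_mem h h'

theorem mem_Pm_congr {a b : ℂ} (h : a - b ∈ Pm M) : a ∈ Pm M ↔ b ∈ Pm M :=
  ⟨mem_Pm_of_sub (sub_mem_Pm_symm h), mem_Pm_of_sub h⟩

theorem mul_sub_mul_mem_Pm {a b c d : ℂ} (hb : b ∈ S M) (hc : c ∈ S M) (h1 : a - b ∈ Pm M)
    (h2 : c - d ∈ Pm M) : a * c - b * d ∈ Pm M := by
  have := (Pm M).add_mem (Pm_mul_right h1 hc) (Pm_mul_left hb h2)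
  convert this using 1; ring

theorem prod_notMem_Pm {ι : Type*} (s : Finset ι) (f : ι → ℂ) (h1 : ∀ i ∈ s, f i ∈ S M)
    (h2 : ∀ i ∈ s, f i ∉ Pm M) : ∏ i ∈ s, f i ∉ Pm M := by
  classical
  induction s using Finset.induction_on with
  | empty => simpa using one_notMem_Pm
  | insert a s ha ih =>
    rw [Finset.prod_insert ha]
    exact mul_notMem_Pm (h1 a (by simp)) (h2 a (by simp))
      (ih (fun i hi => h1 i (by simp [hi])) (fun i hi => h2 i (by simp [hi])))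

theorem Pm_of_pow {a : ℂ} (ha : a ∈ S M) {n : ℕ} (h : a ^ n ∈ Pm M) : a ∈ Pm M := by
  by_contra h'
  have := prod_notMem_Pm (Finset.range n) (fun _ => a) (fun _ _ => ha) (fun _ _ => h')
  rw [Finset.prod_const, Finset.card_range] at this
  exact this h

theorem exists_notMem_Pm_of_sum {ι : Type*} (s : Finset ι) (f : ι → ℂ)
    (h : ∑ i ∈ s, f i ∉ Pm M) : ∃ i ∈ s, f i ∉ Pm M := by
  by_contra hc
  push Not at hc
  exact h ((Pm M).sum_mem hc)

theorem isUnit_S_iff (z : S M) : IsUnit z ↔ (z : ℂ) ∉ Pm M := by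
  constructor
  · rintro ⟨u, rfl⟩ h
    have := Pm_mul_right h (↑u⁻¹ : S M).2
    rw [← Subring.coe_mul, Units.mul_inv] at this
    exact one_notMem_Pm this
  · intro h
    refine IsUnit.of_mul_eq_one ⟨(z : ℂ)⁻¹, inv_mem_S z.2 h⟩ (Subtype.ext ?_)
    simp [mul_inv_cancel₀ (ne_zero_of_notMem_Pm h)]

instance instIsLocalRingS : IsLocalRing (S M) :=
  IsLocalRing.of_isUnit_or_isUnit_one_sub_self fun a => by
    rw [isUnit_S_iff, isUnit_S_iff]
    by_contra hc
    push Not at hc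
    have := (Pm M).add_mem hc.1 hc.2
    simp at this
    exact one_notMem_Pm this

variable (M) in
/-- The residue field. -/
abbrev F : Type := IsLocalRing.ResidueField (S M)

variable (M) in
/-- The residue map. -/
noncomputable abbrev red : S M →+* F M := IsLocalRing.residue (S M)

theorem red_eq_zero {z : S M} : red M z = 0 ↔ (z : ℂ) ∈ Pm M := by
  rw [IsLocalRing.residue_eq_zero_iff, IsLocalRing.mem_maximalIdeal, mem_nonunits_iff,
    isUnit_S_iff, not_not]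

theorem red_eq_iff {z w : S M} : red M z = red M w ↔ (z : ℂ) - w ∈ Pm M := by
  rw [← sub_eq_zero, ← map_sub, red_eq_zero]; rfl

theorem red_surjective : Function.Surjective (red M) := IsLocalRing.residue_surjective

/-- A nonzero local integer divides a nonzero natural number. -/
theorem exists_nat_div {z : ℂ} (hz : z ∈ S M) (h0 : z ≠ 0) :
    ∃ n : ℕ, n ≠ 0 ∧ (n : ℂ) / z ∈ S M := by
  obtain ⟨a, b, hb, rfl⟩ := hz
  have ha : (a : ℂ) ≠ 0 := fun h => h0 (by rw [h, zero_div])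
  have halg : IsAlgebraic ℤ (a : ℂ)⁻¹ := (IsIntegral.isAlgebraic a.2).inv
  obtain ⟨n, hn, hint⟩ := halg.exists_integral_multiple
  refine ⟨n.natAbs, Int.natAbs_ne_zero.mpr hn, ?_⟩
  have h1 : ((n : ℂ) * (a : ℂ)⁻¹) * b ∈ S M :=
    (S M).mul_mem (S_of_isIntegral (by simpa using hint)) (coe_mem_S b)
  have h2 : ((n : ℂ) * (a : ℂ)⁻¹) * b = (n : ℂ) / (a / b) := by
    have := coe_ne_zero_of_notMem hb
    field_simp
  rw [h2] at h1
  rcases Int.natAbs_eq n with h | h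
  · have : ((n.natAbs : ℕ) : ℂ) = n := by rw [h]; simp
    rwa [this]
  · have : ((n.natAbs : ℕ) : ℂ) = -n := by
      conv_rhs => rw [h]
      simp
    rw [this, neg_div]; exact (S M).neg_mem h1

end Basic

section Char

variable {p : ℕ} {M : Ideal AlgInt} [hM : PM p M]

variable (M) in
include hM in
theorem prime_of_PM : p.Prime := hM.out.1

theorem p_mem_Pm : (p : ℂ) ∈ Pm M := by
  have := (coe_mem_Pm (M := M) (a := (p : AlgInt))).mpr hM.out.2.2
  simpa using this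

theorem natCast_mem_Pm {n : ℕ} : (n : ℂ) ∈ Pm M ↔ p ∣ n := by
  constructor
  · intro h
    by_contra hn
    have hc : IsCoprime (p : ℤ) n :=
      Nat.isCoprime_iff_coprime.mpr (((prime_of_PM M).coprime_iff_not_dvd).mpr hn)
    obtain ⟨a, b, hab⟩ := hc
    have h1 : (a : ℂ) * p + b * n = 1 := by exact_mod_cast hab
    exact one_notMem_Pm (M := M) (h1 ▸ (Pm M).add_mem (Pm_mul_left (intCast_mem _ a) p_mem_Pm)
      (Pm_mul_left (intCast_mem _ b) h))
  · rintro ⟨k, rfl⟩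
    push_cast
    exact Pm_mul_right p_mem_Pm (natCast_mem _ k)

theorem intCast_mem_Pm {n : ℤ} : (n : ℂ) ∈ Pm M ↔ (p : ℤ) ∣ n := by
  rw [Int.natCast_dvd, ← natCast_mem_Pm (M := M)]
  rcases Int.natAbs_eq n with h | h
  · have : ((n.natAbs : ℕ) : ℂ) = n := by rw [h]; simp
    rw [this]
  · have : ((n.natAbs : ℕ) : ℂ) = -n := by
      conv_rhs => rw [h]
      simp
    rw [this, neg_mem_iff]

theorem p_mul_mem_Pm {z : ℂ} (hz : z ∈ S M) : (p : ℂ) * z ∈ Pm M := Pm_mul_right p_mem_Pm hz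

theorem natCast_mul_mem_Pm {n : ℕ} (hn : p ∣ n) {z : ℂ} (hz : z ∈ S M) : (n : ℂ) * z ∈ Pm M :=
  Pm_mul_right (natCast_mem_Pm.mpr hn) hz

theorem inv_natCast_mem_S {n : ℕ} (hn : ¬ p ∣ n) : (n : ℂ)⁻¹ ∈ S M :=
  inv_mem_S (natCast_mem _ n) (fun h => hn (natCast_mem_Pm.mp h))

instance instCharPF : CharP (F M) p where
  cast_eq_zero_iff n := by
    rw [← map_natCast (red M), red_eq_zero, ← natCast_mem_Pm (M := M)]
    rfl

variable (M) in
include hM in
/-- Decomposition of a natural number as a unit times a power of `p`. -/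
theorem natCast_eq_unit_mul {n : ℕ} (hn : n ≠ 0) :
    ∃ u : ℕ, ¬ p ∣ u ∧ n = p ^ n.factorization p * u :=
  ⟨ordCompl[p] n, Nat.not_dvd_ordCompl (prime_of_PM M) hn,
    (Nat.ordProj_mul_ordCompl_eq_self n p).symm⟩

variable (M) in
include hM in
theorem p_ne_zero : (p : ℂ) ≠ 0 := by exact_mod_cast (prime_of_PM M).ne_zero

theorem div_mem_S_of_le {a b : ℕ} (hb : b ≠ 0) (h : b.factorization p ≤ a.factorization p) :
    (a : ℂ) / b ∈ S M := by
  rcases eq_or_ne a 0 with rfl | ha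
  · simp
  obtain ⟨u, -, hu'⟩ := natCast_eq_unit_mul M ha
  obtain ⟨v, hv, hv'⟩ := natCast_eq_unit_mul M hb
  obtain ⟨k, hk⟩ := Nat.exists_eq_add_of_le h
  have hv0 : (v : ℂ) ≠ 0 := by rintro h0; exact hv (by rw [Nat.cast_eq_zero.mp h0]; simp)
  have : (a : ℂ) / b = (p ^ k * u : ℕ) * (v : ℂ)⁻¹ := by
    rw [hu', hv', hk]
    have := p_ne_zero M
    push_cast; field_simp; ring
  rw [this]
  exact (S M).mul_mem (natCast_mem _ _) (inv_natCast_mem_S hv)

theorem div_mem_Pm_of_lt {a b : ℕ} (hb : b ≠ 0) (h : b.factorization p < a.factorization p) :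
    (a : ℂ) / b ∈ Pm M := by
  rcases eq_or_ne a 0 with rfl | ha
  · simp
  obtain ⟨u, -, hu'⟩ := natCast_eq_unit_mul M ha
  obtain ⟨v, hv, hv'⟩ := natCast_eq_unit_mul M hb
  obtain ⟨k, hk⟩ := Nat.exists_eq_add_of_lt h
  have hv0 : (v : ℂ) ≠ 0 := by rintro h0; exact hv (by rw [Nat.cast_eq_zero.mp h0]; simp)
  have : (a : ℂ) / b = p * ((p ^ k * u : ℕ) * (v : ℂ)⁻¹) := by
    rw [hu', hv', hk]
    have := p_ne_zero M
    push_cast; field_simp; ring
  rw [this]
  exact p_mul_mem_Pm ((S M).mul_mem (natCast_mem _ _) (inv_natCast_mem_S hv))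

theorem div_notMem_Pm_of_le {a b : ℕ} (ha : a ≠ 0) (hb : b ≠ 0)
    (h : a.factorization p ≤ b.factorization p) : (a : ℂ) / b ∉ Pm M := fun h' => by
  have := Pm_mul_left (div_mem_S_of_le (M := M) ha h) h'
  have ha' : (a : ℂ) ≠ 0 := by exact_mod_cast ha
  have hb' : (b : ℂ) ≠ 0 := by exact_mod_cast hb
  rw [show (b : ℂ) / a * (a / b) = 1 by field_simp] at this
  exact one_notMem_Pm this

theorem div_mem_Pm_iff {a b : ℕ} (ha : a ≠ 0) (hb : b ≠ 0) :
    (a : ℂ) / b ∈ Pm M ↔ b.factorization p < a.factorization p :=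
  ⟨fun h => by by_contra hc; exact div_notMem_Pm_of_le ha hb (not_lt.mp hc) h,
    div_mem_Pm_of_lt hb⟩

theorem div_mem_S_iff {a b : ℕ} (ha : a ≠ 0) (hb : b ≠ 0) :
    (a : ℂ) / b ∈ S M ↔ b.factorization p ≤ a.factorization p := by
  refine ⟨fun h => ?_, div_mem_S_of_le hb⟩
  by_contra hc
  have := Pm_mul_left h (div_mem_Pm_of_lt (M := M) ha (not_le.mp hc))
  have ha' : (a : ℂ) ≠ 0 := by exact_mod_cast ha
  have hb' : (b : ℂ) ≠ 0 := by exact_mod_cast hb
  rw [show (a : ℂ) / b * (b / a) = 1 by field_simp] at this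
  exact one_notMem_Pm this

/-- Krull intersection in the form needed: a number divisible by all powers of `p` is zero. -/
theorem eq_zero_of_forall_pow_dvd {z : ℂ} (h : ∀ n : ℕ, ∃ s ∈ S M, z = p ^ n * s) : z = 0 := by
  by_contra h0
  obtain ⟨s0, hs0, hz⟩ := h 0
  have hzS : z ∈ S M := by rw [hz]; simpa using hs0
  obtain ⟨n, hn, hnz⟩ := exists_nat_div hzS h0
  obtain ⟨s, hs, hzs⟩ := h (n.factorization p + 1)
  have h1 : (n : ℂ) / (p ^ (n.factorization p + 1) : ℕ) ∈ S M := by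
    have := (S M).mul_mem hnz hs
    have hp := p_ne_zero M
    have hs' : s = z / p ^ (n.factorization p + 1) := by rw [hzs]; field_simp
    rw [hs'] at this
    convert this using 1
    push_cast; field_simp
  rw [div_mem_S_iff hn (pow_ne_zero _ (prime_of_PM M).ne_zero),
    Nat.Prime.factorization_pow (prime_of_PM M)] at h1
  simp at h1

theorem S_of_pow_eq_one {z : ℂ} {n : ℕ} (hn : n ≠ 0) (h : z ^ n = 1) : z ∈ S M :=
  S_of_isIntegral (IsIntegral.of_pow (Nat.pos_of_ne_zero hn) (by rw [h]; exact isIntegral_one))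

theorem notMem_Pm_of_pow_eq_one {z : ℂ} {n : ℕ} (hn : n ≠ 0) (h : z ^ n = 1) : z ∉ Pm M := by
  intro hz
  obtain ⟨k, rfl⟩ := Nat.exists_eq_succ_of_ne_zero hn
  rw [pow_succ] at h
  exact one_notMem_Pm (M := M) (h ▸ Pm_mul_left ((S M).pow_mem (S_of_Pm hz) k) hz)

/-- A `p`-power root of unity is congruent to one. -/
theorem sub_one_mem_Pm_of_pow {z : ℂ} {k : ℕ} (h : z ^ p ^ k = 1) : z - 1 ∈ Pm M := by
  have : Fact p.Prime := ⟨prime_of_PM M⟩
  have hz : z ∈ S M := S_of_pow_eq_one (pow_ne_zero _ (prime_of_PM M).ne_zero) h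
  have h1 : (red M ⟨z, hz⟩ - 1) ^ p ^ k = 0 := by
    rw [sub_pow_char_pow, one_pow, ← map_pow, sub_eq_zero, ← map_one (red M)]
    congr 1
    exact Subtype.ext h
  have h2 := sub_eq_zero.mp (pow_eq_zero_iff (pow_ne_zero _ (prime_of_PM M).ne_zero) |>.mp h1)
  rw [← map_one (red M), red_eq_iff] at h2
  exact h2

/-- A root of unity of order prime to `p` congruent to one is one. -/
theorem eq_one_of_sub_one_mem_Pm {z : ℂ} {m : ℕ} (hm : ¬ p ∣ m) (h : z ^ m = 1)
    (h1 : z - 1 ∈ Pm M) : z = 1 := by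
  by_contra hz
  have hm0 : m ≠ 0 := by rintro rfl; exact hm (dvd_zero p)
  have hzS : z ∈ S M := S_of_pow_eq_one hm0 h
  have h2 : ∑ i ∈ Finset.range m, z ^ i = 0 := by
    have := mul_geom_sum z m
    rw [h, sub_self] at this
    exact (mul_eq_zero.mp this).resolve_left (sub_ne_zero.mpr hz)
  have h3 : ∑ i ∈ Finset.range m, (z ^ i - 1) ∈ Pm M := by
    refine (Pm M).sum_mem fun i _ => ?_
    rw [← mul_geom_sum]
    exact Pm_mul_right h1 ((S M).sum_mem fun j _ => (S M).pow_mem hzS j)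
  rw [Finset.sum_sub_distrib, h2] at h3
  simp only [Finset.sum_const, Finset.card_range, nsmul_eq_mul, mul_one, zero_sub,
    neg_mem_iff] at h3
  exact hm (natCast_mem_Pm.mp h3)

theorem roots_eq_of_sub_mem_Pm {z w : ℂ} {m n : ℕ} (hm : ¬ p ∣ m) (hn : ¬ p ∣ n) (hz : z ^ m = 1)
    (hw : w ^ n = 1) (h : z - w ∈ Pm M) : z = w := by
  have hm0 : m ≠ 0 := by rintro rfl; exact hm (dvd_zero p)
  have hn0 : n ≠ 0 := by rintro rfl; exact hn (dvd_zero p)
  have hwP := notMem_Pm_of_pow_eq_one (M := M) hn0 hw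
  have hw0 := ne_zero_of_notMem_Pm hwP
  have h1 : z / w = 1 := by
    refine eq_one_of_sub_one_mem_Pm (M := M) (m := m * n)
      (fun hd => ((prime_of_PM M).dvd_mul.mp hd).elim hm hn) ?_ ?_
    · rw [div_pow, pow_mul, hz, mul_comm m n, pow_mul, hw]; simp
    · rw [div_sub_one hw0]
      exact div_mem_Pm h (S_of_pow_eq_one hn0 hw) hwP
  exact (div_eq_one_iff_eq hw0).mp h1

theorem exists_root_of_unity_sub_mem (a : AlgInt) (ha : a ∉ M) :
    ∃ ε : AlgInt, (∃ m : ℕ, ¬ p ∣ m ∧ (ε : ℂ) ^ m = 1) ∧ a - ε ∈ M := by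
  classical
  have : Fact p.Prime := ⟨prime_of_PM M⟩
  let : Algebra (ZMod p) (F M) := ZMod.algebra _ p
  set x : F M := red M ⟨a, coe_mem_S a⟩ with hx
  have hx0 : x ≠ 0 := fun h => ha (coe_mem_Pm.mp (red_eq_zero.mp h))
  have hint : IsIntegral ℤ (⟨a, coe_mem_S a⟩ : S M) :=
    (isIntegral_algHom_iff (S M).subtype.toIntAlgHom Subtype.val_injective).mp a.2
  have hxint : IsIntegral (ZMod p) x := by
    obtain ⟨f, hf, h⟩ := hint
    refine ⟨f.map (Int.castRingHom (ZMod p)), hf.map _, ?_⟩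
    have h1 := Polynomial.hom_eval₂ f (algebraMap ℤ (S M)) (red M) ⟨a, coe_mem_S a⟩
    rw [h, map_zero] at h1
    rw [Polynomial.eval₂_map, h1]
    congr 1
    exact RingHom.ext_int _ _
  have hfin : FiniteDimensional (ZMod p) (IntermediateField.adjoin (ZMod p) {x}) :=
    IntermediateField.adjoin.finiteDimensional hxint
  have : Finite (IntermediateField.adjoin (ZMod p) {x}) := Module.finite_of_finite (ZMod p)
  have := Fintype.ofFinite (IntermediateField.adjoin (ZMod p) {x})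
  obtain ⟨k, -, hk⟩ := FiniteField.card (IntermediateField.adjoin (ZMod p) {x}) p
  set m := Fintype.card (IntermediateField.adjoin (ZMod p) {x}) - 1 with hm
  have hxm : x ^ m = 1 := by
    have := FiniteField.pow_card_sub_one_eq_one (IntermediateField.AdjoinSimple.gen (ZMod p) x)
      (fun h => hx0 (by simpa using congrArg Subtype.val h))
    simpa using congrArg Subtype.val this
  have hpm : ¬ p ∣ m := by
    intro h
    have h1 : p ∣ p ^ (k : ℕ) := dvd_pow_self p k.ne_zero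
    rw [hm, hk] at h
    have h2 : 1 ≤ p ^ (k : ℕ) := Nat.one_le_pow _ _ (prime_of_PM M).pos
    have := (Nat.dvd_sub_iff_right h2 h1).mp h
    exact (prime_of_PM M).one_lt.ne' (Nat.dvd_one.mp this)
  have hm0 : m ≠ 0 := by rintro h; exact hpm (h ▸ dvd_zero p)
  have h1 : (a : ℂ) ^ m - 1 ∈ Pm M := by
    rw [hx, ← map_pow, ← map_one (red M), red_eq_iff] at hxm
    simpa using hxm
  have h2 := congrArg (Polynomial.eval (a : ℂ))
    (Polynomial.X_pow_sub_one_eq_prod (Nat.pos_of_ne_zero hm0)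
      (Complex.isPrimitiveRoot_exp m hm0))
  simp only [Polynomial.eval_sub, Polynomial.eval_pow, Polynomial.eval_X, Polynomial.eval_one,
    Polynomial.eval_prod, Polynomial.eval_C] at h2
  rw [h2] at h1
  by_contra hc
  push Not at hc
  refine prod_notMem_Pm _ _ (fun ζ hζ => ?_) (fun ζ hζ hP => ?_) h1
  · exact (S M).sub_mem (coe_mem_S a) (S_of_pow_eq_one hm0
      ((Polynomial.mem_nthRootsFinset (Nat.pos_of_ne_zero hm0) 1).mp hζ))
  · have hζ' := (Polynomial.mem_nthRootsFinset (Nat.pos_of_ne_zero hm0) 1).mp hζ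
    refine hc ⟨ζ, IsIntegral.of_pow (Nat.pos_of_ne_zero hm0) (by rw [hζ']; exact isIntegral_one)⟩
      ⟨m, hpm, hζ'⟩ (coe_mem_Pm.mp (by simpa using hP))

end Char

end H17
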