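import Mathlib
import Cfsg.Prelude.Def_Blocks
import Cfsg.Agent.H4.Gen
import Cfsg.Agent.H17.Local

/-!
# The centre of the group algebra in Fourier form; blocks and Osima's theorem (helper17)

A central element of `ℂG` is recorded as the function `z : Irr G → ℂ`, `z χ = ω_χ(z)`;
`co z g` is its coefficient at `g`.
-/

set_option autoImplicit false

open Cfsg H4
open scoped ComplexConjugate

namespace H17

/-- Irreducible characters. -/
abbrev Irr (G : Type*) [Group G] := IrrCharacter G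

section Fourier

variable {G : Type*} [Group G] [Finite G]

/-- Coefficient function of a central element. -/
noncomputable def co : (Irr G → ℂ) →ₗ[ℂ] (G → ℂ) where
  toFun z g := (Nat.card G : ℂ)⁻¹ * ∑ χ : Irr G, χ.1 1 * z χ * conj (χ.1 g)
  map_add' z w := by
    ext g; simp only [Pi.add_apply, mul_add, add_mul, Finset.sum_add_distrib]
  map_smul' c z := by
    ext g
    simp only [Pi.smul_apply, smul_eq_mul, RingHom.id_apply, Finset.mul_sum]
    exact Finset.sum_congr rfl fun _ _ => by ring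

/-- Central characters of the element with coefficient function `c`. -/
noncomputable def hat : (G → ℂ) →ₗ[ℂ] (Irr G → ℂ) :=
  haveI := Fintype.ofFinite G
  { toFun c χ := (∑ g, c g * χ.1 g) / χ.1 1
    map_add' c d := by
      ext χ; simp only [Pi.add_apply, add_mul, Finset.sum_add_distrib, add_div]
    map_smul' a c := by
      ext χ
      simp only [Pi.smul_apply, smul_eq_mul, RingHom.id_apply, mul_assoc, ← Finset.mul_sum,
        mul_div_assoc] }

theorem co_apply (z : Irr G → ℂ) (g : G) :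
    co z g = (Nat.card G : ℂ)⁻¹ * ∑ χ : Irr G, χ.1 1 * z χ * conj (χ.1 g) := rfl

theorem hat_apply {G : Type*} [Group G] [Fintype G] (c : G → ℂ) (χ : Irr G) :
    hat c χ = (∑ g, c g * χ.1 g) / χ.1 1 := by
  change (∑ g ∈ @Finset.univ G (Fintype.ofFinite G), c g * χ.1 g) / χ.1 1 = _
  congr
  exact Subsingleton.elim _ _

theorem co_classFun (z : Irr G → ℂ) : IsClassFunction G (co z) := fun g h => by
  simp only [co_apply, fun χ : Irr G => χ.2.classFun g h]

theorem co_conj (z : Irr G → ℂ) (g h : G) : co z (h * g * h⁻¹) = co z g := co_classFun z g h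

theorem co_of_isConj (z : Irr G → ℂ) {g h : G} (hc : IsConj g h) : co z g = co z h :=
  (co_classFun z).apply_of_isConj hc

theorem sum_mul_hat {G : Type*} [Group G] [Fintype G] {c : G → ℂ} (hc : IsClassFunction G c)
    (χ : Irr G) (h : G) : ∑ g, c g * χ.1 (g * h) = hat c χ * χ.1 h := by
  rw [χ.2.sum_classFun_mul hc, hat_apply]

theorem hat_co (z : Irr G → ℂ) : hat (co z) = z := by
  classical
  have := Fintype.ofFinite G
  ext χ
  rw [hat_apply, div_eq_iff χ.2.apply_one_ne_zero]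
  simp only [co_apply, mul_assoc, Finset.sum_mul, ← Finset.mul_sum]
  rw [Finset.sum_comm]
  simp only [← Finset.mul_sum]
  have h1 : ∀ ψ : Irr G, ∑ g, conj (ψ.1 g) * χ.1 g = if χ = ψ then (Nat.card G : ℂ) else 0 := by
    intro ψ
    have := card_mul_classInner χ.1 ψ.1
    rw [irr_inner] at this
    simp only [mul_comm (conj _), ← this]
    split_ifs <;> simp
  simp only [h1, mul_ite, mul_zero, Finset.sum_ite_eq, Finset.mem_univ, if_true]
  have := card_ne_zero G
  field_simp

theorem co_injective : Function.Injective (co : (Irr G → ℂ) → G → ℂ) :=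
  Function.LeftInverse.injective hat_co

theorem ext_co {z w : Irr G → ℂ} (h : ∀ g, co z g = co w g) : z = w := co_injective (funext h)

theorem co_hat {c : G → ℂ} (hc : IsClassFunction G c) : co (hat c) = c := by
  have := Fintype.ofFinite G
  ext g
  have h1 := hc.conj.apply_eq_sum g
  have h2 := congrArg conj h1
  rw [Complex.conj_conj] at h2
  rw [h2, co_apply, map_sum, Finset.mul_sum]
  refine Finset.sum_congr rfl fun χ _ => ?_
  rw [hat_apply, map_mul, classInner]
  have := χ.2.apply_one_ne_zero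
  simp only [map_mul, map_inv₀, map_natCast, map_sum, Complex.conj_conj]
  field_simp

theorem sum_co_mul {G : Type*} [Group G] [Fintype G] (z : Irr G → ℂ) (χ : Irr G) (h : G) :
    ∑ g, co z g * χ.1 (g * h) = z χ * χ.1 h := by
  rw [sum_mul_hat (co_classFun z), hat_co]

theorem sum_co {G : Type*} [Group G] [Fintype G] (z : Irr G → ℂ) (χ : Irr G) :
    ∑ g, co z g * χ.1 g = z χ * χ.1 1 := by
  simpa using sum_co_mul z χ 1

theorem co_mul {G : Type*} [Group G] [Fintype G] (z w : Irr G → ℂ) (g : G) :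
    co (z * w) g = ∑ h, co z h * co w (h⁻¹ * g) := by
  have h1 : ∀ h, co z h * co w (h⁻¹ * g) =
      (Nat.card G : ℂ)⁻¹ * ∑ χ : Irr G, χ.1 1 * w χ * (co z h * χ.1 (h * g⁻¹)) := by
    intro h
    rw [co_apply w, mul_left_comm, Finset.mul_sum]
    congr 1
    refine Finset.sum_congr rfl fun χ _ => ?_
    rw [← χ.2.apply_inv, mul_inv_rev, inv_inv, χ.2.classFun.mul_comm]
    ring
  simp only [h1, ← Finset.mul_sum]
  rw [Finset.sum_comm, co_apply]
  congr 1
  refine Finset.sum_congr rfl fun χ _ => ?_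
  rw [← Finset.mul_sum, sum_co_mul, χ.2.apply_inv, Pi.mul_apply]
  ring

theorem co_one (g : G) [Decidable (g = 1)] :
    co (1 : Irr G → ℂ) g = if g = 1 then 1 else 0 := by
  have h1 := congrArg conj (sum_degree_mul g)
  simp only [map_sum, map_mul, fun χ : Irr G => conj_apply_one χ.2.isCharacter] at h1
  simp only [co_apply, Pi.one_apply, mul_one, h1]
  split_ifs
  · simp [card_ne_zero G]
  · simp

theorem co_const (a : ℂ) (g : G) : co (fun _ : Irr G => a) g = a * co (1 : Irr G → ℂ) g := by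
  have : (fun _ : Irr G => a) = a • (1 : Irr G → ℂ) := by ext; simp
  rw [this, map_smul]; rfl

/-- The class sum of `g`. -/
noncomputable def cls (g : G) : Irr G → ℂ := fun χ => centralChar χ.1 g

omit [Finite G] in
theorem cls_apply (g : G) (χ : Irr G) : cls g χ = centralChar χ.1 g := rfl

/-- Indicator function of the class of `g`. -/
noncomputable def cind (g : G) : G → ℂ := {h | IsConj g h}.indicator 1

omit [Finite G] in
theorem cind_apply (g h : G) [Decidable (IsConj g h)] :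
    cind g h = if IsConj g h then 1 else 0 := by
  rw [cind]
  split_ifs with hc
  · exact Set.indicator_of_mem (s := {h | IsConj g h}) hc _
  · exact Set.indicator_of_notMem (s := {h | IsConj g h}) hc _

omit [Finite G] in
theorem cind_classFun (g : G) : IsClassFunction G (cind g) := by
  classical
  exact isClassFunction_of_isConj fun a b hab => by
    simp only [cind_apply,
      show IsConj g a ↔ IsConj g b from ⟨fun h => h.trans hab, fun h => h.trans hab.symm⟩]

theorem sum_cind_mul {G : Type*} [Group G] [Fintype G] (g : G) {c : G → ℂ}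
    (hc : IsClassFunction G c) :
    ∑ h, cind g h * c h = (Subgroup.centralizer ({g} : Set G)).index * c g := by
  classical
  have : ∀ h, cind g h * c h = if IsConj g h then c g else 0 := by
    intro h
    rw [cind_apply]
    split_ifs with hc'
    · rw [one_mul, hc.apply_of_isConj hc']
    · simp
  simp only [this]
  rw [← Finset.sum_filter, Finset.sum_const, nsmul_eq_mul, ← card_isConj_eq_index,
    Nat.card_eq_fintype_card, Fintype.card_subtype]

theorem hat_cind (g : G) : hat (cind g) = cls g := by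
  have := Fintype.ofFinite G
  ext χ
  rw [hat_apply, cls_apply, centralChar, sum_cind_mul g χ.2.classFun]

theorem co_cls' (g : G) : co (cls g) = cind g := by
  rw [← hat_cind, co_hat (cind_classFun g)]

theorem co_cls (g h : G) [Decidable (IsConj g h)] :
    co (cls g) h = if IsConj g h then 1 else 0 := by
  rw [co_cls', cind_apply]

theorem cls_of_isConj {g h : G} (hc : IsConj g h) : cls g = cls h := by
  classical
  refine ext_co fun x => ?_
  simp only [co_cls,
    show IsConj g x ↔ IsConj h x from ⟨fun h => hc.symm.trans h, fun h => hc.trans h⟩]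

theorem cls_one : cls (1 : G) = 1 := by
  classical
  refine ext_co fun x => ?_
  simp [co_cls, co_one, eq_comm]

theorem eq_sum_cls [Fintype (ConjClasses G)] (z : Irr G → ℂ) :
    z = ∑ C : ConjClasses G, co z (Quotient.out C) • cls (Quotient.out C) := by
  classical
  refine ext_co fun x => ?_
  simp only [map_sum, map_smul, Finset.sum_apply, Pi.smul_apply, co_cls, smul_eq_mul, mul_ite,
    mul_one, mul_zero]
  have h1 : ∀ C : ConjClasses G, IsConj (Quotient.out C) x ↔ C = ConjClasses.mk x := by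
    intro C
    rw [← ConjClasses.mk_eq_mk_iff_isConj]
    have : ConjClasses.mk (Quotient.out C) = C := Quotient.out_eq C
    rw [this]
  simp only [h1, Finset.sum_ite_eq', Finset.mem_univ, if_true]
  exact co_of_isConj z ((h1 _).mpr rfl).symm

/-- A linear functional can be tested on class sums. -/
theorem linear_mem (L : (Irr G → ℂ) →ₗ[ℂ] ℂ) (I : AddSubgroup ℂ) (z : Irr G → ℂ)
    (h : ∀ g, co z g * L (cls g) ∈ I) : L z ∈ I := by
  have := Fintype.ofFinite (ConjClasses G)
  rw [eq_sum_cls z, map_sum]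
  exact I.sum_mem fun C _ => by simpa using h _

theorem apply_mem (χ : Irr G) (I : AddSubgroup ℂ) (z : Irr G → ℂ)
    (h : ∀ g, co z g * cls g χ ∈ I) : z χ ∈ I :=
  linear_mem (LinearMap.proj χ) I z h

variable (G) in
/-- Central elements with coefficients in `R`. -/
def ZR (R : Subring ℂ) : Subring (Irr G → ℂ) where
  carrier := {z | ∀ g, co z g ∈ R}
  mul_mem' {z w} hz hw g := by
    have := Fintype.ofFinite G
    rw [co_mul]
    exact R.sum_mem fun h _ => R.mul_mem (hz _) (hw _)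
  one_mem' g := by
    classical
    rw [co_one]; split_ifs
    · exact R.one_mem
    · exact R.zero_mem
  add_mem' {z w} hz hw g := by rw [map_add]; exact R.add_mem (hz g) (hw g)
  zero_mem' g := by rw [map_zero]; exact R.zero_mem
  neg_mem' {z} hz g := by rw [map_neg]; exact R.neg_mem (hz g)

theorem mem_ZR {R : Subring ℂ} {z : Irr G → ℂ} : z ∈ ZR G R ↔ ∀ g, co z g ∈ R := Iff.rfl

theorem cls_mem_ZR (R : Subring ℂ) (g : G) : cls g ∈ ZR G R := fun h => by
  classical
  rw [co_cls]; split_ifs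
  · exact R.one_mem
  · exact R.zero_mem

theorem hat_mem_ZR {R : Subring ℂ} {c : G → ℂ} (hc : IsClassFunction G c) (h : ∀ g, c g ∈ R) :
    hat c ∈ ZR G R := fun g => by rw [co_hat hc]; exact h g

theorem isIntegral_of_mem_ZR {z : Irr G → ℂ} (hz : z ∈ ZR G ⊥) (χ : Irr G) :
    IsIntegral ℤ (z χ) := by
  have := Fintype.ofFinite (ConjClasses G)
  let A : Subalgebra ℤ (Irr G → ℂ) := subalgebraOfSubring (ZR G ⊥)
  have hA : A.toSubmodule = Submodule.span ℤ
      (Set.range fun C : ConjClasses G => cls (Quotient.out C : G)) := by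
    refine le_antisymm (fun w hw => ?_) (Submodule.span_le.mpr ?_)
    · rw [eq_sum_cls w]
      refine Submodule.sum_mem _ fun C _ => ?_
      obtain ⟨n, hn⟩ := Subring.mem_bot.mp (hw (Quotient.out C))
      rw [← hn, Int.cast_smul_eq_zsmul]
      exact Submodule.smul_mem _ _ (Submodule.subset_span ⟨C, rfl⟩)
    · rintro _ ⟨C, rfl⟩
      exact cls_mem_ZR ⊥ _
  have hfg : A.toSubmodule.FG := by
    rw [hA]; exact Submodule.fg_span (Set.finite_range _)
  have h1 : IsIntegral ℤ z := IsIntegral.of_mem_of_fg A hfg z hz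
  exact h1.map (Pi.evalAlgHom ℤ (fun _ : Irr G => ℂ) χ)

theorem isIntegral_cls (g : G) (χ : Irr G) : IsIntegral ℤ (cls g χ) :=
  isIntegral_of_mem_ZR (cls_mem_ZR ⊥ g) χ

/-- Degree of an irreducible character, as a natural number. -/
noncomputable abbrev deg (χ : Irr G) : ℕ := charDegree χ.1

omit [Finite G] in
theorem charDegree_eq {χ : G → ℂ} (hχ : IsCharacter G χ) : (charDegree χ : ℂ) = χ 1 := by
  obtain ⟨n, hn⟩ := hχ.exists_nat_apply_one
  simp [charDegree, hn]

omit [Finite G] in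
theorem deg_eq (χ : Irr G) : (deg χ : ℂ) = χ.1 1 := charDegree_eq χ.2.isCharacter

omit [Finite G] in
theorem deg_ne_zero (χ : Irr G) : deg χ ≠ 0 := fun h =>
  χ.2.apply_one_ne_zero (by rw [← deg_eq, h, Nat.cast_zero])

theorem isIntegral_card_div_deg (χ : Irr G) : IsIntegral ℤ ((Nat.card G : ℂ) / χ.1 1) := by
  have := Fintype.ofFinite G
  have h1 : hat (fun g => conj (χ.1 g)) χ = (Nat.card G : ℂ) / χ.1 1 := by
    rw [hat_apply]
    have := card_mul_classInner χ.1 χ.1
    rw [χ.2.inner_self, mul_one] at this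
    simp only [this, mul_comm]
  rw [← h1]
  refine apply_mem χ (integralClosure ℤ ℂ).toSubring.toAddSubgroup _ fun g => ?_
  rw [co_hat χ.2.classFun.conj]
  exact IsIntegral.mul (χ.2.isCharacter.conj.isIntegral g) (isIntegral_cls g χ)

theorem deg_dvd_card (χ : Irr G) : deg χ ∣ Nat.card G := by
  have h1 := isIntegral_card_div_deg χ
  rw [← deg_eq] at h1
  have h2 : IsIntegral ℤ ((Nat.card G : ℚ) / (deg χ : ℚ)) := by
    refine (isIntegral_algHom_iff (algebraMap ℚ ℂ).toIntAlgHom (algebraMap ℚ ℂ).injective).mp ?_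
    simpa using h1
  obtain ⟨n, hn⟩ := IsIntegrallyClosed.isIntegral_iff.mp h2
  have h3 : (deg χ : ℚ) ≠ 0 := by exact_mod_cast deg_ne_zero χ
  rw [eq_div_iff h3] at hn
  have h4 : (n * deg χ : ℤ) = Nat.card G := by
    simp only [algebraMap_int_eq, eq_intCast] at hn
    exact_mod_cast hn
  exact Int.natCast_dvd_natCast.mp (Dvd.intro_left n h4)

/-- Restriction of a central element along a homomorphism (truncation for inclusions). -/
noncomputable def res {H : Type*} [Group H] [Finite H] (φ : H →* G) :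
    (Irr G → ℂ) →ₗ[ℂ] (Irr H → ℂ) :=
  hat ∘ₗ LinearMap.funLeft ℂ ℂ φ ∘ₗ co

theorem res_apply {H : Type*} [Group H] [Finite H] (φ : H →* G) (z : Irr G → ℂ) :
    res φ z = hat (fun h => co z (φ h)) := rfl

theorem co_res {H : Type*} [Group H] [Finite H] (φ : H →* G) (z : Irr G → ℂ) (h : H) :
    co (res φ z) h = co z (φ h) := by
  rw [res_apply, co_hat ((co_classFun z).comp φ)]

theorem res_res {H K : Type*} [Group H] [Finite H] [Group K] [Finite K] (φ : H →* G) (ψ : K →* H)
    (z : Irr G → ℂ) : res ψ (res φ z) = res (φ.comp ψ) z :=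
  ext_co fun k => by simp only [co_res]; rfl

theorem res_one {H : Type*} [Group H] [Finite H] {φ : H →* G} (hφ : Function.Injective φ) :
    res φ 1 = 1 := by
  classical
  exact ext_co fun k => by simp only [co_res, co_one, map_eq_one_iff φ hφ]

theorem res_mem_ZR {H : Type*} [Group H] [Finite H] (φ : H →* G) {R : Subring ℂ} {z : Irr G → ℂ}
    (hz : z ∈ ZR G R) : res φ z ∈ ZR H R := fun h => by rw [co_res]; exact hz _

theorem res_cls (H : Subgroup G) (g : G) (ξ : Irr H) :
    res H.subtype (cls g) ξ = inducedCentralChar H ξ.1 g := by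
  classical
  have := Fintype.ofFinite H
  rw [res_apply, hat_apply, inducedCentralChar, finsum_mem_eq_finite_toFinset_sum _ (Set.toFinite _),
    Finset.sum_div]
  simp only [co_cls, ite_mul, one_mul, zero_mul, ite_div, zero_div]
  rw [← Finset.sum_filter]
  refine Finset.sum_congr ?_ fun _ _ => rfl
  ext; simp

end Fourier

section Local

variable {G : Type*} [Group G] [Finite G] {M : Ideal AlgInt} [M.IsMaximal]

variable (G M) in
/-- The `S`-integral centre. -/
abbrev ZS : Subring (Irr G → ℂ) := ZR G (S M)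

variable (G M) in
/-- Central elements with all coefficients in the maximal ideal. -/
def ZP : AddSubgroup (Irr G → ℂ) where
  carrier := {z | ∀ g, co z g ∈ Pm M}
  add_mem' {z w} hz hw g := by rw [map_add]; exact (Pm M).add_mem (hz g) (hw g)
  zero_mem' g := by rw [map_zero]; exact (Pm M).zero_mem
  neg_mem' {z} hz g := by rw [map_neg]; exact (Pm M).neg_mem (hz g)

theorem mem_ZP {z : Irr G → ℂ} : z ∈ ZP G M ↔ ∀ g, co z g ∈ Pm M := Iff.rfl

theorem ZS_of_ZP {z : Irr G → ℂ} (hz : z ∈ ZP G M) : z ∈ ZS G M := fun g => S_of_Pm (hz g)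

theorem irr_mem_S (χ : Irr G) (g : G) : χ.1 g ∈ S M :=
  S_of_isIntegral (χ.2.isCharacter.isIntegral g)

theorem conj_irr_mem_S (χ : Irr G) (g : G) : conj (χ.1 g) ∈ S M :=
  S_of_isIntegral (χ.2.isCharacter.conj.isIntegral g)

theorem cls_mem_S (g : G) (χ : Irr G) : cls g χ ∈ S M := S_of_isIntegral (isIntegral_cls g χ)

theorem apply_mem_S {z : Irr G → ℂ} (hz : z ∈ ZS G M) (χ : Irr G) : z χ ∈ S M :=
  apply_mem χ (S M).toAddSubgroup z fun g => (S M).mul_mem (hz g) (cls_mem_S g χ)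

theorem apply_mem_Pm {z : Irr G → ℂ} (hz : z ∈ ZP G M) (χ : Irr G) : z χ ∈ Pm M :=
  apply_mem χ (Pm M) z fun g => Pm_mul_right (hz g) (cls_mem_S g χ)

theorem ZP_mul_left {z w : Irr G → ℂ} (hz : z ∈ ZS G M) (hw : w ∈ ZP G M) : z * w ∈ ZP G M :=
  fun g => by
    have := Fintype.ofFinite G
    rw [co_mul]
    exact (Pm M).sum_mem fun h _ => Pm_mul_left (hz _) (hw _)

theorem ZP_mul_right {z w : Irr G → ℂ} (hz : z ∈ ZP G M) (hw : w ∈ ZS G M) : z * w ∈ ZP G M := by
  rw [mul_comm]; exact ZP_mul_left hw hz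

theorem smul_mem_ZS {a : ℂ} (ha : a ∈ S M) {z : Irr G → ℂ} (hz : z ∈ ZS G M) : a • z ∈ ZS G M :=
  fun g => by rw [map_smul]; exact (S M).mul_mem ha (hz g)

theorem smul_mem_ZP {a : ℂ} (ha : a ∈ Pm M) {z : Irr G → ℂ} (hz : z ∈ ZS G M) : a • z ∈ ZP G M :=
  fun g => by rw [map_smul]; exact Pm_mul_right ha (hz g)

theorem smul_mem_ZP' {a : ℂ} (ha : a ∈ S M) {z : Irr G → ℂ} (hz : z ∈ ZP G M) : a • z ∈ ZP G M :=
  fun g => by rw [map_smul]; exact Pm_mul_left ha (hz g)

theorem const_mem_ZS {a : ℂ} (ha : a ∈ S M) : (fun _ : Irr G => a) ∈ ZS G M := fun g => by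
  rw [co_const]; exact (S M).mul_mem ha ((ZS G M).one_mem g)

theorem const_mem_ZP {a : ℂ} (ha : a ∈ Pm M) : (fun _ : Irr G => a) ∈ ZP G M := fun g => by
  rw [co_const]; exact Pm_mul_right ha ((ZS G M).one_mem g)

theorem hat_mem_ZP {c : G → ℂ} (hc : IsClassFunction G c) (h : ∀ g, c g ∈ Pm M) :
    hat c ∈ ZP G M := fun g => by rw [co_hat hc]; exact h g

theorem res_mem_ZP {H : Type*} [Group H] [Finite H] (φ : H →* G) {z : Irr G → ℂ}
    (hz : z ∈ ZP G M) : res φ z ∈ ZP H M := fun h => by rw [co_res]; exact hz _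

theorem exists_prod_sub_eq {z : Irr G → ℂ} (hz : z ∈ ZS G M) (s : Finset (Irr G)) :
    ∃ w ∈ ZS G M, ∏ ψ ∈ s, (z - fun _ => z ψ) = z * w + fun _ => ∏ ψ ∈ s, (-z ψ) := by
  classical
  induction s using Finset.induction_on with
  | empty => exact ⟨0, zero_mem _, by ext; simp⟩
  | insert a s ha ih =>
    obtain ⟨w, hw, h⟩ := ih
    refine ⟨(z - fun _ => z a) * w + fun _ => ∏ ψ ∈ s, (-z ψ), add_mem (mul_mem (sub_mem hz
      (const_mem_ZS (apply_mem_S hz a))) hw) (const_mem_ZS
        (prod_mem fun ψ _ => neg_mem (apply_mem_S hz ψ))), ?_⟩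
    rw [Finset.prod_insert ha, h]
    ext χ
    simp only [Finset.prod_insert ha, Pi.mul_apply, Pi.add_apply, Pi.sub_apply]
    ring

theorem prod_sub_eq_zero (z : Irr G → ℂ) : ∏ ψ : Irr G, (z - fun _ => z ψ) = 0 := by
  ext χ
  rw [Finset.prod_apply]
  exact Finset.prod_eq_zero (Finset.mem_univ χ) (by simp)

/-- A central element with unit central characters is invertible. -/
theorem inv_mem_ZS {z : Irr G → ℂ} (hz : z ∈ ZS G M) (h : ∀ χ, z χ ∉ Pm M) : z⁻¹ ∈ ZS G M := by
  obtain ⟨w, hw, h1⟩ := exists_prod_sub_eq hz Finset.univ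
  rw [prod_sub_eq_zero] at h1
  have hS : ∏ ψ, (-z ψ) ∈ S M := prod_mem fun ψ _ => neg_mem (apply_mem_S hz ψ)
  have hP : ∏ ψ, (-z ψ) ∉ Pm M := prod_notMem_Pm _ _ (fun ψ _ => neg_mem (apply_mem_S hz ψ))
    (fun ψ _ => by rw [neg_mem_iff]; exact h ψ)
  have : z⁻¹ = (-(∏ ψ, (-z ψ))⁻¹) • w := by
    ext χ
    have h2 := congrFun h1 χ
    simp only [Pi.zero_apply, Pi.add_apply, Pi.mul_apply] at h2
    have h3 := ne_zero_of_notMem_Pm hP
    have h4 := ne_zero_of_notMem_Pm (h χ)
    simp only [Pi.inv_apply, Pi.smul_apply, smul_eq_mul]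
    field_simp
    linear_combination -h2
  rw [this]
  exact smul_mem_ZS (neg_mem (inv_mem_S hS hP)) hw

theorem prod_sub_sub_pow_mem {z : Irr G → ℂ} (hz : z ∈ ZS G M) (h : ∀ χ, z χ ∈ Pm M)
    (s : Finset (Irr G)) : ∏ ψ ∈ s, (z - fun _ => z ψ) - z ^ s.card ∈ ZP G M := by
  classical
  induction s using Finset.induction_on with
  | empty => simp
  | insert a s ha ih =>
    rw [Finset.prod_insert ha, Finset.card_insert_of_notMem ha]
    have h1 : ∏ ψ ∈ s, (z - fun _ => z ψ) ∈ ZS G M :=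
      prod_mem fun ψ _ => sub_mem hz (const_mem_ZS (apply_mem_S hz ψ))
    have := sub_mem (ZP_mul_left hz ih) (ZP_mul_right (const_mem_ZP (h a)) h1)
    convert this using 1
    ring

/-- A central element killed by all central characters mod `P` is nilpotent mod `P`. -/
theorem pow_mem_ZP {z : Irr G → ℂ} (hz : z ∈ ZS G M) (h : ∀ χ, z χ ∈ Pm M) :
    z ^ Fintype.card (Irr G) ∈ ZP G M := by
  have := prod_sub_sub_pow_mem hz h Finset.univ
  rwa [prod_sub_eq_zero, zero_sub, neg_mem_iff] at this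

theorem mem_ZP_of_idem {z : Irr G → ℂ} (hz : z ∈ ZS G M) (h : ∀ χ, z χ ∈ Pm M)
    (h2 : z * z - z ∈ ZP G M) : z ∈ ZP G M := by
  have h3 : ∀ n, z ^ (n + 1) - z ∈ ZP G M := by
    intro n
    induction n with
    | zero => simp
    | succ n ih =>
      have := add_mem (ZP_mul_left hz ih) h2
      convert this using 1; ring
  have : Nonempty (Irr G) := ⟨irrOne G⟩
  obtain ⟨n, hn⟩ := Nat.exists_eq_succ_of_ne_zero (Fintype.card_ne_zero (α := Irr G))
  have h4 := pow_mem_ZP hz h
  rw [hn] at h4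
  simpa using sub_mem h4 (h3 n)

/-- A functional that is a ring homomorphism mod `P` is a central character mod `P`. -/
theorem exists_irr_of_mul (μ : (Irr G → ℂ) →ₗ[ℂ] ℂ) (hS : ∀ z ∈ ZS G M, μ z ∈ S M)
    (h1 : μ 1 - 1 ∈ Pm M)
    (hmul : ∀ z ∈ ZS G M, ∀ w ∈ ZS G M, μ (z * w) - μ z * μ w ∈ Pm M) :
    ∃ χ : Irr G, ∀ z ∈ ZS G M, μ z - z χ ∈ Pm M := by
  classical
  by_contra hc
  push Not at hc
  choose z hz hz' using hc
  let w : Irr G → Irr G → ℂ := fun χ => z χ - fun _ => z χ χ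
  have hw : ∀ χ, w χ ∈ ZS G M := fun χ => sub_mem (hz χ) (const_mem_ZS (apply_mem_S (hz χ) χ))
  have hw' : ∀ χ, μ (w χ) ∉ Pm M := by
    intro χ h
    refine hz' χ ?_
    have e : (fun _ : Irr G => z χ χ) = z χ χ • (1 : Irr G → ℂ) := by ext; simp
    simp only [w, map_sub, e, map_smul, smul_eq_mul] at h
    have := add_mem h (Pm_mul_left (apply_mem_S (hz χ) χ) h1)
    convert this using 1; ring
  have h2 : ∀ s : Finset (Irr G), μ (∏ χ ∈ s, w χ) ∉ Pm M := by
    intro s
    induction s using Finset.induction_on with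
    | empty => exact notMem_Pm_of_sub h1 one_notMem_Pm
    | insert a s ha ih =>
      rw [Finset.prod_insert ha]
      exact notMem_Pm_of_sub (hmul _ (hw a) _ (prod_mem fun χ _ => hw χ))
        (mul_notMem_Pm (hS _ (hw a)) (hw' a) ih)
  refine h2 Finset.univ ?_
  have : ∏ χ, w χ = 0 := by
    ext χ
    rw [Finset.prod_apply]
    exact Finset.prod_eq_zero (Finset.mem_univ χ) (by simp [w])
  rw [this, map_zero]; exact zero_mem _

/-! ### Blocks -/

variable (M) in
/-- Two irreducible characters lie in the same block. -/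
abbrev SB (χ ψ : Irr G) : Prop := SameBlock M χ.1 ψ.1

omit [Finite G] in
theorem SB_iff_cls {χ ψ : Irr G} : SB M χ ψ ↔ ∀ g, cls g χ - cls g ψ ∈ Pm M := Iff.rfl

theorem SB.sub_mem {χ ψ : Irr G} (h : SB M χ ψ) {z : Irr G → ℂ} (hz : z ∈ ZS G M) :
    z χ - z ψ ∈ Pm M :=
  linear_mem (LinearMap.proj (R := ℂ) (φ := fun _ : Irr G => ℂ) χ -
    LinearMap.proj (R := ℂ) (φ := fun _ : Irr G => ℂ) ψ) (Pm M) z
    fun g => Pm_mul_left (hz g) (h g)

theorem SB_iff {χ ψ : Irr G} : SB M χ ψ ↔ ∀ z ∈ ZS G M, z χ - z ψ ∈ Pm M :=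
  ⟨fun h _ hz => h.sub_mem hz, fun h g => h _ (cls_mem_ZR _ g)⟩

omit [Finite G] in
theorem SB.refl (χ : Irr G) : SB M χ χ := fun g => by
  rw [sub_self]; exact (Pm M).zero_mem

omit [Finite G] in
theorem SB.symm {χ ψ : Irr G} (h : SB M χ ψ) : SB M ψ χ := fun g => sub_mem_Pm_symm (h g)

omit [Finite G] in
theorem SB.trans {χ ψ θ : Irr G} (h : SB M χ ψ) (h' : SB M ψ θ) : SB M χ θ :=
  fun g => sub_mem_Pm_trans (h g) (h' g)

theorem SB.mem_iff {χ ψ : Irr G} (h : SB M χ ψ) {z : Irr G → ℂ} (hz : z ∈ ZS G M) :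
    z χ ∈ Pm M ↔ z ψ ∈ Pm M := mem_Pm_congr (h.sub_mem hz)

omit [Finite G] [M.IsMaximal] in
theorem mem_blockOf {χ ψ : Irr G} : ψ ∈ blockOf M χ.1 ↔ SB M χ ψ := Iff.rfl

omit [Finite G] in
theorem SB.blockOf_eq {χ ψ : Irr G} (h : SB M χ ψ) : blockOf M χ.1 = blockOf M ψ.1 :=
  Set.ext fun _ => ⟨fun h' => h.symm.trans h', fun h' => h.trans h'⟩

omit [Finite G] in
theorem self_mem_blockOf (χ : Irr G) : χ ∈ blockOf M χ.1 := SB.refl χ

omit [Finite G] in
theorem blockOf_eq_iff {χ ψ : Irr G} : blockOf M χ.1 = blockOf M ψ.1 ↔ SB M χ ψ :=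
  ⟨fun h => by have := self_mem_blockOf (M := M) ψ; rwa [← h] at this, SB.blockOf_eq⟩

omit [Finite G] in
theorem eq_blockOf_of_mem {B : Set (Irr G)} (hB : IsPBlock M B) {χ : Irr G} (hχ : χ ∈ B) :
    B = blockOf M χ.1 := by
  obtain ⟨ψ, rfl⟩ := hB
  exact SB.blockOf_eq hχ

omit [Finite G] [M.IsMaximal] in
theorem isPBlock_blockOf (χ : Irr G) : IsPBlock M (blockOf M χ.1) := ⟨χ, rfl⟩

omit [Finite G] [M.IsMaximal] in
theorem principalBlock_eq : principalBlock M G = blockOf M (irrOne G).1 := rfl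

/-- The idempotent attached to a set of irreducible characters. -/
noncomputable def ind (A : Set (Irr G)) : Irr G → ℂ := A.indicator 1

omit [Finite G] in
theorem ind_of_mem {A : Set (Irr G)} {χ : Irr G} (h : χ ∈ A) : ind A χ = 1 :=
  Set.indicator_of_mem h _

omit [Finite G] in
theorem ind_of_notMem {A : Set (Irr G)} {χ : Irr G} (h : χ ∉ A) : ind A χ = 0 :=
  Set.indicator_of_notMem h _

omit [Finite G] in
theorem ind_apply (A : Set (Irr G)) (χ : Irr G) [Decidable (χ ∈ A)] :
    ind A χ = if χ ∈ A then 1 else 0 := by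
  split_ifs with h
  · exact ind_of_mem h
  · exact ind_of_notMem h

omit [Finite G] in
theorem ind_mul_self (A : Set (Irr G)) : ind A * ind A = ind A := by
  classical
  ext χ; simp only [Pi.mul_apply, ind_apply]; split_ifs <;> simp

omit [Finite G] in
theorem mem_iff_ind_notMem {A : Set (Irr G)} {χ : Irr G} : χ ∈ A ↔ ind A χ ∉ Pm M := by
  classical
  rw [ind_apply]; split_ifs with h
  · simpa [h] using one_notMem_Pm
  · simp [h]

theorem finsum_mem_eq_sum_ind (A : Set (Irr G)) (f : Irr G → ℂ) :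
    ∑ᶠ χ ∈ A, f χ = ∑ χ, ind A χ * f χ := by
  classical
  rw [finsum_mem_eq_finite_toFinset_sum _ (Set.toFinite _)]
  simp only [ind_apply, ite_mul, one_mul, zero_mul]
  rw [← Finset.sum_filter]
  refine Finset.sum_congr ?_ fun _ _ => rfl
  ext; simp

theorem blockCoeff_eq (A : Set (Irr G)) (g : G) : blockCoeff A g = co (ind A) g := by
  rw [blockCoeff, finsum_mem_eq_sum_ind, co_apply]
  congr 1
  exact Finset.sum_congr rfl fun _ _ => by ring

variable (M) in
/-- The block idempotent of the block of `χ`. -/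
noncomputable abbrev fb (χ : Irr G) : Irr G → ℂ := ind (blockOf M χ.1)

omit [Finite G] in
theorem fb_self (χ : Irr G) : fb M χ χ = 1 := ind_of_mem (self_mem_blockOf χ)

omit [Finite G] in
theorem SB.fb_eq {χ ψ : Irr G} (h : SB M χ ψ) : fb M χ = fb M ψ := by
  rw [fb, h.blockOf_eq]

omit [Finite G] in
theorem SB_iff_fb {χ ψ : Irr G} : SB M χ ψ ↔ fb M χ ψ ∉ Pm M :=
  mem_iff_ind_notMem (A := blockOf M χ.1)

/-- A central element that is a unit on a block and zero elsewhere generates the idempotent. -/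
theorem exists_mul_eq_ind {A : Set (Irr G)} (hA : ind A ∈ ZS G M) {z : Irr G → ℂ}
    (hz : z ∈ ZS G M) (h : ∀ χ ∈ A, z χ ∉ Pm M) : ∃ u ∈ ZS G M, u * z = ind A := by
  classical
  have h1 : ∀ χ, (z * ind A + (1 - ind A)) χ ∉ Pm M := by
    intro χ
    by_cases hχ : χ ∈ A
    · simpa [ind_of_mem hχ] using h χ hχ
    · simpa [ind_of_notMem hχ] using one_notMem_Pm
  refine ⟨(z * ind A + (1 - ind A))⁻¹ * ind A,
    mul_mem (inv_mem_ZS (add_mem (mul_mem hz hA) (sub_mem (one_mem _) hA)) h1) hA, ?_⟩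
  ext χ
  by_cases hχ : χ ∈ A
  · simp [ind_of_mem hχ, ne_zero_of_notMem_Pm (h χ hχ)]
  · simp [ind_of_notMem hχ]

/-- Osima's theorem. -/
theorem fb_mem_ZS (χ : Irr G) : fb M χ ∈ ZS G M := by
  classical
  have h1 : ∀ ψ : Irr G, ∃ w ∈ ZS G M, (¬ SB M χ ψ → w ψ = 0) ∧ ∀ θ, SB M χ θ → w θ ∉ Pm M := by
    intro ψ
    by_cases h : SB M χ ψ
    · exact ⟨1, one_mem _, fun h' => absurd h h', fun _ _ => one_notMem_Pm⟩
    · rw [SB_iff] at h
      push Not at h
      obtain ⟨z, hz, hz'⟩ := h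
      refine ⟨z - fun _ => z ψ, sub_mem hz (const_mem_ZS (apply_mem_S hz ψ)), fun _ => by simp,
        fun θ hθ hP => hz' (sub_mem_Pm_trans (hθ.sub_mem hz) hP)⟩
  choose w hw hw1 hw2 using h1
  set z := ∏ ψ, w ψ with hz
  have hzS : z ∈ ZS G M := prod_mem fun ψ _ => hw ψ
  have hz0 : ∀ ψ, ¬ SB M χ ψ → z ψ = 0 := fun ψ h => by
    rw [hz, Finset.prod_apply]
    exact Finset.prod_eq_zero (Finset.mem_univ ψ) (hw1 ψ h)
  have hz1 : ∀ θ, SB M χ θ → z θ ∉ Pm M := fun θ h => by
    rw [hz, Finset.prod_apply]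
    exact prod_notMem_Pm _ _ (fun ψ _ => apply_mem_S (hw ψ) θ) fun ψ _ => hw2 ψ θ h
  obtain ⟨v, hv, h2⟩ := exists_prod_sub_eq hzS (Finset.univ.filter (SB M χ))
  set u := ∏ ψ ∈ Finset.univ.filter (SB M χ), (-z ψ) with hu
  have huS : u ∈ S M := prod_mem fun ψ _ => neg_mem (apply_mem_S hzS ψ)
  have huP : u ∉ Pm M := prod_notMem_Pm _ _ (fun ψ _ => neg_mem (apply_mem_S hzS ψ))
    (fun ψ hψ => by rw [neg_mem_iff]; exact hz1 ψ (Finset.mem_filter.mp hψ).2)
  have : fb M χ = (-u⁻¹) • (z * v) := by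
    ext θ
    by_cases h : SB M χ θ
    · have h3 := congrFun h2 θ
      rw [Finset.prod_apply, Finset.prod_eq_zero (i := θ) (by simpa using h) (by simp)] at h3
      have h4 := ne_zero_of_notMem_Pm huP
      rw [fb, ind_of_mem h]
      simp only [Pi.add_apply] at h3
      simp only [Pi.smul_apply, smul_eq_mul]
      field_simp
      linear_combination -h3
    · rw [fb, ind_of_notMem h]; simp [hz0 θ h]
  rw [this]
  exact smul_mem_ZS (neg_mem (inv_mem_S huS huP)) (mul_mem hzS hv)

theorem ind_mem_ZS {B : Set (Irr G)} (hB : IsPBlock M B) : ind B ∈ ZS G M := by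
  obtain ⟨χ, rfl⟩ := hB; exact fb_mem_ZS χ

theorem mem_of_ind_mem_ZS {A : Set (Irr G)} (hA : ind A ∈ ZS G M) {χ ψ : Irr G} (hχ : χ ∈ A)
    (h : SB M χ ψ) : ψ ∈ A := by
  rw [mem_iff_ind_notMem (M := M)] at hχ ⊢
  rwa [← h.mem_iff hA]

theorem exists_mul_eq_fb {χ : Irr G} {z : Irr G → ℂ} (hz : z ∈ ZS G M) (h : z χ ∉ Pm M) :
    ∃ u ∈ ZS G M, u * z = fb M χ :=
  exists_mul_eq_ind (fb_mem_ZS χ) hz fun ψ hψ => by rwa [← SB.mem_iff hψ hz]

/-- A union of blocks has an integral idempotent. -/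
theorem ind_mem_ZS_of_closed {A : Set (Irr G)} (hA : ∀ χ ∈ A, ∀ ψ, SB M χ ψ → ψ ∈ A) :
    ind A ∈ ZS G M := by
  classical
  have h1 : ∀ ψ, (1 - ind A) ψ = (∏ χ ∈ Finset.univ.filter (· ∈ A), (1 - fb M χ)) ψ := by
    intro ψ
    rw [Finset.prod_apply]
    by_cases h : ψ ∈ A
    · rw [Finset.prod_eq_zero (i := ψ) (by simpa using h) (by simp [fb_self])]
      simp [ind_of_mem h]
    · rw [Finset.prod_eq_one]
      · simp [ind_of_notMem h]
      · intro χ hχ
        have : ψ ∉ blockOf M χ.1 := fun h' => h (hA χ (by simpa using hχ) ψ h')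
        simp [ind_of_notMem this]
  have h2 : 1 - ind A ∈ ZS G M := by
    rw [funext h1]; exact prod_mem fun χ _ => sub_mem (one_mem _) (fb_mem_ZS χ)
  simpa using sub_mem (one_mem _) h2

end Local

end H17
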