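import Mathlib
import Cfsg.Agent.H17.Local

/-!
# Orbit sums and the twisted trace lemma (helper17)
-/

set_option autoImplicit false

open Cfsg MulAction

namespace H17

section OrbitSum

variable {Γ X A : Type*} [Group Γ] [MulAction Γ X] [AddCommGroup A]

/-- A sum of an invariant function lies in `I` if each orbit contributes an element of `I`. -/
theorem sum_mem_of_orbit [Fintype X] (I : AddSubgroup A) (F : X → A)
    (hF : ∀ (g : Γ) x, F (g • x) = F x) (h : ∀ x, Nat.card (orbit Γ x) • F x ∈ I) :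
    ∑ x, F x ∈ I := by
  classical
  rw [← Finset.sum_fiberwise (s := Finset.univ) (g := fun x => (Quotient.mk'' x : orbitRel.Quotient Γ X))]
  refine I.sum_mem fun q _ => ?_
  induction q using Quotient.inductionOn' with
  | h x =>
  have h1 : ∀ y ∈ Finset.univ.filter
      (fun y => (Quotient.mk'' y : orbitRel.Quotient Γ X) = Quotient.mk'' x), F y = F x := by
    intro y hy
    have : y ∈ orbit Γ x := by
      have := (Finset.mem_filter.mp hy).2
      exact Quotient.exact' this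
    obtain ⟨g, rfl⟩ := this
    exact hF g x
  rw [Finset.sum_congr rfl h1, Finset.sum_const]
  convert h x using 2
  rw [← Fintype.card_coe, ← Nat.card_eq_fintype_card]
  refine Nat.card_congr (Equiv.subtypeEquivRight fun y => ?_)
  simp only [Finset.mem_filter, Finset.mem_univ, true_and]
  exact ⟨fun h => Quotient.exact' h, fun h => Quotient.sound' h⟩

/-- For a `p`-group, an invariant function vanishing (mod `I`) at the fixed points sums to `I`. -/
theorem sum_mem_of_isPGroup [Fintype X] {p : ℕ} [Fact p.Prime] (hΓ : IsPGroup p Γ)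
    (I : AddSubgroup A) (F : X → A) (hF : ∀ (g : Γ) x, F (g • x) = F x)
    (hp : ∀ x, p • F x ∈ I) (h : ∀ x, (∀ g : Γ, g • x = x) → F x ∈ I) :
    ∑ x, F x ∈ I := by
  refine sum_mem_of_orbit (Γ := Γ) I F hF fun x => ?_
  obtain ⟨n, hn⟩ := hΓ.card_orbit x
  rcases n with _ | n
  · rw [hn, pow_zero, one_smul]
    refine h x fun g => ?_
    have : Subsingleton (orbit Γ x) := (Nat.card_eq_one_iff_unique.mp (by simpa using hn)).1
    exact congrArg Subtype.val (this.elim ⟨g • x, mem_orbit x g⟩ ⟨x, mem_orbit_self x⟩)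
  · rw [hn, pow_succ, mul_smul]
    exact I.nsmul_mem (hp x) _

/-- For a `p`-group, the sum of an invariant function is congruent to the sum over fixed points. -/
theorem sum_sub_sum_fixed_mem [Fintype X] {p : ℕ} [Fact p.Prime] (hΓ : IsPGroup p Γ)
    (I : AddSubgroup A) (F : X → A) (hF : ∀ (g : Γ) x, F (g • x) = F x)
    (hp : ∀ x, p • F x ∈ I) (fx : X → Prop) [DecidablePred fx]
    (hfx : ∀ x, fx x ↔ ∀ g : Γ, g • x = x) (hinv : ∀ (g : Γ) x, fx (g • x) ↔ fx x) :
    ∑ x, F x - ∑ x, (if fx x then F x else 0) ∈ I := by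
  rw [← Finset.sum_sub_distrib]
  refine sum_mem_of_isPGroup hΓ I _ (fun g x => ?_) (fun x => ?_) (fun x hx => ?_)
  · simp only [hF, hinv]
  · split_ifs
    · simp
    · simpa using hp x
  · rw [if_pos ((hfx x).mpr hx)]; simp

end OrbitSum

section Twist

variable {Ω : Type*}

/-- Twisted-periodic sequences. -/
structure TwSeq (s : Equiv.Perm Ω) (m : ℕ) where
  /-- the sequence -/
  seq : ℤ → Ω
  per : ∀ i, seq (i + m) = s (seq i)

theorem TwSeq.ext' {s : Equiv.Perm Ω} {m : ℕ} {T U : TwSeq s m} (h : ∀ i, T.1 i = U.1 i) :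
    T = U := by
  cases T; cases U; congr; exact funext h

theorem TwSeq.add_mul {s : Equiv.Perm Ω} {m : ℕ} (T : TwSeq s m) (i : ℤ) (k : ℤ) :
    T.1 (i + k * m) = (s ^ k) (T.1 i) := by
  induction k using Int.induction_on with
  | zero => simp
  | succ k ih => rw [_root_.add_mul, one_mul, ← add_assoc, T.2, ih, add_comm (k : ℤ) 1, zpow_add]; simp
  | pred k ih =>
    have := T.2 (i + (-(k : ℤ) - 1) * m)
    rw [show i + (-(k : ℤ) - 1) * m + m = i + -(k : ℤ) * m by ring, ih] at this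
    rw [show -(k : ℤ) - 1 = -1 + -k by ring, zpow_add, Equiv.Perm.mul_apply, this]
    simp [show -1 + -(k : ℤ) = -k - 1 by ring]

/-- A twisted-periodic sequence is determined by its first period. -/
def TwSeq.equiv (s : Equiv.Perm Ω) (m : ℕ) (hm : 0 < m) : TwSeq s m ≃ (Fin m → Ω) where
  toFun T i := T.1 i
  invFun t := ⟨fun i => (s ^ (i / m)) (t ⟨(i % m).toNat, by
      have h1 := Int.emod_nonneg i (b := m) (by omega)
      have h2 := Int.emod_lt_of_pos i (b := m) (by omega)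
      omega⟩), fun i => by
    have hm' : (m : ℤ) ≠ 0 := by omega
    simp only [Int.add_emod_right]
    rw [Int.add_ediv_of_dvd_right dvd_rfl, Int.ediv_self hm', add_comm, zpow_add]
    simp⟩
  left_inv T := by
    apply TwSeq.ext'
    intro i
    have h1 := Int.emod_nonneg i (b := m) (by omega)
    simp only [Int.toNat_of_nonneg h1]
    rw [← T.add_mul, mul_comm, Int.emod_add_mul_ediv i m]
  right_inv t := by
    funext i
    have h1 : ((i : ℕ) : ℤ) / m = 0 := Int.ediv_eq_zero_of_lt (by omega) (by have := i.2; omega)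
    have h2 : ((i : ℕ) : ℤ) % m = i := Int.emod_eq_of_lt (by omega) (by have := i.2; omega)
    simp [h1, h2]

instance TwSeq.instMulAction (s : Equiv.Perm Ω) (m : ℕ) :
    MulAction (Multiplicative ℤ) (TwSeq s m) where
  smul k T := ⟨fun i => T.1 (i + k.toAdd), fun i => by rw [add_right_comm, T.2]⟩
  one_smul T := TwSeq.ext' fun i => by change T.1 (i + 0) = _; simp
  mul_smul k l T := TwSeq.ext' fun i => by
    change T.1 (i + (k.toAdd + l.toAdd)) = T.1 (i + k.toAdd + l.toAdd); rw [add_assoc]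

theorem TwSeq.smul_apply {s : Equiv.Perm Ω} {m : ℕ} (k : Multiplicative ℤ) (T : TwSeq s m)
    (i : ℤ) : (k • T).1 i = T.1 (i + k.toAdd) := rfl

theorem TwSeq.dvd_card_orbit [Finite Ω] {s : Equiv.Perm Ω} {p n : ℕ} (hp : p.Prime)
    (T : TwSeq s (p ^ n)) (hT : ∀ k : ℕ, ¬ p ∣ k → (s ^ k) (T.1 0) ≠ T.1 0) :
    p ^ (n + 1) ∣ Nat.card (orbit (Multiplicative ℤ) T) := by
  have : Finite (TwSeq s (p ^ n)) := Finite.of_equiv _ (TwSeq.equiv s _ (pow_pos hp.pos n)).symm
  set k := Nat.card (orbit (Multiplicative ℤ) T) with hk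
  have : Nonempty (orbit (Multiplicative ℤ) T) := ⟨⟨T, mem_orbit_self T⟩⟩
  have hk0 : k ≠ 0 := Nat.card_pos.ne'
  have hidx : (stabilizer (Multiplicative ℤ) T).index = k := by
    rw [index_stabilizer, hk]; rfl
  have hmem : ∀ j : ℤ, T.1 (k * j) = T.1 0 := by
    intro j
    have h1 := Subgroup.pow_index_mem (stabilizer (Multiplicative ℤ) T) (Multiplicative.ofAdd j)
    rw [hidx, mem_stabilizer_iff] at h1
    have h2 := congrArg (fun U : TwSeq s (p ^ n) => U.1 0) h1
    simpa [TwSeq.smul_apply] using h2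
  by_contra hc
  have h1 : k.factorization p ≤ n := by
    by_contra h
    exact hc ((hp.pow_dvd_iff_le_factorization hk0).mpr (by omega))
  obtain ⟨d, hd⟩ := Nat.exists_eq_add_of_le h1
  refine hT (ordCompl[p] k) (Nat.not_dvd_ordCompl hp hk0) ?_
  have h2 := T.add_mul 0 (ordCompl[p] k : ℕ)
  rw [zpow_natCast] at h2
  rw [← h2, ← hmem (p ^ d)]
  congr 1
  have h3 : (k : ℤ) = p ^ k.factorization p * (ordCompl[p] k : ℕ) := by
    exact_mod_cast (Nat.ordProj_mul_ordCompl_eq_self k p).symm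
  generalize ((ordCompl[p] k : ℕ) : ℤ) = u at h3
  rw [h3]
  have h4 : ((p ^ n : ℕ) : ℤ) = p ^ k.factorization p * p ^ d := by
    rw [← pow_add, ← hd]; simp
  rw [h4]; ring

theorem sum_pow_eq_sum_ofFn {N : Type*} [Semiring N] [Fintype Ω] (a : Ω → N) (m : ℕ) :
    (∑ ω, a ω) ^ m = ∑ t : Fin m → Ω, (List.ofFn fun i => a (t i)).prod := by
  induction m with
  | zero => simp
  | succ m ih =>
    rw [pow_succ', ih, Finset.sum_mul_sum, ← Fintype.sum_prod_type']
    refine Fintype.sum_equiv (Fin.consEquiv fun _ => Ω) _ _ fun x => ?_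
    simp [Fin.consEquiv, List.ofFn_succ]

theorem prod_ofFn_smul {N : Type*} [Ring N] [Algebra ℂ N] {m : ℕ} (c : Fin m → ℂ)
    (a : Fin m → N) :
    (List.ofFn fun i => c i • a i).prod = (∏ i, c i) • (List.ofFn a).prod := by
  induction m with
  | zero => simp
  | succ m ih =>
    rw [List.ofFn_succ, List.ofFn_succ, List.prod_cons, List.prod_cons, ih, Fin.prod_univ_succ,
      smul_mul_smul_comm]

variable {p : ℕ} {M : Ideal AlgInt} [hM : PM p M]

/-- The twisted trace lemma. -/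
theorem trace_pow_mul_mem {N : Type*} [Ring N] [Algebra ℂ N] [Fintype Ω] (ι : Ω → N) (c : Ω → ℂ)
    (s : Equiv.Perm Ω) (η : N) (T : N →ₗ[ℂ] ℂ) (hT : ∀ a b, T (a * b) = T (b * a))
    (hη : ∀ ω, η * ι ω = ι (s ω) * η) (hc : ∀ ω, c (s ω) = c ω) (hcS : ∀ ω, c ω ∈ S M)
    (hTS : ∀ (m : ℕ) (t : Fin m → Ω), T ((List.ofFn fun i => ι (t i)).prod * η) ∈ S M)
    (hfix : ∀ ω (k : ℕ), ¬ p ∣ k → (s ^ k) ω = ω → c ω = 0) (n : ℕ) :
    ∃ y ∈ S M, T ((∑ ω, c ω • ι ω) ^ p ^ n * η) = p ^ n * y := by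
  classical
  have hp := prime_of_PM M
  obtain ⟨m, hm⟩ : ∃ m, p ^ n = m + 1 := Nat.exists_eq_succ_of_ne_zero (pow_ne_zero _ hp.ne_zero)
  let I : AddSubgroup ℂ := (S M).toAddSubgroup.map (AddMonoidHom.mulLeft ((p : ℂ) ^ n))
  suffices h : T ((∑ ω, c ω • ι ω) ^ p ^ n * η) ∈ I by
    obtain ⟨y, hy, h⟩ := h
    exact ⟨y, hy, h.symm⟩
  let e := TwSeq.equiv s (p ^ n) (pow_pos hp.pos n)
  have : Finite (TwSeq s (p ^ n)) := Finite.of_equiv _ e.symm
  have := Fintype.ofFinite (TwSeq s (p ^ n))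
  let F : TwSeq s (p ^ n) → ℂ := fun U =>
    (∏ i : Fin (p ^ n), c (U.1 i)) * T ((List.ofFn fun i : Fin (p ^ n) => ι (U.1 i)).prod * η)
  have h1 : T ((∑ ω, c ω • ι ω) ^ p ^ n * η) = ∑ U, F U := by
    rw [sum_pow_eq_sum_ofFn, Finset.sum_mul, map_sum]
    refine (Fintype.sum_equiv e _ _ fun U => ?_).symm
    rw [prod_ofFn_smul, smul_mul_assoc, map_smul]
    rfl
  rw [h1]
  have hstep : ∀ U : TwSeq s (p ^ n), F (Multiplicative.ofAdd (1 : ℤ) • U) = F U := by
    intro U
    have hU := U.2 0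
    simp only [F, TwSeq.smul_apply, toAdd_ofAdd]
    generalize U.1 = V at hU ⊢
    rw [hm] at hU ⊢
    rw [Fin.prod_univ_castSucc, Fin.prod_univ_succ, List.ofFn_succ', List.ofFn_succ,
      List.prod_concat, List.prod_cons]
    simp only [Fin.val_castSucc, Fin.val_last, Fin.val_succ, Fin.val_zero, Nat.cast_add,
      Nat.cast_one, Nat.cast_zero, zero_add] at hU ⊢
    rw [hU, hc, mul_comm (c (V 0)), mul_assoc (List.prod _), ← hη, ← mul_assoc (List.prod _),
      hT _ (ι (V 0)), mul_assoc (ι (V 0))]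
  have hinv : ∀ (g : Multiplicative ℤ) (U : TwSeq s (p ^ n)), F (g • U) = F U := by
    suffices ∀ (k : ℤ) (U : TwSeq s (p ^ n)), F (Multiplicative.ofAdd k • U) = F U from
      fun g => this g.toAdd
    intro k
    induction k using Int.induction_on with
    | zero => intro U; simp
    | succ k ih => intro U; rw [ofAdd_add, mul_smul, ih, hstep]
    | pred k ih =>
      intro U
      rw [← hstep, ← mul_smul, ← ofAdd_add, show (1 : ℤ) + (-(k : ℤ) - 1) = -k by ring, ih]
  refine sum_mem_of_orbit (Γ := Multiplicative ℤ) I F hinv fun U => ?_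
  by_cases h0 : c (U.1 0) = 0
  · have : F U = 0 := by
      simp only [F]
      rw [Finset.prod_eq_zero (Finset.mem_univ ⟨0, pow_pos hp.pos n⟩) (by simpa using h0), zero_mul]
    rw [this, smul_zero]; exact I.zero_mem
  · obtain ⟨d, hd⟩ := TwSeq.dvd_card_orbit hp U (fun k hk h => h0 (hfix _ k hk h))
    refine ⟨(p * d : ℕ) * F U, (S M).mul_mem (natCast_mem _ _) ((S M).mul_mem
      ((S M).prod_mem fun i _ => hcS _) (hTS _ _)), ?_⟩
    rw [hd]
    simp only [AddMonoidHom.coe_mulLeft, nsmul_eq_mul]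
    push_cast; ring

/-- Vanishing form of the twisted trace lemma. -/
theorem eq_zero_of_trace_pow {N : Type*} [Ring N] [Algebra ℂ N] [Fintype Ω] (ι : Ω → N)
    (c : Ω → ℂ) (s : Equiv.Perm Ω) (η : N) (T : N →ₗ[ℂ] ℂ) (hT : ∀ a b, T (a * b) = T (b * a))
    (hη : ∀ ω, η * ι ω = ι (s ω) * η) (hc : ∀ ω, c (s ω) = c ω) (hcS : ∀ ω, c ω ∈ S M)
    (hTS : ∀ (m : ℕ) (t : Fin m → Ω), T ((List.ofFn fun i => ι (t i)).prod * η) ∈ S M)
    (hfix : ∀ ω (k : ℕ), ¬ p ∣ k → (s ^ k) ω = ω → c ω = 0) (z : ℂ)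
    (hz : ∀ m, 0 < m → T ((∑ ω, c ω • ι ω) ^ m * η) = z) : z = 0 :=
  eq_zero_of_forall_pow_dvd (M := M) fun n => by
    rw [← hz _ (pow_pos (prime_of_PM M).pos n)]
    exact trace_pow_mul_mem ι c s η T hT hη hc hcS hTS hfix n

end Twist

end H17
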