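import Mathlib
import Cfsg.Prelude.Def_Blocks

/-!
# p-parts of elements and relative Sylow subgroups (helper17)
-/

set_option autoImplicit false

open Cfsg Subgroup

namespace H17

section PPart

variable {G : Type*} [Group G] {p : ℕ}

/-- `x` is a `p`-element. -/
def PElt (p : ℕ) (x : G) : Prop := ∃ k : ℕ, orderOf x = p ^ k

theorem PElt.iff_pow [hp : Fact p.Prime] {x : G} : PElt p x ↔ ∃ k : ℕ, x ^ p ^ k = 1 := by
  constructor
  · rintro ⟨k, hk⟩; exact ⟨k, hk ▸ pow_orderOf_eq_one x⟩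
  · rintro ⟨k, hk⟩
    obtain ⟨j, -, hj⟩ := (Nat.dvd_prime_pow hp.out).mp (orderOf_dvd_of_pow_eq_one hk)
    exact ⟨j, hj⟩

theorem PElt.one : PElt p (1 : G) := ⟨0, by simp⟩

theorem PElt.of_mem [Fact p.Prime] {P : Subgroup G} (hP : IsPGroup p P) {x : G} (hx : x ∈ P) :
    PElt p x := by
  obtain ⟨k, hk⟩ := hP ⟨x, hx⟩
  exact PElt.iff_pow.mpr ⟨k, congrArg Subtype.val hk⟩

theorem PElt.map [Fact p.Prime] {H : Type*} [Group H] {x : G} (hx : PElt p x) (f : G →* H) :
    PElt p (f x) := by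
  obtain ⟨k, hk⟩ := PElt.iff_pow.mp hx
  exact PElt.iff_pow.mpr ⟨k, by rw [← map_pow, hk, map_one]⟩

theorem PElt.of_injective {H : Type*} [Group H] {f : G →* H} (hf : Function.Injective f) {x : G}
    (hx : PElt p (f x)) : PElt p x := by
  rwa [PElt, orderOf_injective f hf] at hx

theorem PElt.inv {x : G} (hx : PElt p x) : PElt p x⁻¹ := by rwa [PElt, orderOf_inv]

theorem PElt.isPGroup_zpowers [Fact p.Prime] {x : G} (hx : PElt p x) :
    IsPGroup p (zpowers x) := by
  obtain ⟨k, hk⟩ := hx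
  exact IsPGroup.of_card (n := k) (by rw [Nat.card_zpowers, hk])

theorem PElt.zpow [Fact p.Prime] {x : G} (hx : PElt p x) (n : ℤ) : PElt p (x ^ n) :=
  PElt.of_mem hx.isPGroup_zpowers (zpow_mem_zpowers x n)

theorem PElt.mul [Fact p.Prime] {x y : G} (hx : PElt p x) (hy : PElt p y) (h : Commute x y) :
    PElt p (x * y) := by
  obtain ⟨k, hk⟩ := PElt.iff_pow.mp hx
  obtain ⟨l, hl⟩ := PElt.iff_pow.mp hy
  refine PElt.iff_pow.mpr ⟨k + l, ?_⟩
  rw [h.mul_pow, pow_add, pow_mul, hk, mul_comm, pow_mul, hl]; simp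

theorem orderOf_conj (g x : G) : orderOf (g * x * g⁻¹) = orderOf x :=
  orderOf_injective (MulAut.conj g).toMonoidHom (MulAut.conj g).injective x

theorem orderOf_eq_of_isConj {x y : G} (h : IsConj x y) : orderOf x = orderOf y := by
  obtain ⟨c, rfl⟩ := isConj_iff.mp h
  rw [orderOf_conj]

theorem PElt.conj {x : G} (hx : PElt p x) (g : G) : PElt p (g * x * g⁻¹) := by
  rwa [PElt, orderOf_conj]

theorem PElt.of_isConj {x y : G} (hx : PElt p x) (h : IsConj x y) : PElt p y := by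
  rwa [PElt, ← orderOf_eq_of_isConj h]

theorem eq_one_of_PElt_of_reg {x : G} (hx : PElt p x) (h : ¬ p ∣ orderOf x) : x = 1 := by
  obtain ⟨k, hk⟩ := hx
  rcases k with _ | k
  · simpa using hk
  · exact absurd (hk ▸ dvd_pow_self p k.succ_ne_zero) h

theorem PElt.dvd_orderOf {x : G} (hx : PElt p x) (h : x ≠ 1) : p ∣ orderOf x := by
  by_contra hc; exact h (eq_one_of_PElt_of_reg hx hc)

theorem reg_one [hp : Fact p.Prime] : ¬ p ∣ orderOf (1 : G) := by
  rw [orderOf_one]; exact hp.out.not_dvd_one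

theorem reg_map {H : Type*} [Group H] {y : G} (hy : ¬ p ∣ orderOf y) (f : G →* H) :
    ¬ p ∣ orderOf (f y) := fun h => hy (h.trans (orderOf_map_dvd f y))

theorem reg_zpow {y : G} (hy : ¬ p ∣ orderOf y) (n : ℤ) : ¬ p ∣ orderOf (y ^ n) := fun h =>
  hy (h.trans (orderOf_dvd_of_mem_zpowers (zpow_mem_zpowers y n)))

theorem reg_mul [hp : Fact p.Prime] {x y : G} (hx : ¬ p ∣ orderOf x) (hy : ¬ p ∣ orderOf y)
    (h : Commute x y) : ¬ p ∣ orderOf (x * y) := fun h' =>
  (hp.out.dvd_mul.mp (h'.trans h.orderOf_mul_dvd_mul_orderOf)).elim hx hy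

theorem reg_of_mem [Finite G] {K : Subgroup G} (hK : ¬ p ∣ Nat.card K) {y : G} (hy : y ∈ K) :
    ¬ p ∣ orderOf y := fun h => hK (h.trans (K.orderOf_dvd_natCard hy))

theorem IsPPart.pElt {g x : G} (h : IsPPart p g x) : PElt p x := by
  obtain ⟨y, -, -, h, -⟩ := h; exact h

theorem isPPart_mul {x y : G} (hx : PElt p x) (hy : ¬ p ∣ orderOf y) (h : Commute x y) :
    IsPPart p (x * y) x := ⟨y, rfl, h, hx, hy⟩

theorem isPPart_self [Fact p.Prime] {x : G} (hx : PElt p x) : IsPPart p x x :=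
  ⟨1, mul_one x, Commute.one_right x, hx, reg_one⟩

theorem isPPart_one {y : G} (hy : ¬ p ∣ orderOf y) : IsPPart p y 1 :=
  ⟨y, one_mul y, Commute.one_left y, PElt.one, hy⟩

theorem IsPPart.map [Fact p.Prime] {H : Type*} [Group H] {g x : G} (h : IsPPart p g x)
    (f : G →* H) : IsPPart p (f g) (f x) := by
  obtain ⟨y, rfl, h1, h2, h3⟩ := h
  exact ⟨f y, (map_mul f x y).symm, h1.map f, PElt.map h2 f, reg_map h3 f⟩

theorem IsPPart.inv {g x : G} (h : IsPPart p g x) : IsPPart p g⁻¹ x⁻¹ := by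
  obtain ⟨y, rfl, h1, h2, h3⟩ := h
  exact ⟨y⁻¹, by rw [h1.eq, mul_inv_rev], h1.inv_inv, PElt.inv h2, by rwa [orderOf_inv]⟩

theorem IsPPart.mem_zpowers_pow [hp : Fact p.Prime] {g x : G} (h : IsPPart p g x) {k : ℕ}
    (hk : ¬ p ∣ k) : x ∈ zpowers (g ^ k) := by
  obtain ⟨y, rfl, h1, ⟨a, h2⟩, h3⟩ := h
  have hc : (k * orderOf y).Coprime (orderOf x) := by
    rw [h2]
    exact Nat.Coprime.pow_right _ ((hp.out.coprime_iff_not_dvd.mpr
      (fun h => (hp.out.dvd_mul.mp h).elim hk h3)).symm)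
  obtain ⟨m, hm⟩ := exists_pow_eq_self_of_coprime hc
  refine ⟨(orderOf y * m : ℕ), ?_⟩
  simp only [zpow_natCast]
  rw [← pow_mul, ← mul_assoc, pow_mul, h1.mul_pow, mul_comm k, pow_mul y, pow_orderOf_eq_one,
    one_pow, mul_one, mul_comm _ k, hm]

theorem IsPPart.mem_zpowers [hp : Fact p.Prime] {g x : G} (h : IsPPart p g x) :
    x ∈ zpowers g := by
  simpa using IsPPart.mem_zpowers_pow h hp.out.not_dvd_one

theorem IsPPart.unique [Fact p.Prime] {g x x' : G} (h : IsPPart p g x) (h' : IsPPart p g x') :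
    x = x' := by
  obtain ⟨a, ha⟩ := IsPPart.mem_zpowers h
  obtain ⟨b, hb⟩ := IsPPart.mem_zpowers h'
  simp only at ha hb
  obtain ⟨y, e1, -, h2, h3⟩ := h
  obtain ⟨y', e2, -, h2', h3'⟩ := h'
  have hy : y = g ^ (1 - a) := by
    rw [sub_eq_neg_add, zpow_add, zpow_neg, ha, zpow_one, ← e1]; simp
  have hy' : y' = g ^ (1 - b) := by
    rw [sub_eq_neg_add, zpow_add, zpow_neg, hb, zpow_one, ← e2]; simp
  have h4 : PElt p (x'⁻¹ * x) :=
    PElt.mul (PElt.inv h2') h2 (by rw [← ha, ← hb]; exact (Commute.zpow_zpow_self g b a).inv_left)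
  have h5 : x'⁻¹ * x = y' * y⁻¹ := by
    rw [inv_mul_eq_iff_eq_mul, ← mul_assoc, e2, ← e1]; simp
  have h6 : ¬ p ∣ orderOf (y' * y⁻¹) :=
    reg_mul h3' (by rwa [orderOf_inv])
      (by rw [hy, hy']; exact (Commute.zpow_zpow_self g _ _).inv_right)
  rw [← h5] at h6
  have := eq_one_of_PElt_of_reg h4 h6
  rw [inv_mul_eq_one] at this
  exact this.symm

theorem exists_isPPart [Finite G] (p : ℕ) [hp : Fact p.Prime] (g : G) : ∃ x, IsPPart p g x := by
  have h0 : orderOf g ≠ 0 := (orderOf_pos g).ne'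
  have hc : IsCoprime ((ordProj[p] (orderOf g) : ℕ) : ℤ) ((ordCompl[p] (orderOf g) : ℕ) : ℤ) :=
    Nat.isCoprime_iff_coprime.mpr (Nat.Coprime.pow_left _
      (Nat.coprime_ordCompl hp.out h0))
  obtain ⟨a, b, hab⟩ := hc
  have hn : ((ordProj[p] (orderOf g) : ℕ) : ℤ) * ((ordCompl[p] (orderOf g) : ℕ) : ℤ) =
      orderOf g := by exact_mod_cast Nat.ordProj_mul_ordCompl_eq_self _ _
  refine ⟨g ^ (b * (ordCompl[p] (orderOf g) : ℕ)), g ^ (a * (ordProj[p] (orderOf g) : ℕ)), ?_,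
    Commute.zpow_zpow_self _ _ _, PElt.iff_pow.mpr ⟨(orderOf g).factorization p, ?_⟩, ?_⟩
  · rw [← zpow_add, add_comm, hab, zpow_one]
  · rw [← zpow_natCast, ← zpow_mul, mul_assoc, mul_comm _ ((_ : ℕ) : ℤ), hn, mul_comm, zpow_mul]
    simp
  · intro h
    refine Nat.not_dvd_ordCompl hp.out h0 (h.trans (orderOf_dvd_of_pow_eq_one ?_))
    rw [← zpow_natCast, ← zpow_mul, mul_assoc, hn, mul_comm, zpow_mul]
    simp

open Classical in
/-- The `p`-part of `g`. -/
noncomputable def pp (p : ℕ) (g : G) : G := if h : ∃ x, IsPPart p g x then h.choose else 1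

/-- The `p'`-part of `g`. -/
noncomputable def pr (p : ℕ) (g : G) : G := (pp p g)⁻¹ * g

variable [Finite G] [hp : Fact p.Prime]

theorem isPPart_pp (g : G) : IsPPart p g (pp p g) := by
  rw [pp, dif_pos (exists_isPPart p g)]
  exact (exists_isPPart p g).choose_spec

theorem isPPart_iff {g x : G} : IsPPart p g x ↔ pp p g = x :=
  ⟨fun h => IsPPart.unique (isPPart_pp g) h, fun h => h ▸ isPPart_pp g⟩

omit [Finite G] hp in
theorem pp_mul_pr (g : G) : pp p g * pr p g = g := by simp [pr]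

theorem pElt_pp (g : G) : PElt p (pp p g) := IsPPart.pElt (isPPart_pp g)

theorem pp_mem_zpowers (g : G) : pp p g ∈ zpowers g := IsPPart.mem_zpowers (isPPart_pp g)

theorem pr_mem_zpowers (g : G) : pr p g ∈ zpowers g :=
  mul_mem (inv_mem (pp_mem_zpowers g)) (mem_zpowers g)

theorem pp_mem {K : Subgroup G} {g : G} (hg : g ∈ K) : pp p g ∈ K :=
  zpowers_le.mpr hg (pp_mem_zpowers g)

theorem pr_mem {K : Subgroup G} {g : G} (hg : g ∈ K) : pr p g ∈ K :=
  zpowers_le.mpr hg (pr_mem_zpowers g)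

theorem reg_pr (g : G) : ¬ p ∣ orderOf (pr p g) := by
  obtain ⟨y, h1, -, -, h3⟩ := isPPart_pp (p := p) g
  have : pr p g = y := by rw [pr, inv_mul_eq_iff_eq_mul, h1]
  rwa [this]

theorem commute_pp {g x : G} (h : Commute x g) : Commute x (pp p g) := by
  obtain ⟨k, hk⟩ := pp_mem_zpowers (p := p) g
  rw [← hk]; exact h.zpow_right k

theorem commute_pr {g x : G} (h : Commute x g) : Commute x (pr p g) := by
  obtain ⟨k, hk⟩ := pr_mem_zpowers (p := p) g
  rw [← hk]; exact h.zpow_right k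

theorem commute_pp_pr (g : G) : Commute (pp p g) (pr p g) :=
  commute_pr (commute_pp (Commute.refl g)).symm

theorem pr_mul_pp (g : G) : pr p g * pp p g = g := by rw [← (commute_pp_pr g).eq, pp_mul_pr]

theorem commute_pp_of_pow {g x : G} {k : ℕ} (hk : ¬ p ∣ k) (h : Commute x (g ^ k)) :
    Commute x (pp p g) := by
  obtain ⟨j, hj⟩ := IsPPart.mem_zpowers_pow (isPPart_pp (p := p) g) hk
  rw [← hj]; exact h.zpow_right j

theorem pp_mul {x y : G} (hx : PElt p x) (hy : ¬ p ∣ orderOf y) (h : Commute x y) :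
    pp p (x * y) = x := isPPart_iff.mp (isPPart_mul hx hy h)

theorem pr_mul {x y : G} (hx : PElt p x) (hy : ¬ p ∣ orderOf y) (h : Commute x y) :
    pr p (x * y) = y := by rw [pr, pp_mul hx hy h]; simp

theorem pp_of_pElt {x : G} (hx : PElt p x) : pp p x = x := isPPart_iff.mp (isPPart_self hx)

theorem pr_of_pElt {x : G} (hx : PElt p x) : pr p x = 1 := by rw [pr, pp_of_pElt hx]; simp

theorem pp_of_reg {y : G} (hy : ¬ p ∣ orderOf y) : pp p y = 1 := isPPart_iff.mp (isPPart_one hy)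

theorem pr_of_reg {y : G} (hy : ¬ p ∣ orderOf y) : pr p y = y := by rw [pr, pp_of_reg hy]; simp

theorem pp_eq_one_iff {y : G} : pp p y = 1 ↔ ¬ p ∣ orderOf y :=
  ⟨fun h => by rw [← pp_mul_pr (p := p) y, h, one_mul]; exact reg_pr y, pp_of_reg⟩

theorem pr_eq_one_iff {x : G} : pr p x = 1 ↔ PElt p x :=
  ⟨fun h => by rw [← pp_mul_pr (p := p) x, h, mul_one]; exact pElt_pp x, pr_of_pElt⟩

theorem pp_map {H : Type*} [Group H] [Finite H] (f : G →* H) (g : G) :
    pp p (f g) = f (pp p g) := isPPart_iff.mp (IsPPart.map (isPPart_pp g) f)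

theorem pr_map {H : Type*} [Group H] [Finite H] (f : G →* H) (g : G) :
    pr p (f g) = f (pr p g) := by simp [pr, pp_map]

theorem pp_coe (K : Subgroup G) (g : K) : pp p (g : G) = (pp p g : K) := pp_map K.subtype g

theorem pr_coe (K : Subgroup G) (g : K) : pr p (g : G) = (pr p g : K) := pr_map K.subtype g

theorem pp_conj (t g : G) : pp p (t * g * t⁻¹) = t * pp p g * t⁻¹ :=
  pp_map (MulAut.conj t).toMonoidHom g

theorem pr_conj (t g : G) : pr p (t * g * t⁻¹) = t * pr p g * t⁻¹ :=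
  pr_map (MulAut.conj t).toMonoidHom g

theorem pp_inv (g : G) : pp p g⁻¹ = (pp p g)⁻¹ := isPPart_iff.mp (IsPPart.inv (isPPart_pp g))

theorem pr_inv (g : G) : pr p g⁻¹ = (pr p g)⁻¹ := by
  conv_lhs => rw [← pr_mul_pp (p := p) g, mul_inv_rev]
  exact pr_mul (pElt_pp g).inv (by rw [orderOf_inv]; exact reg_pr g) (commute_pp_pr g).inv_inv

theorem isConj_pp {g h : G} (hc : IsConj g h) : IsConj (pp p g) (pp p h) := by
  obtain ⟨c, rfl⟩ := isConj_iff.mp hc
  exact isConj_iff.mpr ⟨c, (pp_conj c g).symm⟩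

theorem isConj_pr {g h : G} (hc : IsConj g h) : IsConj (pr p g) (pr p h) := by
  obtain ⟨c, rfl⟩ := isConj_iff.mp hc
  exact isConj_iff.mpr ⟨c, (pr_conj c g).symm⟩

theorem pp_mul_of_central {x g : G} (hx : PElt p x) (h : Commute x g) :
    pp p (x * g) = x * pp p g := by
  conv_lhs => rw [← pp_mul_pr (p := p) g, ← mul_assoc]
  exact pp_mul (hx.mul (pElt_pp g) (commute_pp h)) (reg_pr g)
    ((commute_pr h).mul_left (commute_pp_pr g))

theorem pr_mul_of_central {x g : G} (hx : PElt p x) (h : Commute x g) :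
    pr p (x * g) = pr p g := by
  conv_lhs => rw [← pp_mul_pr (p := p) g, ← mul_assoc]
  exact pr_mul (hx.mul (pElt_pp g) (commute_pp h)) (reg_pr g)
    ((commute_pr h).mul_left (commute_pp_pr g))

end PPart

section Conj

variable {G : Type*} [Group G]

/-- The conjugate subgroup `g K g⁻¹`. -/
abbrev cj (g : G) (K : Subgroup G) : Subgroup G := K.map (MulAut.conj g).toMonoidHom

theorem mem_cj {g x : G} {K : Subgroup G} : x ∈ cj g K ↔ g⁻¹ * x * g ∈ K := by
  constructor
  · rintro ⟨y, hy, rfl⟩; simpa [mul_assoc] using hy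
  · intro h; exact ⟨_, h, by simp [mul_assoc]⟩

theorem conj_mem_cj {g x : G} {K : Subgroup G} : g * x * g⁻¹ ∈ cj g K ↔ x ∈ K := by
  rw [mem_cj]; simp [mul_assoc]

theorem cj_cj (g h : G) (K : Subgroup G) : cj g (cj h K) = cj (g * h) K := by
  ext x; simp only [mem_cj]; simp [mul_assoc]

theorem cj_one (K : Subgroup G) : cj 1 K = K := by ext x; simp only [mem_cj]; simp

theorem cj_inv_cj (g : G) (K : Subgroup G) : cj g⁻¹ (cj g K) = K := by
  rw [cj_cj, inv_mul_cancel, cj_one]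

theorem cj_cj_inv (g : G) (K : Subgroup G) : cj g (cj g⁻¹ K) = K := by
  rw [cj_cj, mul_inv_cancel, cj_one]

theorem cj_mono (g : G) {K L : Subgroup G} (h : K ≤ L) : cj g K ≤ cj g L := map_mono h

theorem cj_le_iff {g : G} {K L : Subgroup G} : cj g K ≤ L ↔ K ≤ cj g⁻¹ L :=
  ⟨fun h => by simpa only [cj_inv_cj] using cj_mono g⁻¹ h,
    fun h => by simpa only [cj_cj_inv] using cj_mono g h⟩

theorem card_cj (g : G) (K : Subgroup G) : Nat.card (cj g K) = Nat.card K :=
  card_map_of_injective (MulAut.conj g).injective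

theorem cj_eq_of_mem_normalizer {g : G} {K : Subgroup G} (h : g ∈ normalizer (K : Set G)) :
    cj g K = K := by
  ext x; rw [mem_cj]
  have := (mem_normalizer_iff.mp h) (g⁻¹ * x * g)
  simpa [mul_assoc] using this

theorem mem_normalizer_of_cj_eq {g : G} {K : Subgroup G} (h : cj g K = K) :
    g ∈ normalizer (K : Set G) :=
  mem_normalizer_iff.mpr fun x => by
    conv_rhs => rw [← h]
    exact conj_mem_cj.symm

theorem cj_eq_of_normal (g : G) (K : Subgroup G) [K.Normal] : cj g K = K :=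
  cj_eq_of_mem_normalizer (by rw [normalizer_eq_top]; trivial)

theorem cj_eq_of_mem {g : G} {K : Subgroup G} (h : g ∈ K) : cj g K = K :=
  cj_eq_of_mem_normalizer (le_normalizer h)

theorem cj_inf (g : G) (K L : Subgroup G) : cj g (K ⊓ L) = cj g K ⊓ cj g L := by
  ext x; simp only [mem_cj, mem_inf]

theorem cj_sup (g : G) (K L : Subgroup G) : cj g (K ⊔ L) = cj g K ⊔ cj g L := Subgroup.map_sup _ _ _

theorem index_cj (g : G) (K : Subgroup G) : (cj g K).index = K.index :=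
  index_map_of_bijective (MulAut.conj g).bijective K

theorem mem_centralizer_singleton {g x : G} : x ∈ centralizer ({g} : Set G) ↔ Commute x g :=
  mem_centralizer_singleton_iff

theorem cj_centralizer_singleton (t g : G) :
    cj t (centralizer ({g} : Set G)) = centralizer {t * g * t⁻¹} := by
  ext x
  rw [mem_cj, mem_centralizer_singleton_iff, mem_centralizer_singleton_iff]
  constructor
  · intro h
    calc x * (t * g * t⁻¹) = t * (t⁻¹ * x * t * g) * t⁻¹ := by group
      _ = _ := by rw [h]; group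
  · intro h
    calc t⁻¹ * x * t * g = t⁻¹ * (x * (t * g * t⁻¹)) * t := by group
      _ = _ := by rw [h]; group

theorem cj_centralizer (t : G) (K : Subgroup G) :
    cj t (centralizer (K : Set G)) = centralizer (cj t K : Set G) := by
  ext x
  rw [mem_cj, mem_centralizer_iff, mem_centralizer_iff]
  constructor
  · intro h y hy
    have := h _ (mem_cj.mp hy)
    calc y * x = t * (t⁻¹ * y * t * (t⁻¹ * x * t)) * t⁻¹ := by group
      _ = _ := by rw [this]; group
  · intro h y hy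
    have := h _ (conj_mem_cj (g := t).mpr hy)
    calc y * (t⁻¹ * x * t) = t⁻¹ * (t * y * t⁻¹ * x) * t := by group
      _ = _ := by rw [this]; group

theorem le_centralizer_singleton_iff {g : G} {Q : Subgroup G} :
    Q ≤ centralizer ({g} : Set G) ↔ g ∈ centralizer (Q : Set G) :=
  ⟨fun h x hx => mem_centralizer_singleton_iff.mp (h hx),
    fun h x hx => mem_centralizer_singleton_iff.mpr (h x hx)⟩

theorem card_centralizer_of_isConj {g h : G} (hc : IsConj g h) :
    Nat.card (centralizer ({g} : Set G)) = Nat.card (centralizer ({h} : Set G)) := by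
  obtain ⟨c, rfl⟩ := isConj_iff.mp hc
  rw [← cj_centralizer_singleton, card_cj]

theorem index_centralizer_of_isConj {g h : G} (hc : IsConj g h) :
    (centralizer ({g} : Set G)).index = (centralizer ({h} : Set G)).index := by
  obtain ⟨c, rfl⟩ := isConj_iff.mp hc
  rw [← cj_centralizer_singleton, index_cj]

end Conj

section SylIn

variable {G : Type*} [Group G]

/-- `D` is a Sylow `p`-subgroup of `K`. -/
def SylIn (p : ℕ) (D K : Subgroup G) : Prop :=
  ∃ P : Sylow p K, D = (P : Subgroup K).map K.subtype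

variable {p : ℕ} {D K : Subgroup G}

theorem SylIn.le (h : SylIn p D K) : D ≤ K := by
  obtain ⟨P, rfl⟩ := h; exact map_subtype_le _

theorem SylIn.isPGroup (h : SylIn p D K) : IsPGroup p D := by
  obtain ⟨P, rfl⟩ := h; exact P.isPGroup'.map _

theorem SylIn.eq_of_le (h : SylIn p D K) {Q : Subgroup G} (hQ : IsPGroup p Q) (h1 : D ≤ Q)
    (h2 : Q ≤ K) : Q = D := by
  obtain ⟨P, rfl⟩ := h
  have := P.is_maximal' (hQ.comap_subtype (K := K)) (map_le_iff_le_comap.mp h1)
  rw [← this, map_comap_eq, range_subtype, inf_eq_right.mpr h2]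

theorem sylIn_of_maximal (h1 : D ≤ K) (h2 : IsPGroup p D)
    (h3 : ∀ Q : Subgroup G, IsPGroup p Q → D ≤ Q → Q ≤ K → Q ≤ D) : SylIn p D K := by
  refine ⟨⟨D.subgroupOf K, h2.comap_subtype, fun {Q} hQ hle => ?_⟩, ?_⟩
  · refine le_antisymm ?_ hle
    refine map_le_iff_le_comap.mp (h3 _ (hQ.map _) ?_ (map_subtype_le _))
    intro x hx
    exact ⟨⟨x, h1 hx⟩, hle hx, rfl⟩
  · simp [inf_eq_left.mpr h1]

theorem exists_sylIn_ge {Q : Subgroup G} (hQ : IsPGroup p Q) (h : Q ≤ K) :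
    ∃ D, SylIn p D K ∧ Q ≤ D := by
  obtain ⟨P, hP⟩ := (hQ.comap_subtype (K := K)).exists_le_sylow
  refine ⟨_, ⟨P, rfl⟩, fun x hx => ⟨⟨x, h hx⟩, hP hx, rfl⟩⟩

theorem exists_sylIn (p : ℕ) (K : Subgroup G) : ∃ D, SylIn p D K := by
  obtain ⟨D, h, -⟩ := exists_sylIn_ge (p := p) (K := K) IsPGroup.of_bot bot_le
  exact ⟨D, h⟩

theorem sylIn_top (P : Sylow p G) : SylIn p (P : Subgroup G) ⊤ :=
  sylIn_of_maximal le_top P.isPGroup' fun _ hQ h _ => (P.is_maximal' hQ h).le

theorem SylIn.exists_sylow (h : SylIn p D ⊤) : ∃ P : Sylow p G, D = P :=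
  ⟨⟨D, h.isPGroup, fun hQ hle => h.eq_of_le hQ hle le_top⟩, rfl⟩

theorem SylIn.of_le (h : SylIn p D K) {L : Subgroup G} (h1 : D ≤ L) (h2 : L ≤ K) : SylIn p D L :=
  sylIn_of_maximal h1 h.isPGroup fun _ hQ h3 h4 => (h.eq_of_le hQ h3 (h4.trans h2)).le

variable [Finite G] [hp : Fact p.Prime]

theorem SylIn.card (h : SylIn p D K) : Nat.card D = p ^ (Nat.card K).factorization p := by
  obtain ⟨P, rfl⟩ := h
  rw [card_map_of_injective K.subtype_injective, P.card_eq_multiplicity]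

theorem SylIn.factorization_card (h : SylIn p D K) :
    (Nat.card D).factorization p = (Nat.card K).factorization p := by
  rw [h.card, hp.out.factorization_pow]; simp

theorem card_le_of_isPGroup {Q : Subgroup G} (hQ : IsPGroup p Q) (h : Q ≤ K) :
    Nat.card Q ≤ p ^ (Nat.card K).factorization p := by
  obtain ⟨D, hD, hle⟩ := exists_sylIn_ge hQ h
  rw [← hD.card]; exact card_le_of_le hle

theorem card_dvd_of_isPGroup {Q : Subgroup G} (hQ : IsPGroup p Q) (h : Q ≤ K) :
    Nat.card Q ∣ p ^ (Nat.card K).factorization p := by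
  obtain ⟨D, hD, hle⟩ := exists_sylIn_ge hQ h
  rw [← hD.card]; exact card_dvd_of_le hle

theorem sylIn_of_card_ge (h1 : D ≤ K) (h2 : IsPGroup p D)
    (h3 : p ^ (Nat.card K).factorization p ≤ Nat.card D) : SylIn p D K :=
  sylIn_of_maximal h1 h2 fun _ hQ h4 h5 =>
    (eq_of_le_of_card_ge h4 ((card_le_of_isPGroup hQ h5).trans h3)).ge

theorem sylIn_of_card (h1 : D ≤ K) (h3 : Nat.card D = p ^ (Nat.card K).factorization p) :
    SylIn p D K := sylIn_of_card_ge h1 (IsPGroup.of_card h3) h3.ge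

theorem SylIn.exists_cj_le (h : SylIn p D K) {Q : Subgroup G} (hQ : IsPGroup p Q) (h2 : Q ≤ K) :
    ∃ k ∈ K, cj k Q ≤ D := by
  obtain ⟨P, rfl⟩ := h
  obtain ⟨P', hP'⟩ := (hQ.comap_subtype (K := K)).exists_le_sylow
  obtain ⟨k, rfl⟩ := MulAction.exists_smul_eq K P' P
  refine ⟨k, k.2, ?_⟩
  rintro _ ⟨x, hx, rfl⟩
  refine ⟨k * ⟨x, h2 hx⟩ * k⁻¹, ?_, rfl⟩
  have : (⟨x, h2 hx⟩ : K) ∈ (P' : Subgroup K) := hP' hx
  exact Subgroup.smul_mem_pointwise_smul _ (MulAut.conj k) _ this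

theorem SylIn.exists_cj_eq (h : SylIn p D K) {D' : Subgroup G} (h' : SylIn p D' K) :
    ∃ k ∈ K, cj k D' = D := by
  obtain ⟨k, hk, hle⟩ := h.exists_cj_le h'.isPGroup h'.le
  exact ⟨k, hk, eq_of_le_of_card_ge hle (by rw [card_cj, h.card, h'.card])⟩

theorem SylIn.map (h : SylIn p D K) {H : Type*} [Group H] [Finite H] {f : G →* H}
    (hf : Function.Injective f) : SylIn p (D.map f) (K.map f) :=
  sylIn_of_card (map_mono h.le) (by
    rw [card_map_of_injective hf, card_map_of_injective hf, h.card])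

theorem SylIn.of_map {H : Type*} [Group H] [Finite H] {f : G →* H}
    (hf : Function.Injective f) (h : SylIn p (D.map f) (K.map f)) : SylIn p D K :=
  sylIn_of_card ((map_le_map_iff_of_injective hf).mp h.le) (by
    have := h.card
    rwa [card_map_of_injective hf, card_map_of_injective hf] at this)

theorem SylIn.cj (h : SylIn p D K) (g : G) : SylIn p (cj g D) (cj g K) :=
  h.map (MulAut.conj g).injective

theorem SylIn.not_dvd_relIndex (h : SylIn p D K) : ¬ p ∣ D.relIndex K := by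
  obtain ⟨P, rfl⟩ := h
  have := P.not_dvd_index
  rwa [relIndex, subgroupOf, comap_map_eq_self_of_injective K.subtype_injective]

theorem SylIn.normal_le (h : SylIn p D K) {Q : Subgroup G} (hQ : IsPGroup p Q) (h2 : Q ≤ K)
    (h3 : K ≤ normalizer (Q : Set G)) : Q ≤ D := by
  obtain ⟨k, hk, hle⟩ := h.exists_cj_le hQ h2
  rwa [cj_eq_of_mem_normalizer (h3 hk)] at hle

/-- Intersection of a relative Sylow subgroup with a normal subgroup. -/
theorem SylIn.inf_normal (h : SylIn p D K) (N : Subgroup G) [N.Normal] :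
    SylIn p (D ⊓ N) (K ⊓ N) := by
  obtain ⟨E, hE, hle⟩ := exists_sylIn_ge (K := K ⊓ N) (h.isPGroup.to_inf_left (K := N))
    (inf_le_inf_right N h.le)
  obtain ⟨k, hk, hle2⟩ := h.exists_cj_le hE.isPGroup (hE.le.trans inf_le_left)
  have h3 : H17.cj k E ≤ D ⊓ N := le_inf hle2 (by
    have := cj_mono k (hE.le.trans inf_le_right)
    rwa [cj_eq_of_normal k N] at this)
  have : D ⊓ N = E := eq_of_le_of_card_ge hle (by rw [← card_cj k E]; exact card_le_of_le h3)
  rwa [this]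

end SylIn

end H17
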