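import Mathlib
import Cfsg.Prelude.Def_Blocks
import Cfsg.Agent.H17.Center
import Cfsg.Agent.H17.Orbit
import Cfsg.Agent.H17.PPart

/-!
# Block orthogonality, block parts of class functions, values modulo `P` (helper17)
-/

set_option autoImplicit false

open Cfsg H4 Subgroup
open scoped ComplexConjugate

namespace H17

section Grp

variable {G : Type*} [Group G] {p : ℕ} [hp : Fact p.Prime]

theorem eq_of_pow_eq_of_pElt {x y : G} (hx : PElt p x) (hy : PElt p y) {k : ℕ} (hk : ¬ p ∣ k)
    (h : x ^ k = y ^ k) : x = y := by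
  obtain ⟨a, ha⟩ := PElt.iff_pow.mp hx
  obtain ⟨b, hb⟩ := PElt.iff_pow.mp hy
  have hc : k.Coprime (p ^ (a + b)) :=
    Nat.Coprime.pow_right _ (hp.out.coprime_iff_not_dvd.mpr hk).symm
  obtain ⟨u, v, huv⟩ := Nat.isCoprime_iff_coprime.mpr hc
  have h1 : ∀ z : G, z ^ p ^ (a + b) = 1 → z = (z ^ k) ^ u := by
    intro z hz
    conv_lhs => rw [← zpow_one z, ← huv, zpow_add, mul_comm v, zpow_mul z _ v, zpow_natCast, hz]
    rw [one_zpow, mul_one, mul_comm, zpow_mul, zpow_natCast]
  rw [h1 x (by rw [pow_add, pow_mul, ha, one_pow]),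
    h1 y (by rw [pow_add, mul_comm, pow_mul, hb, one_pow]), h]

theorem pp_pow [Finite G] (g : G) (k : ℕ) : pp p (g ^ k) = pp p g ^ k := by
  conv_lhs => rw [← pp_mul_pr (p := p) g, (commute_pp_pr g).mul_pow]
  refine pp_mul ?_ ?_ ((commute_pp_pr g).pow_pow k k)
  · simpa using (pElt_pp g).zpow k
  · simpa using reg_zpow (reg_pr g) k

end Grp

section CentralElt

variable {G : Type*} [Group G] [Finite G]

theorem central_mul {x : G} (hx : ∀ g, Commute x g) (ψ : Irr G) (g : G) :
    ψ.1 (x * g) = cls x ψ * ψ.1 g := by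
  classical
  have := Fintype.ofFinite G
  rw [← sum_co_mul]
  have h1 : ∀ y, IsConj x y ↔ x = y := fun y => ⟨fun h => by
    obtain ⟨c, rfl⟩ := isConj_iff.mp h
    rw [← (hx c).eq]; simp, fun h => h ▸ IsConj.refl x⟩
  simp only [co_cls, h1]
  simp

theorem central_pow {x : G} (hx : ∀ g, Commute x g) (ψ : Irr G) (n : ℕ) :
    ψ.1 (x ^ n) = cls x ψ ^ n * ψ.1 1 := by
  induction n with
  | zero => simp
  | succ n ih => rw [pow_succ', central_mul hx, ih]; ring

theorem cls_pow_eq_one {x : G} (hx : ∀ g, Commute x g) (ψ : Irr G) {n : ℕ} (hn : x ^ n = 1) :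
    cls x ψ ^ n = 1 := by
  have := central_pow hx ψ n
  rw [hn] at this
  exact (mul_eq_right₀ ψ.2.apply_one_ne_zero).mp this.symm

theorem cls_central {x : G} (hx : ∀ g, Commute x g) (ψ : Irr G) :
    cls x ψ = ψ.1 x / ψ.1 1 := by
  have := central_mul hx ψ 1
  rw [mul_one] at this
  rw [this, mul_div_cancel_right₀ _ ψ.2.apply_one_ne_zero]

theorem norm_cls_central {x : G} (hx : ∀ g, Commute x g) (ψ : Irr G) : ‖cls x ψ‖ = 1 :=
  norm_eq_one_of_pow_eq_one (orderOf_pos x).ne' (cls_pow_eq_one hx ψ (pow_orderOf_eq_one x))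

omit [Finite G] in
theorem commute_self_centralizer (x : G) (g : centralizer ({x} : Set G)) :
    Commute (⟨x, mem_centralizer_singleton_iff.mpr rfl⟩ : centralizer ({x} : Set G)) g :=
  Subtype.ext (mem_centralizer_singleton_iff.mp g.2).symm

/-- The average of a character over a coset `xP`, with `x` centralizing `P`, is integral. -/
theorem isIntegral_avg {χ : G → ℂ} (hχ : IsCharacter G χ) (x : G) (P : Subgroup G) [Fintype P]
    (hP : P ≤ centralizer {x}) : IsIntegral ℤ ((Nat.card P : ℂ)⁻¹ * ∑ u : P, χ (x * u)) := by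
  set C := centralizer ({x} : Set G)
  let x' : C := ⟨x, mem_centralizer_singleton_iff.mpr rfl⟩
  have h := (hχ.restrict C).induction (P := fun θ : C → ℂ =>
    IsIntegral ℤ ((Nat.card P : ℂ)⁻¹ * ∑ u : P, θ (x' * inclusion hP u))) (by simpa using isIntegral_zero)
    (fun ψ hψ => ?_) (fun φ ψ _ _ h1 h2 => ?_)
  · exact h
  · have h0 : ∀ g, ψ (x' * g) = cls x' ⟨ψ, hψ⟩ * ψ g :=
      central_mul (commute_self_centralizer x) ⟨ψ, hψ⟩
    simp only [h0, ← Finset.mul_sum]
    rw [mul_left_comm]
    refine (isIntegral_cls _ _).mul ?_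
    obtain ⟨n, hn⟩ := (hψ.isCharacter.comp (inclusion hP)).inner_nat isCharacter_one
    simp only [classInner, map_one, mul_one] at hn
    rw [hn]
    exact isIntegral_natCast n
  · simp only [Pi.add_apply, Finset.sum_add_distrib, mul_add]
    exact h1.add h2

end CentralElt

section Values

variable {G : Type*} [Group G] [Finite G] {p : ℕ} [hp : Fact p.Prime] {M : Ideal AlgInt} [PM p M]

theorem char_mul_sub_mem {χ : G → ℂ} (hχ : IsCharacter G χ) {x y : G} (hx : PElt p x)
    (h : Commute x y) : χ (x * y) - χ y ∈ Pm M := by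
  set C := centralizer ({x} : Set G)
  let x' : C := ⟨x, mem_centralizer_singleton_iff.mpr rfl⟩
  let y' : C := ⟨y, mem_centralizer_singleton_iff.mpr h.symm⟩
  obtain ⟨k, hk⟩ := PElt.iff_pow.mp hx
  have h := (hχ.restrict C).induction (P := fun θ : C → ℂ => θ (x' * y') - θ y' ∈ Pm M)
    (by simp) (fun ψ hψ => ?_) (fun φ ψ _ _ h1 h2 => ?_)
  · exact h
  · have h1 := central_mul (commute_self_centralizer x) ⟨ψ, hψ⟩ y'
    have h2 := cls_pow_eq_one (commute_self_centralizer x) ⟨ψ, hψ⟩ (n := p ^ k) (Subtype.ext hk)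
    simp only at h1
    simp only [x', h1, ← sub_one_mul]
    exact Pm_mul_right (sub_one_mem_Pm_of_pow h2) (irr_mem_S ⟨ψ, hψ⟩ _)
  · have := add_mem h1 h2
    simp only [Pi.add_apply]
    convert this using 1; ring

theorem char_sub_pr_mem {χ : G → ℂ} (hχ : IsCharacter G χ) (g : G) :
    χ g - χ (pr p g) ∈ Pm M := by
  have := char_mul_sub_mem (M := M) hχ (pElt_pp (p := p) g) (commute_pp_pr g)
  rwa [pp_mul_pr] at this

/-- Indicator functions of `p`-regular classes are, on `p`-regular elements, `S`-combinations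
of irreducible characters. -/
theorem exists_comb_cind {x : G} (hx : ¬ p ∣ orderOf x) :
    ∃ s : Irr G → ℂ, (∀ χ, s χ ∈ S M) ∧
      ∀ y, ¬ p ∣ orderOf y → ∑ χ, s χ * χ.1 y = cind x y := by
  classical
  obtain ⟨P, hP⟩ := exists_sylIn p (centralizer ({x} : Set G))
  have := Fintype.ofFinite P
  have hC : (Nat.card (centralizer ({x} : Set G)) : ℂ) ≠ 0 := card_ne_zero _
  have hP0 : (Nat.card P : ℂ) ≠ 0 := card_ne_zero _
  refine ⟨fun χ => (Nat.card (centralizer ({x} : Set G)) : ℂ)⁻¹ * ∑ u : P, conj (χ.1 (x * u)),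
    fun χ => ?_, fun y hy => ?_⟩
  · have h1 := isIntegral_avg χ.2.isCharacter.conj x P hP.le
    have h2 : (Nat.card P : ℂ) / Nat.card (centralizer ({x} : Set G)) ∈ S M :=
      div_mem_S_of_le Nat.card_pos.ne' hP.factorization_card.ge
    have := (S M).mul_mem h2 (S_of_isIntegral h1)
    convert this using 1
    field_simp
  · simp only [mul_assoc, ← Finset.mul_sum, Finset.sum_mul]
    rw [Finset.sum_comm, Finset.sum_eq_single 1]
    · simp only [OneMemClass.coe_one, mul_one, mul_comm (conj _)]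
      rw [cind_apply]
      split_ifs with hc
      · rw [column_orth_of_isConj hc.symm, H17.card_centralizer_of_isConj hc,
          inv_mul_cancel₀ (card_ne_zero _)]
      · rw [column_orth_of_not_isConj (fun h => hc h.symm), mul_zero]
    · intro u _ hu
      simp only [mul_comm (conj _)]
      refine column_orth_of_not_isConj fun hc => hu (Subtype.ext ?_)
      have h1 : Commute (u : G) x := mem_centralizer_singleton_iff.mp (hP.le u.2)
      have h2 := pp_mul (PElt.of_mem hP.isPGroup u.2) hx h1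
      rw [orderOf_eq_of_isConj hc, ← h1.eq] at hy
      rw [← h2, pp_of_reg hy]; rfl
    · simp

/-- Every `S`-valued class function agrees on `p`-regular elements with an `S`-combination of
irreducible characters. -/
theorem exists_comb {c : G → ℂ} (hc : IsClassFunction G c)
    (hS : ∀ y, ¬ p ∣ orderOf y → c y ∈ S M) :
    ∃ s : Irr G → ℂ, (∀ χ, s χ ∈ S M) ∧ ∀ y, ¬ p ∣ orderOf y → ∑ χ, s χ * χ.1 y = c y := by
  classical
  have := Fintype.ofFinite (ConjClasses G)
  have h1 : ∀ x : G, ∃ s : Irr G → ℂ, (∀ χ, s χ ∈ S M) ∧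
      ∀ y, ¬ p ∣ orderOf y → ∑ χ, s χ * χ.1 y = c x * cind x y := by
    intro x
    by_cases hx : p ∣ orderOf x
    · refine ⟨0, fun _ => zero_mem _, fun y hy => ?_⟩
      rw [cind_apply, if_neg (fun h => hy (by rwa [← orderOf_eq_of_isConj h]))]
      simp
    · obtain ⟨s, hs, hs'⟩ := exists_comb_cind (M := M) hx
      refine ⟨fun χ => c x * s χ, fun χ => mul_mem (hS x hx) (hs χ), fun y hy => ?_⟩
      simp only [mul_assoc, ← Finset.mul_sum, hs' y hy]
  choose s hs hs' using h1
  refine ⟨fun χ => ∑ C : ConjClasses G, s (Quotient.out C) χ, fun χ => sum_mem fun C _ => hs _ χ,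
    fun y hy => ?_⟩
  simp only [Finset.sum_mul]
  rw [Finset.sum_comm]
  simp only [hs' _ y hy]
  have h2 := congrArg (fun z => co z y) (eq_sum_cls (hat c))
  simp only [co_hat hc, map_sum, map_smul, co_cls', Finset.sum_apply, Pi.smul_apply,
    smul_eq_mul] at h2
  exact h2.symm

end Values

section BlockPart

variable {G : Type*} [Group G]

theorem blockPart_apply [Fintype G] (A : Set (Irr G)) (ϑ : G → ℂ) (g : G) :
    blockPart A ϑ g = ∑ χ : Irr G, ind A χ * (classInner ϑ χ.1 * χ.1 g) := by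
  rw [← finsum_mem_eq_sum_ind]
  simp only [blockPart, classInner_irrel (Fintype.ofFinite G) inferInstance]

theorem blockPart_eq [Fintype G] (A : Set (Irr G)) (ϑ : G → ℂ) :
    blockPart A ϑ = ∑ χ : Irr G, (ind A χ * classInner ϑ χ.1) • χ.1 := by
  ext g
  simp [blockPart_apply, mul_assoc]

variable [Finite G]

theorem blockPart_classFun (A : Set (Irr G)) (ϑ : G → ℂ) : IsClassFunction G (blockPart A ϑ) := by
  have := Fintype.ofFinite G
  rw [blockPart_eq]; exact isClassFunction_sum_smul_irr _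

theorem inner_blockPart {G : Type*} [Group G] [Fintype G] (A : Set (Irr G)) (ϑ : G → ℂ)
    (ψ : Irr G) : classInner (blockPart A ϑ) ψ.1 = ind A ψ * classInner ϑ ψ.1 := by
  rw [blockPart_eq, classInner_sum_smul_irr]

/-- The block part as a linear map. -/
noncomputable def bpL (A : Set (Irr G)) : (G → ℂ) →ₗ[ℂ] (G → ℂ) where
  toFun := blockPart A
  map_add' a b := by
    have := Fintype.ofFinite G
    ext g
    simp only [blockPart_apply, classInner_add_left, Pi.add_apply, mul_add, add_mul,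
      Finset.sum_add_distrib]
  map_smul' c a := by
    have := Fintype.ofFinite G
    ext g
    simp only [blockPart_apply, classInner_smul_left, Pi.smul_apply, smul_eq_mul,
      RingHom.id_apply, Finset.mul_sum]
    exact Finset.sum_congr rfl fun _ _ => by ring

theorem bpL_apply (A : Set (Irr G)) (ϑ : G → ℂ) : bpL A ϑ = blockPart A ϑ := rfl

theorem blockPart_sub (A : Set (Irr G)) (a b : G → ℂ) :
    blockPart A (a - b) = blockPart A a - blockPart A b := map_sub (bpL A) a b

theorem blockPart_add (A : Set (Irr G)) (a b : G → ℂ) :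
    blockPart A (a + b) = blockPart A a + blockPart A b := map_add (bpL A) a b

theorem blockPart_smul (A : Set (Irr G)) (c : ℂ) (a : G → ℂ) :
    blockPart A (c • a) = c • blockPart A a := map_smul (bpL A) c a

theorem blockPart_sum (A : Set (Irr G)) {ι : Type*} (s : Finset ι) (a : ι → G → ℂ) :
    blockPart A (∑ i ∈ s, a i) = ∑ i ∈ s, blockPart A (a i) := map_sum (bpL A) a s

theorem blockPart_comb (A : Set (Irr G)) (s : Irr G → ℂ) (g : G) :
    blockPart A (∑ χ, s χ • χ.1) g = ∑ χ, ind A χ * (s χ * χ.1 g) := by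
  have := Fintype.ofFinite G
  simp only [blockPart_apply, classInner_sum_smul_irr]

theorem blockPart_irr (A : Set (Irr G)) (χ : Irr G) : blockPart A χ.1 = ind A χ • χ.1 := by
  classical
  have := Fintype.ofFinite G
  ext g
  simp [blockPart_apply, irr_inner]

theorem blockPart_eq_conv {G : Type*} [Group G] [Fintype G] (A : Set (Irr G)) {ϑ : G → ℂ}
    (hϑ : IsClassFunction G ϑ) (g : G) :
    blockPart A ϑ g = ∑ k, co (ind A) k * ϑ (k * g) := by
  simp only [fun k => hϑ.apply_eq_sum (k * g), Finset.mul_sum]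
  rw [Finset.sum_comm, blockPart_apply]
  refine Finset.sum_congr rfl fun χ _ => ?_
  simp only [mul_left_comm (co _ _), ← Finset.mul_sum, sum_co_mul]
  ring

theorem blockPart_eq_sum_elt {G : Type*} [Group G] [Fintype G] (A : Set (Irr G)) (ϑ : G → ℂ)
    (g : G) : blockPart A ϑ g =
      (Nat.card G : ℂ)⁻¹ * ∑ h, ϑ h * ∑ χ : Irr G, ind A χ * (χ.1 g * conj (χ.1 h)) := by
  simp only [blockPart_apply, classInner, Finset.mul_sum, Finset.sum_mul]
  rw [Finset.sum_comm]
  exact Finset.sum_congr rfl fun _ _ => Finset.sum_congr rfl fun _ _ => by ring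

theorem blockPart_cind (A : Set (Irr G)) (x g : G) : blockPart A (cind x) g =
    (Nat.card (centralizer ({x} : Set G)) : ℂ)⁻¹ *
      ∑ χ : Irr G, ind A χ * (χ.1 g * conj (χ.1 x)) := by
  have := Fintype.ofFinite G
  rw [blockPart_eq_sum_elt, sum_cind_mul x (c := fun h => ∑ χ : Irr G, ind A χ * (χ.1 g * conj (χ.1 h)))
    (fun a b => by simp only [fun χ : Irr G => χ.2.classFun a b]), ← mul_assoc]
  congr 1
  have h1 := card_mul_index (centralizer ({x} : Set G))
  have h2 := card_ne_zero (centralizer ({x} : Set G))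
  have h3 := card_ne_zero G
  rw [← h1] at h3 ⊢
  push_cast at h3 ⊢
  have h4 := right_ne_zero_of_mul h3
  field_simp

theorem blockPart_cind_one (A : Set (Irr G)) (g : G) :
    blockPart A (cind 1) g = co (ind A) g⁻¹ := by
  rw [blockPart_cind, co_apply]
  congr 1
  · simp
  · refine Finset.sum_congr rfl fun χ _ => ?_
    rw [χ.2.apply_inv, Complex.conj_conj, conj_apply_one χ.2.isCharacter]; ring

end BlockPart

section Orth

variable {G : Type*} [Group G] [Finite G] {p : ℕ} [hp : Fact p.Prime] {M : Ideal AlgInt} [PM p M]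

/-- Block orthogonality. -/
theorem block_orth {A : Set (Irr G)} (hA : ind A ∈ ZS G M) {g h : G}
    (hgh : ¬ IsConj (pp p g) (pp p h)) :
    ∑ χ : Irr G, ind A χ * (χ.1 g * conj (χ.1 h)) = 0 := by
  classical
  have := Fintype.ofFinite G
  let σ : Equiv.Perm G := (Equiv.mulLeft h).trans (Equiv.mulRight g⁻¹)
  have hσ : ∀ u, σ u = h * u * g⁻¹ := fun u => rfl
  have hσk : ∀ (k : ℕ) u, (σ ^ k) u = h ^ k * u * (g ^ k)⁻¹ := by
    intro k
    induction k with
    | zero => simp
    | succ k ih => intro u; rw [pow_succ', Equiv.Perm.mul_apply, ih, hσ, pow_succ' h, pow_succ' g]; group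
  let A' : Matrix G G ℂ := Matrix.of fun u v => co (ind A) (u⁻¹ * v)
  let η : Matrix G G ℂ := Matrix.of fun a b => if a = σ b then 1 else 0
  have hA' : ∑ ω : G × G, co (ind A) (ω.1⁻¹ * ω.2) • Matrix.single ω.1 ω.2 (1 : ℂ) = A' := by
    rw [Matrix.matrix_eq_sum_single A', Fintype.sum_prod_type]
    simp [A']
  have hidem : A' * A' = A' := by
    ext u v
    simp only [A', Matrix.mul_apply, Matrix.of_apply]
    conv_rhs => rw [← ind_mul_self A, co_mul]
    refine Fintype.sum_equiv (Equiv.mulLeft u⁻¹) _ _ fun w => ?_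
    simp [mul_assoc]
  have hpow : ∀ m, 0 < m → A' ^ m = A' := fun m hm => IsIdempotentElem.pow_eq hidem hm.ne'
  have htr : Matrix.trace (A' * η) = ∑ χ : Irr G, ind A χ * (χ.1 g * conj (χ.1 h)) := by
    simp only [Matrix.trace, Matrix.diag, Matrix.mul_apply, A', η, Matrix.of_apply, mul_ite,
      mul_one, mul_zero, Finset.sum_ite_eq', Finset.mem_univ, if_true, hσ, co_apply,
      ← Finset.mul_sum]
    rw [Finset.sum_comm, Finset.mul_sum]
    refine Finset.sum_congr rfl fun χ _ => ?_
    have h1 := χ.2.sum_conj_mul h g⁻¹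
    rw [← Equiv.sum_comp (Equiv.inv G)] at h1
    simp only [Equiv.inv_apply, inv_inv] at h1
    simp only [← mul_assoc, ← Finset.mul_sum, ← map_sum, h1, map_div₀, map_mul, map_natCast,
      conj_apply_one χ.2.isCharacter, χ.2.apply_inv, Complex.conj_conj]
    have := card_ne_zero G
    have := χ.2.apply_one_ne_zero
    field_simp
  refine eq_zero_of_trace_pow (M := M) (fun ω : G × G => Matrix.single ω.1 ω.2 (1 : ℂ))
    (fun ω => co (ind A) (ω.1⁻¹ * ω.2)) (Equiv.prodCongr σ σ) η (Matrix.traceLinearMap G ℂ ℂ)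
    (fun a b => Matrix.trace_mul_comm a b) ?_ ?_ (fun ω => hA _) ?_ ?_ _ ?_
  · rintro ⟨u, v⟩
    ext a b
    simp only [η, Matrix.mul_apply, Matrix.of_apply, Matrix.single_apply, Equiv.prodCongr_apply,
      Prod.map_fst, Prod.map_snd, ite_and, mul_ite, mul_one, mul_zero,
      Finset.sum_ite_eq, Finset.sum_ite_eq', Finset.mem_univ, if_true,
      EmbeddingLike.apply_eq_iff_eq]
    by_cases h1 : v = b <;> by_cases h2 : σ u = a <;> simp [h1, h2, eq_comm (a := a)]
  · rintro ⟨u, v⟩
    simp only [Equiv.prodCongr_apply, Prod.map_fst, Prod.map_snd, hσ]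
    rw [← co_conj (ind A) (u⁻¹ * v) g]
    group
  · intro m t
    have h1 : (List.ofFn fun i => Matrix.single (t i).1 (t i).2 (1 : ℂ)).prod * η ∈
        (S M).matrix (n := G) := by
      refine mul_mem (list_prod_mem fun x hx => ?_) fun a b => ?_
      · obtain ⟨i, rfl⟩ := List.mem_ofFn.mp hx
        intro a b
        rw [Matrix.single_apply]
        split_ifs
        · exact (S M).one_mem
        · exact (S M).zero_mem
      · simp only [η, Matrix.of_apply]
        split_ifs
        · exact (S M).one_mem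
        · exact (S M).zero_mem
    exact sum_mem fun a _ => h1 a a
  · rintro ⟨u, v⟩ k hk h1
    exfalso
    have h2 : (σ ^ k) u = u := by
      have h0 : ∀ (k : ℕ), (((show Equiv.Perm (G × G) from Equiv.prodCongr σ σ) ^ k) (u, v)).1 =
          (σ ^ k) u := by
        intro k
        induction k with
        | zero => simp
        | succ k ih => rw [pow_succ', pow_succ', Equiv.Perm.mul_apply, Equiv.Perm.mul_apply, ← ih]; rfl
      rw [← h0]
      exact congrArg Prod.fst h1
    rw [hσk] at h2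
    have h3 : h ^ k = u * g ^ k * u⁻¹ := by
      rw [eq_mul_inv_iff_mul_eq, ← mul_inv_eq_iff_eq_mul, h2]
    have h4 := congrArg (pp p) h3
    rw [pp_conj, pp_pow, pp_pow, ← conj_pow] at h4
    exact hgh (isConj_iff.mpr ⟨u, (eq_of_pow_eq_of_pElt (pElt_pp h) ((pElt_pp g).conj u) hk h4).symm⟩)
  · intro m hm
    rw [hA', hpow m hm, Matrix.traceLinearMap_apply, htr]

theorem blockPart_eq_zero {A : Set (Irr G)} (hA : ind A ∈ ZS G M) {ϑ : G → ℂ} {u : G}
    (h : ∀ h, IsConj (pp p u) (pp p h) → ϑ h = 0) : blockPart A ϑ u = 0 := by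
  have := Fintype.ofFinite G
  rw [blockPart_eq_sum_elt, Finset.sum_eq_zero, mul_zero]
  intro k _
  by_cases hk : IsConj (pp p u) (pp p k)
  · rw [h k hk, zero_mul]
  · rw [block_orth hA hk, mul_zero]

theorem blockPart_congr {A : Set (Irr G)} (hA : ind A ∈ ZS G M) {ϑ ϑ' : G → ℂ} {u : G}
    (h : ∀ h, IsConj (pp p u) (pp p h) → ϑ h = ϑ' h) : blockPart A ϑ u = blockPart A ϑ' u := by
  rw [← sub_eq_zero, ← Pi.sub_apply, ← blockPart_sub]
  exact blockPart_eq_zero hA fun k hk => by rw [Pi.sub_apply, h k hk, sub_self]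

theorem isConj_pp_iff_reg {u : G} (hu : ¬ p ∣ orderOf u) {h : G} :
    IsConj (pp p u) (pp p h) ↔ ¬ p ∣ orderOf h := by
  rw [pp_of_reg hu, isConj_one_right, pp_eq_one_iff]

theorem blockPart_congr_reg {A : Set (Irr G)} (hA : ind A ∈ ZS G M) {ϑ ϑ' : G → ℂ} {u : G}
    (hu : ¬ p ∣ orderOf u) (h : ∀ h, ¬ p ∣ orderOf h → ϑ h = ϑ' h) :
    blockPart A ϑ u = blockPart A ϑ' u :=
  blockPart_congr hA fun k hk => h k ((isConj_pp_iff_reg hu).mp hk)

theorem blockPart_congr_sing {A : Set (Irr G)} (hA : ind A ∈ ZS G M) {ϑ ϑ' : G → ℂ} {u : G}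
    (hu : p ∣ orderOf u) (h : ∀ h, p ∣ orderOf h → ϑ h = ϑ' h) :
    blockPart A ϑ u = blockPart A ϑ' u :=
  blockPart_congr hA fun k hk => h k (by
    by_contra hc
    exact (isConj_pp_iff_reg hc).mp hk.symm hu)

theorem weak_block_orth {A : Set (Irr G)} (hA : ind A ∈ ZS G M) {x y : G} (hx : ¬ p ∣ orderOf x)
    (hy : p ∣ orderOf y) : ∑ χ : Irr G, ind A χ * (χ.1 x * conj (χ.1 y)) = 0 :=
  block_orth hA fun h => (isConj_pp_iff_reg hx).mp h hy

/-- Block idempotents are supported on `p`-regular elements. -/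
theorem co_ind_eq_zero {A : Set (Irr G)} (hA : ind A ∈ ZS G M) {y : G} (hy : p ∣ orderOf y) :
    co (ind A) y = 0 := by
  have := weak_block_orth hA (x := 1) reg_one hy
  rw [co_apply]
  simp only [mul_comm _ (ind A _), mul_assoc, this, mul_zero]

theorem reg_of_co_ind_ne_zero {A : Set (Irr G)} (hA : ind A ∈ ZS G M) {y : G}
    (hy : co (ind A) y ≠ 0) : ¬ p ∣ orderOf y := fun h => hy (co_ind_eq_zero hA h)

/-- The block part, on `p`-regular elements, of an `S`-valued class function. -/
theorem exists_comb_blockPart {c : G → ℂ} (hc : IsClassFunction G c)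
    (hS : ∀ y, ¬ p ∣ orderOf y → c y ∈ S M) :
    ∃ s : Irr G → ℂ, (∀ χ, s χ ∈ S M) ∧ (∀ y, ¬ p ∣ orderOf y → ∑ χ, s χ * χ.1 y = c y) ∧
      ∀ A : Set (Irr G), ind A ∈ ZS G M → ∀ y, ¬ p ∣ orderOf y →
        blockPart A c y = ∑ χ, ind A χ * (s χ * χ.1 y) := by
  obtain ⟨s, hs, hs'⟩ := exists_comb hc hS
  refine ⟨s, hs, hs', fun A hA y hy => ?_⟩
  rw [← blockPart_comb]
  exact blockPart_congr_reg hA hy fun k hk => by simp [← hs' k hk]

end Orth

section Reg

variable {G : Type*} [Group G] {p : ℕ}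

/-- Truncation of a function to the `p`-regular elements. -/
noncomputable def regPart (p : ℕ) (θ : G → ℂ) : G → ℂ := fun g => if p ∣ orderOf g then 0 else θ g

theorem regPart_of_reg (θ : G → ℂ) {g : G} (h : ¬ p ∣ orderOf g) : regPart p θ g = θ g := if_neg h

theorem regPart_of_sing (θ : G → ℂ) {g : G} (h : p ∣ orderOf g) : regPart p θ g = 0 := if_pos h

theorem regPart_classFun {θ : G → ℂ} (h : IsClassFunction G θ) :
    IsClassFunction G (regPart p θ) := fun a b => by
  simp only [regPart, orderOf_conj, h a b]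

theorem inner_regPart_comm [Fintype G] (θ η : G → ℂ) :
    classInner (regPart p θ) η = classInner θ (regPart p η) := by
  simp only [classInner, regPart]
  congr 1
  refine Finset.sum_congr rfl fun g _ => ?_
  split_ifs <;> simp

variable [Finite G] [hp : Fact p.Prime] {M : Ideal AlgInt} [PM p M]

theorem blockPart_regPart {A : Set (Irr G)} (hA : ind A ∈ ZS G M) (θ : G → ℂ) :
    blockPart A (regPart p θ) = regPart p (blockPart A θ) := by
  ext u
  by_cases hu : p ∣ orderOf u
  · rw [regPart_of_sing _ hu, blockPart_congr_sing hA hu (ϑ' := 0) fun k hk => regPart_of_sing _ hk]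
    exact congrFun (map_zero (bpL A)) u
  · rw [regPart_of_reg _ hu]
    exact blockPart_congr_reg hA hu fun k hk => regPart_of_reg _ hk

theorem inner_regPart_eq_zero {G : Type*} [Group G] [Fintype G] {χ ψ : Irr G} (h : ¬ SB M χ ψ) :
    classInner (regPart p χ.1) ψ.1 = 0 := by
  have h1 := inner_blockPart (blockOf M ψ.1) (regPart p χ.1) ψ
  rw [blockPart_regPart (fb_mem_ZS ψ), blockPart_irr, ind_of_notMem (fun h' => h (SB.symm h')),
    ind_of_mem (self_mem_blockOf ψ), one_mul, zero_smul] at h1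
  rw [← h1]
  simp [classInner, regPart]

/-- A set of characters orthogonal on `p`-regular elements to its complement is a union of
blocks. -/
theorem ind_mem_ZS_of_orth {G : Type*} [Group G] [Fintype G] {A : Set (Irr G)}
    (hA : ∀ χ ∈ A, ∀ ψ ∉ A, classInner (regPart p χ.1) ψ.1 = 0) : ind A ∈ ZS G M := by
  classical
  have h1 : ∀ χ : Irr G, blockPart A (regPart p χ.1) = ind A χ • regPart p χ.1 := by
    intro χ
    refine (blockPart_classFun _ _).ext_inner ((regPart_classFun χ.2.classFun).smul _)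
      fun ψ hψ => ?_
    rw [inner_blockPart A _ ⟨ψ, hψ⟩, classInner_smul_left]
    by_cases h1 : χ ∈ A <;> by_cases h2 : (⟨ψ, hψ⟩ : Irr G) ∈ A
    · rw [ind_of_mem h1, ind_of_mem h2]
    · rw [hA χ h1 _ h2]; simp
    · have := hA _ h2 χ h1
      rw [inner_regPart_comm] at this
      rw [classInner_comm_of_eq_zero this]; simp
    · rw [ind_of_notMem h1, ind_of_notMem h2]
  obtain ⟨s, hs, hs'⟩ := exists_comb_cind (M := M) (x := (1 : G)) reg_one
  have h2 : cind (1 : G) = ∑ χ : Irr G, s χ • regPart p χ.1 := by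
    ext y
    by_cases hy : p ∣ orderOf y
    · simp only [Finset.sum_apply, Pi.smul_apply, regPart_of_sing _ hy, smul_zero,
        Finset.sum_const_zero, cind_apply]
      rw [if_neg]
      intro h
      rw [← orderOf_eq_of_isConj h] at hy
      exact reg_one hy
    · simp only [Finset.sum_apply, Pi.smul_apply, regPart_of_reg _ hy, smul_eq_mul, hs' y hy]
  intro g
  rw [← inv_inv g, ← blockPart_cind_one, h2, blockPart_sum]
  simp only [blockPart_smul, h1, Finset.sum_apply, Pi.smul_apply, smul_eq_mul]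
  refine sum_mem fun χ _ => mul_mem (hs χ) (mul_mem ?_ ?_)
  · rw [ind_apply]; split_ifs
    · exact one_mem _
    · exact zero_mem _
  · rw [regPart]; split_ifs
    · exact zero_mem _
    · exact irr_mem_S χ _

/-- Blocks do not depend on the maximal ideal over `p`. -/
theorem SB.change (M' : Ideal AlgInt) [PM p M'] {χ ψ : Irr G} (h : SB M χ ψ) : SB M' χ ψ := by
  have := Fintype.ofFinite G
  refine mem_of_ind_mem_ZS (M := M) (A := blockOf M' χ.1) ?_ (self_mem_blockOf χ) h
  exact ind_mem_ZS_of_orth fun a ha b hb =>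
    inner_regPart_eq_zero (M := M') fun hab => hb (SB.trans ha hab)

end Reg

end H17
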