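import Mathlib
import Cfsg.Agent.H17.Orth
import Cfsg.Agent.H4.Induce
import Cfsg.Agent.H4.Central
import Cfsg.Agent.H5.Kernel
import Cfsg.Agent.H5.Clifford

/-!
# Defect classes and defect groups
-/

set_option autoImplicit false
set_option linter.unusedSectionVars false

open Cfsg H4 Subgroup
open scoped ComplexConjugate

namespace H17

section ConjSum

variable {G : Type*} [Group G] [Fintype G] {p : ℕ} [hp : Fact p.Prime]

theorem conj_sum_sub_mem {A : Type*} [AddCommGroup A] (I : AddSubgroup A) {Q : Subgroup G}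
    (hQ : IsPGroup p Q) (F : G → A) (hF : ∀ q ∈ Q, ∀ g, F (q * g * q⁻¹) = F g)
    (hS : ∀ g, p • F g ∈ I) [DecidablePred (· ∈ centralizer (Q : Set G))] :
    ∑ g, F g - ∑ g, (if g ∈ centralizer (Q : Set G) then F g else 0) ∈ I := by
  let Γ : Subgroup (ConjAct G) := Q.map ConjAct.toConjAct.toMonoidHom
  have hΓ : IsPGroup p Γ := hQ.map _
  have h1 : ∀ (γ : Γ), ∃ q ∈ Q, ∀ x : G, γ • x = q * x * q⁻¹ := by
    rintro ⟨_, q, hq, rfl⟩
    exact ⟨q, hq, fun x => rfl⟩
  have h2 : ∀ x : G, x ∈ centralizer (Q : Set G) ↔ ∀ γ : Γ, γ • x = x := by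
    intro x
    constructor
    · intro hx γ
      obtain ⟨q, hq, h⟩ := h1 γ
      rw [h, hx q hq, mul_inv_cancel_right]
    · intro h q hq
      have := h ⟨ConjAct.toConjAct q, q, hq, rfl⟩
      change q * x * q⁻¹ = x at this
      rw [← mul_inv_eq_iff_eq_mul, this]
  refine sum_sub_sum_fixed_mem (Γ := Γ) hΓ I F (fun γ x => ?_) hS _ h2 fun γ x => ?_
  · obtain ⟨q, hq, h⟩ := h1 γ
    rw [h, hF q hq]
  · obtain ⟨q, hq, h⟩ := h1 γ
    rw [h]
    have hq' : q ∈ normalizer ((centralizer (Q : Set G) : Subgroup G) : Set G) := by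
      refine mem_normalizer_of_cj_eq ?_
      rw [cj_centralizer, cj_eq_of_mem hq]
    exact (mem_normalizer_iff.mp hq' x).symm

theorem conj_sum_mem' {A : Type*} [AddCommGroup A] (I : AddSubgroup A) {Q : Subgroup G}
    (hQ : IsPGroup p Q) (F : G → A) (hF : ∀ q ∈ Q, ∀ g, F (q * g * q⁻¹) = F g)
    (hS : ∀ g, p • F g ∈ I) (h : ∀ g ∈ centralizer (Q : Set G), F g ∈ I) : ∑ g, F g ∈ I := by
  classical
  have h1 := conj_sum_sub_mem I hQ F hF hS
  have h2 : ∑ g, (if g ∈ centralizer (Q : Set G) then F g else 0) ∈ I :=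
    sum_mem fun g _ => by
      split_ifs with hg
      · exact h g hg
      · exact I.zero_mem
  simpa using I.add_mem h1 h2

variable {M : Ideal AlgInt} [PM p M]

theorem conj_sum_sub {Q : Subgroup G} (hQ : IsPGroup p Q) (F : G → ℂ)
    (hF : ∀ q ∈ Q, ∀ g, F (q * g * q⁻¹) = F g) (hS : ∀ g, F g ∈ S M)
    [DecidablePred (· ∈ centralizer (Q : Set G))] :
    ∑ g, F g - ∑ g, (if g ∈ centralizer (Q : Set G) then F g else 0) ∈ Pm M :=
  conj_sum_sub_mem _ hQ F hF fun g => by rw [nsmul_eq_mul]; exact p_mul_mem_Pm (hS g)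

theorem conj_sum_mem {Q : Subgroup G} (hQ : IsPGroup p Q) (F : G → ℂ)
    (hF : ∀ q ∈ Q, ∀ g, F (q * g * q⁻¹) = F g) (hS : ∀ g, F g ∈ S M)
    (h : ∀ g ∈ centralizer (Q : Set G), F g ∈ Pm M) : ∑ g, F g ∈ Pm M :=
  conj_sum_mem' _ hQ F hF (fun g => by rw [nsmul_eq_mul]; exact p_mul_mem_Pm (hS g)) h

omit hp [PM p M] in
theorem co_mul_conj_inv (z w : Irr G → ℂ) {h q : G} (hq : q * h = h * q) (k : G) :
    co z (q * k * q⁻¹) * co w ((q * k * q⁻¹)⁻¹ * h) = co z k * co w (k⁻¹ * h) := by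
  rw [co_conj, ← co_conj w (k⁻¹ * h) q]
  congr 2
  have : h = q * h * q⁻¹ := by rw [hq, mul_inv_cancel_right]
  conv_lhs => rw [this]
  group

/-- Multiplicativity of the Brauer map, coefficientwise. -/
theorem co_mul_sub_brauer {Q : Subgroup G} (hQ : IsPGroup p Q) {h : G}
    (hh : h ∈ centralizer (Q : Set G)) {z w : Irr G → ℂ} (hz : z ∈ ZS G M) (hw : w ∈ ZS G M)
    [DecidablePred (· ∈ centralizer (Q : Set G))] :
    co (z * w) h - ∑ k, (if k ∈ centralizer (Q : Set G) then co z k * co w (k⁻¹ * h) else 0)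
      ∈ Pm M := by
  rw [co_mul]
  exact conj_sum_sub hQ _ (fun q hq k => co_mul_conj_inv z w (hh q hq) k)
    fun k => (S M).mul_mem (hz _) (hw _)

end ConjSum

section SylNorm

variable {G : Type*} [Group G] [Finite G] {p : ℕ} [hp : Fact p.Prime]

/-- Normalizers grow in `p`-groups. -/
theorem le_of_inf_normalizer_le {D Q : Subgroup G} (hQ : IsPGroup p Q) (hDQ : D ≤ Q)
    (h : Q ⊓ normalizer (D : Set G) ≤ D) : Q ≤ D := by
  have : Group.IsNilpotent Q := hQ.isNilpotent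
  have h1 := normalizerCondition_of_isNilpotent (G := Q)
  rw [normalizerCondition_iff_only_full_group_self_normalizing] at h1
  have h2 := h1 (D.subgroupOf Q) (le_antisymm (fun x hx => ?_) le_normalizer)
  · exact subgroupOf_eq_top.mp h2
  · rw [mem_subgroupOf]
    refine h ⟨x.2, ?_⟩
    rw [← subgroupOf_normalizer_eq hDQ] at hx
    exact hx

theorem sylIn_of_inf_normalizer {D K : Subgroup G} (h : SylIn p D (K ⊓ normalizer (D : Set G)))
    (hK : D ≤ K) : SylIn p D K :=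
  sylIn_of_maximal hK h.isPGroup fun Q hQ h1 h2 => le_of_inf_normalizer_le hQ h1
    (h.eq_of_le (hQ.to_inf_left) (le_inf h1 le_normalizer) (inf_le_inf_right _ h2)).le

/-- Elements of `C(D)` with defect group `D` which are conjugate are conjugate in `N(D)`. -/
theorem exists_normalizer_conj {D : Subgroup G} {a b : G} (ha : SylIn p D (centralizer {a}))
    (hb : b ∈ centralizer (D : Set G)) (hc : IsConj a b) :
    ∃ n ∈ normalizer (D : Set G), n * a * n⁻¹ = b := by
  have hb' : SylIn p D (centralizer {b}) := sylIn_of_card (le_centralizer_singleton_iff.mpr hb)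
    (by rw [ha.card, H17.card_centralizer_of_isConj hc])
  obtain ⟨t, rfl⟩ := isConj_iff.mp hc
  have h5 := ha.cj t
  rw [cj_centralizer_singleton] at h5
  obtain ⟨s, hs, h6⟩ := hb'.exists_cj_eq h5
  rw [cj_cj] at h6
  refine ⟨s * t, mem_normalizer_of_cj_eq h6, ?_⟩
  have h7 := (H17.mem_centralizer_singleton.mp hs).eq
  calc s * t * a * (s * t)⁻¹ = s * (t * a * t⁻¹) * s⁻¹ := by group
    _ = _ := by rw [h7, mul_inv_cancel_right]

end SylNorm

section MinMax

variable {G : Type*} [Group G] [Finite G] {p : ℕ} [hp : Fact p.Prime] {M : Ideal AlgInt} [PM p M]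

theorem co_mul_mem_Pm {Q : Subgroup G} (hQ : IsPGroup p Q) {h : G}
    (hh : h ∈ centralizer (Q : Set G)) {z w : Irr G → ℂ} (hz : z ∈ ZS G M) (hw : w ∈ ZS G M)
    (h0 : ∀ k ∈ centralizer (Q : Set G), co z k ∈ Pm M) : co (z * w) h ∈ Pm M := by
  have := Fintype.ofFinite G
  rw [co_mul]
  exact conj_sum_mem hQ _ (fun q hq k => co_mul_conj_inv z w (hh q hq) k)
    (fun k => (S M).mul_mem (hz _) (hw _)) fun k hk => Pm_mul_right (h0 k hk) (hw _)

/-- The core of the min-max theorem. -/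
theorem minmax {χ : Irr G} {z : Irr G → ℂ} (hz : z ∈ ZS G M) (hzχ : z χ ∉ Pm M) {Q : Subgroup G}
    (hQ : IsPGroup p Q) {h : G} (hh : h ∈ centralizer (Q : Set G)) (hf : co (fb M χ) h ∉ Pm M) :
    ∃ k ∈ centralizer (Q : Set G), co z k ∉ Pm M := by
  by_contra hcon
  push Not at hcon
  obtain ⟨u, hu, huz⟩ := exists_mul_eq_fb hz hzχ
  exact hf (by rw [← huz, mul_comm]; exact co_mul_mem_Pm hQ hh hz hu hcon)

omit hp [PM p M] in
theorem isConj_of_co_cls [M.IsMaximal] {g k : G} (h : co (cls g) k ∉ Pm M) : IsConj g k := by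
  classical
  by_contra hc
  rw [co_cls, if_neg hc] at h
  exact h (Pm M).zero_mem

theorem minmax_cls {χ : Irr G} {g : G} (hg : cls g χ ∉ Pm M) {Q : Subgroup G}
    (hQ : IsPGroup p Q) {h : G} (hh : h ∈ centralizer (Q : Set G)) (hf : co (fb M χ) h ∉ Pm M) :
    ∃ k ∈ centralizer (Q : Set G), IsConj g k := by
  obtain ⟨k, hk, h1⟩ := minmax (cls_mem_ZR _ g) hg hQ hh hf
  exact ⟨k, hk, isConj_of_co_cls h1⟩

omit [Finite G] hp in
theorem exists_cj_le_centralizer {Q : Subgroup G} {g k : G} (hk : k ∈ centralizer (Q : Set G))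
    (hc : IsConj g k) : ∃ t : G, cj t Q ≤ centralizer {g} := by
  obtain ⟨t, rfl⟩ := isConj_iff.mp hc
  refine ⟨t⁻¹, ?_⟩
  rw [cj_le_iff, inv_inv, cj_centralizer_singleton]
  exact le_centralizer_singleton_iff.mpr hk

end MinMax

section Defs

variable {G : Type*} [Group G] [Finite G] {p : ℕ} {M : Ideal AlgInt} [M.IsMaximal]

variable (M) in
/-- `g` represents a defect class of the block of `χ`. -/
def DC (χ : Irr G) (g : G) : Prop := co (fb M χ) g ∉ Pm M ∧ cls g χ ∉ Pm M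

variable (p M) in
/-- `D` is a defect group of the block of `χ`. -/
def DG (χ : Irr G) (D : Subgroup G) : Prop := ∃ g, DC M χ g ∧ SylIn p D (centralizer {g})

theorem isDefectClass_iff {χ : Irr G} {g : G} :
    IsDefectClass M (blockOf M χ.1) g ↔ DC M χ g := by
  rw [IsDefectClass, blockCoeff_eq]
  constructor
  · rintro ⟨-, h2, h3⟩
    exact ⟨h2, h3 χ (self_mem_blockOf χ)⟩
  · rintro ⟨h1, h2⟩
    exact ⟨fb_mem_ZS χ g, h1, fun ψ hψ h => h2 ((SB.mem_iff hψ (cls_mem_ZR _ g)).mpr h)⟩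

theorem isDefectGroup_iff {χ : Irr G} {D : Subgroup G} :
    IsDefectGroup p M (blockOf M χ.1) D ↔ DG p M χ D :=
  exists_congr fun _ => and_congr isDefectClass_iff Iff.rfl

theorem SB.dc {χ ψ : Irr G} (h : SB M χ ψ) {g : G} (hg : DC M χ g) : DC M ψ g :=
  ⟨h.fb_eq ▸ hg.1, fun h' => hg.2 ((h.mem_iff (cls_mem_ZR _ g)).mpr h')⟩

theorem SB.dg {χ ψ : Irr G} (h : SB M χ ψ) {D : Subgroup G} (hD : DG p M χ D) : DG p M ψ D :=
  let ⟨g, h1, h2⟩ := hD; ⟨g, h.dc h1, h2⟩

theorem exists_notMem_of_apply {z : Irr G → ℂ} (hz : z ∈ ZS G M) {χ : Irr G} (h : z χ ∉ Pm M) :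
    ∃ g, co z g ∉ Pm M ∧ cls g χ ∉ Pm M := by
  by_contra hcon
  push Not at hcon
  refine h (apply_mem χ (Pm M) z fun g => ?_)
  by_cases hg : co z g ∈ Pm M
  · exact Pm_mul_right hg (cls_mem_S g χ)
  · exact Pm_mul_left (hz g) (hcon g hg)

theorem exists_DC (χ : Irr G) : ∃ g, DC M χ g :=
  exists_notMem_of_apply (fb_mem_ZS χ) (by rw [fb_self]; exact one_notMem_Pm)

variable (p M) in
theorem exists_DG (χ : Irr G) : ∃ D, DG p M χ D := by
  obtain ⟨g, hg⟩ := exists_DC (M := M) χ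
  obtain ⟨D, hD⟩ := exists_sylIn p (centralizer ({g} : Set G))
  exact ⟨D, g, hg, hD⟩

theorem DC.of_isConj {χ : Irr G} {g h : G} (hg : DC M χ g) (hc : IsConj g h) : DC M χ h :=
  ⟨co_of_isConj (fb M χ) hc ▸ hg.1, cls_of_isConj hc ▸ hg.2⟩

theorem DG.isPGroup {χ : Irr G} {D : Subgroup G} (h : DG p M χ D) : IsPGroup p D :=
  let ⟨_, _, h2⟩ := h; h2.isPGroup

end Defs

section Basic

variable {G : Type*} [Group G] [Finite G] {p : ℕ} [hp : Fact p.Prime] {M : Ideal AlgInt} [PM p M]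

theorem DC.reg {χ : Irr G} {g : G} (hg : DC M χ g) : ¬ p ∣ orderOf g :=
  reg_of_co_ind_ne_zero (fb_mem_ZS (M := M) χ) (ne_zero_of_notMem_Pm hg.1)

theorem DG.cj {χ : Irr G} {D : Subgroup G} (h : DG p M χ D) (t : G) : DG p M χ (cj t D) := by
  obtain ⟨g, h1, h2⟩ := h
  refine ⟨t * g * t⁻¹, h1.of_isConj (isConj_iff.mpr ⟨t, rfl⟩), ?_⟩
  rw [← cj_centralizer_singleton]
  exact h2.cj t

/-- min-max, "max" half. -/
theorem DG.max {χ : Irr G} {D : Subgroup G} (hD : DG p M χ D) {Q : Subgroup G}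
    (hQ : IsPGroup p Q) {h : G} (hh : h ∈ centralizer (Q : Set G)) (hf : co (fb M χ) h ∉ Pm M) :
    ∃ t : G, H17.cj t Q ≤ D := by
  obtain ⟨g, h1, h2⟩ := hD
  obtain ⟨k, hk, hc⟩ := minmax_cls h1.2 hQ hh hf
  obtain ⟨t, ht⟩ := exists_cj_le_centralizer hk hc
  obtain ⟨s, -, hs⟩ := h2.exists_cj_le (hQ.map _) ht
  exact ⟨s * t, by rwa [← cj_cj]⟩

/-- min-max, "min" half. -/
theorem DG.min {χ : Irr G} {D : Subgroup G} (hD : DG p M χ D) {z : Irr G → ℂ} (hz : z ∈ ZS G M)
    (hzχ : z χ ∉ Pm M) : ∃ k ∈ centralizer (D : Set G), co z k ∉ Pm M := by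
  obtain ⟨g, h1, h2⟩ := hD
  exact minmax hz hzχ h2.isPGroup (le_centralizer_singleton_iff.mp h2.le) h1.1

theorem DG.min_cls {χ : Irr G} {D : Subgroup G} (hD : DG p M χ D) {h : G}
    (hh : cls h χ ∉ Pm M) : ∃ k ∈ centralizer (D : Set G), IsConj h k := by
  obtain ⟨k, hk, h1⟩ := hD.min (cls_mem_ZR _ h) hh
  exact ⟨k, hk, isConj_of_co_cls h1⟩

theorem DG.apply_mem {χ : Irr G} {D : Subgroup G} (hD : DG p M χ D) {z : Irr G → ℂ}
    (hz : z ∈ ZS G M) (h : ∀ k ∈ centralizer (D : Set G), co z k ∈ Pm M) : z χ ∈ Pm M := by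
  by_contra hc
  obtain ⟨k, hk, h1⟩ := hD.min hz hc
  exact h1 (h k hk)

theorem DG.exists_cj_le {χ : Irr G} {D D' : Subgroup G} (hD : DG p M χ D) (hD' : DG p M χ D') :
    ∃ t : G, H17.cj t D' ≤ D := by
  obtain ⟨g, h1, h2⟩ := hD'
  exact hD.max h2.isPGroup (le_centralizer_singleton_iff.mp h2.le) h1.1

theorem DG.card_eq {χ : Irr G} {D D' : Subgroup G} (hD : DG p M χ D) (hD' : DG p M χ D') :
    Nat.card D = Nat.card D' := by
  obtain ⟨t, ht⟩ := hD.exists_cj_le hD'
  obtain ⟨s, hs⟩ := hD'.exists_cj_le hD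
  have h1 := Subgroup.card_le_of_le ht
  have h2 := Subgroup.card_le_of_le hs
  rw [card_cj] at h1 h2
  omega

theorem DG.eq_of_le {χ : Irr G} {D D' : Subgroup G} (hD : DG p M χ D) (hD' : DG p M χ D')
    (h : D ≤ D') : D = D' :=
  Subgroup.eq_of_le_of_card_ge h (hD'.card_eq hD).le

theorem DG.exists_cj_eq {χ : Irr G} {D D' : Subgroup G} (hD : DG p M χ D) (hD' : DG p M χ D') :
    ∃ t : G, H17.cj t D' = D := by
  obtain ⟨t, ht⟩ := hD.exists_cj_le hD'
  exact ⟨t, (hD'.cj t).eq_of_le hD ht⟩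

theorem DG.of_card_eq {χ : Irr G} {D Q : Subgroup G} (hD : DG p M χ D) {t : G}
    (h : H17.cj t Q ≤ D) (hc : Nat.card D ≤ Nat.card Q) : DG p M χ Q := by
  have h1 : H17.cj t Q = D := Subgroup.eq_of_le_of_card_ge h (by rwa [card_cj])
  have := hD.cj t⁻¹
  rwa [← h1, cj_inv_cj] at this

/-- A `p`-subgroup `Q` lies in a defect group iff `f_B` has a unit coefficient on `C(Q)`. -/
theorem exists_DG_ge_iff {χ : Irr G} {Q : Subgroup G} (hQ : IsPGroup p Q) :
    (∃ D, DG p M χ D ∧ Q ≤ D) ↔ ∃ h ∈ centralizer (Q : Set G), co (fb M χ) h ∉ Pm M := by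
  constructor
  · rintro ⟨D, ⟨g, h1, h2⟩, h3⟩
    exact ⟨g, le_centralizer_singleton_iff.mp (h3.trans h2.le), h1.1⟩
  · rintro ⟨h, hh, hf⟩
    obtain ⟨D, hD⟩ := exists_DG p M χ
    obtain ⟨t, ht⟩ := hD.max hQ hh hf
    exact ⟨_, hD.cj t⁻¹, cj_le_iff.mp ht⟩

/-- If `D` is a defect group and `f_B` has a unit coefficient at `h ∈ C(D)` then `D` is a Sylow
subgroup of `C(h)`. -/
theorem DG.sylIn_of_co {χ : Irr G} {D : Subgroup G} (hD : DG p M χ D) {h : G}
    (hh : h ∈ centralizer (D : Set G)) (hf : co (fb M χ) h ∉ Pm M) :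
    SylIn p D (centralizer {h}) := by
  obtain ⟨E, hE, hDE⟩ := exists_sylIn_ge hD.isPGroup (le_centralizer_singleton_iff.mpr hh)
  obtain ⟨t, ht⟩ := hD.max hE.isPGroup (le_centralizer_singleton_iff.mp hE.le) hf
  have h1 := Subgroup.card_le_of_le ht
  rw [card_cj] at h1
  rwa [Subgroup.eq_of_le_of_card_ge hDE h1]

end Basic

section Height

variable {G : Type*} [Group G] [Finite G] {p : ℕ} [hp : Fact p.Prime] {M : Ideal AlgInt} [PM p M]

omit hp [PM p M] in
theorem cls_eq_div (g : G) (χ : Irr G) :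
    cls g χ = ((centralizer ({g} : Set G)).index : ℂ) / deg χ * χ.1 g := by
  rw [cls_apply, centralChar, deg_eq]; ring

omit hp [PM p M] in
theorem irr_eq_cls (g : G) (χ : Irr G) :
    χ.1 g = (deg χ : ℂ) / (centralizer ({g} : Set G)).index * cls g χ := by
  have h1 : ((centralizer ({g} : Set G)).index : ℂ) ≠ 0 := Nat.cast_ne_zero.mpr index_ne_zero_of_finite
  have h2 : (deg χ : ℂ) ≠ 0 := Nat.cast_ne_zero.mpr (deg_ne_zero χ)
  rw [cls_eq_div]; field_simp

omit hp in
theorem fact_index_le_of_cls {g : G} {χ : Irr G} (h : cls g χ ∉ Pm M) :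
    (centralizer ({g} : Set G)).index.factorization p ≤ (deg χ).factorization p := by
  by_contra hc
  push Not at hc
  exact h (by rw [cls_eq_div]; exact Pm_mul_right (div_mem_Pm_of_lt (deg_ne_zero χ) hc) (irr_mem_S χ g))

theorem exists_fact_deg_le_of_co {A : Set (Irr G)} (hA : ind A ∈ ZS G M) {g : G}
    (h : co (ind A) g ∉ Pm M) :
    ∃ ψ ∈ A, (deg ψ).factorization p ≤ (centralizer ({g} : Set G)).index.factorization p := by
  classical
  by_contra hc
  push Not at hc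
  obtain ⟨s, hs, -, h2⟩ := exists_comb_blockPart (p := p) (M := M) (cind_classFun g) fun y _ => by
    rw [cind_apply]; split_ifs
    · exact (S M).one_mem
    · exact (S M).zero_mem
  have h3 := h2 A hA 1 reg_one
  rw [blockPart_cind] at h3
  have hi : ((centralizer ({g} : Set G)).index : ℂ) ≠ 0 := Nat.cast_ne_zero.mpr index_ne_zero_of_finite
  have hC := card_ne_zero (centralizer ({g} : Set G))
  have h4 : co (ind A) g = ∑ χ : Irr G, ind A χ * (s χ *
      ((deg χ : ℂ) / (centralizer ({g} : Set G)).index)) := by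
    have : ∑ χ : Irr G, ind A χ * (s χ * ((deg χ : ℂ) / (centralizer ({g} : Set G)).index)) =
        (∑ χ : Irr G, ind A χ * (s χ * χ.1 1)) / (centralizer ({g} : Set G)).index := by
      rw [Finset.sum_div]
      exact Finset.sum_congr rfl fun χ _ => by rw [deg_eq]; ring
    rw [this, ← h3, co_apply, card_eq_card_mul_index (centralizer ({g} : Set G))]
    have : ∑ χ : Irr G, χ.1 1 * ind A χ * conj (χ.1 g) =
        ∑ χ : Irr G, ind A χ * (χ.1 1 * conj (χ.1 g)) :=
      Finset.sum_congr rfl fun χ _ => by ring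
    rw [this]
    field_simp
  refine h (h4 ▸ sum_mem fun χ _ => ?_)
  rw [ind_apply]
  split_ifs with hχ
  · rw [one_mul]
    exact Pm_mul_left (hs χ) (div_mem_Pm_of_lt index_ne_zero_of_finite (hc χ hχ))
  · rw [zero_mul]; exact (Pm M).zero_mem

omit [PM p M] in
theorem fact_card_add_index (K : Subgroup G) :
    (Nat.card K).factorization p + K.index.factorization p = (Nat.card G).factorization p := by
  rw [← K.card_mul_index, Nat.factorization_mul Nat.card_pos.ne' index_ne_zero_of_finite]; rfl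

omit [PM p M] in
theorem SylIn.fact_index {D K : Subgroup G} (h : SylIn p D K) :
    D.index.factorization p = K.index.factorization p := by
  have h1 := fact_card_add_index (p := p) D
  have h2 := fact_card_add_index (p := p) K
  have h3 := h.factorization_card
  omega

variable (p M) in
/-- `χ` has height zero in its block. -/
def HZ (χ : Irr G) : Prop := ∀ ψ, SB M χ ψ → (deg χ).factorization p ≤ (deg ψ).factorization p

omit hp in
variable (M) in
theorem exists_HZ (χ : Irr G) : ∃ ψ, SB M χ ψ ∧ HZ p M ψ := by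
  obtain ⟨ψ, h1, h2⟩ := Set.exists_min_image (blockOf M χ.1) (fun ψ => (deg ψ).factorization p)
    (Set.toFinite _) ⟨χ, self_mem_blockOf χ⟩
  exact ⟨ψ, h1, fun θ hθ => h2 θ (SB.trans h1 hθ)⟩

theorem DG.fact_index_le {χ : Irr G} {D : Subgroup G} (hD : DG p M χ D) :
    D.index.factorization p ≤ (deg χ).factorization p := by
  obtain ⟨g, h1, h2⟩ := hD
  rw [h2.fact_index]
  exact fact_index_le_of_cls h1.2

theorem DG.exists_fact_deg {χ : Irr G} {D : Subgroup G} (hD : DG p M χ D) :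
    ∃ ψ, SB M χ ψ ∧ (deg ψ).factorization p = D.index.factorization p := by
  obtain ⟨g, h1, h2⟩ := id hD
  obtain ⟨ψ, h3, h4⟩ := exists_fact_deg_le_of_co (fb_mem_ZS χ) h1.1
  exact ⟨ψ, h3, le_antisymm (h2.fact_index ▸ h4) (SB.dg h3 hD).fact_index_le⟩

theorem DG.hz_iff {χ : Irr G} {D : Subgroup G} (hD : DG p M χ D) :
    HZ p M χ ↔ (deg χ).factorization p = D.index.factorization p := by
  constructor
  · intro h
    obtain ⟨ψ, h1, h2⟩ := hD.exists_fact_deg
    exact le_antisymm (h2 ▸ h ψ h1) hD.fact_index_le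
  · intro h ψ hψ
    rw [h]; exact (hψ.dg hD).fact_index_le

omit hp in
theorem HZ.sInf_eq {χ : Irr G} (h : HZ p M χ) :
    sInf ((fun ψ : Irr G => (charDegree ψ.1).factorization p) '' blockOf M χ.1) =
      (deg χ).factorization p := by
  refine le_antisymm (Nat.sInf_le ⟨χ, self_mem_blockOf χ, rfl⟩) ?_
  refine le_csInf ⟨_, χ, self_mem_blockOf χ, rfl⟩ ?_
  rintro _ ⟨ψ, hψ, rfl⟩
  exact h ψ hψ

omit hp in
theorem blockHeight_eq_zero_iff {χ : Irr G} :
    blockHeight p (blockOf M χ.1) χ.1 = 0 ↔ HZ p M χ := by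
  rw [blockHeight, Nat.sub_eq_zero_iff_le]
  constructor
  · intro h ψ hψ
    exact h.trans (Nat.sInf_le ⟨ψ, hψ, rfl⟩)
  · intro h
    rw [h.sInf_eq]

omit hp in
theorem blockHeight_eq_zero_iff' {B : Set (Irr G)} (hB : IsPBlock M B) {χ : Irr G} (hχ : χ ∈ B) :
    blockHeight p B χ.1 = 0 ↔ HZ p M χ := by
  rw [eq_blockOf_of_mem hB hχ, blockHeight_eq_zero_iff]

theorem DG.blockDefect_eq {χ : Irr G} {D : Subgroup G} (hD : DG p M χ D) :
    blockDefect p (blockOf M χ.1) = (Nat.card D).factorization p := by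
  obtain ⟨ψ, h1, h2⟩ := exists_HZ (p := p) M χ
  rw [h1.blockOf_eq, blockDefect, h2.sInf_eq, (h1.dg hD).hz_iff.mp h2, ← fact_card_add_index D]
  omega

theorem DG.card_eq_pow {χ : Irr G} {D : Subgroup G} (hD : DG p M χ D) :
    Nat.card D = p ^ blockDefect p (blockOf M χ.1) := by
  rw [hD.blockDefect_eq]
  obtain ⟨n, hn⟩ := IsPGroup.iff_card.mp hD.isPGroup
  rw [hn, hp.out.factorization_pow]; simp

theorem HZ.notMem_of_cls {χ : Irr G} (h : HZ p M χ) {D : Subgroup G} (hD : DG p M χ D) {g : G}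
    (hg : SylIn p D (centralizer {g})) : cls g χ ∈ Pm M ↔ χ.1 g ∈ Pm M := by
  have h1 := (hD.hz_iff.mp h).trans hg.fact_index
  rw [cls_eq_div]
  constructor
  · exact Pm_of_mul_left (div_mem_S_of_le (deg_ne_zero χ) h1.le)
      (div_notMem_Pm_of_le index_ne_zero_of_finite (deg_ne_zero χ) h1.ge)
  · exact Pm_mul_left (div_mem_S_of_le (deg_ne_zero χ) h1.le)

theorem HZ.notMem_of_DC {χ : Irr G} (h : HZ p M χ) {g : G} (hg : DC M χ g) : χ.1 g ∉ Pm M := by
  obtain ⟨D, hD⟩ := exists_sylIn p (centralizer ({g} : Set G))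
  exact fun h' => hg.2 ((h.notMem_of_cls ⟨g, hg, hD⟩ hD).mpr h')

omit [PM p M] in
theorem centralizer_mul_le {x y : G} (hx : PElt p x) (hy : ¬ p ∣ orderOf y) (h : Commute x y) :
    centralizer ({x * y} : Set G) = centralizer {x} ⊓ centralizer {y} := by
  ext g
  simp only [mem_inf, mem_centralizer_singleton]
  constructor
  · intro hg
    have h1 := commute_pp (p := p) hg
    have h2 := commute_pr (p := p) hg
    rw [pp_mul hx hy h] at h1
    rw [pr_mul hx hy h] at h2
    exact ⟨h1, h2⟩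
  · exact fun hg => hg.1.mul_right hg.2

theorem DC.cls_mul_notMem {χ : Irr G} {y : G} (hy : DC M χ y) {D : Subgroup G}
    (hD : SylIn p D (centralizer {y})) {x : G} (hx : x ∈ D) (hxc : x ∈ centralizer (D : Set G)) :
    cls (x * y) χ ∉ Pm M := by
  obtain ⟨ψ, h1, h2⟩ := exists_HZ (p := p) M χ
  have hxy : Commute x y := mem_centralizer_singleton.mp (hD.le hx)
  have hxp := PElt.of_mem hD.isPGroup hx
  have h3 : SylIn p D (centralizer {x * y}) := by
    refine hD.of_le ?_ ?_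
    · rw [centralizer_mul_le hxp hy.reg hxy]
      exact le_inf (le_centralizer_singleton_iff.mpr hxc) hD.le
    · rw [centralizer_mul_le hxp hy.reg hxy]; exact inf_le_right
  rw [h1.mem_iff (cls_mem_ZR _ _), h2.notMem_of_cls ⟨y, h1.dc hy, hD⟩ h3]
  exact notMem_Pm_of_sub (char_mul_sub_mem ψ.2.isCharacter hxp hxy) (h2.notMem_of_DC (h1.dc hy))

/-! ### Defect zero -/

omit hp [PM p M] in
theorem co_ind_singleton (χ : Irr G) (g : G) :
    co (ind {χ}) g = (deg χ : ℂ) / Nat.card G * conj (χ.1 g) := by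
  classical
  rw [co_apply, Finset.sum_eq_single χ, ind_of_mem (Set.mem_singleton χ), deg_eq]
  · ring
  · intro ψ _ hψ
    rw [ind_of_notMem (by simpa using hψ)]; simp
  · simp

omit hp in
theorem blockOf_eq_singleton {χ : Irr G}
    (h : (Nat.card G).factorization p ≤ (deg χ).factorization p) : blockOf M χ.1 = {χ} := by
  have h1 : ind {χ} ∈ ZS G M := fun g => by
    rw [co_ind_singleton]
    exact (S M).mul_mem (div_mem_S_of_le Nat.card_pos.ne' h) (conj_irr_mem_S χ g)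
  ext ψ
  exact ⟨fun hψ => mem_of_ind_mem_ZS h1 (Set.mem_singleton χ) hψ, by
    rintro rfl; exact self_mem_blockOf _⟩

theorem eq_zero_of_blockOf_eq_singleton {χ : Irr G} (h : blockOf M χ.1 = {χ}) {g : G}
    (hg : p ∣ orderOf g) : χ.1 g = 0 := by
  have h1 := co_ind_eq_zero (fb_mem_ZS (M := M) χ) hg
  rw [h, co_ind_singleton] at h1
  have h2 : (deg χ : ℂ) ≠ 0 := Nat.cast_ne_zero.mpr (deg_ne_zero χ)
  simpa [h2, card_ne_zero G] using h1

omit [PM p M] in
theorem card_dvd_deg_of_vanish {χ : G → ℂ} (hχ : IsCharacter G χ) (P : Subgroup G)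
    (h : ∀ g ∈ P, g ≠ 1 → χ g = 0) : Nat.card P ∣ charDegree χ := by
  classical
  have := Fintype.ofFinite P
  obtain ⟨n, hn⟩ := (hχ.restrict P).inner_nat isCharacter_one
  rw [classInner_def, Finset.sum_eq_single 1 (fun u _ hu => by
    rw [h u u.2 (by simpa using hu), zero_mul]) (by simp)] at hn
  refine ⟨n, ?_⟩
  have h2 := card_ne_zero P
  have : (charDegree χ : ℂ) = Nat.card P * n := by
    rw [charDegree_eq hχ, ← hn]; simp only [OneMemClass.coe_one, map_one, mul_one]; field_simp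
  exact_mod_cast this

omit [PM p M] in
theorem fact_le_of_vanish {χ : Irr G} (h : ∀ g, PElt p g → g ≠ 1 → χ.1 g = 0) :
    (Nat.card G).factorization p ≤ (deg χ).factorization p := by
  obtain ⟨P⟩ := (inferInstance : Nonempty (Sylow p G))
  have h1 := card_dvd_deg_of_vanish χ.2.isCharacter (P : Subgroup G) fun g hg h1 =>
    h g (PElt.of_mem P.isPGroup' hg) h1
  rw [P.card_eq_multiplicity] at h1
  exact (hp.out.pow_dvd_iff_le_factorization (deg_ne_zero χ)).mp h1

theorem blockOf_eq_singleton_iff {χ : Irr G} : blockOf M χ.1 = {χ} ↔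
    (Nat.card G).factorization p ≤ (deg χ).factorization p :=
  ⟨fun h => fact_le_of_vanish fun _ hg h1 => eq_zero_of_blockOf_eq_singleton h (hg.dvd_orderOf h1),
    blockOf_eq_singleton⟩

omit hp [PM p M] in
theorem fact_deg_le (χ : Irr G) : (deg χ).factorization p ≤ (Nat.card G).factorization p :=
  (Nat.factorization_le_iff_dvd (deg_ne_zero χ) Nat.card_pos.ne').mpr (deg_dvd_card χ) p

theorem eq_zero_of_defect_zero (M : Ideal AlgInt) [PM p M] {χ : Irr G}
    (h : (Nat.card G).factorization p ≤ (deg χ).factorization p) {g : G} (hg : p ∣ orderOf g) :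
    χ.1 g = 0 := eq_zero_of_blockOf_eq_singleton (M := M) (blockOf_eq_singleton h) hg

theorem DG.eq_bot_iff {χ : Irr G} {D : Subgroup G} (hD : DG p M χ D) :
    D = ⊥ ↔ (Nat.card G).factorization p ≤ (deg χ).factorization p := by
  constructor
  · rintro rfl
    simpa using hD.fact_index_le
  · intro h
    have h1 : HZ p M χ := fun ψ hψ => by
      have : ψ ∈ blockOf M χ.1 := hψ
      rw [blockOf_eq_singleton h] at this
      rw [this]
    have h2 := hD.hz_iff.mp h1
    have h3 := fact_card_add_index (p := p) D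
    have h4 := hD.card_eq_pow
    rw [hD.blockDefect_eq, show (Nat.card D).factorization p = 0 by omega, pow_zero] at h4
    exact Subgroup.eq_bot_of_card_eq D h4

end Height

section Count

variable {M : Ideal AlgInt} [M.IsMaximal]

theorem card_le_of_pairing {I J : Type*} [Finite I] [Fintype J] [DecidableEq I] (a : I → J → ℂ)
    (b : J → I → ℂ) (ha : ∀ i j, a i j ∈ S M) (hb : ∀ j i, b j i ∈ S M)
    (h : ∀ i i', ∑ j, a i j * b j i' - (if i = i' then 1 else 0) ∈ Pm M) :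
    Nat.card I ≤ Nat.card J := by
  have := Fintype.ofFinite I
  let A : Matrix I J (F M) := fun i j => red M ⟨a i j, ha i j⟩
  let B : Matrix J I (F M) := fun j i => red M ⟨b j i, hb j i⟩
  have hAB : A * B = 1 := by
    ext i i'
    have h1 : (1 : Matrix I I (F M)) i i' =
        red M (if i = i' then 1 else 0) := by
      rw [Matrix.one_apply]; split_ifs <;> simp
    rw [Matrix.mul_apply, h1]
    simp only [A, B, ← map_mul, ← map_sum]
    rw [red_eq_iff]
    convert h i i' using 2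
    · simp
    · split_ifs <;> simp
  have h2 := Matrix.rank_mul_le_left A B
  rw [hAB, Matrix.rank_one] at h2
  have h3 := Matrix.rank_le_card_width A
  rw [Nat.card_eq_fintype_card, Nat.card_eq_fintype_card]
  omega

end Count

end H17
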