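import Mathlib
import Cfsg.Agent.H17.Defect
import Cfsg.Agent.H2.Cores

/-!
# Inflation, normal `p`-subgroups, induced blocks, Brauer's first main theorem
-/

set_option autoImplicit false
set_option linter.unusedSectionVars false

open Cfsg H4 Subgroup
open scoped ComplexConjugate

namespace H17

theorem exists_PM (p : ℕ) [hp : Fact p.Prime] : ∃ M, PM p M := by
  have h1 : (Ideal.span {(p : ℤ)}).IsMaximal :=
    PrincipalIdealRing.isMaximal_of_irreducible (Nat.prime_iff_prime_int.mp hp.out).irreducible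
  obtain ⟨M, hM, h2⟩ := Ideal.exists_ideal_over_maximal_of_isIntegral (S := AlgInt)
    (Ideal.span {(p : ℤ)}) (by
      rw [(RingHom.injective_iff_ker_eq_bot _).mp (algebraMap ℤ AlgInt).injective_int]
      exact bot_le)
  refine ⟨M, ⟨hp.out, hM, ?_⟩⟩
  have : (p : ℤ) ∈ M.comap (algebraMap ℤ AlgInt) := by rw [h2]; exact Ideal.mem_span_singleton_self _
  simpa using this

section Push

variable {G K : Type*} [Group G] [Finite G] [Group K] [Finite K]

/-- Inflation of irreducible characters along a surjection. -/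
def infl (π : G →* K) (hπ : Function.Surjective π) (χ : Irr K) : Irr G :=
  ⟨fun g => χ.1 (π g), H5.isIrr_comp_surjective π hπ χ.2⟩

theorem infl_apply (π : G →* K) (hπ : Function.Surjective π) (χ : Irr K) (g : G) :
    (infl π hπ χ).1 g = χ.1 (π g) := rfl

theorem infl_injective (π : G →* K) (hπ : Function.Surjective π) :
    Function.Injective (infl π hπ) := fun χ ψ h => Subtype.ext (funext fun k => by
  obtain ⟨g, rfl⟩ := hπ k
  exact congrFun (congrArg Subtype.val h) g)

theorem deg_infl (π : G →* K) (hπ : Function.Surjective π) (χ : Irr K) :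
    deg (infl π hπ χ) = deg χ := by
  have : (deg (infl π hπ χ) : ℂ) = deg χ := by rw [deg_eq, deg_eq, infl_apply, map_one]
  exact_mod_cast this

theorem exists_infl (π : G →* K) (hπ : Function.Surjective π) {χ : Irr G}
    (h : ∀ n ∈ π.ker, χ.1 n = χ.1 1) : ∃ ψ, infl π hπ ψ = χ := by
  obtain ⟨ψ, h1, h2⟩ := H5.exists_irr_deflation π hπ χ.2
    ((H5.le_charKer_iff χ.2.isCharacter).mpr h)
  exact ⟨⟨ψ, h1⟩, Subtype.ext h2.symm⟩

/-- The image of a central element in a quotient. -/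
def push (π : G →* K) (hπ : Function.Surjective π) : (Irr G → ℂ) →ₐ[ℂ] (Irr K → ℂ) where
  toFun z χ := z (infl π hπ χ)
  map_one' := rfl
  map_mul' _ _ := rfl
  map_zero' := rfl
  map_add' _ _ := rfl
  commutes' _ := rfl

theorem push_apply (π : G →* K) (hπ : Function.Surjective π) (z : Irr G → ℂ) (χ : Irr K) :
    push π hπ z χ = z (infl π hπ χ) := rfl

theorem co_push {G : Type*} [Group G] [Fintype G] (π : G →* K) (hπ : Function.Surjective π)
    [DecidableEq K] (z : Irr G → ℂ) (k : K) :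
    co (push π hπ z) k = ∑ g, if π g = k then co z g else 0 := by
  have := Fintype.ofFinite K
  have h1 : IsClassFunction K (fun k => ∑ g, if π g = k then co z g else 0) := by
    intro k t
    obtain ⟨s, rfl⟩ := hπ t
    refine (Fintype.sum_equiv (MulAut.conj s).toEquiv _ _ fun g => ?_).symm
    simp [co_conj]
  have h2 : push π hπ z = hat (fun k => ∑ g, if π g = k then co z g else 0) := by
    ext χ
    rw [hat_apply, push_apply, eq_div_iff χ.2.apply_one_ne_zero]
    simp only [Finset.sum_mul]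
    rw [Finset.sum_comm]
    have := sum_co z (infl π hπ χ)
    simp only [infl_apply, map_one] at this
    rw [← this]
    exact Finset.sum_congr rfl fun g _ => by simp
  rw [h2, co_hat h1]

theorem push_mem_ZR (π : G →* K) (hπ : Function.Surjective π) {R : Subring ℂ} {z : Irr G → ℂ}
    (hz : z ∈ ZR G R) : push π hπ z ∈ ZR K R := fun k => by
  classical
  have := Fintype.ofFinite G
  rw [co_push]
  exact sum_mem fun g _ => by
    split_ifs
    · exact hz g
    · exact R.zero_mem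

theorem push_res (π : G →* K) (hπ : Function.Surjective π) (z : Irr K → ℂ) :
    push π hπ (res π z) = (Nat.card π.ker : ℂ) • z := by
  classical
  have := Fintype.ofFinite G
  refine ext_co fun k => ?_
  rw [co_push, map_smul, Pi.smul_apply, smul_eq_mul]
  obtain ⟨s, rfl⟩ := hπ k
  rw [← Fintype.sum_equiv (Equiv.mulLeft s) (fun g => if g ∈ π.ker then co z (π s) else 0)]
  · rw [← Finset.sum_filter, Finset.sum_const, nsmul_eq_mul, Nat.card_eq_fintype_card,
      Fintype.card_subtype]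
  · intro g
    simp only [MonoidHom.mem_ker, Equiv.coe_mulLeft, map_mul, mul_eq_left, co_res]
    split_ifs with h
    · rw [h, mul_one]
    · rfl

omit [Finite G] [Finite K] in
theorem esurj (e : G ≃* K) : Function.Surjective (e : G →* K) := e.surjective

/-- Transport of irreducible characters along an isomorphism. -/
def irrE (e : G ≃* K) : Irr K ≃ Irr G where
  toFun := infl (e : G →* K) (esurj e)
  invFun := infl (e.symm : K →* G) (esurj e.symm)
  left_inv χ := Subtype.ext (funext fun k => by simp [infl_apply])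
  right_inv χ := Subtype.ext (funext fun k => by simp [infl_apply])

theorem irrE_apply (e : G ≃* K) (χ : Irr K) (g : G) : (irrE e χ).1 g = χ.1 (e g) := rfl

theorem irrE_symm (e : G ≃* K) : (irrE e).symm = irrE e.symm := rfl

theorem irrE_eq_infl (e : G ≃* K) (χ : Irr K) : irrE e χ = infl (e : G →* K) (esurj e) χ := rfl

theorem deg_irrE (e : G ≃* K) (χ : Irr K) : deg (irrE e χ) = deg χ := deg_infl _ (esurj e) χ

theorem res_equiv' (e : G ≃* K) (z : Irr K → ℂ) :
    res (e : G →* K) z = push (e.symm : K →* G) (esurj e.symm) z := by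
  classical
  have := Fintype.ofFinite K
  refine ext_co fun g => ?_
  rw [co_res, co_push, Finset.sum_eq_single (e g)]
  · simp
  · intro k _ hk
    rw [if_neg]
    intro h
    exact hk (by rw [← h]; simp)
  · simp

theorem res_equiv (e : G ≃* K) (z : Irr K → ℂ) (χ : Irr K) :
    res (e : G →* K) z (irrE e χ) = z χ := by
  rw [res_equiv', push_apply, ← irrE_eq_infl, ← irrE_symm, Equiv.symm_apply_apply]

theorem cls_irrE (e : G ≃* K) (χ : Irr K) (g : G) : cls g (irrE e χ) = cls (e g) χ := by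
  classical
  rw [← res_equiv e (cls (e g)) χ]
  refine congrFun ?_ _
  refine ext_co fun x => ?_
  rw [co_res, co_cls, co_cls]
  refine if_congr ⟨fun h => (e : G →* K).map_isConj h, fun h => ?_⟩ rfl rfl
  simpa using (e.symm : K →* G).map_isConj h

variable {M : Ideal AlgInt} [M.IsMaximal]

theorem SB.infl (π : G →* K) (hπ : Function.Surjective π) {χ ψ : Irr K} (h : SB M χ ψ) :
    SB M (infl π hπ χ) (infl π hπ ψ) :=
  SB_iff.mpr fun _ hz => h.sub_mem (push_mem_ZR π hπ hz)

/-- If the idempotent of the block of `χ` lifts modulo `P` then inflation reflects blocks. -/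
theorem SB.of_infl (π : G →* K) (hπ : Function.Surjective π) {χ ψ : Irr K}
    (h : SB M (H17.infl π hπ χ) (H17.infl π hπ ψ)) {z : Irr G → ℂ} (hz : z ∈ ZS G M)
    (h1 : push π hπ z = fb M χ) : SB M χ ψ := by
  have := h.mem_iff hz
  rw [← push_apply π hπ z χ, ← push_apply π hπ z ψ, h1, fb_self] at this
  exact SB_iff_fb.mpr fun h => one_notMem_Pm (this.mpr h)

theorem infl_infl {L : Type*} [Group L] [Finite L] (π : G →* K) (hπ : Function.Surjective π)
    (σ : K →* L) (hσ : Function.Surjective σ) (χ : Irr L) :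
    infl π hπ (infl σ hσ χ) = infl (σ.comp π) (hσ.comp hπ) χ := rfl

theorem SB_irrE (e : G ≃* K) {χ ψ : Irr K} : SB M (irrE e χ) (irrE e ψ) ↔ SB M χ ψ :=
  ⟨fun h => by
    have := h.infl (e.symm : K →* G) (esurj e.symm)
    rwa [← irrE_eq_infl, ← irrE_eq_infl, ← irrE_symm, Equiv.symm_apply_apply,
      Equiv.symm_apply_apply] at this, fun h => h.infl _ (esurj e)⟩

theorem fb_irrE (e : G ≃* K) (χ : Irr K) : fb M (irrE e χ) = res (e : G →* K) (fb M χ) := by
  classical
  ext ψ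
  obtain ⟨ψ, rfl⟩ := (irrE e).surjective ψ
  rw [res_equiv, fb, fb, ind_apply, ind_apply]
  exact if_congr (SB_irrE e) rfl rfl

theorem DC_irrE (e : G ≃* K) {χ : Irr K} {g : G} : DC M (irrE e χ) g ↔ DC M χ (e g) := by
  rw [DC, DC, fb_irrE, co_res, cls_irrE]; rfl

end Push

section Cut

variable {G : Type*} [Group G] [Finite G]

omit [Finite G] in
theorem conj_mem_iff_of_normal {C : Subgroup G} [hC : C.Normal] {a b : G} :
    b * a * b⁻¹ ∈ C ↔ a ∈ C :=
  ⟨fun h => by simpa [mul_assoc] using hC.conj_mem _ h b⁻¹, fun h => hC.conj_mem a h b⟩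

open Classical in
/-- Truncation of a central element to a normal subgroup. -/
noncomputable def cut (C : Subgroup G) : (Irr G → ℂ) →ₗ[ℂ] (Irr G → ℂ) :=
  hat ∘ₗ (LinearMap.pi fun g => if g ∈ C then LinearMap.proj g else 0) ∘ₗ co

theorem co_cut (C : Subgroup G) [hC : C.Normal] (z : Irr G → ℂ) (g : G) [Decidable (g ∈ C)] :
    co (cut C z) g = if g ∈ C then co z g else 0 := by
  classical
  have h1 : IsClassFunction G (fun g => if g ∈ C then co z g else 0) := fun a b => by
    simp only [co_conj, conj_mem_iff_of_normal]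
  have h2 : cut C z = hat (fun g => if g ∈ C then co z g else 0) := by
    change hat _ = hat _
    congr 1
    ext g
    simp only [LinearMap.coe_comp, Function.comp_apply, LinearMap.pi_apply]
    split_ifs <;> rfl
  rw [h2, co_hat h1]
  by_cases hg : g ∈ C <;> simp [hg]

theorem co_cut_of_mem (C : Subgroup G) [C.Normal] (z : Irr G → ℂ) {g : G} (hg : g ∈ C) :
    co (cut C z) g = co z g := by
  classical
  rw [co_cut, if_pos hg]

theorem co_cut_of_notMem (C : Subgroup G) [C.Normal] (z : Irr G → ℂ) {g : G} (hg : g ∉ C) :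
    co (cut C z) g = 0 := by
  classical
  rw [co_cut, if_neg hg]

theorem cut_mem_ZR (C : Subgroup G) [C.Normal] {R : Subring ℂ} {z : Irr G → ℂ} (hz : z ∈ ZR G R) :
    cut C z ∈ ZR G R := fun g => by
  classical
  rw [co_cut]
  split_ifs
  · exact hz g
  · exact R.zero_mem

end Cut

section NormalP

variable {G : Type*} [Group G] [Finite G] {p : ℕ} [hp : Fact p.Prime] {M : Ideal AlgInt} [PM p M]

omit hp [PM p M] in
theorem co_ind_one_ne_zero {A : Set (Irr G)} (hA : A.Nonempty) : co (ind A) 1 ≠ 0 := by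
  classical
  obtain ⟨χ, hχ⟩ := hA
  have h1 : co (ind A) 1 = (Nat.card G : ℂ)⁻¹ *
      ((∑ ψ : Irr G, if ψ ∈ A then deg ψ ^ 2 else 0 : ℕ) : ℂ) := by
    rw [co_apply]
    push_cast
    congr 1
    refine Finset.sum_congr rfl fun ψ _ => ?_
    rw [ind_apply, conj_apply_one ψ.2.isCharacter, deg_eq]
    split_ifs <;> ring
  rw [h1]
  refine mul_ne_zero (inv_ne_zero (card_ne_zero G)) (Nat.cast_ne_zero.mpr ?_)
  intro h
  have := (Finset.sum_eq_zero_iff.mp h) χ (Finset.mem_univ _)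
  rw [if_pos hχ] at this
  exact deg_ne_zero χ (pow_eq_zero_iff two_ne_zero |>.mp this)

omit hp [PM p M] in
theorem sum_co_subgroup (z : Irr G → ℂ) (N : Subgroup G) [Fintype N] :
    ∑ n : N, co z n = (Nat.card N : ℂ) / Nat.card G *
      ∑ χ : Irr G, χ.1 1 * z χ * conj (classInner (fun n : N => χ.1 n) (fun _ => 1)) := by
  simp only [co_apply, classInner_def, map_one, mul_one, map_mul, map_inv₀, map_natCast, map_sum]
  rw [← Finset.mul_sum, Finset.sum_comm, Finset.mul_sum, Finset.mul_sum]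
  refine Finset.sum_congr rfl fun χ _ => ?_
  rw [← Finset.mul_sum]
  have := card_ne_zero N
  field_simp

theorem sum_co_ind_pgroup {A : Set (Irr G)} (hA : ind A ∈ ZS G M) {N : Subgroup G} [Fintype N]
    (hN : IsPGroup p N) : ∑ n : N, co (ind A) n = co (ind A) 1 := by
  rw [Finset.sum_eq_single 1]
  · rfl
  · intro n _ hn
    exact co_ind_eq_zero hA ((PElt.of_mem hN n.2).dvd_orderOf (by simpa using hn))
  · simp

theorem exists_SB_inner_one {N : Subgroup G} [Fintype N] (hN : IsPGroup p N) (χ : Irr G) :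
    ∃ ψ, SB M χ ψ ∧ classInner (fun n : N => ψ.1 n) (fun _ => 1) ≠ 0 := by
  by_contra hc
  push Not at hc
  have h1 := sum_co_ind_pgroup (fb_mem_ZS (M := M) χ) hN
  rw [sum_co_subgroup, Finset.sum_eq_zero, mul_zero] at h1
  · exact co_ind_one_ne_zero ⟨χ, self_mem_blockOf χ⟩ h1.symm
  · intro ψ _
    by_cases h : SB M χ ψ
    · rw [hc ψ h]; simp
    · rw [ind_of_notMem (A := blockOf M χ.1) h]; simp

variable (M) in
/-- Every block contains a character with a given normal `p`-subgroup in its kernel. -/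
theorem exists_SB_ker {N : Subgroup G} [N.Normal] (hN : IsPGroup p N) (χ : Irr G) :
    ∃ ψ, SB M χ ψ ∧ ∀ n ∈ N, ψ.1 n = ψ.1 1 := by
  have := Fintype.ofFinite G
  have := Fintype.ofFinite N
  obtain ⟨ψ, h1, h2⟩ := exists_SB_inner_one (M := M) hN χ
  exact ⟨ψ, h1, (H5.inner_res_one_ne_zero_iff N ψ.2).mp h2⟩

variable (M) in
theorem exists_SB_infl {K : Type*} [Group K] [Finite K] (π : G →* K) (hπ : Function.Surjective π)
    (hN : IsPGroup p π.ker) (χ : Irr G) : ∃ ψ, SB M χ (infl π hπ ψ) := by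
  obtain ⟨ψ, h1, h2⟩ := exists_SB_ker M hN χ
  obtain ⟨ψ, rfl⟩ := exists_infl π hπ h2
  exact ⟨ψ, h1⟩

theorem push_mem_ZP {K : Type*} [Group K] [Finite K] (π : G →* K) (hπ : Function.Surjective π)
    (hN : IsPGroup p π.ker) {z : Irr G → ℂ} (hz : z ∈ ZS G M)
    (h : ∀ g ∈ centralizer (π.ker : Set G), co z g ∈ Pm M) : push π hπ z ∈ ZP K M := by
  classical
  have := Fintype.ofFinite G
  intro k
  rw [co_push]
  refine conj_sum_mem hN _ (fun q hq g => ?_) (fun g => ?_) fun g hg => ?_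
  · rw [MonoidHom.mem_ker] at hq
    simp [hq, co_conj]
  · split_ifs
    · exact hz g
    · exact (S M).zero_mem
  · split_ifs
    · exact h g hg
    · exact (Pm M).zero_mem

/-- Central characters modulo `P` only depend on the part inside `C(N)`. -/
theorem apply_mem_of_normal {N : Subgroup G} [N.Normal] (hN : IsPGroup p N) {z : Irr G → ℂ}
    (hz : z ∈ ZS G M) (h : ∀ g ∈ centralizer (N : Set G), co z g ∈ Pm M) (χ : Irr G) :
    z χ ∈ Pm M := by
  have h1 : IsPGroup p (QuotientGroup.mk' N).ker := by rwa [QuotientGroup.ker_mk']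
  obtain ⟨ψ, h2⟩ := exists_SB_infl M _ (QuotientGroup.mk'_surjective N) h1 χ
  rw [h2.mem_iff hz, ← push_apply _ _ z]
  exact apply_mem_Pm (push_mem_ZP _ _ h1 hz (by rwa [QuotientGroup.ker_mk'])) ψ

theorem mem_centralizer_of_cls {N : Subgroup G} [N.Normal] (hN : IsPGroup p N) {g : G} {χ : Irr G}
    (h : cls g χ ∉ Pm M) : g ∈ centralizer (N : Set G) := by
  by_contra hc
  refine h (apply_mem_of_normal hN (cls_mem_ZR _ g) (fun k hk => ?_) χ)
  by_contra h2
  obtain ⟨t, rfl⟩ := isConj_iff.mp (isConj_of_co_cls h2)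
  exact hc (conj_mem_iff_of_normal.mp hk)

theorem DG.normal_le {χ : Irr G} {D : Subgroup G} (hD : DG p M χ D) {N : Subgroup G} [N.Normal]
    (hN : IsPGroup p N) : N ≤ D := by
  obtain ⟨g, h1, h2⟩ := hD
  exact h2.normal_le hN (le_centralizer_singleton_iff.mpr (mem_centralizer_of_cls hN h1.2))
    (by rw [normalizer_eq_top]; exact le_top)

theorem DG.eq_of_normal {χ : Irr G} {D D' : Subgroup G} (hD : DG p M χ D) [D.Normal]
    (hD' : DG p M χ D') : D' = D := (hD.eq_of_le hD' (hD'.normal_le hD.isPGroup)).symm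

theorem cut_sub_mem {N C : Subgroup G} [N.Normal] [C.Normal] (hN : IsPGroup p N)
    (hC : centralizer (N : Set G) ≤ C) {z : Irr G → ℂ} (hz : z ∈ ZS G M) (χ : Irr G) :
    cut C z χ - z χ ∈ Pm M :=
  apply_mem_of_normal hN (sub_mem (cut_mem_ZR C hz) hz) (fun g hg => by
    rw [map_sub, Pi.sub_apply, co_cut_of_mem C z (hC hg), sub_self]; exact (Pm M).zero_mem) χ

end NormalP

section IndRel

variable {G H : Type*} [Group G] [Finite G] [Group H] [Finite H] {M : Ideal AlgInt} [M.IsMaximal]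

variable (M) in
/-- The block of `ξ` induces the block of `χ` along `φ`. -/
def IndRel (φ : H →* G) (ξ : Irr H) (χ : Irr G) : Prop :=
  ∀ z ∈ ZS G M, res φ z ξ - z χ ∈ Pm M

theorem indRel_iff_cls {φ : H →* G} {ξ : Irr H} {χ : Irr G} :
    IndRel M φ ξ χ ↔ ∀ g, res φ (cls g) ξ - cls g χ ∈ Pm M :=
  ⟨fun h g => h _ (cls_mem_ZR _ g), fun h z hz =>
    linear_mem (LinearMap.proj (R := ℂ) (φ := fun _ : Irr H => ℂ) ξ ∘ₗ res φ -
      LinearMap.proj (R := ℂ) (φ := fun _ : Irr G => ℂ) χ) (Pm M) z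
      fun g => Pm_mul_left (hz g) (h g)⟩

theorem IndRel.congr {φ : H →* G} {ξ ξ' : Irr H} {χ χ' : Irr G} (h : IndRel M φ ξ χ)
    (h1 : SB M ξ ξ') (h2 : SB M χ χ') : IndRel M φ ξ' χ' := fun z hz =>
  sub_mem_Pm_trans (sub_mem_Pm_trans (h1.symm.sub_mem (res_mem_ZR φ hz)) (h z hz)) (h2.sub_mem hz)

theorem IndRel.unique {φ : H →* G} {ξ : Irr H} {χ χ' : Irr G} (h : IndRel M φ ξ χ)
    (h' : IndRel M φ ξ χ') : SB M χ χ' :=
  SB_iff.mpr fun z hz => sub_mem_Pm_trans (sub_mem_Pm_symm (h z hz)) (h' z hz)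

theorem IndRel.mem_iff {φ : H →* G} {ξ : Irr H} {χ : Irr G} (h : IndRel M φ ξ χ) {z : Irr G → ℂ}
    (hz : z ∈ ZS G M) : res φ z ξ ∈ Pm M ↔ z χ ∈ Pm M := mem_Pm_congr (h z hz)

theorem IndRel.res_fb {φ : H →* G} {ξ : Irr H} {χ : Irr G} (h : IndRel M φ ξ χ) :
    res φ (fb M χ) ξ ∉ Pm M := by
  rw [h.mem_iff (fb_mem_ZS χ), fb_self]; exact one_notMem_Pm

theorem IndRel.of_notMem {φ : H →* G} {ξ : Irr H} {χ χ' : Irr G} (h : IndRel M φ ξ χ')
    (h1 : res φ (fb M χ) ξ ∉ Pm M) : IndRel M φ ξ χ := by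
  rw [h.mem_iff (fb_mem_ZS χ), ← SB_iff_fb] at h1
  exact h.congr (SB.refl _) h1.symm

theorem IndRel.trans {K : Type*} [Group K] [Finite K] {ψ : K →* H} {φ : H →* G} {θ : Irr K}
    {ξ : Irr H} {χ : Irr G} (h1 : IndRel M ψ θ ξ) (h2 : IndRel M φ ξ χ) :
    IndRel M (φ.comp ψ) θ χ := fun z hz => by
  rw [← res_res]
  exact sub_mem_Pm_trans (h1 _ (res_mem_ZR φ hz)) (h2 z hz)

theorem IndRel.of_comp {K : Type*} [Group K] [Finite K] {ψ : K →* H} {φ : H →* G} {θ : Irr K}
    {ξ : Irr H} {χ : Irr G} (h1 : IndRel M ψ θ ξ) (h2 : IndRel M (φ.comp ψ) θ χ) :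
    IndRel M φ ξ χ := fun z hz => by
  have := h2 z hz
  rw [← res_res] at this
  exact sub_mem_Pm_trans (sub_mem_Pm_symm (h1 _ (res_mem_ZR φ hz))) this

theorem indRel_irrE (e : H ≃* G) (χ : Irr G) : IndRel M (e : H →* G) (irrE e χ) χ :=
  fun z _ => by rw [res_equiv, sub_self]; exact (Pm M).zero_mem

theorem IndRel.conj {φ φ' : H →* G} {ξ : Irr H} {χ : Irr G} (h : IndRel M φ ξ χ)
    (hc : ∀ x, IsConj (φ x) (φ' x)) : IndRel M φ' ξ χ := fun z hz => by
  have : res φ' z = res φ z := ext_co fun x => by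
    rw [co_res, co_res, co_of_isConj z (hc x)]
  rw [this]; exact h z hz

theorem isInducedBlock_iff {H : Subgroup G} {ξ : Irr H} {χ : Irr G} :
    IsInducedBlock M H (blockOf M ξ.1) (blockOf M χ.1) ↔ IndRel M H.subtype ξ χ := by
  constructor
  · intro h
    refine indRel_iff_cls.mpr fun g => ?_
    rw [res_cls]
    exact h.2.2 ξ (self_mem_blockOf ξ) χ (self_mem_blockOf χ) g
  · intro h
    refine ⟨isPBlock_blockOf ξ, isPBlock_blockOf χ, fun ξ' h1 χ' h2 g => ?_⟩
    rw [← res_cls]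
    exact indRel_iff_cls.mp (h.congr h1 h2) g

theorem IsInducedBlock.indRel {H : Subgroup G} {b : Set (Irr H)} {B : Set (Irr G)}
    (h : IsInducedBlock M H b B) {ξ : Irr H} (hξ : ξ ∈ b) {χ : Irr G} (hχ : χ ∈ B) :
    IndRel M H.subtype ξ χ := by
  rw [← isInducedBlock_iff, ← eq_blockOf_of_mem h.1 hξ, ← eq_blockOf_of_mem h.2.1 hχ]; exact h

theorem IsInducedBlock.exists {H : Subgroup G} {b : Set (Irr H)} {B : Set (Irr G)}
    (h : IsInducedBlock M H b B) :
    ∃ ξ : Irr H, ∃ χ : Irr G, b = blockOf M ξ.1 ∧ B = blockOf M χ.1 ∧ IndRel M H.subtype ξ χ := by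
  obtain ⟨ξ, rfl⟩ := h.1
  obtain ⟨χ, rfl⟩ := h.2.1
  exact ⟨ξ, χ, rfl, rfl, isInducedBlock_iff.mp h⟩

omit [Finite G] [Finite H] [M.IsMaximal] in
theorem map_mem_centralizer_map (φ : H →* G) {D : Subgroup H} {h : H}
    (hh : h ∈ centralizer (D : Set H)) : φ h ∈ centralizer (D.map φ : Set G) := by
  rintro _ ⟨d, hd, rfl⟩
  rw [← map_mul, hh d hd, map_mul]

omit [Finite G] [Finite H] [M.IsMaximal] in
theorem map_mem_centralizer_map_iff {φ : H →* G} (hφ : Function.Injective φ) {D : Subgroup H}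
    {h : H} : φ h ∈ centralizer (D.map φ : Set G) ↔ h ∈ centralizer (D : Set H) :=
  ⟨fun hh d hd => hφ (by rw [map_mul, map_mul]; exact hh _ ⟨d, hd, rfl⟩),
    map_mem_centralizer_map φ⟩

omit [Finite G] [Finite H] [M.IsMaximal] in
theorem map_centralizer_singleton {φ : H →* G} (hφ : Function.Injective φ) (h : H) :
    (centralizer ({h} : Set H)).map φ = centralizer {φ h} ⊓ φ.range := by
  ext g
  constructor
  · rintro ⟨x, hx, rfl⟩
    exact ⟨mem_centralizer_singleton.mpr ((mem_centralizer_singleton.mp hx).map φ), x, rfl⟩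
  · rintro ⟨h1, x, rfl⟩
    refine ⟨x, mem_centralizer_singleton.mpr (hφ ?_), rfl⟩
    rw [map_mul, map_mul]
    exact (mem_centralizer_singleton.mp h1).eq

end IndRel

section Brauer

variable {G H : Type*} [Group G] [Finite G] [Group H] [Finite H] {p : ℕ} [hp : Fact p.Prime]
  {M : Ideal AlgInt} [PM p M]

theorem IndRel.exists_DG_ge {φ : H →* G} {ξ : Irr H} {χ : Irr G} (h : IndRel M φ ξ χ)
    {D : Subgroup H} (hD : DG p M ξ D) : ∃ E, DG p M χ E ∧ D.map φ ≤ E := by
  obtain ⟨k, hk, h1⟩ := hD.min (res_mem_ZR φ (fb_mem_ZS χ)) h.res_fb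
  rw [co_res] at h1
  exact (exists_DG_ge_iff (hD.isPGroup.map φ)).mpr ⟨φ k, map_mem_centralizer_map φ hk, h1⟩

theorem IndRel.card_le {φ : H →* G} (hφ : Function.Injective φ) {ξ : Irr H} {χ : Irr G}
    (h : IndRel M φ ξ χ) {D : Subgroup H} (hD : DG p M ξ D) {E : Subgroup G} (hE : DG p M χ E) :
    Nat.card D ≤ Nat.card E := by
  obtain ⟨E', h1, h2⟩ := h.exists_DG_ge hD
  rw [hE.card_eq h1, ← card_map_of_injective hφ]
  exact card_le_of_le h2

/-- The Brauer map is multiplicative. -/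
theorem co_res_mul_sub {φ : H →* G} (hφ : Function.Injective φ) {Q : Subgroup H}
    (hQ : IsPGroup p Q) (hC : centralizer (Q.map φ : Set G) ≤ φ.range) {z w : Irr G → ℂ}
    (hz : z ∈ ZS G M) (hw : w ∈ ZS G M) {h : H} (hh : h ∈ centralizer (Q : Set H)) :
    co (res φ (z * w) - res φ z * res φ w) h ∈ Pm M := by
  classical
  have := Fintype.ofFinite G
  have := Fintype.ofFinite H
  have h1 := co_mul_sub_brauer (hQ.map φ) (map_mem_centralizer_map φ hh) hz hw
  have h2 := co_mul_sub_brauer hQ hh (res_mem_ZR φ hz) (res_mem_ZR φ hw)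
  rw [map_sub, Pi.sub_apply, co_res]
  refine sub_mem_Pm_trans h1 (sub_mem_Pm_symm ?_)
  convert h2 using 2
  symm
  refine Finset.sum_of_injOn φ hφ.injOn (by simp) (fun g _ hg => ?_) fun k _ => ?_
  · rw [if_neg]
    intro h3
    obtain ⟨k, rfl⟩ := hC h3
    exact hg ⟨k, by simp, rfl⟩
  · simp only [map_mem_centralizer_map_iff hφ, co_res, map_mul, map_inv]

/-- `b^G` is defined as soon as `C_G(D) ≤ H` for a defect group `D` of `b`. -/
theorem DG.exists_indRel {φ : H →* G} (hφ : Function.Injective φ) {ξ : Irr H} {D : Subgroup H}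
    (hD : DG p M ξ D) (hC : centralizer (D.map φ : Set G) ≤ φ.range) :
    ∃ χ, IndRel M φ ξ χ :=
  exists_irr_of_mul (LinearMap.proj (R := ℂ) (φ := fun _ : Irr H => ℂ) ξ ∘ₗ res φ)
    (fun z hz => apply_mem_S (res_mem_ZR φ hz) ξ)
    (by
      change res φ 1 ξ - 1 ∈ _
      rw [res_one hφ]; simp)
    fun z hz w hw => hD.apply_mem (sub_mem (res_mem_ZR φ (mul_mem hz hw))
      (mul_mem (res_mem_ZR φ hz) (res_mem_ZR φ hw)))
      fun _ hk => co_res_mul_sub hφ hD.isPGroup hC hz hw hk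

variable (M) in
theorem exists_indRel {φ : H →* G} (hφ : Function.Injective φ) {Q : Subgroup H} [Q.Normal]
    (hQ : IsPGroup p Q) (hC : centralizer (Q.map φ : Set G) ≤ φ.range) (ξ : Irr H) :
    ∃ χ, IndRel M φ ξ χ := by
  obtain ⟨D, hD⟩ := exists_DG p M ξ
  exact hD.exists_indRel hφ ((centralizer_le (map_mono (hD.normal_le hQ))).trans hC)

theorem exists_indRel_of_le {φ : H →* G} (hφ : Function.Injective φ) {Q : Subgroup H} [Q.Normal]
    (hQ : IsPGroup p Q) (hC : centralizer (Q.map φ : Set G) ≤ φ.range) {χ : Irr G}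
    {E : Subgroup G} (hE : DG p M χ E) (hQE : Q.map φ ≤ E) : ∃ ξ, IndRel M φ ξ χ := by
  classical
  have := Fintype.ofFinite H
  suffices h : ∃ ξ, res φ (fb M χ) ξ ∉ Pm M by
    obtain ⟨ξ, h⟩ := h
    obtain ⟨χ', h'⟩ := exists_indRel M hφ hQ hC ξ
    exact ⟨ξ, h'.of_notMem h⟩
  by_contra hc
  push Not at hc
  have hf := res_mem_ZR φ (fb_mem_ZS (M := M) χ)
  set C := centralizer (Q : Set H)
  have he := cut_mem_ZR C hf
  have h1 : cut C (res φ (fb M χ)) ∈ ZP H M := by
    refine mem_ZP_of_idem he (fun ξ => mem_Pm_of_sub (cut_sub_mem hQ le_rfl hf ξ) (hc ξ)) fun h => ?_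
    rw [map_sub, Pi.sub_apply]
    by_cases hh : h ∈ C
    · have h2 := co_res_mul_sub hφ hQ hC (fb_mem_ZS (M := M) χ) (fb_mem_ZS χ) hh
      rw [ind_mul_self, map_sub, Pi.sub_apply] at h2
      have h3 := co_mul_sub_brauer hQ hh hf hf
      rw [co_cut_of_mem _ _ hh]
      refine sub_mem_Pm_symm (sub_mem_Pm_trans h2 ?_)
      convert h3 using 2
      rw [co_mul]
      refine Finset.sum_congr rfl fun k _ => ?_
      split_ifs with hk
      · rw [co_cut_of_mem _ _ hk, co_cut_of_mem _ _ (mul_mem (inv_mem hk) hh)]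
      · rw [co_cut_of_notMem _ _ hk, zero_mul]
    · rw [co_cut_of_notMem _ _ hh, co_mul, Finset.sum_eq_zero, sub_zero]
      · exact (Pm M).zero_mem
      · intro k _
        by_cases hk : k ∈ C
        · rw [co_cut_of_notMem C _ (g := k⁻¹ * h), mul_zero]
          intro h2
          exact hh (by simpa using mul_mem hk h2)
        · rw [co_cut_of_notMem _ _ hk, zero_mul]
  obtain ⟨g, hg, h2⟩ := (exists_DG_ge_iff (hQ.map φ)).mp ⟨E, hE, hQE⟩
  obtain ⟨h, rfl⟩ := hC hg
  have h3 := h1 h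
  rw [co_cut_of_mem _ _ ((map_mem_centralizer_map_iff hφ).mp hg), co_res] at h3
  exact h2 h3

omit [PM p M] in
theorem SylIn.map_of_normalizer {φ : H →* G} (hφ : Function.Injective φ) {D : Subgroup H} {y : H}
    (h : SylIn p D (centralizer {y})) (hN : normalizer (D.map φ : Set G) ≤ φ.range) :
    SylIn p (D.map φ) (centralizer {φ y}) := by
  have h1 := h.map hφ
  rw [map_centralizer_singleton hφ] at h1
  exact sylIn_of_inf_normalizer (h1.of_le (le_inf (h1.le.trans inf_le_left) le_normalizer)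
    (inf_le_inf_left _ hN)) (h1.le.trans inf_le_left)

omit [PM p M] in
theorem isConj_of_isConj_map {φ : H →* G} (hφ : Function.Injective φ) {D : Subgroup H} {y k : H}
    (h : SylIn p D (centralizer {y})) (hN : normalizer (D.map φ : Set G) ≤ φ.range)
    (hk : k ∈ centralizer (D : Set H)) (hc : IsConj (φ y) (φ k)) : IsConj y k := by
  obtain ⟨n, hn, h1⟩ := exists_normalizer_conj (h.map_of_normalizer hφ hN)
    (map_mem_centralizer_map φ hk) hc
  obtain ⟨n, rfl⟩ := hN hn
  exact isConj_iff.mpr ⟨n, hφ (by simpa using h1)⟩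

/-- First main theorem: defect groups correspond. -/
theorem IndRel.dg_map {φ : H →* G} (hφ : Function.Injective φ) {ξ : Irr H} {χ : Irr G}
    (h : IndRel M φ ξ χ) {D : Subgroup H} (hD : DG p M ξ D)
    (hN : normalizer (D.map φ : Set G) ≤ φ.range) : DG p M χ (D.map φ) := by
  classical
  obtain ⟨E, hE, h1⟩ := h.exists_DG_ge hD
  obtain ⟨y, h2, h3⟩ := id hD
  have h4 : res φ (cls (φ y)) ξ - cls y ξ ∈ Pm M := by
    refine hD.apply_mem (sub_mem (res_mem_ZR φ (cls_mem_ZR _ _)) (cls_mem_ZR _ y)) fun k hk => ?_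
    rw [map_sub, Pi.sub_apply, co_res, co_cls, co_cls, if_congr ⟨isConj_of_isConj_map hφ h3 hN hk,
      φ.map_isConj⟩ rfl rfl, sub_self]
    exact (Pm M).zero_mem
  have h5 : cls (φ y) χ ∉ Pm M := by
    rw [← h.mem_iff (cls_mem_ZR _ _)]
    exact notMem_Pm_of_sub h4 h2.2
  obtain ⟨k, hk, hc⟩ := hE.min_cls h5
  have h6 := card_le_of_isPGroup hE.isPGroup (le_centralizer_singleton_iff.mpr hk)
  rw [← H17.card_centralizer_of_isConj hc, ← (h3.map_of_normalizer hφ hN).card] at h6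
  rwa [eq_of_le_of_card_ge h1 h6]

omit hp in
theorem exists_ext_classFun (φ : H →* G) (T : H → Prop) (f : H → ℂ)
    (hf : ∀ y y', T y → T y' → IsConj (φ y) (φ y') → f y = f y') :
    ∃ c : G → ℂ, IsClassFunction G c ∧ (∀ y, T y → c (φ y) = f y) ∧
      ∀ g, (∃ y, T y ∧ IsConj g (φ y) ∧ c g = f y) ∨
        ((∀ y, T y → ¬ IsConj g (φ y)) ∧ c g = 0) := by
  classical
  let F : ConjClasses G → ℂ := fun C =>
    if h : ∃ y, T y ∧ ConjClasses.mk (φ y) = C then f h.choose else 0
  have h1 : ∀ g y, T y → IsConj g (φ y) → F (ConjClasses.mk g) = f y := by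
    intro g y hy hc
    have h : ∃ y, T y ∧ ConjClasses.mk (φ y) = ConjClasses.mk g :=
      ⟨y, hy, ConjClasses.mk_eq_mk_iff_isConj.mpr hc.symm⟩
    simp only [F, dif_pos h]
    exact hf _ _ h.choose_spec.1 hy ((ConjClasses.mk_eq_mk_iff_isConj.mp h.choose_spec.2).trans hc)
  refine ⟨fun g => F (ConjClasses.mk g), isClassFunction_of_isConj fun a b hab => by
    rw [ConjClasses.mk_eq_mk_iff_isConj.mpr hab], fun y hy => h1 _ y hy (IsConj.refl _),
    fun g => ?_⟩
  by_cases h : ∃ y, T y ∧ IsConj g (φ y)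
  · obtain ⟨y, hy, hc⟩ := h
    exact Or.inl ⟨y, hy, hc, h1 g y hy hc⟩
  · refine Or.inr ⟨fun y hy hc => h ⟨y, hy, hc⟩, dif_neg ?_⟩
    rintro ⟨y, hy, hc⟩
    exact h ⟨y, hy, (ConjClasses.mk_eq_mk_iff_isConj.mp hc).symm⟩

/-- First main theorem: injectivity. -/
theorem IndRel.sb_of_dg {φ : H →* G} (hφ : Function.Injective φ) {ξ ξ' : Irr H} {χ : Irr G}
    (h : IndRel M φ ξ χ) (h' : IndRel M φ ξ' χ) {D : Subgroup H} (hD : DG p M ξ D)
    (hD' : DG p M ξ' D) (hN : normalizer (D.map φ : Set G) ≤ φ.range) : SB M ξ ξ' := by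
  obtain ⟨c, hc, h1, h2⟩ := exists_ext_classFun φ (fun y => SylIn p D (centralizer {y}))
    (co (fb M ξ)) fun y y' hy hy' hc => co_of_isConj _
      (isConj_of_isConj_map hφ hy hN (le_centralizer_singleton_iff.mp hy'.le) hc)
  have hz : hat c ∈ ZS G M := hat_mem_ZR hc fun g => by
    rcases h2 g with ⟨y, -, -, h3⟩ | ⟨-, h3⟩
    · rw [h3]; exact fb_mem_ZS ξ y
    · rw [h3]; exact (S M).zero_mem
  have h3 : ∀ k ∈ centralizer (D : Set H), co (res φ (hat c) - fb M ξ) k ∈ Pm M := by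
    intro k hk
    rw [map_sub, Pi.sub_apply, co_res, co_hat hc]
    rcases h2 (φ k) with ⟨y, hy, h3, h4⟩ | ⟨h3, h4⟩
    · rw [h4, co_of_isConj _ (isConj_of_isConj_map hφ hy hN hk h3.symm), sub_self]
      exact (Pm M).zero_mem
    · rw [h4, zero_sub, neg_mem_iff]
      by_contra h5
      exact h3 k (hD.sylIn_of_co hk h5) (IsConj.refl _)
  have hm := sub_mem (res_mem_ZR φ hz) (fb_mem_ZS (M := M) ξ)
  have h4 := hD.apply_mem hm h3
  have h5 := hD'.apply_mem hm h3
  rw [Pi.sub_apply] at h4 h5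
  rw [SB_iff_fb, ← mem_Pm_congr h5, h'.mem_iff hz, ← h.mem_iff hz, mem_Pm_congr h4, fb_self]
  exact one_notMem_Pm

/-- First main theorem: surjectivity. -/
theorem exists_indRel_dg {φ : H →* G} (hφ : Function.Injective φ) {D : Subgroup H} [D.Normal]
    (hC : centralizer (D.map φ : Set G) ≤ φ.range) {χ : Irr G} (hD : DG p M χ (D.map φ)) :
    ∃ ξ, IndRel M φ ξ χ ∧ DG p M ξ D := by
  have hp : IsPGroup p D := hD.isPGroup.of_equiv (D.equivMapOfInjective φ hφ).symm
  obtain ⟨ξ, h⟩ := exists_indRel_of_le hφ hp hC hD le_rfl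
  obtain ⟨E, hE⟩ := exists_DG p M ξ
  have h1 := h.card_le hφ hE hD
  rw [card_map_of_injective hφ] at h1
  exact ⟨ξ, h, by rwa [eq_of_le_of_card_ge (hE.normal_le hp) h1]⟩

theorem IndRel.dg_of_normal {φ : H →* G} (hφ : Function.Injective φ) {D : Subgroup H} [D.Normal]
    {ξ : Irr H} {χ : Irr G} (h : IndRel M φ ξ χ) (hD : DG p M χ (D.map φ)) : DG p M ξ D := by
  have hp : IsPGroup p D := hD.isPGroup.of_equiv (D.equivMapOfInjective φ hφ).symm
  obtain ⟨E, hE⟩ := exists_DG p M ξ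
  have h1 := h.card_le hφ hE hD
  rw [card_map_of_injective hφ] at h1
  rwa [eq_of_le_of_card_ge (hE.normal_le hp) h1]

theorem DG.irrE (e : H ≃* G) {χ : Irr G} {D : Subgroup H} :
    DG p M (irrE e χ) D ↔ DG p M χ (D.map (e : H →* G)) := by
  have hr : (e : H →* G).range = ⊤ := MonoidHom.range_eq_top.mpr e.surjective
  constructor
  · intro h
    exact (indRel_irrE e χ).dg_map e.injective h (by rw [hr]; exact le_top)
  · rintro ⟨g, h1, h2⟩
    obtain ⟨g, rfl⟩ := e.surjective g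
    refine ⟨g, (DC_irrE e).mpr h1, SylIn.of_map (f := (e : H →* G)) e.injective ?_⟩
    rw [map_centralizer_singleton e.injective, hr, inf_top_eq]
    exact h2

end Brauer

end H17
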