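import Mathlib
import Cfsg.Agent.H17.Induce

/-!
# Height zero characters, Blau, Okuyama, third main theorem
-/

set_option autoImplicit false
set_option linter.unusedSectionVars false

open Cfsg H4 Subgroup
open scoped ComplexConjugate

namespace H17

section Res

variable {G H : Type*} [Group G] [Finite G] [Group H] [Fintype H]

theorem res_apply_eq (φ : H →* G) (z : Irr G → ℂ) (ξ : Irr H) :
    res φ z ξ = (Nat.card H : ℂ) / Nat.card G *
      (∑ χ : Irr G, χ.1 1 * z χ * classInner (fun h => χ.1 (φ h)) ξ.1) / ξ.1 1 := by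
  rw [res_apply, hat_apply]
  congr 1
  have h1 : ∀ χ : Irr G, classInner (fun h => χ.1 (φ h)) ξ.1 =
      (Nat.card H : ℂ)⁻¹ * ∑ h, conj (χ.1 (φ h)) * ξ.1 h := fun χ => by
    rw [(χ.2.isCharacter.comp φ).inner_comm ξ.2.isCharacter, classInner_def]
    simp only [mul_comm]
  simp only [co_apply, h1, Finset.mul_sum, Finset.sum_mul]
  rw [Finset.sum_comm]
  refine Finset.sum_congr rfl fun χ _ => Finset.sum_congr rfl fun h _ => ?_
  have := card_ne_zero H
  field_simp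

variable {M : Ideal AlgInt} [M.IsMaximal]

theorem IndRel.exists_over {φ : H →* G} {ξ : Irr H} {χ : Irr G} (h : IndRel M φ ξ χ) :
    ∃ ψ, SB M χ ψ ∧ classInner (fun h => ψ.1 (φ h)) ξ.1 ≠ 0 := by
  by_contra hc
  push Not at hc
  refine ne_zero_of_notMem_Pm h.res_fb ?_
  rw [res_apply_eq, Finset.sum_eq_zero, mul_zero, zero_div]
  intro ψ _
  by_cases h : SB M χ ψ
  · rw [hc ψ h, mul_zero]
  · rw [fb, ind_of_notMem (A := blockOf M χ.1) h]; simp

end Res

section Ind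

variable {G : Type*} [Group G] [Fintype G]

theorem inducedCentralChar_eq (H : Subgroup G) (ξ : H → ℂ) (g : G) :
    inducedCentralChar H ξ g = centralChar (indFun H ξ) g := by
  classical
  have := Fintype.ofFinite H
  rw [inducedCentralChar, centralChar, indFun_apply_eq_card_centralizer, indFun_apply_one,
    finsum_mem_eq_finite_toFinset_sum _ (Set.toFinite _), ← Finset.sum_div]
  have h1 : (Set.toFinite {h : H | IsConj g (h : G)}).toFinset =
      Finset.univ.filter (fun h : H => IsConj g h) := by ext; simp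
  rw [h1]
  have h2 := card_eq_card_mul_index H
  have h3 := card_eq_card_mul_index (centralizer ({g} : Set G))
  have h4 := card_ne_zero H
  have h5 : (H.index : ℂ) ≠ 0 := Nat.cast_ne_zero.mpr index_ne_zero_of_finite
  have h6 : ((centralizer ({g} : Set G)).index : ℂ) * (Nat.card (centralizer ({g} : Set G)) /
      Nat.card H) = H.index := by
    field_simp
    rw [mul_comm, ← h3, h2]
  rw [← mul_assoc, h6, mul_div_mul_left _ _ h5]

theorem res_eq_of_indFun {H : Subgroup G} {ξ : Irr H} {χ : Irr G} (h : indFun H ξ.1 = χ.1)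
    (z : Irr G → ℂ) : res H.subtype z ξ = z χ := by
  have := linear_mem (LinearMap.proj (R := ℂ) (φ := fun _ : Irr H => ℂ) ξ ∘ₗ res H.subtype -
      LinearMap.proj (R := ℂ) (φ := fun _ : Irr G => ℂ) χ) ⊥ z fun g => by
    change _ * (res H.subtype (cls g) ξ - cls g χ) ∈ _
    rw [res_cls, inducedCentralChar_eq, h, cls_apply, sub_self, mul_zero]
    exact AddSubgroup.zero_mem _
  exact sub_eq_zero.mp this

theorem indRel_of_indFun (M : Ideal AlgInt) [M.IsMaximal] {H : Subgroup G} {ξ : Irr H} {χ : Irr G}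
    (h : indFun H ξ.1 = χ.1) : IndRel M H.subtype ξ χ := fun z _ => by
  rw [res_eq_of_indFun h, sub_self]; exact (Pm M).zero_mem

end Ind

section Zr

variable {G : Type*} [Group G] [Finite G] {p : ℕ}

variable (p) in
/-- The central element `∑_{g p-regular} conj (θ g) g`. -/
noncomputable def zr (θ : G → ℂ) : Irr G → ℂ := hat (regPart p fun g => conj (θ g))

theorem co_zr {θ : G → ℂ} (hθ : IsClassFunction G θ) :
    co (zr p θ) = regPart p fun g => conj (θ g) := co_hat (regPart_classFun hθ.conj)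

theorem zr_apply {G : Type*} [Group G] [Fintype G] (θ : G → ℂ) (ψ : Irr G) :
    zr p θ ψ = Nat.card G * classInner (regPart p ψ.1) θ / ψ.1 1 := by
  rw [zr, hat_apply, card_mul_classInner]
  congr 1
  refine Finset.sum_congr rfl fun g _ => ?_
  by_cases h : p ∣ orderOf g
  · simp [regPart_of_sing _ h]
  · simp only [regPart_of_reg _ h, mul_comm]

theorem inner_regPart_symm {G : Type*} [Group G] [Fintype G] {χ ψ : G → ℂ} (hχ : IsCharacter G χ)
    (hψ : IsCharacter G ψ) : classInner (regPart p χ) ψ = classInner (regPart p ψ) χ := by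
  rw [classInner_def, classInner_def]
  congr 1
  refine Fintype.sum_equiv (Equiv.inv G) _ _ fun g => ?_
  by_cases h : p ∣ orderOf g
  · simp [regPart_of_sing _ h, regPart_of_sing (g := g⁻¹) _ (by simpa using h)]
  · rw [Equiv.inv_apply, regPart_of_reg _ h, regPart_of_reg (g := g⁻¹) _ (by simpa using h),
      hχ.apply_inv, hψ.apply_inv, Complex.conj_conj, mul_comm]

theorem zr_symm (χ ψ : Irr G) : zr p χ.1 ψ = (deg χ : ℂ) / deg ψ * zr p ψ.1 χ := by
  have := Fintype.ofFinite G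
  rw [zr_apply, zr_apply, inner_regPart_symm ψ.2.isCharacter χ.2.isCharacter, deg_eq, deg_eq]
  have := χ.2.apply_one_ne_zero
  field_simp

theorem zr_sum_smul {ι : Type*} (s : Finset ι) (a : ι → ℂ) (θ : ι → G → ℂ) :
    zr p (∑ i ∈ s, a i • θ i) = ∑ i ∈ s, conj (a i) • zr p (θ i) := by
  have := Fintype.ofFinite G
  ext ψ
  simp only [Finset.sum_apply, Pi.smul_apply, zr_apply, classInner_sum_right,
    classInner_smul_right, smul_eq_mul, Finset.mul_sum, Finset.sum_div]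
  exact Finset.sum_congr rfl fun i _ => by ring

theorem res_zr {H : Type*} [Group H] [Finite H] {φ : H →* G} (hφ : Function.Injective φ)
    {θ : G → ℂ} (hθ : IsClassFunction G θ) : res φ (zr p θ) = zr p fun h => θ (φ h) :=
  ext_co fun h => by
    rw [co_res, co_zr hθ, co_zr (hθ.comp φ)]
    simp only [regPart, orderOf_injective φ hφ]

theorem res_zr_eq_sum {H : Type*} [Group H] [Fintype H] {φ : H →* G} (hφ : Function.Injective φ)
    (χ : Irr G) : res φ (zr p χ.1) =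
      ∑ ξ : Irr H, classInner (fun h => χ.1 (φ h)) ξ.1 • zr p ξ.1 := by
  rw [res_zr hφ χ.2.classFun]
  conv_lhs => rw [(χ.2.classFun.comp φ).eq_sum, zr_sum_smul]
  refine Finset.sum_congr rfl fun ξ _ => ?_
  rw [conj_classInner, ξ.2.isCharacter.inner_comm (χ.2.isCharacter.comp φ)]

variable [hp : Fact p.Prime] {M : Ideal AlgInt} [PM p M]

theorem zr_mem_ZS (χ : Irr G) : zr p χ.1 ∈ ZS G M := fun g => by
  rw [co_zr χ.2.classFun, regPart]
  split_ifs
  · exact (S M).zero_mem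
  · exact conj_irr_mem_S χ g

theorem zr_eq_zero {χ ψ : Irr G} (h : ¬ SB M χ ψ) : zr p χ.1 ψ = 0 := by
  have := Fintype.ofFinite G
  rw [zr_apply, inner_regPart_eq_zero (M := M) (fun h' => h h'.symm), mul_zero, zero_div]

theorem zr_mul_fb (χ ψ : Irr G) : zr p χ.1 * fb M ψ = fb M ψ χ • zr p χ.1 := by
  classical
  ext θ
  simp only [Pi.mul_apply, Pi.smul_apply, smul_eq_mul, fb, ind_apply, mem_blockOf]
  by_cases h : SB M χ θ
  · rw [if_congr ⟨fun h' => SB.trans h' h.symm, fun h' => SB.trans h' h⟩ rfl rfl, mul_comm]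
  · rw [zr_eq_zero h]; simp

variable (M) in
theorem exists_eq_sum_zr {w : Irr G → ℂ} (hw : w ∈ ZS G M)
    (h0 : ∀ g, p ∣ orderOf g → co w g = 0) :
    ∃ s : Irr G → ℂ, (∀ χ, s χ ∈ S M) ∧ w = ∑ χ, s χ • zr p χ.1 := by
  obtain ⟨s, h1, h2⟩ := exists_comb (p := p) (M := M) (co_classFun w).inv fun y _ => hw _
  refine ⟨s, h1, ext_co fun g => ?_⟩
  rw [map_sum, Finset.sum_apply]
  simp only [map_smul, Pi.smul_apply, smul_eq_mul, fun χ : Irr G => co_zr (p := p) χ.2.classFun]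
  by_cases h : p ∣ orderOf g
  · simp [h0 g h, regPart_of_sing _ h]
  · have := h2 g⁻¹ (by simpa using h)
    rw [inv_inv] at this
    rw [← this]
    exact Finset.sum_congr rfl fun χ _ => by rw [regPart_of_reg _ h, χ.2.apply_inv]

/-- The basic congruence for elements supported on `p`-regular elements. -/
theorem HZ.apply_sub_mem {χ : Irr G} (hχ : HZ p M χ) {w : Irr G → ℂ} (hw : w ∈ ZS G M)
    (h0 : ∀ g, p ∣ orderOf g → co w g = 0) :
    co (w * fb M χ) 1 / deg χ ∈ S M ∧ w χ - zr p χ.1 χ * (co (w * fb M χ) 1 / deg χ) ∈ Pm M := by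
  classical
  obtain ⟨s, h1, rfl⟩ := exists_eq_sum_zr M hw h0
  have h2 : co ((∑ ψ, s ψ • zr p ψ.1) * fb M χ) 1 / deg χ =
      ∑ ψ, s ψ * (fb M χ ψ * ((deg ψ : ℂ) / deg χ)) := by
    rw [Finset.sum_mul, map_sum, Finset.sum_apply, Finset.sum_div]
    refine Finset.sum_congr rfl fun ψ _ => ?_
    rw [smul_mul_assoc, zr_mul_fb, map_smul, map_smul, co_zr ψ.2.classFun]
    simp only [Pi.smul_apply, smul_eq_mul, regPart_of_reg _ (reg_one (p := p) (G := G)),
      ← deg_eq, map_natCast]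
    ring
  have h3 : ∀ ψ, fb M χ ψ * ((deg ψ : ℂ) / deg χ) ∈ S M := fun ψ => by
    rw [fb, ind_apply]
    split_ifs with h
    · rw [one_mul]; exact div_mem_S_of_le (deg_ne_zero χ) (hχ ψ h)
    · rw [zero_mul]; exact (S M).zero_mem
  rw [h2]
  refine ⟨sum_mem fun ψ _ => mul_mem (h1 ψ) (h3 ψ), ?_⟩
  rw [Finset.sum_apply, Finset.mul_sum, ← Finset.sum_sub_distrib]
  refine sum_mem fun ψ _ => ?_
  rw [Pi.smul_apply, smul_eq_mul, mul_left_comm, ← mul_sub]
  refine Pm_mul_left (h1 ψ) ?_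
  by_cases h : SB M χ ψ
  · have h4 := h3 ψ
    rw [fb, ind_of_mem (A := blockOf M χ.1) h, one_mul] at h4 ⊢
    rw [zr_symm, mul_comm, ← sub_mul]
    exact Pm_mul_right (h.symm.sub_mem (zr_mem_ZS χ)) h4
  · rw [zr_eq_zero (M := M) (fun h' => h h'.symm), fb, ind_of_notMem (A := blockOf M χ.1) h]
    simp

theorem HZ.zr_notMem_and {χ : Irr G} (hχ : HZ p M χ) :
    zr p χ.1 χ ∉ Pm M ∧ co (fb M χ) 1 / deg χ ∈ S M ∧ co (fb M χ) 1 / deg χ ∉ Pm M := by
  obtain ⟨h1, h2⟩ := hχ.apply_sub_mem (fb_mem_ZS χ) fun g hg => co_ind_eq_zero (fb_mem_ZS χ) hg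
  rw [ind_mul_self] at h1 h2
  rw [fb_self] at h2
  have h3 := notMem_Pm_of_sub (sub_mem_Pm_symm h2) one_notMem_Pm
  exact ⟨fun h => h3 (Pm_mul_right h h1), h1,
    fun h => h3 (Pm_mul_left (apply_mem_S (zr_mem_ZS χ) χ) h)⟩

theorem HZ.zr_notMem {χ : Irr G} (hχ : HZ p M χ) : zr p χ.1 χ ∉ Pm M := hχ.zr_notMem_and.1

/-- The height zero criterion. -/
theorem zr_notMem_iff {χ ψ : Irr G} : zr p χ.1 ψ ∉ Pm M ↔ SB M χ ψ ∧ HZ p M χ := by
  constructor
  · intro h
    have h1 : SB M χ ψ := by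
      by_contra hc
      rw [zr_eq_zero hc] at h
      exact h (Pm M).zero_mem
    refine ⟨h1, fun θ hθ => ?_⟩
    rw [← h1.mem_iff (zr_mem_ZS χ), hθ.mem_iff (zr_mem_ZS χ), zr_symm] at h
    by_contra hc
    push Not at hc
    exact h (Pm_mul_right (div_mem_Pm_of_lt (deg_ne_zero θ) hc) (apply_mem_S (zr_mem_ZS θ) χ))
  · rintro ⟨h1, h2⟩
    rw [← h1.mem_iff (zr_mem_ZS χ)]
    exact h2.zr_notMem

theorem hz_of_not_dvd {χ : Irr G} (h : ¬ p ∣ deg χ) : HZ p M χ := fun ψ _ => by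
  rw [Nat.factorization_eq_zero_of_not_dvd h]; exact Nat.zero_le _

omit hp in
theorem deg_irrOne : deg (irrOne G) = 1 := by
  have : (deg (irrOne G) : ℂ) = 1 := by rw [deg_eq]; rfl
  exact_mod_cast this

theorem hz_irrOne : HZ p M (irrOne G) :=
  hz_of_not_dvd (by rw [deg_irrOne]; exact hp.out.one_lt.ne' ∘ Nat.dvd_one.mp)

variable {H : Type*} [Group H]

/-- Blau's theorem. -/
theorem IndRel.blau [Fintype H] {φ : H →* G} (hφ : Function.Injective φ) {ξ : Irr H} {χ : Irr G}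
    (h : IndRel M φ ξ χ) (hχ : HZ p M χ) :
    ∃ θ, SB M ξ θ ∧ HZ p M θ ∧ ∃ n : ℕ, classInner (fun h => χ.1 (φ h)) θ.1 = n ∧ ¬ p ∣ n := by
  have h1 := hχ.zr_notMem
  rw [← h.mem_iff (zr_mem_ZS χ), res_zr_eq_sum hφ, Finset.sum_apply] at h1
  obtain ⟨θ, -, h2⟩ := exists_notMem_Pm_of_sum _ _ h1
  obtain ⟨n, hn⟩ := (χ.2.isCharacter.comp φ).inner_nat θ.2.isCharacter
  rw [Pi.smul_apply, smul_eq_mul, hn] at h2
  have h3 : zr p θ.1 ξ ∉ Pm M := fun h => h2 (Pm_mul_left (natCast_mem _ n) h)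
  rw [zr_notMem_iff] at h3
  exact ⟨θ, h3.1.symm, h3.2, n, hn, fun h =>
    h2 (natCast_mul_mem_Pm h (apply_mem_S (zr_mem_ZS θ) ξ))⟩

/-- Okuyama's theorem. -/
theorem IndRel.okuyama [Finite H] {φ : H →* G} (hφ : Function.Injective φ) {ξ ψ : Irr H}
    {χ χ' : Irr G} (h : IndRel M φ ξ χ') (hres : ∀ x, χ.1 (φ x) = ψ.1 x) (hχ : HZ p M χ)
    (hψ : HZ p M ψ) : SB M χ χ' ↔ SB M ψ ξ := by
  have h1 := h.mem_iff (zr_mem_ZS (M := M) χ)
  rw [res_zr hφ χ.2.classFun, show (fun x => χ.1 (φ x)) = ψ.1 from funext hres, ← not_iff_not,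
    zr_notMem_iff, zr_notMem_iff] at h1
  simpa [hχ, hψ] using h1.symm

/-- Third main theorem. -/
theorem IndRel.third [Finite H] {φ : H →* G} (hφ : Function.Injective φ) {ξ : Irr H}
    {χ : Irr G} (h : IndRel M φ ξ χ) : SB M (irrOne G) χ ↔ SB M (irrOne H) ξ :=
  h.okuyama hφ (fun _ => rfl) hz_irrOne hz_irrOne

theorem DG.co_one {χ : Irr G} {D : Subgroup G} (hD : DG p M χ D) :
    co (fb M χ) 1 / D.index ∈ S M ∧ co (fb M χ) 1 / D.index ∉ Pm M := by
  obtain ⟨ψ, h1, h2⟩ := exists_HZ (p := p) M χ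
  have h3 := (h1.dg hD).hz_iff.mp h2
  obtain ⟨-, h4, h5⟩ := h2.zr_notMem_and
  have h6 : co (fb M χ) 1 / D.index = (deg ψ : ℂ) / D.index * (co (fb M ψ) 1 / deg ψ) := by
    have : (deg ψ : ℂ) ≠ 0 := Nat.cast_ne_zero.mpr (deg_ne_zero ψ)
    rw [h1.fb_eq]; field_simp
  rw [h6]
  have h7 := div_mem_S_of_le (M := M) index_ne_zero_of_finite h3.ge
  exact ⟨mul_mem h7 h4, mul_notMem_Pm h7
    (div_notMem_Pm_of_le (deg_ne_zero ψ) index_ne_zero_of_finite h3.le) h5⟩

end Zr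

end H17
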