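import Mathlib
import Cfsg.Agent.H17.Height

/-!
# Brauer's second main theorem and consequences
-/

set_option autoImplicit false
set_option linter.unusedSectionVars false

open Cfsg H4 Subgroup
open scoped ComplexConjugate

namespace H17

section Blocks

variable {G : Type*} [Group G] [Finite G] {M : Ideal AlgInt} [M.IsMaximal]

theorem sum_ind_mem_of_blocks {A : Set (Irr G)} (hA : ∀ χ ∈ A, ∀ ψ, SB M χ ψ → ψ ∈ A)
    (I : AddSubgroup ℂ) (F : Irr G → ℂ) (h : ∀ ξ ∈ A, ∑ χ, fb M ξ χ * F χ ∈ I) :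
    ∑ χ, ind A χ * F χ ∈ I := by
  classical
  rw [← Finset.sum_fiberwise_of_maps_to (s := Finset.univ)
    (t := Finset.univ.image fun χ : Irr G => blockOf M χ.1) (g := fun χ : Irr G => blockOf M χ.1)
    (fun χ hχ => Finset.mem_image_of_mem _ hχ)]
  refine sum_mem fun B hB => ?_
  obtain ⟨ξ, -, rfl⟩ := Finset.mem_image.mp hB
  by_cases hξ : ξ ∈ A
  · convert h ξ hξ using 1
    rw [Finset.sum_filter]
    refine Finset.sum_congr rfl fun χ _ => ?_
    rw [fb, ind_apply (blockOf M ξ.1), if_congr (blockOf_eq_iff.trans ⟨SB.symm, SB.symm⟩) rfl rfl]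
    by_cases h1 : SB M ξ χ
    · rw [if_pos h1, if_pos (mem_blockOf.mpr h1), ind_of_mem (hA ξ hξ χ h1)]
    · rw [if_neg h1, if_neg (fun h => h1 (mem_blockOf.mp h)), zero_mul]
  · rw [Finset.sum_eq_zero]
    · exact I.zero_mem
    · intro χ hχ
      rw [ind_of_notMem, zero_mul]
      exact fun h1 => hξ (hA χ h1 ξ (blockOf_eq_iff.mp (Finset.mem_filter.mp hχ).2))

theorem blockPart_eq_zero_of_blocks {A : Set (Irr G)} (hA : ∀ χ ∈ A, ∀ ψ, SB M χ ψ → ψ ∈ A)
    {ϑ : G → ℂ} {g : G} (h : ∀ ξ ∈ A, blockPart (blockOf M ξ.1) ϑ g = 0) :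
    blockPart A ϑ g = 0 := by
  have := Fintype.ofFinite G
  rw [blockPart_apply]
  exact sum_ind_mem_of_blocks hA ⊥ _ fun ξ hξ => by
    rw [← blockPart_apply, h ξ hξ]; exact AddSubgroup.zero_mem _

theorem blockPart_add_compl (A : Set (Irr G)) {ϑ : G → ℂ} (hϑ : IsClassFunction G ϑ) (g : G) :
    blockPart A ϑ g + blockPart Aᶜ ϑ g = ϑ g := by
  have := Fintype.ofFinite G
  rw [blockPart_apply, blockPart_apply, ← Finset.sum_add_distrib, hϑ.apply_eq_sum g]
  refine Finset.sum_congr rfl fun χ _ => ?_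
  by_cases h : χ ∈ A
  · rw [ind_of_mem h, ind_of_notMem (A := Aᶜ) (fun h' => h' h)]; ring
  · rw [ind_of_notMem h, ind_of_mem (A := Aᶜ) h]; ring

end Blocks

section Second

variable {G H : Type*} [Group G] [Finite G] [Group H] [Finite H] {p : ℕ} [hp : Fact p.Prime]
  {M : Ideal AlgInt} [PM p M]

theorem IndRel.sum_co_eq_zero_aux {G H : Type*} [Group G] [Fintype G] [Group H] [Fintype H]
    {φ : H →* G} (hφ : Function.Injective φ) {ξ : Irr H} {χ' : Irr G} (hI : IndRel M φ ξ χ') {h : H}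
    (hC : centralizer {pp p (φ h)} ≤ φ.range) {N : Type*} [Ring N] [Algebra ℂ N] (ρ : G →* N)
    (T : N →ₗ[ℂ] ℂ) (hT : ∀ a b, T (a * b) = T (b * a)) (hTS : ∀ g, T (ρ g) ∈ S M)
    (h1 : ∑ g, co (fb M χ') g • ρ g = 0) :
    ∑ k, co (fb M ξ) k * T (ρ (φ (k * h))) = 0 := by
  classical
  obtain ⟨u, hu, huf⟩ := exists_mul_eq_fb (res_mem_ZR φ (fb_mem_ZS (M := M) χ')) hI.res_fb
  let R : (Irr H → ℂ) → N := fun y => ∑ k, co y k • ρ (φ k)
  have hR : ∀ y y', R (y * y') = R y * R y' := by
    intro y y'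
    simp only [R, co_mul, Finset.sum_smul, Finset.sum_mul]
    rw [Finset.sum_comm]
    refine Finset.sum_congr rfl fun k _ => ?_
    rw [Finset.mul_sum]
    refine (Fintype.sum_equiv (Equiv.mulLeft k) _ _ fun l => ?_).symm
    simp [smul_smul, mul_comm]
  have hr : ∀ k, φ k ∈ φ.range := fun k => ⟨k, rfl⟩
  let w : G → ℂ := fun g => if g ∈ φ.range then 0 else co (fb M χ') g
  have hw : ∀ (k : H) g, w (φ k * g * (φ k)⁻¹) = w g := by
    intro k g
    simp only [w, co_conj]
    rw [if_congr (by rw [mul_mem_cancel_right (inv_mem (hr k)), mul_mem_cancel_left (hr k)])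
      rfl rfl]
  have h0 : R (res φ (fb M χ')) + ∑ g, w g • ρ g = 0 := by
    rw [← h1]
    have h4 : R (res φ (fb M χ')) = ∑ g, (if g ∈ φ.range then co (fb M χ') g else 0) • ρ g := by
      refine Finset.sum_of_injOn φ hφ.injOn (by simp) (fun g _ hg => ?_) fun k _ => ?_
      · rw [if_neg, zero_smul]
        rintro ⟨k, rfl⟩
        exact hg ⟨k, by simp, rfl⟩
      · rw [if_pos ⟨k, rfl⟩, co_res]
    rw [h4, ← Finset.sum_add_distrib]
    refine Finset.sum_congr rfl fun g _ => ?_
    simp only [w]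
    split_ifs <;> simp
  let a : G → ℂ := fun g => -∑ k, co u k * w ((φ k)⁻¹ * g)
  have ha : ∑ g, a g • ρ g = R (fb M ξ) := by
    rw [← huf, hR, eq_neg_of_add_eq_zero_left h0]
    simp only [a, R, neg_smul, Finset.sum_neg_distrib, mul_neg, neg_inj, Finset.sum_smul,
      Finset.sum_mul]
    rw [Finset.sum_comm]
    refine Finset.sum_congr rfl fun k _ => ?_
    rw [Finset.mul_sum]
    refine (Fintype.sum_equiv (Equiv.mulLeft (φ k)) _ _ fun l => ?_).symm
    simp [smul_smul, mul_comm]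
  have hidem : IsIdempotentElem (R (fb M ξ)) := by
    rw [IsIdempotentElem, ← hR, ind_mul_self]
  have hs : ∀ (k : ℕ) (g : G), ((MulAut.conj (φ h)).toEquiv ^ k) g = φ h ^ k * g * (φ h ^ k)⁻¹ := by
    intro k g
    induction k with
    | zero => simp
    | succ k ih =>
      rw [pow_succ', Equiv.Perm.mul_apply, ih, pow_succ']
      simp [mul_assoc]
  refine eq_zero_of_trace_pow (M := M) (fun g => ρ g) a (MulAut.conj (φ h)).toEquiv (ρ (φ h))
    T hT (fun g => ?_) (fun g => ?_)
    (fun g => ?_) (fun m t => ?_) (fun g k hk h1 => ?_) _ fun m hm => ?_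
  · rw [← map_mul, ← map_mul]; simp
  · simp only [a, neg_inj]
    refine (Fintype.sum_equiv (MulAut.conj h).toEquiv _ _ fun k => ?_).symm
    rw [← hw h, ← co_conj u k h]
    simp [mul_assoc]
  · refine neg_mem (sum_mem fun k _ => mul_mem (hu k) ?_)
    simp only [w]
    split_ifs
    · exact zero_mem _
    · exact fb_mem_ZS χ' _
  · have : (List.ofFn fun i => ρ (t i)).prod = ρ (List.ofFn t).prod := by
      rw [map_list_prod, List.map_ofFn]; rfl
    rw [this, ← map_mul]
    exact hTS _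
  · rw [hs] at h1
    have h2 : g ∈ φ.range := hC (mem_centralizer_singleton.mpr (commute_pp_of_pow hk
      (mul_inv_eq_iff_eq_mul.mp h1).symm))
    simp only [a, neg_eq_zero]
    refine Finset.sum_eq_zero fun k _ => ?_
    simp only [w]
    rw [if_pos (mul_mem (inv_mem (hr k)) h2), mul_zero]
  · rw [ha, hidem.pow_eq hm.ne']
    simp only [R, Finset.sum_mul, map_sum, smul_mul_assoc, map_smul, smul_eq_mul, ← map_mul]

theorem IndRel.sum_co_eq_zero {H : Type*} [Group H] [Fintype H] {φ : H →* G}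
    (hφ : Function.Injective φ) {ξ : Irr H} {χ' : Irr G} (hI : IndRel M φ ξ χ') {h : H}
    (hC : centralizer {pp p (φ h)} ≤ φ.range) {χ : Irr G} (hχ : ¬ SB M χ' χ) :
    ∑ k, co (fb M ξ) k * χ.1 (φ (k * h)) = 0 := by
  have := Fintype.ofFinite G
  obtain ⟨n, ρ, hρ, hχρ⟩ := χ.2
  obtain ⟨c, h1, h2⟩ := classSum_scalar ρ (co (fb M χ')) (co_classFun _)
  rw [hχρ, sum_co, fb, ind_of_notMem (A := blockOf M χ'.1) hχ, zero_mul] at h2
  have h3 : c = 0 := by
    have := finrank_pos_of_irreducible ρ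
    exact (mul_eq_zero.mp h2).resolve_right (Nat.cast_ne_zero.mpr this.ne')
  rw [h3, zero_smul] at h1
  rw [← hχρ]
  exact hI.sum_co_eq_zero_aux hφ hC (N := Module.End ℂ (Fin n → ℂ)) ρ (LinearMap.trace ℂ _)
    (fun a b => LinearMap.trace_mul_comm ℂ a b) (fun g => by
      change ρ.character g ∈ _
      rw [hχρ]; exact irr_mem_S χ g) h1

theorem IndRel.blockPart_eq_zero {φ : H →* G} (hφ : Function.Injective φ) {ξ : Irr H}
    {χ' : Irr G} (hI : IndRel M φ ξ χ') {h : H} (hC : centralizer {pp p (φ h)} ≤ φ.range)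
    {χ : Irr G} (hχ : ¬ SB M χ' χ) : blockPart (blockOf M ξ.1) (fun k => χ.1 (φ k)) h = 0 := by
  have := Fintype.ofFinite H
  rw [blockPart_eq_conv _ (χ.2.classFun.comp φ)]
  exact hI.sum_co_eq_zero hφ hC hχ

variable (M) in
/-- The characters of `H` in blocks inducing into `B`. -/
def indSet (φ : H →* G) (B : Set (Irr G)) : Set (Irr H) := {ξ | ∃ χ ∈ B, IndRel M φ ξ χ}

omit hp in
theorem indSet_closed (φ : H →* G) (B : Set (Irr G)) :
    ∀ ξ ∈ indSet M φ B, ∀ ψ, SB M ξ ψ → ψ ∈ indSet M φ B :=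
  fun _ ⟨χ, h1, h2⟩ _ h3 => ⟨χ, h1, h2.congr h3 (SB.refl _)⟩

/-- Brauer's second main theorem. -/
theorem second_main {φ : H →* G} (hφ : Function.Injective φ)
    (hall : ∀ ξ : Irr H, ∃ χ, IndRel M φ ξ χ) {h : H} (hC : centralizer {pp p (φ h)} ≤ φ.range)
    {B : Set (Irr G)} (hB : ind B ∈ ZS G M) {ϑ : G → ℂ} (hϑ : IsClassFunction G ϑ) :
    blockPart B ϑ (φ h) = blockPart (indSet M φ B) (fun k => ϑ (φ k)) h := by
  have := Fintype.ofFinite G
  have h1 : (fun k => ϑ (φ k)) = ∑ χ : Irr G, classInner ϑ χ.1 • fun k => χ.1 (φ k) := by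
    ext k
    rw [hϑ.apply_eq_sum, Finset.sum_apply]; rfl
  rw [h1, blockPart_sum, blockPart_apply, Finset.sum_apply]
  refine Finset.sum_congr rfl fun χ _ => ?_
  rw [blockPart_smul, Pi.smul_apply, smul_eq_mul, mul_left_comm]
  congr 1
  by_cases hχ : χ ∈ B
  · rw [ind_of_mem hχ, one_mul, ← blockPart_add_compl (indSet M φ B) (χ.2.classFun.comp φ) h,
      blockPart_eq_zero_of_blocks (M := M) (A := (indSet M φ B)ᶜ), add_zero]
    · exact fun ξ hξ ψ h1 h2 => hξ (indSet_closed φ B ψ h2 ξ h1.symm)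
    · intro ξ hξ
      obtain ⟨χ', h2⟩ := hall ξ
      exact h2.blockPart_eq_zero hφ hC fun h3 => hξ ⟨χ, hχ, h2.congr (SB.refl _) h3⟩
  · rw [ind_of_notMem hχ, zero_mul, blockPart_eq_zero_of_blocks (indSet_closed φ B)]
    rintro ξ ⟨χ', h2, h3⟩
    exact h3.blockPart_eq_zero hφ hC fun h4 => hχ (mem_of_ind_mem_ZS hB h2 h4)

theorem irr_eq_blockPart {φ : H →* G} (hφ : Function.Injective φ)
    (hall : ∀ ξ : Irr H, ∃ χ, IndRel M φ ξ χ) {h : H} (hC : centralizer {pp p (φ h)} ≤ φ.range)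
    (χ : Irr G) :
    χ.1 (φ h) = blockPart (indSet M φ (blockOf M χ.1)) (fun k => χ.1 (φ k)) h := by
  rw [← second_main hφ hall hC (fb_mem_ZS χ) χ.2.classFun, blockPart_irr,
    ind_of_mem (self_mem_blockOf χ), one_smul]

theorem indSet_principal {φ : H →* G} (hφ : Function.Injective φ)
    (hall : ∀ ξ : Irr H, ∃ χ, IndRel M φ ξ χ) :
    indSet M φ (principalBlock M G) = principalBlock M H := by
  ext ξ
  constructor
  · rintro ⟨χ, h1, h2⟩
    exact (h2.third hφ).mp h1
  · intro h1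
    obtain ⟨χ, h2⟩ := hall ξ
    exact ⟨χ, (h2.third hφ).mpr h1, h2⟩

/-! ### Centralizers of `p`-elements -/

omit [Finite G] hp in
/-- `x` as an element of its centralizer. -/
abbrev selfC (x : G) : centralizer ({x} : Set G) := ⟨x, mem_centralizer_singleton_iff.mpr rfl⟩

omit [Finite G] hp in
theorem normal_zpowers_of_central {x : G} (hx : ∀ g, Commute x g) : (zpowers x).Normal :=
  ⟨fun n hn g => by
    obtain ⟨k, rfl⟩ := hn
    have : g * x ^ k * g⁻¹ = x ^ k := by
      rw [← ((hx g).zpow_left k).eq, mul_inv_cancel_right]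
    simp only [this]
    exact zpow_mem_zpowers x k⟩

omit [Finite G] hp in
theorem centralizer_zpowers (x : G) : centralizer (zpowers x : Set G) = centralizer {x} := by
  rw [zpowers_eq_closure, centralizer_closure]

variable (M) in
theorem exists_indRel_centralizer {x : G} (hx : PElt p x) (ξ : Irr (centralizer ({x} : Set G))) :
    ∃ χ, IndRel M (centralizer ({x} : Set G)).subtype ξ χ := by
  have := normal_zpowers_of_central (commute_self_centralizer x)
  refine exists_indRel M (subtype_injective _) (Q := zpowers (selfC x))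
    (PElt.of_injective (subtype_injective _) hx).isPGroup_zpowers ?_ ξ
  rw [MonoidHom.map_zpowers, centralizer_zpowers, range_subtype]
  exact le_rfl

theorem centralizer_pp_le {x : G} {h : centralizer ({x} : Set G)} (hh : pp p (h : G) = x) :
    centralizer {pp p ((centralizer ({x} : Set G)).subtype h)} ≤
      (centralizer ({x} : Set G)).subtype.range := by
  rw [range_subtype, subtype_apply, hh]

theorem second_main_centralizer {x : G} {h : centralizer ({x} : Set G)}
    (hh : pp p (h : G) = x) {B : Set (Irr G)} (hB : ind B ∈ ZS G M) {ϑ : G → ℂ}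
    (hϑ : IsClassFunction G ϑ) :
    blockPart B ϑ h = blockPart (indSet M (centralizer ({x} : Set G)).subtype B)
      (fun k => ϑ k) h :=
  second_main (subtype_injective _) (exists_indRel_centralizer M (hh ▸ pElt_pp _))
    (centralizer_pp_le hh) hB hϑ

theorem second_main_principal {x : G} {h : centralizer ({x} : Set G)}
    (hh : pp p (h : G) = x) {ϑ : G → ℂ} (hϑ : IsClassFunction G ϑ) :
    blockPart (principalBlock M G) ϑ h =
      blockPart (principalBlock M (centralizer ({x} : Set G))) (fun k => ϑ k) h := by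
  rw [second_main_centralizer (M := M) (B := principalBlock M G) hh (fb_mem_ZS (irrOne G)) hϑ,
    indSet_principal (subtype_injective _) (exists_indRel_centralizer M (hh ▸ pElt_pp _))]

theorem irr_eq_blockPart_principal {x : G} {h : centralizer ({x} : Set G)}
    (hh : pp p (h : G) = x) {χ : Irr G} (hχ : SB M (irrOne G) χ) :
    χ.1 h = blockPart (principalBlock M (centralizer ({x} : Set G))) (fun k => χ.1 k) h := by
  rw [← second_main_principal hh χ.2.classFun, blockPart_irr,
    ind_of_mem (A := principalBlock M G) hχ, one_smul]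

variable (M) in
theorem exists_DG_of_ne_zero {χ : Irr G} {g : G} (h : χ.1 g ≠ 0) :
    ∃ D, DG p M χ D ∧ pp p g ∈ D := by
  set x := pp p g with hx
  let h' : centralizer ({x} : Set G) :=
    ⟨g, mem_centralizer_singleton.mpr (commute_pp (Commute.refl g))⟩
  have h1 := irr_eq_blockPart (subtype_injective _) (exists_indRel_centralizer M (pElt_pp g))
    (centralizer_pp_le (h := h') rfl) χ
  have h2 : (indSet M (centralizer ({x} : Set G)).subtype (blockOf M χ.1)).Nonempty := by
    by_contra hc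
    rw [Set.not_nonempty_iff_eq_empty] at hc
    refine h (h1.trans ?_)
    rw [hc]
    exact blockPart_eq_zero_of_blocks (M := M) (by simp) (by simp)
  obtain ⟨ξ, χ', h3, h4⟩ := h2
  obtain ⟨D, hD⟩ := exists_DG p M ξ
  obtain ⟨E, h5, h6⟩ := h4.exists_DG_ge hD
  have := normal_zpowers_of_central (commute_self_centralizer x)
  have h7 := hD.normal_le (N := zpowers (selfC x))
    (PElt.of_injective (subtype_injective _) (pElt_pp g)).isPGroup_zpowers
  exact ⟨E, (SB.symm h3).dg h5, h6 ⟨_, h7 (mem_zpowers _), rfl⟩⟩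

theorem DG.pp_mem_of_normal {χ : Irr G} {D : Subgroup G} (hD : DG p M χ D) [D.Normal] {g : G}
    (h : χ.1 g ≠ 0) : pp p g ∈ D := by
  obtain ⟨E, h1, h2⟩ := exists_DG_of_ne_zero M h
  rwa [hD.eq_of_normal h1] at h2

omit [Finite G] hp in
theorem map_subgroupOf_normalizer (D : Subgroup G) :
    (D.subgroupOf (normalizer (D : Set G))).map (normalizer (D : Set G)).subtype = D :=
  map_subgroupOf_eq_of_le le_normalizer

/-- The Brauer correspondent. -/
theorem DG.exists_corr {χ : Irr G} {D : Subgroup G} (hD : DG p M χ D) :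
    ∃ ξ, IndRel M (normalizer (D : Set G)).subtype ξ χ ∧
      DG p M ξ (D.subgroupOf (normalizer (D : Set G))) :=
  exists_indRel_dg (subtype_injective _)
    (by rw [map_subgroupOf_normalizer, range_subtype]; exact centralizer_le_normalizer _)
    (by rwa [map_subgroupOf_normalizer])

theorem exists_of_res_cls {φ : H →* G} {g : G} {ξ : Irr H} (h : res φ (cls g) ξ ∉ Pm M) :
    ∃ k, IsConj g (φ k) ∧ cls k ξ ∉ Pm M := by
  obtain ⟨k, h1, h2⟩ := exists_notMem_of_apply (res_mem_ZR φ (cls_mem_ZR (S M) g)) h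
  rw [co_res] at h1
  exact ⟨k, isConj_of_co_cls h1, h2⟩

theorem DG.exists_conj_of_cls {χ : Irr G} {D : Subgroup G} (hD : DG p M χ D) {g : G}
    (hg : cls g χ ∉ Pm M) :
    ∃ x, IsConj g x ∧ x ∈ centralizer (D : Set G) ∧ pp p x ∈ D := by
  obtain ⟨ξ, h1, h2⟩ := hD.exists_corr
  rw [← h1.mem_iff (cls_mem_ZR _ g)] at hg
  obtain ⟨k, h3, h4⟩ := exists_of_res_cls hg
  refine ⟨k, h3, ?_, ?_⟩
  · have := map_mem_centralizer_map (normalizer (D : Set G)).subtype
      (mem_centralizer_of_cls h2.isPGroup h4)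
    rwa [map_subgroupOf_normalizer] at this
  · rw [pp_coe]
    refine h2.pp_mem_of_normal fun h => h4 ?_
    rw [cls_eq_div, h, mul_zero]; exact zero_mem _

theorem IndRel.exists_conj_center {φ : H →* G} {ξ : Irr H}
    {χ : Irr G} (h : IndRel M φ ξ χ) {D : Subgroup H} (hD : DG p M ξ D) {P : Subgroup G}
    (hP : DG p M χ P) {x : G} (hx : x ∈ P) (hxc : x ∈ centralizer (P : Set G)) :
    ∃ d ∈ D, d ∈ centralizer (D : Set H) ∧ IsConj x (φ d) := by
  obtain ⟨y, h1, h2⟩ := hP
  have h3 := h1.cls_mul_notMem h2 hx hxc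
  rw [← h.mem_iff (cls_mem_ZR _ _)] at h3
  obtain ⟨k, h4, h5⟩ := exists_of_res_cls h3
  obtain ⟨k', h6, h7, h8⟩ := hD.exists_conj_of_cls h5
  refine ⟨pp p k', h8, pp_mem h7, ?_⟩
  have := isConj_pp (p := p) (h4.trans (φ.map_isConj h6))
  rwa [pp_mul (PElt.of_mem h2.isPGroup hx) h1.reg (mem_centralizer_singleton.mp (h2.le hx)),
    pp_map] at this

omit [PM p M] in
theorem exists_center_ne_one {P : Subgroup G} (hP : IsPGroup p P) (h : P ≠ ⊥) :
    ∃ x ∈ P, x ≠ 1 ∧ x ∈ centralizer (P : Set G) := by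
  have : Nontrivial P := (nontrivial_iff_ne_bot P).mpr h
  have := hP.center_nontrivial
  obtain ⟨⟨x, hx⟩, h1⟩ := exists_ne (1 : center P)
  refine ⟨x, x.2, fun h2 => h1 (Subtype.ext (Subtype.ext h2)), fun y hy => ?_⟩
  exact congrArg Subtype.val (mem_center_iff.mp hx ⟨y, hy⟩)

theorem IndRel.eq_bot_iff {φ : H →* G} (hφ : Function.Injective φ) {ξ : Irr H}
    {χ : Irr G} (h : IndRel M φ ξ χ) {D : Subgroup H} (hD : DG p M ξ D) {P : Subgroup G}
    (hP : DG p M χ P) : D = ⊥ ↔ P = ⊥ := by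
  constructor
  · rintro rfl
    by_contra hc
    obtain ⟨x, h1, h2, h3⟩ := exists_center_ne_one hP.isPGroup hc
    obtain ⟨d, h4, -, h5⟩ := h.exists_conj_center hD hP h1 h3
    rw [mem_bot.mp h4, map_one, isConj_one_left] at h5
    exact h2 h5
  · rintro rfl
    have := h.card_le hφ hD hP
    rw [card_bot] at this
    exact eq_bot_of_card_le _ this

theorem DG.blockDefect_eq_zero_iff {χ : Irr G} {D : Subgroup G} (hD : DG p M χ D) :
    blockDefect p (blockOf M χ.1) = 0 ↔ D = ⊥ := by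
  constructor
  · intro h
    have := hD.card_eq_pow
    rw [h, pow_zero] at this
    exact eq_bot_of_card_eq _ this
  · rintro rfl
    rw [hD.blockDefect_eq]; simp

/-- Knörr's theorem. -/
theorem knorr {χ : Irr G} (h : ∀ g, orderOf g = p → χ.1 g = 0) :
    (Nat.card G).factorization p ≤ (deg χ).factorization p := by
  classical
  obtain ⟨M, hM⟩ := exists_PM p
  have := Fintype.ofFinite G
  obtain ⟨D, hD⟩ := exists_DG p M χ
  rw [← hD.eq_bot_iff]
  by_contra hc
  obtain ⟨x, hx, hxD⟩ : ∃ x : G, orderOf x = p ∧ x ∈ D := by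
    obtain ⟨n, hn⟩ := IsPGroup.iff_card.mp hD.isPGroup
    have : n ≠ 0 := by
      rintro rfl
      exact hc (eq_bot_of_card_eq _ hn)
    obtain ⟨x, hx⟩ := exists_prime_orderOf_dvd_card' (G := D) p (hn ▸ dvd_pow_self p this)
    exact ⟨x, by rw [Subgroup.orderOf_coe, hx], x.2⟩
  have hxp : PElt p x := ⟨1, by rw [hx, pow_one]⟩
  have := normal_zpowers_of_central (commute_self_centralizer x)
  set C := centralizer ({x} : Set G)
  have := Fintype.ofFinite C
  have hQ : IsPGroup p (zpowers (selfC x)) :=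
    (PElt.of_injective (subtype_injective _) hxp).isPGroup_zpowers
  obtain ⟨ξ, hξ⟩ := exists_indRel_of_le C.subtype_injective hQ
    (by rw [MonoidHom.map_zpowers, centralizer_zpowers, range_subtype]; exact le_rfl) hD
    (by rw [MonoidHom.map_zpowers, zpowers_le]; exact hxD)
  have hcl : IsClassFunction G (fun g => if g ^ p = 1 then 1 else 0) := fun a b => by
    simp [conj_pow]
  have hz : hat (fun g : G => if g ^ p = 1 then 1 else 0) ∈ ZS G M := hat_mem_ZR hcl fun g => by
    split_ifs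
    · exact one_mem _
    · exact zero_mem _
  have h1 : hat (fun g : G => if g ^ p = 1 then 1 else 0) χ = 1 := by
    rw [hat_apply, Finset.sum_eq_single 1]
    · simp [χ.2.apply_one_ne_zero]
    · intro g _ hg
      split_ifs with h1
      · rw [h g (orderOf_eq_prime h1 hg), mul_zero]
      · rw [zero_mul]
    · simp
  have hk : IsPGroup p (QuotientGroup.mk' (zpowers (selfC x))).ker := by
    rwa [QuotientGroup.ker_mk']
  obtain ⟨ψ, h2⟩ := exists_SB_infl M _ (QuotientGroup.mk'_surjective _) hk ξ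
  have h3 := (hξ.congr h2 (SB.refl _)).mem_iff hz
  rw [h1, ← push_apply _ _ (res _ _)] at h3
  refine one_notMem_Pm (h3.mp (apply_mem_Pm (fun k => ?_) ψ))
  have := Fintype.ofFinite (C ⧸ zpowers (selfC x))
  rw [co_push, sum_eq_card_smul_sum_quotient (zpowers (selfC x)), nsmul_eq_mul]
  · refine natCast_mul_mem_Pm ?_ (sum_mem fun q _ => ?_)
    · rw [Nat.card_zpowers, ← Subgroup.orderOf_coe, hx]
    · split_ifs
      · exact res_mem_ZR _ hz _
      · exact zero_mem _
  · rintro g _ ⟨n, rfl⟩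
    have h4 : (QuotientGroup.mk' (zpowers (selfC x))) (selfC x ^ n) = 1 :=
      (QuotientGroup.eq_one_iff _).mpr (zpow_mem_zpowers _ n)
    have h5 : Commute (g : G) (x ^ n) := (mem_centralizer_singleton.mp g.2).zpow_right n
    have h6 : (x ^ n) ^ p = 1 := by
      rw [← zpow_natCast, ← zpow_mul, mul_comm, zpow_mul, zpow_natCast, ← hx, pow_orderOf_eq_one,
        one_zpow]
    simp only [map_mul, h4, mul_one, co_res, co_hat hcl, subtype_apply, SubgroupClass.coe_zpow,
      h5.mul_pow, h6]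

end Second

end H17
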