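import Mathlib
import Cfsg.Agent.H17.Second

/-!
# Blocks and normal subgroups
-/

set_option autoImplicit false
set_option linter.unusedSectionVars false

open Cfsg H4 Subgroup
open scoped ComplexConjugate

namespace H17

section Over

variable {G : Type*} [Group G] [Finite G]

/-- `χ` lies over `θ`. -/
def Over (N : Subgroup G) (χ : Irr G) (θ : Irr N) : Prop :=
  haveI := Fintype.ofFinite N
  classInner (fun n : N => χ.1 n) θ.1 ≠ 0

theorem over_iff {N : Subgroup G} [i : Fintype N] {χ : Irr G} {θ : Irr N} :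
    Over N χ θ ↔ classInner (fun n : N => χ.1 n) θ.1 ≠ 0 := by
  rw [Over, classInner_irrel _ i]

theorem exists_over (N : Subgroup G) (θ : Irr N) : ∃ χ, Over N χ θ := by
  have := Fintype.ofFinite G
  have := Fintype.ofFinite N
  obtain ⟨χ, h1, h2⟩ := H5.exists_irr_over N θ.2
  exact ⟨⟨χ, h1⟩, over_iff.mpr h2⟩

theorem exists_under (N : Subgroup G) (χ : Irr G) : ∃ θ, Over N χ θ := by
  have := Fintype.ofFinite N
  obtain ⟨θ, h1, h2⟩ := H5.exists_irr_under N χ.2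
  exact ⟨⟨θ, h1⟩, over_iff.mpr h2⟩

variable (N : Subgroup G) [hN : N.Normal]

theorem over_one_iff {χ : Irr G} : Over N χ (irrOne N) ↔ ∀ n ∈ N, χ.1 n = χ.1 1 := by
  have := Fintype.ofFinite G
  have := Fintype.ofFinite N
  rw [over_iff]
  exact H5.inner_res_one_ne_zero_iff N χ.2

/-- Conjugation action on the irreducible characters of a normal subgroup. -/
def cjI (g : G) : Irr N ≃ Irr N := irrE (MulAut.conjNormal g)

theorem cjI_val (g : G) (θ : Irr N) : (cjI N g θ).1 = H5.cj N g θ.1 := rfl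

theorem cjI_apply (g : G) (θ : Irr N) (n : N) :
    (cjI N g θ).1 n = θ.1 ⟨g * n * g⁻¹, hN.conj_mem n n.2 g⟩ := rfl

theorem cjI_cjI (g h : G) (θ : Irr N) : cjI N g (cjI N h θ) = cjI N (h * g) θ :=
  Subtype.ext (H5.cj_cj N g h θ.1)

theorem cjI_one (θ : Irr N) : cjI N 1 θ = θ := Subtype.ext (H5.cj_one N θ.1)

theorem cjI_of_mem {g : G} (hg : g ∈ N) (θ : Irr N) : cjI N g θ = θ :=
  Subtype.ext (H5.cj_of_mem N θ.2.classFun hg)

theorem cjI_of_centralizer {g : G} (hg : g ∈ centralizer (N : Set G)) (θ : Irr N) :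
    cjI N g θ = θ := Subtype.ext (funext fun n => by
  rw [cjI_apply]
  exact congrArg θ.1 (Subtype.ext (mul_inv_eq_iff_eq_mul.mpr (hg n n.2).symm)))

variable {N}

theorem Over.cjI {χ : Irr G} {θ : Irr N} (h : Over N χ θ) (g : G) : Over N χ (cjI N g θ) := by
  have := Fintype.ofFinite N
  rw [over_iff] at h ⊢
  rwa [cjI_val, H5.classInner_res_cj N χ.2.classFun]

theorem Over.exists_cjI {χ : Irr G} {θ θ' : Irr N} (h : Over N χ θ) (h' : Over N χ θ') :
    ∃ g, H17.cjI N g θ = θ' := by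
  have := Fintype.ofFinite G
  have := Fintype.ofFinite N
  obtain ⟨g, hg⟩ := H5.exists_cj_eq_of_inner_ne_zero N χ.2 θ.2 θ'.2 (over_iff.mp h) (over_iff.mp h')
  exact ⟨g, Subtype.ext hg⟩

theorem res_apply_cjI (z : Irr G → ℂ) (g : G) (θ : Irr N) :
    res N.subtype z (cjI N g θ) = res N.subtype z θ := by
  rw [← res_equiv (MulAut.conjNormal g) (res N.subtype z) θ]
  refine congrFun (ext_co fun n => ?_) _
  rw [co_res, co_res, co_res]
  exact (co_conj z n g).symm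

theorem co_conj_of_inv {w : Irr N → ℂ} {g : G} (hw : ∀ θ, w (cjI N g θ) = w θ) (n : N) :
    co w ⟨g * n * g⁻¹, hN.conj_mem n n.2 g⟩ = co w n := by
  have : res ((MulAut.conjNormal g : N ≃* N) : N →* N) w = w := by
    ext θ
    obtain ⟨θ, rfl⟩ := (cjI N g).surjective θ
    rw [hw]
    exact res_equiv _ w θ
  conv_rhs => rw [← this, co_res]
  rfl

theorem Over.cut_eq {χ : Irr G} {θ : Irr N} (h : Over N χ θ) (z : Irr G → ℂ) :
    cut N z χ = res N.subtype z θ := by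
  classical
  have := Fintype.ofFinite G
  have := Fintype.ofFinite N
  have h1 := H5.clifford_avg N χ.2 θ.2 (over_iff.mp h)
  have hT := card_ne_zero (H5.inertia N θ.1)
  generalize classInner (fun n : N => χ.1 n) θ.1 = e at h1
  have h2 : ∀ n : N, χ.1 n = e / Nat.card (H5.inertia N θ.1) *
      ∑ g : G, (H17.cjI N g θ).1 n := fun n => by
    have := congrFun h1 n
    simp only [Pi.smul_apply, smul_eq_mul, Finset.sum_apply] at this
    rw [div_mul_eq_mul_div, eq_div_iff hT, mul_comm, this]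
    rfl
  have h3 : cut N z χ * χ.1 1 = ∑ n : N, co z n * χ.1 n := by
    rw [← sum_co, ← Finset.sum_subtype (Finset.univ.filter (· ∈ N)) (by simp)
      (fun g => co z g * χ.1 g), Finset.sum_filter]
    refine Finset.sum_congr rfl fun g _ => ?_
    rw [co_cut]
    split_ifs <;> simp
  have h4 : ∀ g, ∑ n : N, co z n * (H17.cjI N g θ).1 n =
      res N.subtype z θ * (H17.cjI N g θ).1 1 := fun g => by
    rw [← res_apply_cjI z g θ, ← sum_co]
    simp only [co_res, subtype_apply]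
  refine mul_right_cancel₀ χ.2.apply_one_ne_zero ?_
  rw [h3]
  simp only [h2, mul_left_comm (co z _), Finset.mul_sum]
  rw [Finset.sum_comm]
  simp only [← Finset.mul_sum, h4]
  have := h2 1
  rw [OneMemClass.coe_one] at this
  rw [this]
  ring

variable (N) in
/-- A `G`-invariant central element of `N` as a central element of `G`. -/
noncomputable def up (w : Irr N → ℂ) : Irr G → ℂ := hat (extendByZero N (co w))

theorem co_up {w : Irr N → ℂ} (hw : ∀ g θ, w (cjI N g θ) = w θ) :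
    co (up N w) = extendByZero N (co w) := by
  refine co_hat fun a b => ?_
  by_cases ha : a ∈ N
  · rw [extendByZero_of_mem _ _ ha, extendByZero_of_mem _ _ (hN.conj_mem a ha b)]
    exact co_conj_of_inv (hw b) ⟨a, ha⟩
  · rw [extendByZero_of_not_mem _ _ ha,
      extendByZero_of_not_mem _ _ (fun h => ha (conj_mem_iff_of_normal.mp h))]

theorem res_up {w : Irr N → ℂ} (hw : ∀ g θ, w (cjI N g θ) = w θ) : res N.subtype (up N w) = w :=
  ext_co fun n => by rw [co_res, co_up hw, subtype_apply, extendByZero_coe]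

theorem cut_up {w : Irr N → ℂ} (hw : ∀ g θ, w (cjI N g θ) = w θ) : cut N (up N w) = up N w :=
  ext_co fun g => by
    by_cases hg : g ∈ N
    · rw [co_cut_of_mem _ _ hg]
    · rw [co_cut_of_notMem _ _ hg, co_up hw, extendByZero_of_not_mem _ _ hg]

theorem up_mem_ZR {w : Irr N → ℂ} (hw : ∀ g θ, w (cjI N g θ) = w θ) {R : Subring ℂ}
    (h : w ∈ ZR N R) : up N w ∈ ZR G R := fun g => by
  rw [co_up hw]
  by_cases hg : g ∈ N
  · rw [extendByZero_of_mem _ _ hg]; exact h _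
  · rw [extendByZero_of_not_mem _ _ hg]; exact zero_mem _

theorem Over.up_eq {χ : Irr G} {θ : Irr N} (h : Over N χ θ) {w : Irr N → ℂ}
    (hw : ∀ g θ, w (H17.cjI N g θ) = w θ) : up N w χ = w θ := by
  rw [← cut_up hw, h.cut_eq, res_up hw]

theorem cut_eq_self {z : Irr G → ℂ} (h : ∀ g, g ∉ N → co z g = 0) : cut N z = z :=
  ext_co fun g => by
    by_cases hg : g ∈ N
    · rw [co_cut_of_mem _ _ hg]
    · rw [co_cut_of_notMem _ _ hg, h g hg]

theorem res_cut (z : Irr G → ℂ) : res N.subtype (cut N z) = res N.subtype z :=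
  ext_co fun n => by rw [co_res, co_res, subtype_apply, co_cut_of_mem _ _ n.2]

theorem cut_cls_of_mem {g : G} (hg : g ∈ N) : cut N (cls g) = cls g := by
  classical
  refine cut_eq_self fun x hx => ?_
  rw [co_cls, if_neg]
  intro h
  obtain ⟨t, rfl⟩ := isConj_iff.mp h
  exact hx (hN.conj_mem g hg t)

theorem cut_cls_of_notMem {g : G} (hg : g ∉ N) : cut N (cls g) = 0 := by
  classical
  refine ext_co fun x => ?_
  rw [co_cut, co_cls, map_zero, Pi.zero_apply]
  split_ifs with h1 h2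
  · obtain ⟨t, rfl⟩ := isConj_iff.mp h2
    exact absurd (conj_mem_iff_of_normal.mp h1) hg
  · rfl
  · rfl

theorem cut_sub_res_mem (I : AddSubgroup ℂ) {χ : Irr G} {θ : Irr N} (z : Irr G → ℂ)
    (h : ∀ n : N, co z n * (cls (n : G) χ - res N.subtype (cls (n : G)) θ) ∈ I) :
    cut N z χ - res N.subtype z θ ∈ I :=
  linear_mem (LinearMap.proj (R := ℂ) (φ := fun _ : Irr G => ℂ) χ ∘ₗ cut N -
      LinearMap.proj (R := ℂ) (φ := fun _ : Irr N => ℂ) θ ∘ₗ res N.subtype) I z fun g => by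
    change _ * (cut N (cls g) χ - res N.subtype (cls g) θ) ∈ _
    by_cases hg : g ∈ N
    · rw [cut_cls_of_mem hg]; exact h ⟨g, hg⟩
    · rw [← res_cut, cut_cls_of_notMem hg, map_zero]; simp

theorem ind_inv {A : Set (Irr N)} (hA : ∀ g, ∀ θ ∈ A, cjI N g θ ∈ A) (g : G) (θ : Irr N) :
    ind A (cjI N g θ) = ind A θ := by
  classical
  rw [ind_apply, ind_apply]
  refine if_congr ⟨fun h => ?_, hA g θ⟩ rfl rfl
  have := hA g⁻¹ _ h
  rwa [cjI_cjI, mul_inv_cancel, cjI_one] at this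

theorem over_of_cls {χ : Irr G} {θ : Irr N}
    (h : ∀ n : N, cls (n : G) χ = res N.subtype (cls (n : G)) θ) : Over N χ θ := by
  obtain ⟨θ', h'⟩ := exists_under N χ
  have hA : ∀ g, ∀ η ∈ Set.range (fun g => cjI N g θ'), cjI N g η ∈ Set.range
      (fun g => cjI N g θ') := by
    rintro g _ ⟨k, rfl⟩
    exact ⟨k * g, (cjI_cjI N g k θ').symm⟩
  have h1 := cut_sub_res_mem (χ := χ) (θ := θ) ⊥ (up N (ind (Set.range fun g => cjI N g θ')))
    fun n => by rw [h, sub_self, mul_zero]; exact zero_mem _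
  rw [AddSubgroup.mem_bot, sub_eq_zero, cut_up (ind_inv hA), res_up (ind_inv hA),
    h'.up_eq (ind_inv hA), ind_of_mem (A := Set.range fun g => cjI N g θ') ⟨1, cjI_one N θ'⟩] at h1
  by_contra hc
  rw [ind_of_notMem] at h1
  · exact one_ne_zero h1
  · rintro ⟨g, rfl⟩
    exact hc (h'.cjI g)

end Over

section Cov

variable {G : Type*} [Group G] [Finite G] {N : Subgroup G} [hN : N.Normal] {M : Ideal AlgInt}
  [M.IsMaximal]

variable (M N) in
/-- The block of `χ` covers the block of `θ`. -/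
def Cov (χ : Irr G) (θ : Irr N) : Prop := ∀ z ∈ ZS G M, cut N z χ - res N.subtype z θ ∈ Pm M

variable (M) in
theorem Over.cov {χ : Irr G} {θ : Irr N} (h : Over N χ θ) : Cov N M χ θ := fun z _ => by
  rw [h.cut_eq, sub_self]; exact zero_mem _

theorem Cov.congr {χ χ' : Irr G} {θ θ' : Irr N} (h : Cov N M χ θ) (h1 : SB M χ χ')
    (h2 : SB M θ θ') : Cov N M χ' θ' := fun z hz =>
  sub_mem_Pm_trans (sub_mem_Pm_trans (h1.symm.sub_mem (cut_mem_ZR N hz)) (h z hz))
    (h2.sub_mem (res_mem_ZR _ hz))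

theorem cov_iff_cls {χ : Irr G} {θ : Irr N} :
    Cov N M χ θ ↔ ∀ n : N, cls (n : G) χ - res N.subtype (cls (n : G)) θ ∈ Pm M :=
  ⟨fun h n => by simpa only [cut_cls_of_mem n.2] using h _ (cls_mem_ZR _ (n : G)),
    fun h z hz => cut_sub_res_mem _ z fun n => Pm_mul_left (hz _) (h n)⟩

theorem SB.cjI {θ θ' : Irr N} (h : SB M θ θ') (g : G) : SB M (cjI N g θ) (cjI N g θ') :=
  (SB_irrE _).mpr h

theorem Cov.cjI {χ : Irr G} {θ : Irr N} (h : Cov N M χ θ) (g : G) : Cov N M χ (cjI N g θ) :=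
  fun z hz => by rw [res_apply_cjI]; exact h z hz

theorem Cov.up_sub_mem {χ : Irr G} {θ : Irr N} (h : Cov N M χ θ) {w : Irr N → ℂ}
    (hw : ∀ g θ, w (H17.cjI N g θ) = w θ) (hS : w ∈ ZS N M) : up N w χ - w θ ∈ Pm M := by
  have := h _ (up_mem_ZR hw hS)
  rwa [cut_up hw, res_up hw] at this

theorem Cov.exists_cjI {χ : Irr G} {θ θ' : Irr N} (h : Cov N M χ θ) (h' : Cov N M χ θ') :
    ∃ g, SB M (H17.cjI N g θ) θ' := by
  let A : Set (Irr N) := {η | ∃ g, SB M (H17.cjI N g θ) η}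
  have hA : ∀ g, ∀ η ∈ A, H17.cjI N g η ∈ A := by
    rintro g η ⟨k, hk⟩
    exact ⟨k * g, cjI_cjI N g k θ ▸ hk.cjI g⟩
  have hS : ind A ∈ ZS N M := ind_mem_ZS_of_closed fun η ⟨g, hg⟩ ψ h => ⟨g, hg.trans h⟩
  have h1 := h.up_sub_mem (ind_inv hA) hS
  have h2 := h'.up_sub_mem (ind_inv hA) hS
  change θ' ∈ A
  rw [mem_iff_ind_notMem (M := M), ← mem_Pm_congr h2, mem_Pm_congr h1, ← mem_iff_ind_notMem]
  exact ⟨1, by rw [cjI_one]; exact SB.refl _⟩

theorem Cov.exists_over {χ : Irr G} {θ : Irr N} (h : Cov N M χ θ) :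
    ∃ θ', SB M θ θ' ∧ Over N χ θ' := by
  obtain ⟨η, h'⟩ := exists_under N χ
  obtain ⟨g, hg⟩ := (h'.cov M).exists_cjI h
  exact ⟨_, hg.symm, h'.cjI g⟩

theorem cov_of_exists {χ χ' : Irr G} {θ θ' : Irr N} (h1 : SB M χ χ') (h2 : SB M θ θ')
    (h : Over N χ' θ') : Cov N M χ θ := (h.cov M).congr h1.symm h2.symm

theorem exists_over_iff_cov [Fintype N] {χ : Irr G} {θ : Irr N} :
    (∃ χ' ∈ blockOf M χ.1, ∃ θ' ∈ blockOf M θ.1,
      classInner (fun n : N => χ'.1 n) θ'.1 ≠ 0) ↔ Cov N M χ θ :=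
  ⟨fun ⟨_, h1, _, h2, h3⟩ => cov_of_exists h1 h2 (over_iff.mpr h3), fun h =>
    let ⟨θ', h1, h2⟩ := h.exists_over; ⟨χ, self_mem_blockOf χ, θ', h1, over_iff.mp h2⟩⟩

theorem IndRel.cov {χ : Irr G} {θ : Irr N} (h : IndRel M N.subtype θ χ) : Cov N M χ θ :=
  fun z hz => by
    rw [← res_cut]
    exact sub_mem_Pm_symm (h _ (cut_mem_ZR N hz))

theorem IndRel.over {H : Subgroup G} {ξ : Irr H} {χ : Irr G} (h : IndRel M H.subtype ξ χ) :
    ∃ ψ, SB M χ ψ ∧ Over H ψ ξ := by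
  have := Fintype.ofFinite H
  obtain ⟨ψ, h1, h2⟩ := h.exists_over
  exact ⟨ψ, h1, over_iff.mpr h2⟩

end Cov

section CovP

variable {G : Type*} [Group G] [Finite G] {N : Subgroup G} [hN : N.Normal] {p : ℕ}
  [hp : Fact p.Prime] {M : Ideal AlgInt} [PM p M]

theorem Cov.indRel {Q : Subgroup G} [Q.Normal] (hQ : IsPGroup p Q)
    (hC : centralizer (Q : Set G) ≤ N) {χ : Irr G} {θ : Irr N} (h : Cov N M χ θ) :
    IndRel M N.subtype θ χ := fun z hz =>
  sub_mem_Pm_trans (sub_mem_Pm_symm (h z hz)) (cut_sub_mem hQ hC hz χ)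

omit [PM p M] in
theorem mem_of_reg_of_index {k : ℕ} (hk : N.index = p ^ k) {g : G} (hg : ¬ p ∣ orderOf g) :
    g ∈ N := by
  have h1 : PElt p (QuotientGroup.mk' N g) :=
    PElt.iff_pow.mpr ⟨k, by rw [← hk]; exact pow_card_eq_one'⟩
  exact (QuotientGroup.eq_one_iff g).mp (eq_one_of_PElt_of_reg h1 (reg_map hg (QuotientGroup.mk' N)))

omit [PM p M] in
theorem mem_of_pElt_of_index (hk : ¬ p ∣ N.index) {g : G} (hg : PElt p g) : g ∈ N :=
  (QuotientGroup.eq_one_iff g).mp (eq_one_of_PElt_of_reg (hg.map (QuotientGroup.mk' N))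
    fun h => hk (h.trans (orderOf_dvd_natCard _)))

theorem Cov.unique (hreg : ∀ g : G, ¬ p ∣ orderOf g → g ∈ N) {χ χ' : Irr G} {θ : Irr N}
    (h : Cov N M χ θ) (h' : Cov N M χ' θ) : SB M χ χ' := by
  have h1 : cut N (fb M χ) = fb M χ := cut_eq_self fun g hg => by
    by_contra h0
    exact hg (hreg g (reg_of_co_ind_ne_zero (fb_mem_ZS (M := M) χ) h0))
  have h2 := h _ (fb_mem_ZS χ)
  have h3 := h' _ (fb_mem_ZS χ)
  rw [h1] at h2 h3
  rw [SB_iff_fb, mem_Pm_congr h3, ← mem_Pm_congr h2, fb_self]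
  exact one_notMem_Pm

omit hN in
theorem SB.eq_of_not_dvd {H : Type*} [Group H] [Finite H] (hH : ¬ p ∣ Nat.card H) {θ θ' : Irr H}
    (h : SB M θ θ') : θ = θ' := by
  have h1 : θ' ∈ blockOf M θ.1 := h
  rw [blockOf_eq_singleton (by rw [Nat.factorization_eq_zero_of_not_dvd hH]; exact Nat.zero_le _)]
    at h1
  exact h1.symm

theorem Cov.over_of_not_dvd (hN' : ¬ p ∣ Nat.card N) {χ : Irr G} {θ : Irr N} (h : Cov N M χ θ) :
    Over N χ θ := by
  obtain ⟨θ', h1, h2⟩ := h.exists_over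
  rwa [h1.eq_of_not_dvd hN']

theorem SB.over (hN' : ¬ p ∣ Nat.card N) {χ ψ : Irr G} (h : SB M χ ψ) {θ : Irr N}
    (h1 : Over N χ θ) : Over N ψ θ :=
  ((h1.cov M).congr h (SB.refl _)).over_of_not_dvd hN'

theorem SB.ker (hN' : ¬ p ∣ Nat.card N) {χ ψ : Irr G} (h : SB M χ ψ)
    (h1 : ∀ n ∈ N, χ.1 n = χ.1 1) : ∀ n ∈ N, ψ.1 n = ψ.1 1 :=
  (over_one_iff N).mp (h.over hN' ((over_one_iff N).mpr h1))

theorem SB.pPrimeCore_ker {χ : Irr G} (h : SB M (irrOne G) χ) :
    ∀ n ∈ pPrimeCore p G, χ.1 n = χ.1 1 :=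
  h.ker (H2.not_dvd_card_pPrimeCore p G) fun _ _ => rfl

theorem SB.pPrimeCore_mul {χ : Irr G} (h : SB M (irrOne G) χ) {n : G} (hn : n ∈ pPrimeCore p G)
    (g : G) : χ.1 (g * n) = χ.1 g :=
  H5.mul_mem_charKer_right χ.2.classFun
    ((H5.mem_charKer_iff χ.2.isCharacter).mpr (h.pPrimeCore_ker n hn)) g

theorem sb_of_ker (hreg : ∀ g : G, ¬ p ∣ orderOf g → g ∈ N) {χ : Irr G}
    (h : ∀ n ∈ N, χ.1 n = χ.1 1) : SB M (irrOne G) χ :=
  Cov.unique hreg (((over_one_iff N).mpr fun _ _ => rfl).cov M) (((over_one_iff N).mpr h).cov M)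

theorem sb_one_iff_ker (hN' : ¬ p ∣ Nat.card N) (hreg : ∀ g : G, ¬ p ∣ orderOf g → g ∈ N)
    {χ : Irr G} : SB M (irrOne G) χ ↔ ∀ n ∈ N, χ.1 n = χ.1 1 :=
  ⟨fun h => h.ker hN' fun _ _ => rfl, sb_of_ker hreg⟩

omit hN in
theorem SB_infl_iff_of_not_dvd {K : Type*} [Group K] [Finite K] (π : G →* K)
    (hπ : Function.Surjective π) (h : ¬ p ∣ Nat.card π.ker) {χ ψ : Irr K} :
    SB M (infl π hπ χ) (infl π hπ ψ) ↔ SB M χ ψ := by
  refine ⟨fun h1 => h1.of_infl π hπ (z := (Nat.card π.ker : ℂ)⁻¹ • res π (fb M χ))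
    (smul_mem_ZS (inv_natCast_mem_S h) (res_mem_ZR π (fb_mem_ZS χ))) ?_, fun h1 => h1.infl π hπ⟩
  rw [map_smul, push_res, smul_smul, inv_mul_cancel₀ (card_ne_zero _), one_smul]

omit hN [PM p M] in
theorem co_push_of_reg {K : Type*} [Group K] [Finite K] (π : G →* K) (hπ : Function.Surjective π)
    (hP : IsPGroup p π.ker) (hreg : ∀ g : G, ¬ p ∣ orderOf g → g ∈ centralizer (π.ker : Set G))
    {z : Irr G → ℂ} (hz : ∀ g, p ∣ orderOf g → co z g = 0) {y : G} (hy : ¬ p ∣ orderOf y) :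
    co (push π hπ z) (π y) = co z y := by
  classical
  have := Fintype.ofFinite G
  rw [co_push, Finset.sum_eq_single y, if_pos rfl]
  · intro g _ hg
    split_ifs with h
    · refine hz g ?_
      by_contra h1
      have h2 : g * y⁻¹ ∈ π.ker := by rw [MonoidHom.mem_ker, map_mul, h, map_inv, mul_inv_cancel]
      have h3 := pr_mul (PElt.of_mem hP h2) hy (hreg y hy _ h2)
      rw [inv_mul_cancel_right, pr_of_reg h1] at h3
      exact hg h3
    · rfl
  · simp

omit hN [PM p M] in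
theorem co_push_of_sing {K : Type*} [Group K] [Finite K] (π : G →* K) (hπ : Function.Surjective π)
    {z : Irr G → ℂ} (hz : ∀ g, p ∣ orderOf g → co z g = 0) {k : K} (hk : p ∣ orderOf k) :
    co (push π hπ z) k = 0 := by
  classical
  have := Fintype.ofFinite G
  rw [co_push]
  refine Finset.sum_eq_zero fun g _ => ?_
  split_ifs with h
  · exact hz g (by_contra fun h1 => reg_map h1 π (h ▸ hk))
  · rfl

omit hN [PM p M] in
theorem exists_reg_lift {K : Type*} [Group K] [Finite K] (π : G →* K) (hπ : Function.Surjective π)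
    {k : K} (hk : ¬ p ∣ orderOf k) : ∃ y, ¬ p ∣ orderOf y ∧ π y = k := by
  obtain ⟨g, rfl⟩ := hπ k
  exact ⟨pr p g, reg_pr g, by rw [← pr_map, pr_of_reg hk]⟩

omit hN in
theorem SB_infl_iff_of_pgroup {K : Type*} [Group K] [Finite K] (π : G →* K)
    (hπ : Function.Surjective π) (hP : IsPGroup p π.ker)
    (hreg : ∀ g : G, ¬ p ∣ orderOf g → g ∈ centralizer (π.ker : Set G)) {χ ψ : Irr K} :
    SB M (infl π hπ χ) (infl π hπ ψ) ↔ SB M χ ψ := by
  have hc : IsClassFunction G (regPart p fun g => co (fb M χ) (π g)) :=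
    regPart_classFun ((co_classFun _).comp π)
  have h0 : ∀ g, p ∣ orderOf g → co (hat (regPart p fun g => co (fb M χ) (π g))) g = 0 :=
    fun g hg => by rw [co_hat hc, regPart_of_sing _ hg]
  refine ⟨fun h1 => h1.of_infl π hπ (z := hat (regPart p fun g => co (fb M χ) (π g)))
    (hat_mem_ZR hc fun g => ?_) (ext_co fun k => ?_), fun h1 => h1.infl π hπ⟩
  · rw [regPart]
    split_ifs
    · exact zero_mem _
    · exact fb_mem_ZS χ _
  · by_cases hk : p ∣ orderOf k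
    · rw [co_push_of_sing π hπ h0 hk, co_ind_eq_zero (fb_mem_ZS (M := M) χ) hk]
    · obtain ⟨y, hy, rfl⟩ := exists_reg_lift π hπ hk
      rw [co_push_of_reg π hπ hP hreg h0 hy, co_hat hc, regPart_of_reg _ hy]

omit hN in
theorem eq_one_of_forall_ker {χ : Irr G} {x : G} (hx : PElt p x)
    (h : ∀ ψ, SB M χ ψ → ψ.1 x = ψ.1 1) : x = 1 := by
  by_contra h1
  have h2 := co_ind_eq_zero (fb_mem_ZS (M := M) χ) (hx.dvd_orderOf h1)
  refine co_ind_one_ne_zero ⟨χ, self_mem_blockOf (M := M) χ⟩ (Eq.trans ?_ h2)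
  rw [co_apply, co_apply]
  congr 1
  refine Finset.sum_congr rfl fun ψ _ => ?_
  by_cases h3 : SB M χ ψ
  · rw [h ψ h3]
  · rw [ind_of_notMem (A := blockOf M χ.1) h3]; simp

end CovP

end H17
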