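import Mathlib
import Cfsg.Agent.H17.Cover
import Cfsg.Agent.H4.Misc
import Cfsg.Agent.H4.Galois

/-!
# Sections, principal blocks, integrality of section indicator functions
-/

set_option autoImplicit false
set_option linter.unusedSectionVars false

open Cfsg H4 Subgroup
open scoped ComplexConjugate

namespace H17

section Sect

variable {G : Type*} [Group G] [Finite G] {p : ℕ} [hp : Fact p.Prime] {M : Ideal AlgInt} [PM p M]

omit [PM p M] in
theorem isConj_centralizer_iff {z : G} {a b : centralizer ({z} : Set G)} (ha : pp p (a : G) = z)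
    (hb : pp p (b : G) = z) : IsConj (a : G) b ↔ IsConj a b := by
  refine ⟨fun h => ?_, fun h => (centralizer ({z} : Set G)).subtype.map_isConj h⟩
  obtain ⟨t, ht⟩ := isConj_iff.mp h
  have h1 := congrArg (pp p) ht
  rw [pp_conj, ha, hb] at h1
  exact isConj_iff.mpr ⟨⟨t, mem_centralizer_singleton.mpr (mul_inv_eq_iff_eq_mul.mp h1)⟩,
    Subtype.ext ht⟩

omit [PM p M] in
theorem centralizer_le_pp (g : G) : centralizer ({g} : Set G) ≤ centralizer {pp p g} :=
  fun _ h => mem_centralizer_singleton.mpr (commute_pp (mem_centralizer_singleton.mp h))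

omit [PM p M] in
theorem card_centralizer_coe {z : G} {a : centralizer ({z} : Set G)} (ha : pp p (a : G) = z) :
    Nat.card (centralizer ({a} : Set (centralizer ({z} : Set G)))) =
      Nat.card (centralizer ({(a : G)} : Set G)) := by
  rw [← card_map_of_injective (centralizer ({z} : Set G)).subtype_injective,
    map_centralizer_singleton (subtype_injective _), range_subtype, subtype_apply,
    inf_eq_left.mpr ((centralizer_le_pp (p := p) (a : G)).trans (by rw [ha]))]

omit [PM p M] in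
theorem pp_eq_of_isConj {z : G} {a b : centralizer ({z} : Set G)} (ha : pp p (a : G) = z)
    (h : IsConj (pp p a) (pp p b)) : pp p (b : G) = z := by
  obtain ⟨t, ht⟩ := isConj_iff.mp h
  have h1 := congrArg Subtype.val ht
  rw [pp_coe, ← h1, coe_mul, coe_mul, ← pp_coe, ha, coe_inv,
    (mem_centralizer_singleton.mp t.2).eq, mul_inv_cancel_right]

theorem section_sum {z : G} {a b : centralizer ({z} : Set G)} (ha : pp p (a : G) = z)
    (hb : pp p (b : G) = z) {B : Set (Irr G)} (hB : ind B ∈ ZS G M) :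
    ∑ ζ : Irr G, ind B ζ * (ζ.1 a * conj (ζ.1 b)) =
      ∑ ξ, ind (indSet M (centralizer ({z} : Set G)).subtype B) ξ * (ξ.1 a * conj (ξ.1 b)) := by
  classical
  have h1 := second_main_centralizer ha hB (cind_classFun (b : G))
  rw [blockPart_congr (ind_mem_ZS_of_closed (indSet_closed _ B)) (ϑ' := cind b) fun k hk => by
    rw [cind_apply, cind_apply,
      if_congr (isConj_centralizer_iff hb (pp_eq_of_isConj ha hk)) rfl rfl],
    blockPart_cind, blockPart_cind, card_centralizer_coe hb] at h1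
  exact mul_left_cancel₀ (inv_ne_zero (card_ne_zero _)) h1

omit hp [PM p M] in
theorem central_mul_conj {x : G} (hx : ∀ g, Commute x g) (ψ : Irr G) (a b : G) :
    ψ.1 (x * a) * conj (ψ.1 (x * b)) = ψ.1 a * conj (ψ.1 b) := by
  have h1 : cls x ψ * conj (cls x ψ) = 1 := by
    rw [Complex.mul_conj, Complex.normSq_eq_norm_sq, norm_cls_central hx]; simp
  rw [central_mul hx, central_mul hx, map_mul]
  linear_combination (ψ.1 a * conj (ψ.1 b)) * h1

theorem principal_sum {z : G} (hz : PElt p z) {y y' : centralizer ({z} : Set G)}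
    (hy : ¬ p ∣ orderOf y) (hy' : ¬ p ∣ orderOf y') :
    ∑ ζ : Irr G, ind (principalBlock M G) ζ * (ζ.1 (z * y) * conj (ζ.1 (z * y'))) =
      ∑ ξ, ind (principalBlock M (centralizer ({z} : Set G))) ξ * (ξ.1 y * conj (ξ.1 y')) := by
  have h1 := section_sum (M := M) (a := selfC z * y) (b := selfC z * y') (B := principalBlock M G)
    (pp_mul hz (by rwa [Subgroup.orderOf_coe]) (mem_centralizer_singleton.mp y.2).symm)
    (pp_mul hz (by rwa [Subgroup.orderOf_coe]) (mem_centralizer_singleton.mp y'.2).symm)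
    (fb_mem_ZS (irrOne G))
  rw [indSet_principal (subtype_injective _) (exists_indRel_centralizer M hz)] at h1
  refine h1.trans (Finset.sum_congr rfl fun ξ _ => ?_)
  rw [central_mul_conj (commute_self_centralizer z)]

omit hp [PM p M] in
theorem sum_ind_ker (N : Subgroup G) [N.Normal] (F : Irr G → ℂ) :
    ∑ χ, ind {χ : Irr G | ∀ n ∈ N, χ.1 n = χ.1 1} χ * F χ =
      ∑ ψ : Irr (G ⧸ N), F (infl _ (QuotientGroup.mk'_surjective N) ψ) := by
  classical
  symm
  refine Finset.sum_of_injOn (infl _ (QuotientGroup.mk'_surjective N))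
    (infl_injective _ _).injOn (by simp) (fun χ _ hχ => ?_) fun ψ _ => ?_
  · rw [ind_of_notMem, zero_mul]
    intro h
    obtain ⟨ψ, rfl⟩ := exists_infl _ (QuotientGroup.mk'_surjective N) (χ := χ)
      (by rwa [QuotientGroup.ker_mk'])
    exact hχ ⟨ψ, by simp, rfl⟩
  · rw [ind_of_mem, one_mul]
    intro n hn
    rw [infl_apply, infl_apply, map_one, QuotientGroup.mk'_apply, (QuotientGroup.eq_one_iff n).mpr hn]

theorem principalBlock_of_npc {N : Subgroup G} [N.Normal] (hN : ¬ p ∣ Nat.card N)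
    (hreg : ∀ g : G, ¬ p ∣ orderOf g → g ∈ N) :
    principalBlock M G = {χ : Irr G | ∀ n ∈ N, χ.1 n = χ.1 1} :=
  Set.ext fun _ => sb_one_iff_ker hN hreg

theorem principal_sum_npc {N : Subgroup G} [N.Normal] (hN : ¬ p ∣ Nat.card N)
    (hreg : ∀ g : G, ¬ p ∣ orderOf g → g ∈ N) {y y' : G} (hy : y ∈ N) (hy' : y' ∈ N) :
    ∑ ξ, ind (principalBlock M G) ξ * (ξ.1 y * conj (ξ.1 y')) = N.index := by
  rw [principalBlock_of_npc hN hreg, sum_ind_ker, index_eq_card, ← sum_degree_sq]
  refine Finset.sum_congr rfl fun ψ _ => ?_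
  rw [infl_apply, infl_apply, QuotientGroup.mk'_apply, QuotientGroup.mk'_apply,
    (QuotientGroup.eq_one_iff y).mpr hy, (QuotientGroup.eq_one_iff y').mpr hy',
    conj_apply_one ψ.2.isCharacter, sq]

omit hp [PM p M] in
theorem finsum_norm_sq (B : Set (Irr G)) (g : G) :
    ((∑ᶠ ζ ∈ B, ‖ζ.1 g‖ ^ 2 : ℝ) : ℂ) = ∑ ζ : Irr G, ind B ζ * (ζ.1 g * conj (ζ.1 g)) := by
  rw [← finsum_mem_eq_sum_ind, finsum_mem_eq_finite_toFinset_sum _ (Set.toFinite _),
    finsum_mem_eq_finite_toFinset_sum _ (Set.toFinite _)]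
  push_cast
  exact Finset.sum_congr rfl fun ζ _ => by
    rw [Complex.mul_conj, Complex.normSq_eq_norm_sq]; push_cast; rfl

omit [PM p M] in
theorem index_eq_pow_fact {N : Subgroup G} (hN : ¬ p ∣ Nat.card N) {k : ℕ} (hk : N.index = p ^ k) :
    N.index = p ^ (Nat.card G).factorization p := by
  rw [← fact_card_add_index (p := p) N, Nat.factorization_eq_zero_of_not_dvd hN, hk,
    hp.out.factorization_pow]
  simp

theorem SB.ne_zero_of_index {χ : Irr G} (h : SB M (irrOne G) χ) {z : G}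
    (hz : ¬ p ∣ (centralizer ({z} : Set G)).index) : cls z χ ∉ Pm M := by
  rw [← h.mem_iff (cls_mem_ZR _ z), cls_apply, centralChar]
  simpa [natCast_mem_Pm] using hz

omit [PM p M] in
theorem not_dvd_index_of_sylow_le (P : Sylow p G) {K : Subgroup G} (h : (P : Subgroup G) ≤ K) :
    ¬ p ∣ K.index := fun h1 => P.not_dvd_index (h1.trans (index_dvd_of_le h))

theorem SB.eq_one_of_pow_deg [IsSimpleGroup G] (hna : ∃ a b : G, a * b ≠ b * a) {χ : Irr G}
    (h : SB M (irrOne G) χ) {k : ℕ} (hdeg : χ.1 1 = (p : ℂ) ^ k) : χ = irrOne G := by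
  by_contra h1
  have h1' : χ.1 ≠ fun _ => 1 := fun h => h1 (Subtype.ext h)
  obtain ⟨P⟩ := (inferInstance : Nonempty (Sylow p G))
  by_cases hP : (P : Subgroup G) = ⊥
  · refine h1 (h.eq_of_not_dvd ?_).symm
    have := P.not_dvd_index
    rwa [hP, index_bot] at this
  obtain ⟨z, hz, hz1, hzc⟩ := exists_center_ne_one P.isPGroup' hP
  have h2 := not_dvd_index_of_sylow_le P (le_centralizer_singleton_iff.mpr hzc)
  have h3 := h.ne_zero_of_index h2
  rcases χ.2.eq_zero_or_norm_eq_of_coprime z (d := p ^ k) (by rw [hdeg]; push_cast; rfl)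
    (Nat.Coprime.pow_left _ (hp.out.coprime_iff_not_dvd.mpr h2)) with h4 | h4
  · exact h3 (by rw [cls_eq_div, h4, mul_zero]; exact zero_mem _)
  · have h5 := (H5.mem_charCenter_iff χ.2.isCharacter).mpr h4
    have h6 : z ∈ center G := mem_center_iff.mpr fun g => by
      have := χ.2.eq_one_of_apply_eq_of_simple h1' (H5.apply_of_mem_charKer
        (H5.commutator_mem_charKer χ.2.classFun h5 g))
      rw [mul_inv_eq_one, mul_inv_eq_iff_eq_mul] at this
      exact this.symm
    rcases (inferInstance : (center G).Normal).eq_bot_or_eq_top with h7 | h7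
    · exact hz1 (by rwa [h7] at h6)
    · obtain ⟨a, b, hab⟩ := hna
      exact hab (mem_center_iff.mp (h7 ▸ mem_top b) a)

end Sect

section CharRing

variable {G : Type*} [Group G] [Fintype G]

variable (G) in
/-- Class functions whose coefficients lie in `R`. -/
def CR (R : Subring ℂ) : Subring (G → ℂ) where
  carrier := {f | IsClassFunction G f ∧ ∀ χ : Irr G, classInner f χ.1 ∈ R}
  mul_mem' {f f'} hf hf' := ⟨hf.1.mul hf'.1, fun ψ => by
    rw [hf.1.eq_sum, hf'.1.eq_sum, Finset.sum_mul_sum, classInner_sum_left]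
    refine sum_mem fun χ _ => ?_
    rw [classInner_sum_left]
    refine sum_mem fun χ' _ => ?_
    rw [smul_mul_smul_comm, classInner_smul_left]
    obtain ⟨n, hn⟩ := (χ.2.isCharacter.mul χ'.2.isCharacter).inner_nat ψ.2.isCharacter
    rw [hn]
    exact mul_mem (mul_mem (hf.2 χ) (hf'.2 χ')) (natCast_mem _ n)⟩
  one_mem' := ⟨isClassFunction_const 1, fun ψ => by
    obtain ⟨n, hn⟩ := isCharacter_one.inner_nat ψ.2.isCharacter
    exact hn ▸ natCast_mem _ n⟩
  add_mem' {f f'} hf hf' := ⟨hf.1.add hf'.1, fun ψ => by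
    rw [classInner_add_left]; exact add_mem (hf.2 ψ) (hf'.2 ψ)⟩
  zero_mem' := ⟨isClassFunction_zero, fun ψ => by rw [classInner_zero_left]; exact zero_mem _⟩
  neg_mem' {f} hf := ⟨hf.1.neg, fun ψ => by rw [classInner_neg_left]; exact neg_mem (hf.2 ψ)⟩

theorem smul_mem_CR {R : Subring ℂ} {a : ℂ} (ha : a ∈ R) {f : G → ℂ} (hf : f ∈ CR G R) :
    a • f ∈ CR G R := ⟨hf.1.smul a, fun ψ => by
  rw [classInner_smul_left]; exact mul_mem ha (hf.2 ψ)⟩

theorem const_mem_CR {R : Subring ℂ} {a : ℂ} (ha : a ∈ R) : (fun _ => a) ∈ CR G R := by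
  have := smul_mem_CR ha (CR G R).one_mem
  convert this using 1
  ext; simp

theorem gen_mem_CR (R : Subring ℂ) {θ : G → ℂ} (hθ : IsGeneralizedCharacter G θ) : θ ∈ CR G R :=
  ⟨hθ.classFun, fun ψ => by
    obtain ⟨n, hn⟩ := hθ.inner_int ψ.2.isGen
    exact hn ▸ intCast_mem _ n⟩

theorem comb_mem_CR {R : Subring ℂ} {s : Irr G → ℂ} (hs : ∀ χ, s χ ∈ R) :
    (∑ χ, s χ • χ.1) ∈ CR G R := sum_mem fun χ _ => smul_mem_CR (hs χ) (gen_mem_CR R χ.2.isGen)

theorem inner_mem_of_CR {R : Subring ℂ} {f : G → ℂ} (hf : f ∈ CR G R) {θ : G → ℂ}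
    (hθ : IsGeneralizedCharacter G θ) : classInner f θ ∈ R := by
  obtain ⟨n, rfl⟩ := hθ.exists_eq_sum_int
  rw [classInner_sum_right]
  refine sum_mem fun ψ _ => ?_
  rw [classInner_smul_right, map_intCast]
  exact mul_mem (intCast_mem _ _) (hf.2 ψ)

variable {M : Ideal AlgInt}

theorem apply_mem_of_CR [M.IsMaximal] {f : G → ℂ} (hf : f ∈ CR G (S M)) (g : G) : f g ∈ S M := by
  rw [hf.1.apply_eq_sum]
  exact sum_mem fun χ _ => mul_mem (hf.2 χ) (irr_mem_S χ g)

theorem inv_mem_CR [M.IsMaximal] {f : G → ℂ} (hf : f ∈ CR G (S M)) (h : ∀ g, f g ∉ Pm M) :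
    f⁻¹ ∈ CR G (S M) := by
  classical
  have h1 : ∀ s : Finset G, ∃ w ∈ CR G (S M),
      ∏ g ∈ s, (f - fun _ => f g) = f * w + fun _ => ∏ g ∈ s, (-f g) := by
    intro s
    induction s using Finset.induction_on with
    | empty => exact ⟨0, zero_mem _, by ext; simp⟩
    | insert a s ha ih =>
      obtain ⟨w, hw, h⟩ := ih
      refine ⟨f * w + (fun _ => ∏ g ∈ s, (-f g)) - (fun _ => f a) * w, sub_mem (add_mem
        (mul_mem hf hw) (const_mem_CR (prod_mem fun g _ => neg_mem (apply_mem_of_CR hf g))))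
        (mul_mem (const_mem_CR (apply_mem_of_CR hf a)) hw), ?_⟩
      rw [Finset.prod_insert ha, h]
      ext x
      simp only [Finset.prod_insert ha, Pi.mul_apply, Pi.add_apply, Pi.sub_apply]
      ring
  obtain ⟨w, hw, h2⟩ := h1 Finset.univ
  have hS : ∏ g, (-f g) ∈ S M := prod_mem fun g _ => neg_mem (apply_mem_of_CR hf g)
  have hP : ∏ g, (-f g) ∉ Pm M := prod_notMem_Pm _ _ (fun g _ => neg_mem (apply_mem_of_CR hf g))
    fun g _ h' => h g (by simpa using h')
  have h3 : f⁻¹ = (-(∏ g, (-f g))⁻¹) • w := by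
    ext x
    have h4 := congrFun h2 x
    rw [Finset.prod_apply, Finset.prod_eq_zero (Finset.mem_univ x) (by simp)] at h4
    simp only [Pi.add_apply, Pi.mul_apply] at h4
    have h5 := ne_zero_of_notMem_Pm (h x)
    have h6 := ne_zero_of_notMem_Pm hP
    simp only [Pi.inv_apply, Pi.smul_apply, smul_eq_mul]
    field_simp
    linear_combination -h4
  rw [h3]
  exact smul_mem_CR (neg_mem (inv_mem_S hS hP)) hw

variable {p : ℕ} [hp : Fact p.Prime] [PM p M]

theorem sub_pr_mem_of_CR {f : G → ℂ} (hf : f ∈ CR G (S M)) (g : G) :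
    f g - f (pr p g) ∈ Pm M := by
  rw [hf.1.apply_eq_sum, hf.1.apply_eq_sum (pr p g), ← Finset.sum_sub_distrib]
  refine sum_mem fun χ _ => ?_
  rw [← mul_sub]
  exact Pm_mul_left (hf.2 χ) (char_sub_pr_mem χ.2.isCharacter g)

theorem exists_CR_approx {c : G → ℂ} (hc : IsClassFunction G c)
    (hS : ∀ y, ¬ p ∣ orderOf y → c y ∈ S M) :
    ∃ Θ ∈ CR G (S M), ∀ g, Θ g - c (pr p g) ∈ Pm M := by
  obtain ⟨s, h1, h2⟩ := exists_comb (p := p) (M := M) hc hS
  refine ⟨_, comb_mem_CR h1, fun g => ?_⟩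
  have := sub_pr_mem_of_CR (p := p) (comb_mem_CR h1) g
  rwa [Finset.sum_apply (pr p g), show ∑ χ : Irr G, (s χ • χ.1) (pr p g) = c (pr p g) from
    h2 _ (reg_pr g)] at this

theorem exists_CR_vanish (A : G → Prop) (hA : ∀ a b, IsConj a b → A a → A b) :
    ∃ w ∈ CR G (S M), (∀ g, ¬ A (pr p g) → w g = 0) ∧ ∀ g, A (pr p g) → w g ∉ Pm M := by
  classical
  obtain ⟨Θ, h1, h2⟩ := exists_CR_approx (p := p) (M := M) (c := fun g => if A g then 1 else 0)
    (isClassFunction_of_isConj fun a b hab =>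
      if_congr ⟨hA a b hab, hA b a hab.symm⟩ rfl rfl) fun y _ => by
      split_ifs
      · exact one_mem _
      · exact zero_mem _
  refine ⟨∏ h ∈ Finset.univ.filter (fun h => ¬ A (pr p h)), (Θ - fun _ => Θ h),
    prod_mem fun h _ => sub_mem h1 (const_mem_CR (apply_mem_of_CR h1 h)), fun g hg => ?_,
    fun g hg => ?_⟩
  · rw [Finset.prod_apply]
    exact Finset.prod_eq_zero (i := g) (by simpa using hg) (by simp)
  · rw [Finset.prod_apply]
    refine prod_notMem_Pm _ _ (fun h _ => sub_mem (apply_mem_of_CR h1 g) (apply_mem_of_CR h1 h))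
      fun h hh h3 => ?_
    have h4 := h2 g
    have h5 := h2 h
    rw [if_pos hg] at h4
    rw [if_neg (by simpa using hh), sub_zero] at h5
    exact one_notMem_Pm (mem_Pm_of_sub (sub_mem_Pm_symm h4) (mem_Pm_of_sub h3 h5))

/-- Indicator functions of unions of `p`-regular sections are integral combinations. -/
theorem indicator_mem_CR (A : G → Prop) [DecidablePred A] (hA : ∀ a b, IsConj a b → A a → A b) :
    (fun g => if A (pr p g) then (1 : ℂ) else 0) ∈ CR G (S M) := by
  obtain ⟨w, h1, h2, h3⟩ := exists_CR_vanish (p := p) (M := M) A hA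
  obtain ⟨w', h4, h5, h6⟩ := exists_CR_vanish (p := p) (M := M) (fun g => ¬ A g)
    fun a b hab ha hb => ha (hA b a hab.symm hb)
  have h7 : ∀ g, (w + w') g ∉ Pm M := fun g => by
    by_cases hg : A (pr p g)
    · rw [Pi.add_apply, h5 g (not_not.mpr hg), add_zero]; exact h3 g hg
    · rw [Pi.add_apply, h2 g hg, zero_add]; exact h6 g hg
  convert mul_mem h1 (inv_mem_CR (add_mem h1 h4) h7) using 1
  ext g
  rw [Pi.mul_apply, Pi.inv_apply]
  split_ifs with hg
  · rw [Pi.add_apply, h5 g (not_not.mpr hg), add_zero,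
      mul_inv_cancel₀ (ne_zero_of_notMem_Pm (h3 g hg))]
  · rw [h2 g hg, zero_mul]

/-- A class function with values in `S` which is constant on `p`-regular sections is an
`S`-combination of irreducible characters. -/
theorem mem_CR_of_pr {f : G → ℂ} (hf : IsClassFunction G f) (hS : ∀ g, f g ∈ S M)
    (h : ∀ g, f (pr p g) = f g) : f ∈ CR G (S M) := by
  classical
  have h1 : f = ∑ c ∈ Finset.univ.image f, c • fun g => if f (pr p g) = c then (1 : ℂ) else 0 := by
    ext g
    simp [Finset.sum_apply, h]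
  rw [h1]
  refine sum_mem fun c hc => smul_mem_CR ?_ (indicator_mem_CR (fun g => f g = c) fun a b hab ha => ?_)
  · obtain ⟨g, -, rfl⟩ := Finset.mem_image.mp hc
    exact hS g
  · rwa [← hf.apply_of_isConj hab]

end CharRing

section Int

theorem exists_int_of_forall_S {x : ℂ} (hx : ∃ q : ℚ, x = q)
    (h : ∀ p : ℕ, p.Prime → ∃ M, ∃ _ : PM p M, x ∈ S M) : ∃ n : ℤ, x = n := by
  obtain ⟨q, rfl⟩ := hx
  by_cases h0 : q = 0
  · exact ⟨0, by simp [h0]⟩
  refine ⟨q.num, ?_⟩
  have h1 : q.den = 1 := by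
    by_contra h1
    obtain ⟨p, hp, h2⟩ := Nat.exists_prime_and_dvd h1
    obtain ⟨M, hM, h3⟩ := h p hp
    have h4 : (q.num : ℂ) ∈ Pm M := by
      have : (q.num : ℂ) = q.den * q := by
        have := Rat.den_mul_eq_num q
        exact_mod_cast this.symm
      rw [this]
      exact natCast_mul_mem_Pm h2 h3
    rw [intCast_mem_Pm, Int.natCast_dvd] at h4
    exact hp.one_lt.ne' (Nat.eq_one_of_dvd_coprimes q.reduced h4 h2)
  exact_mod_cast ((Rat.den_eq_one_iff q).mp h1).symm

variable {G : Type*} [Group G] [Fintype G]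

theorem exists_int_sum {θ : G → ℂ} (hθ : IsGeneralizedCharacter G θ) (A : G → Prop)
    [DecidablePred A] (hA : ∀ g (m : ℕ), m.Coprime (Nat.card G) → (A (g ^ m) ↔ A g)) :
    ∃ n : ℤ, ∑ g, (if A g then θ g else 0) = n := by
  refine exists_int_of_forall_ringEquiv (IsIntegral.sum _ fun g _ => ?_) fun u => ?_
  · split_ifs
    · exact hθ.isIntegral g
    · exact isIntegral_zero
  · obtain ⟨m, hm, hu⟩ := exists_pow_of_ringHom (u : ℂ →+* ℂ) (n := Nat.card G) Nat.card_pos.ne'
    rw [map_sum]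
    refine Fintype.sum_equiv (powCoprime hm.symm) _ _ fun g => ?_
    rw [powCoprime_apply, if_congr (hA g m hm) rfl rfl]
    split_ifs
    · exact hθ.map_apply_eq_pow (u : ℂ →+* ℂ) hu pow_card_eq_one'
    · exact map_zero u

omit [Fintype G] in
theorem orderOf_pow_of_coprime [Finite G] (g : G) {m : ℕ} (hm : m.Coprime (Nat.card G)) :
    orderOf (g ^ m) = orderOf g :=
  Nat.Coprime.orderOf_pow (Nat.Coprime.coprime_dvd_left (orderOf_dvd_natCard g) hm.symm)

variable {p : ℕ} [hp : Fact p.Prime]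

theorem exists_int_inner_regPart {θ η : G → ℂ} (hθ : IsGeneralizedCharacter G θ)
    (hη : IsGeneralizedCharacter G η) :
    ∃ n : ℤ, Nat.card G * classInner (regPart p θ) η = n := by
  classical
  obtain ⟨n, hn⟩ := exists_int_sum (hθ.mul hη.conj) (fun g => ¬ p ∣ orderOf g)
    fun g m hm => by rw [orderOf_pow_of_coprime g hm]
  refine ⟨n, ?_⟩
  rw [← hn, card_mul_classInner]
  refine Finset.sum_congr rfl fun g _ => ?_
  by_cases h : p ∣ orderOf g <;> simp [regPart, h]

omit [Fintype G] in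
theorem reg_pr_iff [Finite G] {q : ℕ} [hq : Fact q.Prime] (hpq : p ≠ q) (g : G) :
    p ∣ orderOf (pr q g) ↔ p ∣ orderOf g := by
  refine ⟨fun h => h.trans (orderOf_dvd_of_mem_zpowers (pr_mem_zpowers g)), fun h => ?_⟩
  by_contra h1
  obtain ⟨k, hk⟩ := pElt_pp (p := q) g
  refine reg_mul (p := p) ?_ h1 (commute_pp_pr (p := q) g) (by rwa [pp_mul_pr])
  rw [hk]
  exact fun h2 => hpq ((Nat.prime_dvd_prime_iff_eq hp.out hq.out).mp (hp.out.dvd_of_dvd_pow h2))

theorem regPart_mem_CR {q : ℕ} [hq : Fact q.Prime] (hpq : p ≠ q) {M : Ideal AlgInt} [PM q M]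
    {θ : G → ℂ} (hθ : θ ∈ CR G (S M)) : regPart p θ ∈ CR G (S M) := by
  classical
  convert mul_mem hθ (indicator_mem_CR (p := q) (M := M) (fun g => ¬ p ∣ orderOf g)
    fun a b hab => by rw [orderOf_eq_of_isConj hab]; exact id) using 1
  ext g
  by_cases h : p ∣ orderOf g <;> simp [regPart, h, reg_pr_iff hpq]

/-- Integrality of multiples of `⟨θ°, η⟩`. -/
theorem exists_int_mul_inner_regPart {θ η : G → ℂ} (hθ : IsGeneralizedCharacter G θ)
    (hη : IsGeneralizedCharacter G η) (m : ℕ) {M : Ideal AlgInt} [PM p M]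
    (hm : m * classInner (regPart p θ) η ∈ S M) :
    ∃ n : ℤ, m * classInner (regPart p θ) η = n := by
  refine exists_int_of_forall_S ?_ fun q hq => ?_
  · obtain ⟨n, hn⟩ := exists_int_inner_regPart (p := p) hθ hη
    refine ⟨m * n / Nat.card G, ?_⟩
    push_cast
    rw [← hn]
    have := card_ne_zero G
    field_simp
  · by_cases hpq : p = q
    · subst hpq; exact ⟨M, inferInstance, hm⟩
    · have : Fact q.Prime := ⟨hq⟩
      obtain ⟨M', hM'⟩ := exists_PM q
      exact ⟨M', hM', mul_mem (natCast_mem _ m)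
        (inner_mem_of_CR (regPart_mem_CR hpq (gen_mem_CR _ hθ)) hη)⟩

theorem isGen_regPart {θ : G → ℂ} (hθ : IsGeneralizedCharacter G θ) :
    IsGeneralizedCharacter G
      (((p ^ (Nat.card G).factorization p : ℕ) : ℂ) • regPart p θ) := by
  obtain ⟨M, hM⟩ := exists_PM p
  refine ((regPart_classFun hθ.classFun).smul _).isGen_of_inner_int fun χ hχ => ?_
  rw [classInner_smul_left]
  refine exists_int_mul_inner_regPart hθ hχ.isGen _ (M := M) ?_
  obtain ⟨n, hn⟩ := exists_int_inner_regPart (p := p) hθ hχ.isGen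
  have h1 : ((p ^ (Nat.card G).factorization p : ℕ) : ℂ) * classInner (regPart p θ) χ =
      ((p ^ (Nat.card G).factorization p : ℕ) : ℂ) / Nat.card G * n := by
    rw [← hn]
    have := card_ne_zero G
    field_simp
  rw [h1]
  refine mul_mem (div_mem_S_of_le Nat.card_pos.ne' ?_) (intCast_mem _ n)
  rw [hp.out.factorization_pow]; simp

/-- Sums over elements whose `p`-part lies in `P`, when all `p`-regular elements centralize
`P`. -/
theorem sum_pp_mem {A : Type*} [AddCommMonoid A] {P : Subgroup G} [Fintype P] (hP : IsPGroup p P)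
    (hreg : ∀ g : G, ¬ p ∣ orderOf g → g ∈ centralizer (P : Set G)) (F : G → A)
    [DecidablePred (· ∈ P)] :
    ∑ g, (if pp p g ∈ P then F g else 0) =
      ∑ u : P, ∑ y : G, if p ∣ orderOf y then 0 else F (u * y) := by
  classical
  rw [← Fintype.sum_prod_type', ← Finset.sum_filter]
  simp only [← ite_not (p ∣ _)]
  rw [← Finset.sum_filter]
  symm
  refine Finset.sum_bij (fun x _ => (x.1 : G) * x.2) (fun x hx => ?_) (fun x hx x' hx' h => ?_)
    (fun g hg => ?_) fun _ _ => rfl
  · simp only [Finset.mem_filter, Finset.mem_univ, true_and] at hx ⊢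
    rw [pp_mul (PElt.of_mem hP x.1.2) hx (hreg _ hx _ x.1.2)]
    exact x.1.2
  · simp only [Finset.mem_filter, Finset.mem_univ, true_and] at hx hx'
    have h1 := congrArg (pp p) h
    have h2 := congrArg (pr p) h
    rw [pp_mul (PElt.of_mem hP x.1.2) hx (hreg _ hx _ x.1.2),
      pp_mul (PElt.of_mem hP x'.1.2) hx' (hreg _ hx' _ x'.1.2)] at h1
    rw [pr_mul (PElt.of_mem hP x.1.2) hx (hreg _ hx _ x.1.2),
      pr_mul (PElt.of_mem hP x'.1.2) hx' (hreg _ hx' _ x'.1.2)] at h2
    exact Prod.ext (Subtype.ext h1) h2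
  · simp only [Finset.mem_filter, Finset.mem_univ, true_and] at hg ⊢
    exact ⟨(⟨_, hg⟩, pr p g), reg_pr g, pp_mul_pr g⟩

/-- Laradji's theorem. -/
theorem laradji {M : Ideal AlgInt} [PM p M] {D : Subgroup G} (hD : IsPGroup p D)
    (hDZ : D ≤ center G) {χ : Irr G} (hdeg : (deg χ).factorization p = D.index.factorization p) :
    DG p M χ D ∧ ∀ g, pp p g ∉ D → χ.1 g = 0 := by
  classical
  have := Fintype.ofFinite D
  have hG := card_ne_zero G
  have hd : (deg χ : ℂ) ≠ 0 := Nat.cast_ne_zero.mpr (deg_ne_zero χ)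
  have hi : (D.index : ℂ) ≠ 0 := Nat.cast_ne_zero.mpr index_ne_zero_of_finite
  have h1 : Nat.card D * classInner (regPart p χ.1) χ.1 = (deg χ : ℂ) / D.index * zr p χ.1 χ := by
    rw [zr_apply, ← deg_eq, card_eq_card_mul_index D]
    field_simp
  obtain ⟨n, hn⟩ := exists_int_mul_inner_regPart χ.2.isGen χ.2.isGen (Nat.card D) (M := M) (by
    rw [h1]
    exact mul_mem (div_mem_S_of_le index_ne_zero_of_finite hdeg.ge) (apply_mem_S (zr_mem_ZS χ) χ))
  have h2 : ∑ g, (if pp p g ∈ D then ‖χ.1 g‖ ^ 2 else 0) = (Nat.card G : ℝ) * n := by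
    have h3 := sum_pp_mem hD (fun g _ d hd => (mem_center_iff.mp (hDZ hd) g).symm)
      (fun g => χ.1 g * conj (χ.1 g))
    have h4 : ∀ u : D, (∑ y : G, if p ∣ orderOf y then 0 else χ.1 (u * y) * conj (χ.1 (u * y))) =
        Nat.card G * classInner (regPart p χ.1) χ.1 := fun u => by
      rw [card_mul_classInner]
      refine Finset.sum_congr rfl fun y _ => ?_
      rw [central_mul_conj fun g => (mem_center_iff.mp (hDZ u.2) g).symm, regPart]
      split_ifs <;> simp
    simp only [h4, Finset.sum_const, nsmul_eq_mul, Finset.card_univ, ← Nat.card_eq_fintype_card]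
      at h3
    rw [mul_left_comm, hn] at h3
    apply Complex.ofReal_injective
    push_cast
    rw [← h3]
    refine Finset.sum_congr rfl fun g _ => ?_
    split_ifs
    · rw [Complex.mul_conj, Complex.normSq_eq_norm_sq]
    · simp
  have h3 : ∑ g, ‖χ.1 g‖ ^ 2 = (Nat.card G : ℝ) := by
    have := classInner_self_re χ.1
    rw [χ.2.inner_self, Complex.one_re] at this
    have h : (Nat.card G : ℝ) ≠ 0 := Nat.cast_ne_zero.mpr Nat.card_pos.ne'
    field_simp at this
    exact this.symm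
  have hle : ∀ g ∈ Finset.univ, (if pp p g ∈ D then ‖χ.1 g‖ ^ 2 else 0) ≤ ‖χ.1 g‖ ^ 2 :=
    fun g _ => by split_ifs <;> simp
  have hpos : (0 : ℝ) < Nat.card G := Nat.cast_pos.mpr Nat.card_pos
  have h4 : n = 1 := by
    have h5 := Finset.sum_le_sum hle
    rw [h2, h3] at h5
    have h6 : (0 : ℝ) < Nat.card G * n := by
      rw [← h2]
      refine Finset.sum_pos' (fun g _ => by split_ifs <;> simp) ⟨1, Finset.mem_univ _, ?_⟩
      rw [if_pos (pp_mem D.one_mem)]
      exact pow_pos (norm_pos_iff.mpr χ.2.apply_one_ne_zero) 2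
    have h7 : (n : ℝ) ≤ 1 := by nlinarith
    have h8 : (0 : ℝ) < n := by nlinarith
    have h9 : n ≤ 1 := by exact_mod_cast h7
    have h10 : 0 < n := by exact_mod_cast h8
    omega
  constructor
  · have h5 : zr p χ.1 χ ∉ Pm M := fun h => one_notMem_Pm (M := M) (by
      rw [h1, h4, Int.cast_one] at hn
      rw [← hn]
      exact Pm_mul_left (div_mem_S_of_le index_ne_zero_of_finite hdeg.ge) h)
    obtain ⟨E, hE⟩ := exists_DG p M χ
    have : D.Normal := ⟨fun n hn g => by
      rwa [mem_center_iff.mp (hDZ hn) g, mul_inv_cancel_right]⟩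
    have h6 := hE.hz_iff.mp (zr_notMem_iff.mp h5).2
    have h7 := fact_card_add_index (p := p) D
    have h8 := fact_card_add_index (p := p) E
    rwa [eq_of_le_of_card_ge (hE.normal_le hD) (by
      rw [hE.card_eq_pow, hE.blockDefect_eq,
        show (Nat.card E).factorization p = (Nat.card D).factorization p by omega]
      exact Nat.le_of_dvd Nat.card_pos (Nat.ordProj_dvd _ _))]
  · intro g hg
    rw [h4, Int.cast_one, mul_one, ← h3] at h2
    have := (Finset.sum_eq_sum_iff_of_le hle).mp h2 g (Finset.mem_univ _)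
    rw [if_neg hg] at this
    simpa using this.symm

end Int

end H17
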