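import Mathlib
import Cfsg.Agent.H17.Princ
import Cfsg.Agent.H22.OddAut
import Cfsg.Agent.H22.MC
import Cfsg.Agent.H22.Isolated
import Cfsg.Agent.H3.Frobenius
import Cfsg.Agent.H6.SmallSylow

/-!
# Abelian Sylow `2`-subgroups of rank two, quaternion Sylow `2`-subgroups of order `8`
-/

set_option autoImplicit false
set_option linter.unusedSectionVars false

open Cfsg H4 Subgroup

namespace H17

variable {G : Type*} [Group G]

theorem orderOf_eq_two_iff' {x : G} : orderOf x = 2 ↔ x * x = 1 ∧ x ≠ 1 :=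
  ⟨fun h => ⟨H22.mul_self_of_orderOf_two h, H22.ne_one_of_orderOf_two h⟩,
    fun h => H22.orderOf_eq_two_of_mul_self h.1 h.2⟩

theorem PElt.of_two {x : G} (h : orderOf x = 2) : PElt 2 x := ⟨1, by simpa using h⟩

theorem PElt.exists_involution {x : G} (hx : PElt 2 x) (h1 : x ≠ 1) :
    ∃ k : ℕ, orderOf (x ^ k) = 2 := by
  obtain ⟨k, hk⟩ := hx
  cases k with
  | zero => exact absurd (orderOf_eq_one_iff.mp hk) h1
  | succ k =>
    refine ⟨2 ^ k, ?_⟩
    rw [orderOf_pow' _ (by positivity), hk, Nat.gcd_eq_right (pow_dvd_pow 2 k.le_succ), pow_succ,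
      Nat.mul_div_cancel_left _ (by positivity)]

theorem oddAut_of_mem_normalizer [Finite G] (P : Sylow 2 G)
    (hc : ∀ a ∈ (P : Subgroup G), ∀ b ∈ (P : Subgroup G), a * b = b * a) {n : G}
    (hn : n ∈ normalizer ((P : Subgroup G) : Set G)) :
    H22.OddAut (P : Subgroup G) fun x => n * x * n⁻¹ := by
  refine ⟨fun x hx => (mem_normalizer_iff.mp hn x).mp hx, fun x _ y _ => by group, ?_⟩
  obtain ⟨m, hm, hmP⟩ := H6.pow_mem_sylow_of_mem_normalizer P hn
  refine ⟨m, Nat.odd_iff.mpr (by omega), fun x hx => ?_⟩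
  have : ∀ k : ℕ, (fun x => n * x * n⁻¹)^[k] x = n ^ k * x * (n ^ k)⁻¹ := fun k => by
    induction k with
    | zero => simp
    | succ k ih => rw [Function.iterate_succ_apply', ih, pow_succ']; group
  rw [this, hc _ hmP _ hx, mul_inv_cancel_right]

/-- An abelian group with exactly three involutions. -/
structure R2 (P : Subgroup G) : Prop where
  comm : ∀ a ∈ P, ∀ b ∈ P, a * b = b * a
  card : {x | x ∈ P ∧ orderOf x = 2}.ncard = 3

namespace R2

theorem cover {P : Subgroup G} (h : R2 P) {x y z w : G} (hx : x ∈ P ∧ orderOf x = 2)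
    (hy : y ∈ P ∧ orderOf y = 2) (hz : z ∈ P ∧ orderOf z = 2) (hw : w ∈ P ∧ orderOf w = 2)
    (hxy : x ≠ y) (hxz : x ≠ z) (hyz : y ≠ z) : w = x ∨ w = y ∨ w = z := by
  obtain ⟨a, b, c, -, -, -, h1⟩ := Set.ncard_eq_three.mp h.card
  have key : ∀ x, x ∈ P ∧ orderOf x = 2 → x = a ∨ x = b ∨ x = c := fun x hx => by
    have : x ∈ ({a, b, c} : Set G) := h1 ▸ hx
    simpa using this
  rcases key x hx with rfl | rfl | rfl <;> rcases key y hy with rfl | rfl | rfl <;>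
    rcases key z hz with rfl | rfl | rfl <;> rcases key w hw with rfl | rfl | rfl <;> simp_all

theorem exists_inv {P : Subgroup G} (h : R2 P) : ∃ t ∈ P, orderOf t = 2 := by
  obtain ⟨a, ha⟩ := Set.nonempty_of_ncard_ne_zero (s := {x | x ∈ P ∧ orderOf x = 2})
    (by rw [h.card]; norm_num)
  exact ⟨a, ha⟩

theorem fix {P : Subgroup G} (h : R2 P) (hP : IsPGroup 2 P) {φ : G → G} (hφ : H22.OddAut P φ)
    {z : G} (hz : z ∈ P) (hz1 : z ≠ 1) (hfix : φ z = z) : ∀ x ∈ P, φ x = x := by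
  obtain ⟨k, hk⟩ := (PElt.of_mem hP hz).exists_involution hz1
  have ha : z ^ k ∈ P := P.pow_mem hz k
  have hφa : φ (z ^ k) = z ^ k := by rw [hφ.pow hz, hfix]
  have hinv : ∀ b ∈ P, b * b = 1 → φ b = b := fun b hb hb2 => by
    by_cases hb1 : b = 1
    · rw [hb1, hφ.one]
    have hb3 := H22.orderOf_eq_two_of_mul_self hb2 hb1
    by_contra hne
    have hba : z ^ k ≠ b := fun e => hne (e ▸ hφa)
    have h1 : φ b ∈ P ∧ orderOf (φ b) = 2 := ⟨hφ.mem _ hb, by rw [hφ.orderOf_eq hb, hb3]⟩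
    have h2 : φ (φ b) ∈ P ∧ orderOf (φ (φ b)) = 2 :=
      ⟨hφ.mem _ h1.1, by rw [hφ.orderOf_eq h1.1, h1.2]⟩
    have h3 : z ^ k ≠ φ b := fun e => hba (hφ.injOn ha hb (hφa.trans e))
    rcases h.cover ⟨ha, hk⟩ ⟨hb, hb3⟩ h1 h2 hba h3 (Ne.symm hne) with e | e | e
    · exact h3 (hφ.injOn ha h1.1 (hφa.trans e.symm))
    · exact hne (hφ.fix_of_sq hb e)
    · exact hne (hφ.injOn h1.1 hb e)
  have key : ∀ k : ℕ, ∀ x ∈ P, x ^ 2 ^ k = 1 → φ x = x := fun k => by
    induction k with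
    | zero => intro x _ hx; rw [show x = 1 by simpa using hx, hφ.one]
    | succ k ih =>
      intro x hx hx2
      have h1 : φ (x * x) = x * x := ih _ (P.mul_mem hx hx) (by rw [← sq, ← pow_mul, ← pow_succ', hx2])
      rw [hφ.mul _ hx _ hx] at h1
      have h2 : x⁻¹ * φ x ∈ P := P.mul_mem (P.inv_mem hx) (hφ.mem _ hx)
      have h3 : x⁻¹ * φ x * (x⁻¹ * φ x) = 1 := by
        rw [mul_assoc, ← mul_assoc (φ x), h.comm _ (hφ.mem _ hx) _ (P.inv_mem hx), mul_assoc, h1]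
        group
      exact hφ.fix_of_mul hx h2 (hinv _ h2 h3) (by group) (k := 1) (by simpa [sq] using h3)
  intro x hx
  obtain ⟨k, hk⟩ := PElt.iff_pow.mp (PElt.of_mem hP hx)
  exact key k x hx hk

variable [Finite G] {P : Sylow 2 G}

theorem mem_centralizer (h : R2 (P : Subgroup G)) {n : G}
    (hn : n ∈ normalizer ((P : Subgroup G) : Set G)) {z : G} (hz : z ∈ (P : Subgroup G))
    (hz1 : z ≠ 1) (hfix : n * z * n⁻¹ = z) : n ∈ centralizer ((P : Subgroup G) : Set G) :=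
  H22.mem_centralizer_of_forall_conj_eq
    (h.fix P.isPGroup' (oddAut_of_mem_normalizer P h.comm hn) hz hz1 hfix)

theorem inf_eq (h : R2 (P : Subgroup G)) {z : G} (hz : z ∈ (P : Subgroup G)) (hz1 : z ≠ 1) :
    centralizer ({z} : Set G) ⊓ normalizer ((P : Subgroup G) : Set G) =
      centralizer ((P : Subgroup G) : Set G) := by
  refine le_antisymm (fun n hn => h.mem_centralizer hn.2 hz hz1 ?_)
    (le_inf (centralizer_le (Set.singleton_subset_iff.mpr hz)) (centralizer_le_normalizer _))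
  rw [(mem_centralizer_singleton.mp hn.1).eq, mul_inv_cancel_right]

theorem le_centralizer (h : R2 (P : Subgroup G)) :
    (P : Subgroup G) ≤ centralizer ((P : Subgroup G) : Set G) := fun a ha b hb => h.comm b hb a ha

theorem le_centralizer_singleton (h : R2 (P : Subgroup G)) {z : G} (hz : z ∈ (P : Subgroup G)) :
    (P : Subgroup G) ≤ centralizer ({z} : Set G) :=
  le_centralizer_singleton_iff.mpr (h.le_centralizer hz)

theorem relIndex (h : R2 (P : Subgroup G)) :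
    (centralizer ((P : Subgroup G) : Set G)).relIndex (normalizer ((P : Subgroup G) : Set G)) = 1 ∨
    (centralizer ((P : Subgroup G) : Set G)).relIndex
      (normalizer ((P : Subgroup G) : Set G)) = 3 := by
  classical
  obtain ⟨t, ht, ht2⟩ := h.exists_inv
  have hfin : {x | x ∈ (P : Subgroup G) ∧ orderOf x = 2}.Finite := Set.toFinite _
  have h1 := H22.relIndex_le_of_map (K := centralizer ((P : Subgroup G) : Set G))
    (N := normalizer ((P : Subgroup G) : Set G)) (fun g => g * t * g⁻¹) hfin.toFinset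
    (fun g hg => by
      rw [Set.Finite.mem_toFinset]
      exact ⟨(mem_normalizer_iff.mp hg t).mp ht, by rw [orderOf_conj, ht2]⟩)
    (fun g hg k hk e => h.mem_centralizer (mul_mem (inv_mem hg) hk) ht
      (H22.ne_one_of_orderOf_two ht2) (by
        calc g⁻¹ * k * t * (g⁻¹ * k)⁻¹ = g⁻¹ * (k * t * k⁻¹) * g := by group
          _ = t := by rw [← e]; group))
  rw [← Set.ncard_eq_toFinset_card _ hfin, h.card] at h1
  have h2 : ¬ 2 ∣ (centralizer ((P : Subgroup G) : Set G)).relIndex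
      (normalizer ((P : Subgroup G) : Set G)) := fun h3 =>
    H3.sylow_not_dvd_relIndex_of_le P le_normalizer
      (h3.trans (relIndex_dvd_of_le_left _ h.le_centralizer))
  omega

theorem hasNPC_centralizer (h : R2 (P : Subgroup G)) {z : G} (hz : z ∈ (P : Subgroup G))
    (hz1 : z ≠ 1) : HasNormalPComplement 2 (centralizer ({z} : Set G)) := by
  have hle := h.le_centralizer_singleton hz
  refine H3.hasNPC_of_normalizer_le_centralizer (P.subtype hle) fun n hn => ?_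
  have h1 : (n : G) ∈ normalizer ((P : Subgroup G) : Set G) := by
    have h2 : n ∈ (normalizer ((P : Subgroup G) : Set G)).subgroupOf (centralizer {z}) := by
      rw [subgroupOf_normalizer_eq hle]; exact hn
    exact h2
  have h2 : (n : G) ∈ centralizer ((P : Subgroup G) : Set G) := h.inf_eq hz hz1 ▸ ⟨n.2, h1⟩
  intro x hx
  exact Subtype.ext (h2 x hx)

theorem orbit (h : R2 (P : Subgroup G)) {n : G}
    (hn : n ∈ normalizer ((P : Subgroup G) : Set G))
    (hn' : n ∉ centralizer ((P : Subgroup G) : Set G)) {u : G} (hu : u ∈ (P : Subgroup G))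
    (hu1 : u ≠ 1) : n * u * n⁻¹ ≠ u ∧ n * (n * u * n⁻¹) * n⁻¹ ≠ u ∧
      n * (n * u * n⁻¹) * n⁻¹ ≠ n * u * n⁻¹ := by
  have h1 : n * u * n⁻¹ ≠ u := fun e => hn' (h.mem_centralizer hn hu hu1 e)
  exact ⟨h1, fun e => h1 ((oddAut_of_mem_normalizer P h.comm hn).fix_of_sq hu e),
    fun e => h1 (by simpa using e)⟩

theorem all_conj (h : R2 (P : Subgroup G)) (hn : ¬ normalizer ((P : Subgroup G) : Set G) ≤
    centralizer ((P : Subgroup G) : Set G)) (s t : G) (hs : orderOf s = 2) (ht : orderOf t = 2) :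
    IsConj s t := by
  obtain ⟨n, hn, hn'⟩ := SetLike.not_le_iff_exists.mp hn
  obtain ⟨a, ha⟩ := H3.exists_conj_mem_sylow P (x := s) (k := 1) (by rw [← pow_orderOf_eq_one s, hs]; rfl)
  obtain ⟨b, hb⟩ := H3.exists_conj_mem_sylow P (x := t) (k := 1) (by rw [← pow_orderOf_eq_one t, ht]; rfl)
  have ha2 : orderOf (a * s * a⁻¹) = 2 := by rw [orderOf_conj, hs]
  obtain ⟨h1, h2, h3⟩ := h.orbit hn hn' ha (H22.ne_one_of_orderOf_two ha2)
  have m1 := (mem_normalizer_iff.mp hn _).mp ha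
  have m2 := (mem_normalizer_iff.mp hn _).mp m1
  have c1 : IsConj s (a * s * a⁻¹) := isConj_iff.mpr ⟨a, rfl⟩
  have c2 := c1.trans (isConj_iff.mpr ⟨n, rfl⟩)
  have c3 := c2.trans (isConj_iff.mpr ⟨n, rfl⟩)
  have c4 : IsConj (b * t * b⁻¹) t := (isConj_iff.mpr ⟨b, rfl⟩).symm
  rcases h.cover ⟨ha, ha2⟩ ⟨m1, by rw [orderOf_conj, ha2]⟩
    ⟨m2, by rw [orderOf_conj, orderOf_conj, ha2]⟩ ⟨hb, by rw [orderOf_conj, ht]⟩ h1.symm h2.symm
    h3.symm with e | e | e
  · exact c1.trans (e ▸ c4)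
  · exact c2.trans (e ▸ c4)
  · exact c3.trans (e ▸ c4)

theorem conj_cases (h : R2 (P : Subgroup G)) {n : G}
    (hn : n ∈ normalizer ((P : Subgroup G) : Set G))
    (hn' : n ∉ centralizer ((P : Subgroup G) : Set G)) {u v : G} (hu : u ∈ (P : Subgroup G))
    (hv : v ∈ (P : Subgroup G)) (huv : IsConj u v) :
    v = u ∨ v = n * u * n⁻¹ ∨ v = n * (n * u * n⁻¹) * n⁻¹ := by
  obtain ⟨g, rfl⟩ := isConj_iff.mp huv
  obtain ⟨k, hk, e⟩ := H3.burnside_fusion_elem P (h.le_centralizer hu) (h.le_centralizer hv)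
  rw [← e]
  obtain ⟨t, ht, ht2⟩ := h.exists_inv
  have ht1 := H22.ne_one_of_orderOf_two ht2
  obtain ⟨h1, h2, h3⟩ := h.orbit hn hn' ht ht1
  have m1 := (mem_normalizer_iff.mp hn _).mp ht
  have m2 := (mem_normalizer_iff.mp hn _).mp m1
  have key : ∀ j ∈ normalizer ((P : Subgroup G) : Set G), k * t * k⁻¹ = j * t * j⁻¹ →
      k * u * k⁻¹ = j * u * j⁻¹ := fun j hj e => by
    have := H22.conj_eq_of_mem_centralizer (h.mem_centralizer (mul_mem (inv_mem hj) hk) ht ht1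
      (by calc j⁻¹ * k * t * (j⁻¹ * k)⁻¹ = j⁻¹ * (k * t * k⁻¹) * j := by group
          _ = t := by rw [e]; group)) hu
    calc k * u * k⁻¹ = j * (j⁻¹ * k * u * (j⁻¹ * k)⁻¹) * j⁻¹ := by group
      _ = _ := by rw [this]
  rcases h.cover ⟨ht, ht2⟩ ⟨m1, by rw [orderOf_conj, ht2]⟩
    ⟨m2, by rw [orderOf_conj, orderOf_conj, ht2]⟩
    ⟨(mem_normalizer_iff.mp hk _).mp ht, by rw [orderOf_conj, ht2]⟩ h1.symm h2.symm
    h3.symm with e | e | e
  · exact Or.inl (by simpa using key 1 (one_mem _) (by simpa using e))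
  · exact Or.inr (Or.inl (key n hn e))
  · refine Or.inr (Or.inr ((key (n * n) (mul_mem hn hn) (by rw [e]; group)).trans (by group)))

end R2

theorem ncard_inv_of_equiv {P : Subgroup G} {K : Type*} [Group K] (e : P ≃* K) :
    {x | x ∈ P ∧ orderOf x = 2}.ncard = {x : K | orderOf x = 2}.ncard := by
  have : {x | x ∈ P ∧ orderOf x = 2} =
      (fun k => ((e.symm k : P) : G)) '' {x : K | orderOf x = 2} := by
    ext x
    constructor
    · rintro ⟨h1, h2⟩
      exact ⟨e ⟨x, h1⟩, by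
        rw [Set.mem_ofPred_eq, e.orderOf_eq, ← Subgroup.orderOf_coe]; exact h2, by simp⟩
    · rintro ⟨k, hk, rfl⟩
      exact ⟨(e.symm k).2, by rw [Subgroup.orderOf_coe, e.symm.orderOf_eq]; exact hk⟩
  rw [this]
  exact Set.ncard_image_of_injective _ (Subtype.val_injective.comp e.symm.injective)

theorem r2_of_equiv {P : Subgroup G} {m : ℕ} (hm : 1 ≤ m)
    (e : P ≃* Multiplicative (ZMod (2 ^ m) × ZMod (2 ^ m))) : R2 P := by
  refine ⟨fun a ha b hb => ?_, ?_⟩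
  · have : (⟨a, ha⟩ * ⟨b, hb⟩ : P) = ⟨b, hb⟩ * ⟨a, ha⟩ := e.injective (by
      rw [map_mul, map_mul, mul_comm])
    exact congrArg Subtype.val this
  · rw [ncard_inv_of_equiv e, Set.ncard_eq_three]
    have h0 := H22.hh_ne_zero hm
    refine ⟨.ofAdd (H22.hh m, 0), .ofAdd (0, H22.hh m), .ofAdd (H22.hh m, H22.hh m),
      by simp [h0], by simp [h0.symm], by simp [h0.symm], ?_⟩
    ext x
    rw [Set.mem_ofPred_eq, orderOf_eq_two_iff']
    obtain ⟨a, b⟩ := x
    change ((a + a, b + b) = (0, 0) ∧ ¬ (a, b) = (0, 0)) ↔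
      ((a, b) = (H22.hh m, 0) ∨ (a, b) = (0, H22.hh m) ∨ (a, b) = (H22.hh m, H22.hh m))
    simp only [Prod.mk.injEq, H22.add_self_eq_zero_iff hm]
    constructor
    · tauto
    · rintro (⟨rfl, rfl⟩ | ⟨rfl, rfl⟩ | ⟨rfl, rfl⟩) <;> simp [h0]

theorem r2_of_klein [Finite G] {P : Subgroup G} (hP : IsKleinFour P) : R2 P := by
  refine ⟨fun a ha b hb => H22.kleinFour_comm hP ha hb, ?_⟩
  have : {x | x ∈ P ∧ orderOf x = 2} = (P : Set G) \ {1} := by
    ext x
    simp only [Set.mem_ofPred_eq, Set.mem_sdiff, SetLike.mem_coe, Set.mem_singleton_iff,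
      orderOf_eq_two_iff']
    exact ⟨fun h => ⟨h.1, h.2.2⟩, fun h => ⟨h.1, H22.kleinFour_mul_self hP h.1, h.2⟩⟩
  rw [this, Set.ncard_sdiff_singleton_of_mem P.one_mem, ← Nat.card_coe_set_eq]
  have := hP.card_four
  change Nat.card P - 1 = 3
  omega

section Q8

variable {S : Type*} [Group S]

theorem q8_pow (e : S ≃* QuaternionGroup 2) (a : S) : a * a * (a * a) = 1 := by
  have : ∀ a : QuaternionGroup 2, a * a * (a * a) = 1 := by decide
  simpa only [← map_mul, EmbeddingLike.map_eq_one_iff] using this (e a)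

theorem q8_cover (e : S ≃* QuaternionGroup 2) (a b c d : S) : a * a ≠ 1 → b * b ≠ 1 → c * c ≠ 1 →
    d * d ≠ 1 → b ≠ a → b ≠ a⁻¹ → c ≠ a → c ≠ a⁻¹ → c ≠ b → c ≠ b⁻¹ →
    d = a ∨ d = a⁻¹ ∨ d = b ∨ d = b⁻¹ ∨ d = c ∨ d = c⁻¹ := by
  have : ∀ a b c d : QuaternionGroup 2, a * a ≠ 1 → b * b ≠ 1 → c * c ≠ 1 →
    d * d ≠ 1 → b ≠ a → b ≠ a⁻¹ → c ≠ a → c ≠ a⁻¹ → c ≠ b → c ≠ b⁻¹ →
    d = a ∨ d = a⁻¹ ∨ d = b ∨ d = b⁻¹ ∨ d = c ∨ d = c⁻¹ := by
    set_option synthInstance.maxSize 1024 in decide +kernel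
  simpa only [← map_mul, ← map_inv, ne_eq, EmbeddingLike.map_eq_one_iff,
    EmbeddingLike.apply_eq_iff_eq] using this (e a) (e b) (e c) (e d)

theorem q8_gen (e : S ≃* QuaternionGroup 2) (a b c : S) : a * a ≠ 1 → b * b ≠ 1 → b ≠ a →
    b ≠ a⁻¹ → c = 1 ∨ c = a * a ∨ c = a ∨ c = a⁻¹ ∨ c = b ∨ c = b⁻¹ ∨ c = a * b ∨ c = b * a := by
  have : ∀ a b c : QuaternionGroup 2, a * a ≠ 1 → b * b ≠ 1 → b ≠ a →
    b ≠ a⁻¹ → c = 1 ∨ c = a * a ∨ c = a ∨ c = a⁻¹ ∨ c = b ∨ c = b⁻¹ ∨ c = a * b ∨ c = b * a := by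
    decide
  simpa only [← map_mul, ← map_inv, ne_eq, EmbeddingLike.map_eq_one_iff,
    EmbeddingLike.apply_eq_iff_eq] using this (e a) (e b) (e c)

theorem q8_index (e : S ≃* QuaternionGroup 2) (a b c : S) : a * a ≠ 1 →
    (b = 1 ∨ b = a ∨ b = a * a ∨ b = a⁻¹) ∨ (c = 1 ∨ c = a ∨ c = a * a ∨ c = a⁻¹) ∨
      (b⁻¹ * c = 1 ∨ b⁻¹ * c = a ∨ b⁻¹ * c = a * a ∨ b⁻¹ * c = a⁻¹) := by
  have : ∀ a b c : QuaternionGroup 2, a * a ≠ 1 →
    (b = 1 ∨ b = a ∨ b = a * a ∨ b = a⁻¹) ∨ (c = 1 ∨ c = a ∨ c = a * a ∨ c = a⁻¹) ∨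
      (b⁻¹ * c = 1 ∨ b⁻¹ * c = a ∨ b⁻¹ * c = a * a ∨ b⁻¹ * c = a⁻¹) := by decide
  simpa only [← map_mul, ← map_inv, ne_eq, EmbeddingLike.map_eq_one_iff,
    EmbeddingLike.apply_eq_iff_eq] using this (e a) (e b) (e c)

theorem q8_exists_inv (e : S ≃* QuaternionGroup 2) (a : S) : ∃ b, b * a * b⁻¹ = a⁻¹ := by
  have : ∀ a : QuaternionGroup 2, ∃ b, b * a * b⁻¹ = a⁻¹ := by decide
  obtain ⟨b, hb⟩ := this (e a)
  exact ⟨e.symm b, e.injective (by simpa using hb)⟩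

theorem q8_exists_four (e : S ≃* QuaternionGroup 2) : ∃ a : S, a * a ≠ 1 :=
  ⟨e.symm (.a 1), fun h => by
    have := congrArg e h
    simp only [map_mul, MulEquiv.apply_symm_apply, map_one] at this
    revert this; decide⟩

theorem q8_central (e : S ≃* QuaternionGroup 2) (a : S) (h : ∀ b, b * a = a * b) : a * a = 1 := by
  obtain ⟨b, hb⟩ := q8_exists_inv e a
  rw [h, mul_inv_cancel_right] at hb
  exact mul_eq_one_iff_eq_inv.mpr hb

end Q8

theorem q8_orderOf {S : Subgroup G} (e : S ≃* QuaternionGroup 2) {a : G} (ha : a ∈ S)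
    (h : a * a ≠ 1) : orderOf a = 4 := by
  have h1 : a * a * (a * a) = 1 := congrArg Subtype.val (q8_pow e ⟨a, ha⟩)
  exact orderOf_eq_prime_pow (p := 2) (n := 1) (by simpa [sq] using h)
    (by rw [← h1]; simp [pow_succ, mul_assoc])

theorem q8_eq_zpowers [Finite G] {S : Subgroup G} (e : S ≃* QuaternionGroup 2) {A : Subgroup G}
    (hA : A ≤ S) (h4 : Nat.card A = 4) : ∃ a ∈ S, a * a ≠ 1 ∧ A = zpowers a := by
  by_cases h : ∀ a ∈ A, a * a = 1
  · have h1 := (r2_of_klein (H22.isKleinFour_of h4 h)).card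
    obtain ⟨a, b, c, hab, -, -, h2⟩ := Set.ncard_eq_three.mp h1
    have ha : a ∈ A ∧ orderOf a = 2 := by
      change a ∈ {x | x ∈ A ∧ orderOf x = 2}; rw [h2]; simp
    have hb : b ∈ A ∧ orderOf b = 2 := by
      change b ∈ {x | x ∈ A ∧ orderOf x = 2}; rw [h2]; simp
    exact absurd (H22.q8_unique_involution e (hA ha.1) (hA hb.1) (h _ ha.1) (h _ hb.1)
      (H22.ne_one_of_orderOf_two ha.2) (H22.ne_one_of_orderOf_two hb.2)) hab
  · push Not at h
    obtain ⟨a, ha, h⟩ := h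
    refine ⟨a, hA ha, h, (eq_of_le_of_card_ge (zpowers_le.mpr ha) ?_).symm⟩
    rw [Nat.card_zpowers, q8_orderOf e (hA ha) h, h4]

/-- With quaternion Sylow `2`-subgroup of order `8` and no normal `2`-complement, the normalizer
of the Sylow subgroup permutes the three cyclic subgroups of order `4` transitively. -/
theorem q8_fusion [Finite G] (S : Sylow 2 G) (e : (S : Subgroup G) ≃* QuaternionGroup 2)
    (h : ¬ HasNormalPComplement 2 G) {a b : G} (ha : a ∈ (S : Subgroup G))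
    (hb : b ∈ (S : Subgroup G)) (ha2 : a * a ≠ 1) (hb2 : b * b ≠ 1) :
    ∃ n ∈ normalizer ((S : Subgroup G) : Set G), n * a * n⁻¹ = b := by
  suffices ∃ n ∈ normalizer ((S : Subgroup G) : Set G), n * a * n⁻¹ = b ∨ n * a * n⁻¹ = b⁻¹ by
    obtain ⟨n, hn, h | h⟩ := this
    · exact ⟨n, hn, h⟩
    · obtain ⟨c, hc⟩ := q8_exists_inv e ⟨b⁻¹, inv_mem hb⟩
      have hc' : (c : G) * b⁻¹ * (c : G)⁻¹ = b := by simpa using congrArg Subtype.val hc
      refine ⟨c * n, mul_mem (le_normalizer c.2) hn, ?_⟩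
      rw [← hc', ← h]; group
  obtain ⟨Q, hQ, g, q, k, hq, hq2, hg, hgN, hgC⟩ := H3.exists_of_not_hasNPC S h
  have hodd : Odd (orderOf g) :=
    (Odd.pow (hq.odd_of_ne_two hq2)).of_dvd_nat (orderOf_dvd_of_pow_eq_one hg)
  have hφ := H22.oddAut_conj hgN hodd
  have hQ2 : IsPGroup 2 Q := S.isPGroup'.to_le hQ
  have h4 : ∀ x ∈ (S : Subgroup G), x ^ 2 ^ 2 = 1 := fun x hx => by
    have h1 : x * x * (x * x) = 1 := congrArg Subtype.val (q8_pow e ⟨x, hx⟩)
    rw [← h1]; simp [pow_succ, mul_assoc]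
  -- `g` moves every element of order `4` of `Q` outside the cyclic group it generates
  have key : ∀ x ∈ Q, x * x ≠ 1 → g * x * g⁻¹ ∉ zpowers x := fun x hx hx2 hmem => by
    refine hgC (H22.mem_centralizer_of_forall_conj_eq (hφ.fix_of_index_two hQ2
      (zpowers_le.mpr hx) le_rfl (hφ.fix_zpowers hx (h4 x (hQ hx)) hmem) hφ.mem
      fun y hy z hz hy' hz' => ?_))
    have hz4 : ∀ w : (S : Subgroup G), (w = 1 ∨ w = ⟨x, hQ hx⟩ ∨ w = ⟨x, hQ hx⟩ * ⟨x, hQ hx⟩ ∨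
        w = ⟨x, hQ hx⟩⁻¹) → (w : G) ∈ zpowers x := by
      rintro w (rfl | rfl | rfl | rfl)
      · exact one_mem _
      · exact mem_zpowers x
      · exact mul_mem (mem_zpowers x) (mem_zpowers x)
      · exact inv_mem (mem_zpowers x)
    rcases q8_index e ⟨x, hQ hx⟩ ⟨y, hQ hy⟩ ⟨z, hQ hz⟩ (fun h => hx2 (congrArg Subtype.val h))
      with h | h | h
    · exact absurd (hz4 _ h) hy'
    · exact absurd (hz4 _ h) hz'
    · exact hz4 _ h
  have z1 : ∀ {x y : (S : Subgroup G)}, y = x → (y : G) ∈ zpowers (x : G) := fun h =>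
    h ▸ mem_zpowers _
  have z2 : ∀ {x y : (S : Subgroup G)}, y = x⁻¹ → (y : G) ∈ zpowers (x : G) := fun h =>
    h ▸ inv_mem (mem_zpowers _)
  have hex : ∃ x ∈ Q, x * x ≠ 1 := by
    by_contra hx
    push Not at hx
    refine hgC (H22.mem_centralizer_of_forall_conj_eq fun x hxQ => ?_)
    by_cases h1 : x = 1
    · simp [h1]
    · exact H22.q8_unique_involution e (hQ (hφ.mem _ hxQ)) (hQ hxQ) (hx _ (hφ.mem _ hxQ))
        (hx _ hxQ) (by simpa using h1) h1
  obtain ⟨x, hx, hx2⟩ := hex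
  have hsq : ∀ x : G, x * x ≠ 1 → g * x * g⁻¹ * (g * x * g⁻¹) ≠ 1 := fun x hx h => hx (by
    have : g * (x * x) * g⁻¹ = 1 := by rw [← h]; group
    simpa using this)
  have hSQ : (S : Subgroup G) ≤ Q := fun c hc => by
    have hy := hφ.mem _ hx
    have := q8_gen e ⟨x, hQ hx⟩ ⟨_, hQ hy⟩ ⟨c, hc⟩ (fun h => hx2 (congrArg Subtype.val h))
      (fun h => hsq x hx2 (congrArg Subtype.val h))
      (fun h => key x hx hx2 (z1 h))
      (fun h => key x hx hx2 (z2 h))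
    simp only [Subtype.ext_iff, Subgroup.coe_mul, Subgroup.coe_inv, Subgroup.coe_one] at this
    rcases this with rfl | rfl | rfl | rfl | rfl | rfl | rfl | rfl
    exacts [one_mem _, mul_mem hx hx, hx, inv_mem hx, hy, inv_mem hy, mul_mem hx hy, mul_mem hy hx]
  obtain rfl := le_antisymm hQ hSQ
  have m1 := hφ.mem _ ha
  have m2 := hφ.mem _ m1
  have k1 := key a ha ha2
  have k2 := key _ m1 (hsq a ha2)
  have k3 : g * (g * a * g⁻¹) * g⁻¹ ∉ zpowers a := fun hmem => by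
    have hφ2 := H22.oddAut_conj (mul_mem hgN hgN)
      (hodd.of_dvd_nat (orderOf_dvd_of_mem_zpowers (mul_mem (mem_zpowers g) (mem_zpowers g))))
    have h1 := hφ2.fix_of_mem_zpowers ha (h4 a ha) (by convert hmem using 1; group)
    have h2 := hφ.fix_of_sq ha (Eq.trans (by group) h1)
    exact k1 (h2.symm ▸ mem_zpowers a)
  have := q8_cover e ⟨a, ha⟩ ⟨_, m1⟩ ⟨_, m2⟩ ⟨b, hb⟩ (fun h => ha2 (congrArg Subtype.val h))
    (fun h => hsq a ha2 (congrArg Subtype.val h))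
    (fun h => hsq _ (hsq a ha2) (congrArg Subtype.val h)) (fun h => hb2 (congrArg Subtype.val h))
    (fun h => k1 (z1 h))
    (fun h => k1 (z2 h))
    (fun h => k3 (z1 h))
    (fun h => k3 (z2 h))
    (fun h => k2 (z1 h))
    (fun h => k2 (z2 h))
  simp only [Subtype.ext_iff, Subgroup.coe_inv] at this
  have hgg := mul_mem hgN hgN
  rcases this with rfl | rfl | rfl | rfl | rfl | rfl
  · exact ⟨1, one_mem _, Or.inl (by group)⟩
  · exact ⟨1, one_mem _, Or.inr (by group)⟩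
  · exact ⟨g, hgN, Or.inl rfl⟩
  · exact ⟨g, hgN, Or.inr (by group)⟩
  · exact ⟨g * g, hgg, Or.inl (by group)⟩
  · exact ⟨g * g, hgg, Or.inr (by simp [mul_assoc])⟩

end H17
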