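import Mathlib
import Cfsg.Agent.H17.Two
import Cfsg.Agent.H4.Exceptional
import Cfsg.Agent.H4.Misc

/-!
# Principal blocks when centralizers have normal complements; Klein four and homocyclic Sylow
`2`-subgroups
-/

set_option autoImplicit false
set_option linter.unusedSectionVars false

open Cfsg H4 Subgroup
open scoped ComplexConjugate

namespace H17

section NPC

variable {G : Type*} [Group G] [Finite G] {p : ℕ} [hp : Fact p.Prime] {M : Ideal AlgInt} [PM p M]

theorem SB.apply_mul_core {u : G} (hu : PElt p u) {v : centralizer ({u} : Set G)}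
    (hv : v ∈ pPrimeCore p (centralizer ({u} : Set G))) {χ : Irr G} (hχ : SB M (irrOne G) χ) :
    χ.1 (u * v) = χ.1 u := by
  have := Fintype.ofFinite (centralizer ({u} : Set G))
  have h1 := irr_eq_blockPart_principal (M := M) (h := selfC u * v) (pp_mul hu
    (by rw [Subgroup.orderOf_coe]; exact reg_of_mem (H2.not_dvd_card_pPrimeCore p _) hv)
    (mem_centralizer_singleton.mp v.2).symm) hχ
  have h2 := irr_eq_blockPart_principal (M := M) (h := selfC u) (pp_of_pElt hu) hχ
  refine h1.trans (Eq.trans ?_ h2.symm)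
  rw [blockPart_apply, blockPart_apply]
  refine Finset.sum_congr rfl fun ξ _ => ?_
  by_cases h : ξ ∈ principalBlock M _
  · rw [SB.pPrimeCore_mul h hv]
  · rw [ind_of_notMem h, zero_mul, zero_mul]

omit [PM p M] in
theorem mem_pPrimeCore_of_npc (h : HasNormalPComplement p G) {g : G} (hg : ¬ p ∣ orderOf g) :
    g ∈ pPrimeCore p G :=
  H2.le_pPrimeCore (H3.pResidual_normal p G) (H3.hasNPC_iff_coprime.mp h)
    (H3.mem_pResidual_of_coprime ((Nat.Prime.coprime_iff_not_dvd hp.out).mpr hg).symm)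

omit [PM p M] in
theorem index_pPrimeCore_of_npc (h : HasNormalPComplement p G) :
    (pPrimeCore p G).index = p ^ (Nat.card G).factorization p := by
  obtain ⟨k, hk⟩ := H3.index_pResidual_dvd_pow p G
  obtain ⟨j, -, hj⟩ := (Nat.dvd_prime_pow hp.out).mp ((index_dvd_of_le
    (H2.le_pPrimeCore (H3.pResidual_normal p G) (H3.hasNPC_iff_coprime.mp h))).trans hk)
  exact index_eq_pow_fact (H2.not_dvd_card_pPrimeCore p G) hj

theorem SB.apply_of_pp {χ : Irr G} (hχ : SB M (irrOne G) χ) {g : G}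
    (hg : ∀ h : pr p g ∈ centralizer ({pp p g} : Set G),
      (⟨_, h⟩ : centralizer ({pp p g} : Set G)) ∈ pPrimeCore p (centralizer ({pp p g} : Set G))) :
    χ.1 g = χ.1 (pp p g) := by
  have := hχ.apply_mul_core (pElt_pp g)
    (hg (mem_centralizer_singleton.mpr (commute_pp_pr g).symm))
  rwa [pp_mul_pr] at this

theorem SB.npc_apply {u : G} (hC : HasNormalPComplement p (centralizer ({u} : Set G)))
    {χ : Irr G} (hχ : SB M (irrOne G) χ) {g : G} (hg : IsConj (pp p g) u) : χ.1 g = χ.1 u := by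
  obtain ⟨t, rfl⟩ := isConj_iff.mp hg
  rw [← pp_conj] at hC ⊢
  rw [← χ.2.classFun g t]
  exact hχ.apply_of_pp fun h => mem_pPrimeCore_of_npc hC
    (by rw [← Subgroup.orderOf_coe]; exact reg_pr _)

open Classical in
theorem npc_sum {u : G} (hu : PElt p u) (hC : HasNormalPComplement p (centralizer ({u} : Set G)))
    (g : G) : ∑ χ : Irr G, ind (principalBlock M G) χ * (χ.1 g * conj (χ.1 u)) =
      if IsConj (pp p g) u then
        ((p ^ (Nat.card (centralizer ({u} : Set G))).factorization p : ℕ) : ℂ) else 0 := by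
  split_ifs with h
  · have h1 := principal_sum (M := M) hu (y := 1) (y' := 1) reg_one reg_one
    rw [principal_sum_npc (H2.not_dvd_card_pPrimeCore p _) (fun g => mem_pPrimeCore_of_npc hC)
      (one_mem _) (one_mem _), index_pPrimeCore_of_npc hC] at h1
    rw [← h1]
    refine Finset.sum_congr rfl fun χ _ => ?_
    by_cases hχ : χ ∈ principalBlock M G
    · rw [SB.npc_apply hC hχ h, OneMemClass.coe_one, mul_one]
    · rw [ind_of_notMem hχ, zero_mul, zero_mul]
  · exact block_orth (fb_mem_ZS (irrOne G)) (by rwa [pp_of_pElt hu])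

omit hp [PM p M] in
theorem fact_card_of_sylow_le [Fact p.Prime] (P : Sylow p G) {K : Subgroup G}
    (h : (P : Subgroup G) ≤ K) : p ^ (Nat.card K).factorization p = Nat.card P :=
  ((sylIn_top P).of_le h le_top).card.symm

omit hp [PM p M] in
theorem sum_ind_coe (s : Finset (Irr G)) (F : Irr G → ℂ) :
    ∑ χ, ind (s : Set (Irr G)) χ * F χ = ∑ χ ∈ s, F χ := by
  rw [← finsum_mem_eq_sum_ind, finsum_mem_coe_finset]

omit hp [PM p M] in
theorem isGen_blockPart {G : Type*} [Group G] [Fintype G] (A : Set (Irr G)) {ϑ : G → ℂ}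
    (h : IsGeneralizedCharacter G ϑ) : IsGeneralizedCharacter G (blockPart A ϑ) :=
  (blockPart_classFun A ϑ).isGen_of_inner_int fun χ hχ => by
    classical
    obtain ⟨n, hn⟩ := h.inner_int hχ.isGen
    have := inner_blockPart A ϑ ⟨χ, hχ⟩
    rw [this, ind_apply]
    split_ifs
    · exact ⟨n, by rw [one_mul]; exact hn⟩
    · exact ⟨0, by simp⟩

omit hp [PM p M] in
theorem inner_blockPart_blockPart {G : Type*} [Group G] [Fintype G] (A : Set (Irr G))
    (ϑ η : G → ℂ) :
    classInner (blockPart A ϑ) (blockPart A η) = classInner (blockPart A ϑ) η := by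
  classical
  rw [(blockPart_classFun A ϑ).inner_eq_sum, (blockPart_classFun A ϑ).inner_eq_sum]
  refine Finset.sum_congr rfl fun χ _ => ?_
  rw [inner_blockPart, inner_blockPart, ind_apply]
  split_ifs <;> simp

omit [PM p M] in
/-- If the Sylow `p`-subgroups are abelian, a `p`-element normalizing the group generated by
another one centralizes it. -/
theorem commute_of_abelian_sylow (P : Sylow p G)
    (hc : ∀ a ∈ (P : Subgroup G), ∀ b ∈ (P : Subgroup G), a * b = b * a) {a b : G}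
    (ha : PElt p a) (hb : PElt p b) (h : a * b * a⁻¹ ∈ zpowers b) : Commute a b := by
  have h1 : a ∈ normalizer (zpowers b : Set G) := H3.mem_normalizer_of_forall fun x hx => by
    obtain ⟨k, rfl⟩ := mem_zpowers_iff.mp hx
    rw [← conj_zpow]; exact zpow_mem h k
  obtain ⟨D, hD, haD⟩ := exists_sylIn_ge ha.isPGroup_zpowers (zpowers_le.mpr h1)
  have hbD := hD.normal_le hb.isPGroup_zpowers le_normalizer le_rfl
  obtain ⟨t, -, ht⟩ := (sylIn_top P).exists_cj_le hD.isPGroup le_top
  have := hc _ (ht (conj_mem_cj.mpr (haD (mem_zpowers a))))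
    _ (ht (conj_mem_cj.mpr (hbD (mem_zpowers b))))
  have h2 : t * (a * b) * t⁻¹ = t * (b * a) * t⁻¹ := by
    calc t * (a * b) * t⁻¹ = t * a * t⁻¹ * (t * b * t⁻¹) := by group
      _ = _ := by rw [this]; group
  exact mul_left_cancel (mul_right_cancel h2)

omit [PM p M] in
theorem exists_conj_mem (P : Sylow p G) {x : G} (hx : PElt p x) :
    ∃ u ∈ (P : Subgroup G), IsConj x u := by
  obtain ⟨k, hk⟩ := PElt.iff_pow.mp hx
  obtain ⟨g, hg⟩ := H3.exists_conj_mem_sylow P hk
  exact ⟨_, hg, isConj_iff.mpr ⟨g, rfl⟩⟩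

end NPC

section Klein

theorem exists_of_sum_sq_four {ι : Type*} [DecidableEq ι] (s : Finset ι) (f : ι → ℤ) {o : ι}
    (ho : o ∈ s) (h1 : f o = 1) (h0 : ∀ i ∈ s, f i ≠ 0) (h4 : ∑ i ∈ s, f i ^ 2 = 4) :
    (∀ i ∈ s, f i = 1 ∨ f i = -1) ∧
      ∃ a b c, a ≠ o ∧ b ≠ o ∧ c ≠ o ∧ a ≠ b ∧ a ≠ c ∧ b ≠ c ∧ s = {o, a, b, c} := by
  have h2 : ∀ i ∈ s, f i = 1 ∨ f i = -1 := fun i hi => by
    by_cases h : i = o
    · exact Or.inl (h ▸ h1)
    · have := Finset.sum_le_sum_of_subset_of_nonneg (f := fun i => f i ^ 2)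
        (show ({i, o} : Finset ι) ⊆ s by simp [Finset.insert_subset_iff, hi, ho])
        fun _ _ _ => sq_nonneg _
      rw [Finset.sum_pair h, h4, h1] at this
      have := h0 i hi
      have h3 : f i ≤ 1 := by nlinarith
      have h3 : -1 ≤ f i := by nlinarith
      omega
  refine ⟨h2, ?_⟩
  rw [Finset.sum_congr rfl (g := fun _ => 1) fun i hi => by rcases h2 i hi with h | h <;> simp [h],
    Finset.sum_const, nsmul_eq_mul, mul_one] at h4
  have h3 : (s.erase o).card = 3 := by rw [Finset.card_erase_of_mem ho]; omega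
  obtain ⟨a, b, c, hab, hac, hbc, h5⟩ := Finset.card_eq_three.mp h3
  have hm : ∀ x ∈ ({a, b, c} : Finset ι), x ≠ o := fun x hx =>
    Finset.ne_of_mem_erase (h5 ▸ hx)
  exact ⟨a, b, c, hm a (by simp), hm b (by simp), hm c (by simp), hab, hac, hbc, by
    rw [← h5, Finset.insert_erase ho]⟩

variable {G : Type*} [Group G] [Finite G]

theorem sum_ind_four {o a b c : Irr G} (ha : a ≠ o) (hb : b ≠ o) (hc : c ≠ o) (hab : a ≠ b)
    (hac : a ≠ c) (hbc : b ≠ c) (F : Irr G → ℂ) :
    ∑ χ, ind {o, a, b, c} χ * F χ = F o + F a + F b + F c := by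
  classical
  have := sum_ind_coe {o, a, b, c} F
  rw [Finset.sum_insert (by simp [ha.symm, hb.symm, hc.symm]), Finset.sum_insert (by simp [hab, hac]),
    Finset.sum_pair hbc] at this
  simpa [add_assoc] using this

theorem one_le_deg (χ : Irr G) : (1 : ℤ) ≤ deg χ := by
  have := deg_ne_zero χ; omega

variable {M : Ideal AlgInt} [PM 2 M]

variable (M) in
theorem klein_block (P : Sylow 2 G) (hP : IsKleinFour (P : Subgroup G))
    (hone : ∀ s t : G, orderOf s = 2 → orderOf t = 2 → IsConj s t) :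
    ∃ ζ₂ ζ₃ ζ₄ : Irr G, ∃ ε : ℤ, (ε = 1 ∨ ε = -1) ∧ ζ₂ ≠ irrOne G ∧ ζ₃ ≠ irrOne G ∧
      ζ₄ ≠ irrOne G ∧ ζ₂ ≠ ζ₃ ∧ ζ₂ ≠ ζ₄ ∧ ζ₃ ≠ ζ₄ ∧
      principalBlock M G = {irrOne G, ζ₂, ζ₃, ζ₄} ∧
      (∀ g, 2 ∣ orderOf g → ζ₂.1 g = 1 ∧ ζ₃.1 g = ε ∧ ζ₄.1 g = -1) ∧
      ∀ y, ¬ 2 ∣ orderOf y → 1 + ζ₂.1 y + ε * ζ₃.1 y - ζ₄.1 y = 0 := by
  classical
  have hR := r2_of_klein hP
  obtain ⟨t, ht, ht2⟩ := hR.exists_inv
  have ht1 := H22.ne_one_of_orderOf_two ht2
  have hC := hR.hasNPC_centralizer ht ht1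
  have hconj : ∀ g, 2 ∣ orderOf g → IsConj (pp 2 g) t := fun g hg => by
    obtain ⟨u, hu, h⟩ := exists_conj_mem P (pElt_pp (p := 2) g)
    refine hone _ _ ?_ ht2
    rw [orderOf_eq_of_isConj h]
    refine H6.klein_orderOf P hP hu fun h1 => ?_
    rw [h1, isConj_one_left, pp_eq_one_iff] at h
    exact h hg
  choose f hf using fun χ : Irr G =>
    χ.2.isGen.exists_int_of_sq (g := t) (by rw [← ht2, pow_orderOf_eq_one])
  set s := (Set.toFinite (principalBlock M G)).toFinset with hs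
  have hB : principalBlock M G = s := by simp [hs]
  have hsum := fun g => npc_sum (M := M) (PElt.of_two ht2) hC g
  rw [fact_card_of_sylow_le P (hR.le_centralizer_singleton ht), hP.card_four] at hsum
  have hf1 : f (irrOne G) = 1 := by
    have := hf (irrOne G)
    rw [irrOne_apply] at this
    exact_mod_cast this.symm
  obtain ⟨hpm, a, b, c, ha, hb, hc, hab, hac, hbc, h4⟩ := exists_of_sum_sq_four s f (o := irrOne G)
    (by rw [← Finset.mem_coe, ← hB]; exact SB.refl (M := M) (irrOne G)) hf1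
    (fun χ hχ h0 => by
      refine SB.ne_zero_of_index (M := M) (χ := χ) (by rwa [← Finset.mem_coe, ← hB] at hχ)
        (not_dvd_index_of_sylow_le P (hR.le_centralizer_singleton ht)) ?_
      rw [cls_eq_div, hf, h0]; simp)
    (by
      have := hsum t
      rw [if_pos (hconj t (by rw [ht2])), hB, sum_ind_coe] at this
      simp only [hf, map_intCast, ← sq] at this
      exact_mod_cast this)
  have hB' : principalBlock M G = {irrOne G, a, b, c} := by rw [hB, h4]; simp
  have hval : ∀ χ ∈ principalBlock M G, ∀ g, 2 ∣ orderOf g → χ.1 g = f χ := fun χ hχ g hg => by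
    rw [SB.npc_apply hC hχ (hconj g hg), hf]
  have hva := hval a (by rw [hB']; simp)
  have hvb := hval b (by rw [hB']; simp)
  have hvc := hval c (by rw [hB']; simp)
  have hrel : ∀ y, ¬ 2 ∣ orderOf y → 1 + f a * a.1 y + f b * b.1 y + f c * c.1 y = 0 :=
    fun y hy => by
    have := hsum y
    rw [if_neg (by rwa [pp_of_reg hy, isConj_one_right]), hB', sum_ind_four ha hb hc hab hac hbc]
      at this
    simp only [hf, hf1, map_intCast, irrOne_apply, Int.cast_one, map_one] at this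
    linear_combination this
  have h1 : 1 + f a * deg a + f b * deg b + f c * deg c = 0 := by
    have := hrel 1 reg_one
    rw [← deg_eq, ← deg_eq, ← deg_eq] at this
    exact_mod_cast this
  have := one_le_deg a
  have := one_le_deg b
  have := one_le_deg c
  have main : ∀ x y z : Irr G, x ≠ irrOne G → y ≠ irrOne G → z ≠ irrOne G → x ≠ y → x ≠ z →
      y ≠ z → principalBlock M G = {irrOne G, x, y, z} → f x = 1 → (f y = 1 ∨ f y = -1) →
      f z = -1 → (∀ w, ¬ 2 ∣ orderOf w → 1 + f x * x.1 w + f y * y.1 w + f z * z.1 w = 0) →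
      ∃ ζ₂ ζ₃ ζ₄ : Irr G, ∃ ε : ℤ, (ε = 1 ∨ ε = -1) ∧ ζ₂ ≠ irrOne G ∧ ζ₃ ≠ irrOne G ∧
      ζ₄ ≠ irrOne G ∧ ζ₂ ≠ ζ₃ ∧ ζ₂ ≠ ζ₄ ∧ ζ₃ ≠ ζ₄ ∧
      principalBlock M G = {irrOne G, ζ₂, ζ₃, ζ₄} ∧
      (∀ g, 2 ∣ orderOf g → ζ₂.1 g = 1 ∧ ζ₃.1 g = ε ∧ ζ₄.1 g = -1) ∧
      ∀ y, ¬ 2 ∣ orderOf y → 1 + ζ₂.1 y + ε * ζ₃.1 y - ζ₄.1 y = 0 := by
    intro x y z h1 h2 h3 h4 h5 h6 h7 h8 h9 h10 h11
    refine ⟨x, y, z, f y, h9, h1, h2, h3, h4, h5, h6, h7, fun g hg => ⟨?_, ?_, ?_⟩, fun w hw => ?_⟩
    · rw [hval x (by rw [h7]; simp) g hg, h8]; simp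
    · rw [hval y (by rw [h7]; simp) g hg]
    · rw [hval z (by rw [h7]; simp) g hg, h10]; simp
    · have := h11 w hw
      rw [h8, h10] at this
      push_cast at this
      linear_combination this
  have pa := hpm a (by rw [h4]; simp)
  have pb := hpm b (by rw [h4]; simp)
  have pc := hpm c (by rw [h4]; simp)
  rcases pa with ea | ea
  · rcases pc with ec | ec
    · have eb : f b = -1 := by
        rcases pb with eb | eb
        · rw [ea, eb, ec] at h1; omega
        · exact eb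
      exact main a c b ha hc hb hac hab hbc.symm (by rw [hB', Set.pair_comm b c]) ea
        (Or.inl ec) eb fun w hw => by linear_combination hrel w hw
    · exact main a b c ha hb hc hab hac hbc hB' ea pb ec hrel
  · rcases pb with eb | eb
    · exact main b c a hb hc ha hbc hab.symm hac.symm (by
        rw [hB', Set.insert_comm a b, Set.pair_comm a c]) eb
        pc ea fun w hw => by linear_combination hrel w hw
    · have ec : f c = 1 := by
        rcases pc with ec | ec
        · exact ec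
        · rw [ea, eb, ec] at h1; omega
      exact main c b a hc hb ha hbc.symm hac.symm hab.symm (by
        rw [hB', Set.pair_comm b c, Set.insert_comm a c, Set.pair_comm a b]) ec
        (Or.inr eb) ea fun w hw => by linear_combination hrel w hw

theorem card_dvd_deg_sub (P : Subgroup G) {χ : Irr G} {c : ℤ} (h : ∀ g ∈ P, g ≠ 1 → χ.1 g = c) :
    (Nat.card P : ℤ) ∣ deg χ - c := by
  obtain ⟨k, hk⟩ := (χ.2.isGen.sub (isGen_one.intCast_smul c)).exists_degree_eq_card_mul P
    fun g hg h1 => by simp [h g hg h1]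
  refine ⟨k, ?_⟩
  simp only [Pi.sub_apply, Pi.smul_apply, smul_eq_mul, mul_one, ← deg_eq] at hk
  exact_mod_cast hk

end Klein

section Homo

theorem homo_arith {X Y q k l : ℤ} (hq : 16 ≤ q) (hX : X = 1 + q * k) (hY : Y = 1 + q * l)
    (h : 9 * (X * Y) = (1 + X + Y) * (X * Y + X + Y)) : X = 1 ∨ Y = 1 := by
  by_contra hne
  push Not at hne
  have hk : k ≠ 0 := by rintro rfl; simp at hX; exact hne.1 hX
  have hl : l ≠ 0 := by rintro rfl; simp at hY; exact hne.2 hY
  have h1 : 17 ≤ X ∨ X ≤ -15 := by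
    rcases lt_or_gt_of_ne hk with h | h
    · right; nlinarith
    · left; nlinarith
  have h2 : 17 ≤ Y ∨ Y ≤ -15 := by
    rcases lt_or_gt_of_ne hl with h | h
    · right; nlinarith
    · left; nlinarith
  have h3 : X + Y = 2 ∨ 18 ≤ X + Y ∨ X + Y ≤ -14 := by
    rcases lt_trichotomy (k + l) 0 with h | h | h
    · right; right; nlinarith
    · left; rw [hX, hY]; linear_combination q * h
    · right; left; nlinarith
  clear hX hY hk hl hne
  rcases h1 with h1 | h1 <;> rcases h2 with h2 | h2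
  · nlinarith [mul_pos (show 0 < X by omega) (show 0 < Y by omega)]
  · rcases h3 with h3 | h3 | h3
    · obtain rfl : Y = 2 - X := by omega
      nlinarith
    · have : X * Y ≤ -15 * (X + Y + 1) := by nlinarith
      nlinarith
    · have : X * Y ≤ 0 := by nlinarith
      nlinarith
  · rcases h3 with h3 | h3 | h3
    · obtain rfl : Y = 2 - X := by omega
      nlinarith
    · have : X * Y ≤ -15 * (X + Y + 1) := by nlinarith
      nlinarith
    · have : X * Y ≤ 0 := by nlinarith
      nlinarith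
  · have : -7 * (X + Y) ≤ X * Y := by nlinarith
    nlinarith

theorem homo_arith' {N a b c : ℂ} {e δ₂ δ₃ : ℤ} (he : e = 1 ∨ e = -1) (h2 : δ₂ = 1 ∨ δ₂ = -1)
    (h3 : δ₃ = 1 ∨ δ₃ = -1) (hN : N ≠ 0) (ha : a ≠ 0) (hb : b ≠ 0) (hc : c ≠ 0)
    (h : a = e * (1 - δ₂ * b - δ₃ * c))
    (h' : N * -1 + e * (N * (3 * e) * (3 * e) / a) + δ₂ * (N * (-δ₂ : ℤ) * (-δ₂ : ℤ) / b) +
      δ₃ * (N * (-δ₃ : ℤ) * (-δ₃ : ℤ) / c) = 0) :
    (9 : ℂ) * (-δ₂ * b * (-δ₃ * c)) =
      (1 + -δ₂ * b + -δ₃ * c) * (-δ₂ * b * (-δ₃ * c) + -δ₂ * b + -δ₃ * c) := by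
  rcases he with rfl | rfl <;> rcases h2 with rfl | rfl <;> rcases h3 with rfl | rfl <;>
  · push_cast at h h' ⊢
    field_simp at h'
    rw [h] at h'
    apply mul_left_cancel₀ hN
    first | linear_combination h' | linear_combination -h'

theorem eq_one_of_comp_fpf {K : Type*} [Group K] [Finite K] (c : K ≃* K)
    (hc : ∀ x, c x = x → x = 1) {χ : Irr K} (h1 : χ.1 1 = 1) (h : irrE c χ = χ) :
    χ = irrOne K := by
  have hinj : Function.Injective fun x => x⁻¹ * c x := fun x y e => by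
    have : c (y * x⁻¹) = y * x⁻¹ := by
      rw [map_mul, map_inv]
      calc c y * (c x)⁻¹ = y * (y⁻¹ * c y) * (c x)⁻¹ := by group
        _ = _ := by rw [← show x⁻¹ * c x = y⁻¹ * c y from e]; group
    exact (mul_inv_eq_one.mp (hc _ this)).symm
  refine Subtype.ext (funext fun g => ?_)
  obtain ⟨x, rfl⟩ := Finite.injective_iff_surjective.mp hinj g
  have h2 : χ.1 (c x) = χ.1 x := by rw [← irrE_apply, h]
  rw [χ.2.isCharacter.map_mul_of_apply_one h1, h2, ← χ.2.isCharacter.map_mul_of_apply_one h1,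
    inv_mul_cancel, h1, irrOne_apply]

theorem sum_irr_comm {K : Type*} [Group K] [Finite K] (hc : ∀ a b : K, a * b = b * a) {u : K}
    (hu : u ≠ 1) : ∑ χ : Irr K, χ.1 u = 0 := by
  classical
  have := sum_degree_mul u
  rw [if_neg hu] at this
  rw [← this]
  exact Finset.sum_congr rfl fun χ _ => by rw [χ.2.apply_one_of_comm hc, one_mul]

variable {G : Type*} [Group G] [Fintype G] {M : Ideal AlgInt} [PM 2 M]

open Classical in
theorem R2.theta_apply {P : Sylow 2 G} (h : R2 (P : Subgroup G)) [Fintype (P : Subgroup G)]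
    {α : ↥(P : Subgroup G) → ℂ} (h1 : α 1 = 0) (g : G) :
    blockPart (principalBlock M G) (indFun _ α) g =
      ∑ u : (P : Subgroup G), if IsConj (pp 2 g) u then α u else 0 := by
  rw [blockPart_apply]
  simp only [fun χ : Irr G => classInner_indFun_left _ α χ.2.classFun, classInner_def,
    Finset.mul_sum, Finset.sum_mul]
  rw [Finset.sum_comm]
  refine Finset.sum_congr rfl fun u _ => ?_
  by_cases hu : u = 1
  · simp [hu, h1]
  have hu' : (u : G) ≠ 1 := fun e => hu (Subtype.ext e)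
  have := npc_sum (M := M) (PElt.of_mem P.isPGroup' u.2) (h.hasNPC_centralizer u.2 hu') g
  rw [fact_card_of_sylow_le P (h.le_centralizer_singleton u.2)] at this
  have h2 := card_ne_zero (P : Subgroup G)
  calc _ = (Nat.card (P : Subgroup G) : ℂ)⁻¹ * α u *
        ∑ χ : Irr G, ind (principalBlock M G) χ * (χ.1 g * conj (χ.1 u)) := by
        rw [Finset.mul_sum]; exact Finset.sum_congr rfl fun χ _ => by ring
    _ = _ := by
      rw [this]; split_ifs
      · field_simp
      · simp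

/-- The character-theoretic core of Brauer's theorem on Sylow `2`-subgroups of type
`(2 ^ m, 2 ^ m)`. -/
theorem R2.exists_linear {P : Sylow 2 G} (h : R2 (P : Subgroup G))
    (h16 : 16 ≤ Nat.card (P : Subgroup G)) (hn : ¬ normalizer ((P : Subgroup G) : Set G) ≤
      centralizer ((P : Subgroup G) : Set G)) :
    ∃ χ : Irr G, χ ≠ irrOne G ∧ χ.1 1 = 1 ∧ ∀ u ∈ (P : Subgroup G), χ.1 u = 1 := by
  classical
  obtain ⟨M, hM⟩ := exists_PM 2
  have := Fintype.ofFinite (P : Subgroup G)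
  obtain ⟨n, hn, hn'⟩ := SetLike.not_le_iff_exists.mp hn
  have hcomm : ∀ a b : (P : Subgroup G), a * b = b * a := fun a b =>
    Subtype.ext (h.comm _ a.2 _ b.2)
  let c : (P : Subgroup G) ≃* (P : Subgroup G) := (P : Subgroup G).normalizerMonoidHom ⟨n, hn⟩
  have hc : ∀ u, (c u : G) = n * u * n⁻¹ := fun u => rfl
  have horb : ∀ u, u ≠ 1 → c u ≠ u ∧ c (c u) ≠ u ∧ c (c u) ≠ c u := fun u hu => by
    have := h.orbit hn hn' u.2 fun e => hu (Subtype.ext e)
    simp only [ne_eq, Subtype.ext_iff, hc]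
    exact this
  let Θ : (↥(P : Subgroup G) → ℂ) → G → ℂ := fun α =>
    blockPart (principalBlock M G) (indFun _ α)
  have hΘP : ∀ α, α 1 = 0 → ∀ u : (P : Subgroup G), Θ α u = α u + α (c u) + α (c (c u)) :=
    fun α h1 u => by
    rw [show Θ α u = _ from h.theta_apply h1 u, pp_of_pElt (PElt.of_mem P.isPGroup' u.2)]
    by_cases hu : u = 1
    · rw [hu, map_one, map_one, h1, Finset.sum_eq_zero]
      · simp
      · intro v _
        split_ifs with hv
        · rw [show v = 1 from Subtype.ext (isConj_one_right.mp hv), h1]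
        · rfl
    obtain ⟨h2, h3, h4⟩ := horb u hu
    rw [← Finset.sum_filter, show Finset.univ.filter (fun v : (P : Subgroup G) => IsConj (u : G) v) =
      {u, c u, c (c u)} from ?_, Finset.sum_insert (by simp [h2.symm, h3.symm]),
      Finset.sum_pair h4.symm, add_assoc]
    ext v
    simp only [Finset.mem_filter, Finset.mem_univ, true_and, Finset.mem_insert,
      Finset.mem_singleton, Subtype.ext_iff, hc]
    refine ⟨h.conj_cases hn hn' u.2 v.2, ?_⟩
    rintro (e | e | e) <;> rw [e]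
    · exact isConj_iff.mpr ⟨n, rfl⟩
    · exact (isConj_iff.mpr ⟨n, rfl⟩).trans (isConj_iff.mpr ⟨n, rfl⟩)
  have hlin : ∀ l : Irr (P : Subgroup G), l.1 1 = 1 := fun l => l.2.apply_one_of_comm hcomm
  let o := irrOne (P : Subgroup G)
  let α : Irr (P : Subgroup G) → ↥(P : Subgroup G) → ℂ := fun l => l.1 - o.1
  have hα1 : ∀ l, α l 1 = 0 := fun l => by simp [α, hlin]
  let T : Irr (P : Subgroup G) → G → ℂ := fun l => Θ (α l)
  let σ := irrE c
  have hσo : σ o = o := rfl
  have hσ1 : ∀ l, l ≠ o → σ l ≠ l := fun l hl e =>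
    hl (eq_one_of_comp_fpf c (fun x hx => by_contra fun h1 => (horb x h1).1 hx) (hlin l) e)
  have hσ2 : ∀ l, l ≠ o → σ (σ l) ≠ l := fun l hl e =>
    hl (eq_one_of_comp_fpf (c.trans c) (fun x hx => by_contra fun h1 => (horb x h1).2.1 hx)
      (hlin l) e)
  have hTgen : ∀ l, IsGeneralizedCharacter G (T l) := fun l =>
    isGen_blockPart _ (l.2.isGen.sub o.2.isGen).indFun
  have hTin : ∀ l (χ : Irr G), classInner (T l) χ.1 = ind (principalBlock M G) χ *
      classInner (α l) fun u => χ.1 u := fun l χ => by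
    rw [show T l = blockPart _ _ from rfl, inner_blockPart, classInner_indFun_left _ _ χ.2.classFun]
  have hTσ : ∀ l, T (σ l) = T l := fun l => (hTgen _).classFun.ext_inner (hTgen _).classFun
    fun χ hχ => by
      rw [hTin _ ⟨χ, hχ⟩, hTin _ ⟨χ, hχ⟩, ← classInner_comp_equiv c.toEquiv (α l)]
      congr 2
      exact funext fun u => (hχ.classFun _ _).symm
  have hαα : ∀ l m, l ≠ o → m ≠ o → classInner (α l) (α m) = (if l = m then 1 else 0) + 1 :=
    fun l m hl hm => by
      simp only [α, classInner_sub_left, classInner_sub_right, irr_inner, if_neg hl,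
        if_neg hm.symm, if_true]
      ring
  have hgram : ∀ l m, l ≠ o → m ≠ o → classInner (T l) (T m) =
      if l = m ∨ σ l = m ∨ σ (σ l) = m then 4 else 3 := fun l m hl hm => by
    have h1 : (fun u : (P : Subgroup G) => T l u) = α l + α (σ l) + α (σ (σ l)) :=
      funext fun u => hΘP _ (hα1 l) u
    have h2 : σ l ≠ o := fun e => hl (σ.injective e)
    have h3 : σ (σ l) ≠ o := fun e => h2 (σ.injective e)
    rw [show T m = blockPart _ _ from rfl, show T l = blockPart _ _ from rfl,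
      inner_blockPart_blockPart, classInner_indFun_right _ _ (blockPart_classFun _ _)]
    change classInner (fun u : (P : Subgroup G) => T l u) _ = _
    rw [h1, classInner_add_left, classInner_add_left, hαα _ _ hl hm, hαα _ _ h2 hm, hαα _ _ h3 hm]
    have h4 := hσ1 l hl
    have h5 := hσ2 l hl
    have h6 := hσ1 _ h2
    by_cases e1 : l = m
    · subst e1; simp [h4, h5]; norm_num
    by_cases e2 : σ l = m
    · subst e2; simp [h4.symm, h6]; norm_num
    by_cases e3 : σ (σ l) = m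
    · subst e3; simp [h5.symm, h6.symm]; norm_num
    simp [e1, e2, e3]; norm_num
  have hT4 : ∀ l, l ≠ o → classInner (T l) (T l) = 4 := fun l hl => by
    rw [hgram l l hl hl, if_pos (Or.inl rfl)]
  have hT3 : ∀ l m, l ≠ o → m ≠ o → T l ≠ T m → classInner (T l) (T m) = 3 := fun l m hl hm e => by
    rw [hgram l m hl hm, if_neg]
    rintro (rfl | rfl | rfl)
    · exact e rfl
    · exact e (hTσ l).symm
    · exact e (by rw [hTσ, hTσ])
  have hT1 : ∀ l, l ≠ o → classInner (T l) (irrOne G).1 = -1 := fun l hl => by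
    rw [hTin, ind_of_mem (show irrOne G ∈ principalBlock M G from SB.refl (M := M) (irrOne G)),
      one_mul, classInner_sub_left]
    change classInner l.1 o.1 - classInner o.1 o.1 = _
    rw [irr_inner, irr_inner, if_neg hl, if_pos rfl]; simp
  have hTval : ∀ l g, pp 2 g * pp 2 g = 1 → (∀ u, u * u = 1 → α l u = 0) → T l g = 0 :=
    fun l g hg hl => by
      rw [show T l g = _ from h.theta_apply (hα1 l) g]
      refine Finset.sum_eq_zero fun u _ => ?_
      split_ifs with hu
      · obtain ⟨t, ht⟩ := isConj_iff.mp hu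
        refine hl u (Subtype.ext ?_)
        rw [Subgroup.coe_mul, ← ht]
        exact H22.conj_mul_self hg t
      · rfl
  have hTone : ∀ l, T l 1 = 0 := fun l => by
    have := hΘP _ (hα1 l) 1
    rwa [map_one, map_one, hα1, add_zero, add_zero] at this
  -- a nontrivial character trivial on the involutions
  obtain ⟨l₀, hl₀, hl₀'⟩ : ∃ l₀, l₀ ≠ o ∧ ∀ u, u * u = 1 → α l₀ u = 0 := by
    obtain ⟨x, hx⟩ : ∃ x : (P : Subgroup G), x * x ≠ 1 := by
      by_contra hx
      push Not at hx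
      have h1 : ((P : Subgroup G) : Set G) ⊆ insert 1 {x | x ∈ (P : Subgroup G) ∧ orderOf x = 2} :=
        fun x hxP => by
          by_cases h1 : x = 1
          · exact Or.inl h1
          · exact Or.inr ⟨hxP, H22.orderOf_eq_two_of_mul_self
              (congrArg Subtype.val (hx ⟨x, hxP⟩)) h1⟩
      have h2 := (Set.ncard_le_ncard h1).trans (Set.ncard_insert_le _ _)
      rw [h.card, ← Nat.card_coe_set_eq] at h2
      change Nat.card (P : Subgroup G) ≤ _ at h2
      omega
    by_contra hne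
    push Not at hne
    refine hx (eq_one_of_forall_irr fun χ hχ => ?_)
    have h1 := hχ.apply_one_of_comm hcomm
    have h2 : IsIrrCharacter _ (χ * χ) :=
      (hχ.isCharacter.mul hχ.isCharacter).isIrr_of_apply_one (by simp [h1])
    by_cases h3 : (⟨_, h2⟩ : Irr _) = o
    · rw [hχ.isCharacter.map_mul_of_apply_one h1, h1]
      exact congrFun (congrArg Subtype.val h3) x
    · obtain ⟨u, hu, h4⟩ := hne _ h3
      refine absurd ?_ h4
      change χ u * χ u - 1 = 0
      rw [← hχ.isCharacter.map_mul_of_apply_one h1, hu, h1, sub_self]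
  let s := (Finset.univ.erase o).image T
  have hs : ∀ w : s, ∃ l, l ≠ o ∧ T l = w := fun w => by
    obtain ⟨l, hl, e⟩ := Finset.mem_image.mp w.2
    exact ⟨l, Finset.ne_of_mem_erase hl, e⟩
  have hmem : ∀ l, l ≠ o → T l ∈ s := fun l hl =>
    Finset.mem_image_of_mem _ (Finset.mem_erase.mpr ⟨hl, Finset.mem_univ _⟩)
  have hs5 : 5 ≤ s.card := by
    have h1 := Finset.card_le_mul_card_image (f := T) (Finset.univ.erase o) 3 fun w hw => by
      obtain ⟨l, hl, rfl⟩ := hs ⟨w, hw⟩
      refine (Finset.card_le_card (t := {l, σ l, σ (σ l)}) fun m hm => ?_).trans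
        Finset.card_le_three
      obtain ⟨hm, e⟩ := Finset.mem_filter.mp hm
      have := hgram l m hl (Finset.ne_of_mem_erase hm)
      rw [e, hT4 l hl] at this
      split_ifs at this with h2
      · simp only [Finset.mem_insert, Finset.mem_singleton]; tauto
      · norm_num at this
    have h2 : (Fintype.card (Irr (P : Subgroup G)) : ℂ) = Nat.card (P : Subgroup G) := by
      rw [← sum_degree_sq]; simp [hlin]
    rw [Finset.card_erase_of_mem (Finset.mem_univ _), Finset.card_univ, Nat.cast_injective h2] at h1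
    change _ ≤ 3 * s.card at h1
    omega
  let i₀ : s := ⟨T l₀, hmem l₀ hl₀⟩
  obtain ⟨ε, hε, μ, hμ, hinj, hτ⟩ := exceptional_of_gram i₀ (fun w => w.1 - T l₀) (sub_self _)
    (fun w => by obtain ⟨l, -, e⟩ := hs w; rw [← e]; exact (hTgen _).sub (hTgen _))
    (fun w => by obtain ⟨l, -, e⟩ := hs w; rw [← e, Pi.sub_apply, hTone, hTone, sub_self])
    fun w w' hw hw' => by
      obtain ⟨l, hl, e⟩ := hs w
      obtain ⟨m, hm, e'⟩ := hs w'
      rw [← e, ← e', classInner_sub_left, classInner_sub_right, classInner_sub_right,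
        hT3 l l₀ hl hl₀ fun h => hw (Subtype.ext (e.symm.trans h)),
        hT3 l₀ m hl₀ hm fun h => hw' (Subtype.ext (e'.symm.trans h.symm)), hT4 l₀ hl₀]
      split_ifs with h1
      · rw [e, e', ← h1, ← e, hT4 l hl]; norm_num
      · rw [hT3 l m hl hm fun h => h1 (Subtype.ext (e.symm.trans (h.trans e')))]; norm_num
  let ν : s → Irr G := fun w => ⟨μ w, hμ w⟩
  have hνinj : Function.Injective ν := fun w w' e => hinj (congrArg Subtype.val e)
  obtain ⟨a, ha, -, ha4⟩ := (hTgen l₀).exists_coeff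
  obtain ⟨e, he, rfl⟩ : ∃ e : ℤ, (e = 1 ∨ e = -1) ∧ ε = e := by
    rcases hε with rfl | rfl
    · exact ⟨1, Or.inl rfl, by simp⟩
    · exact ⟨-1, Or.inr rfl, by simp⟩
  have hcoef : ∀ (w : s) (χ : Irr G), classInner w.1 χ.1 =
      a χ + e * ((if ν w = χ then 1 else 0) - if ν i₀ = χ then 1 else 0) := fun w χ => by
    have := congrArg (classInner · χ.1) (hτ w)
    simp only [classInner_sub_left, classInner_smul_left, ha] at this
    rw [← irr_inner, ← irr_inner]
    linear_combination this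
  have ha1 : a (irrOne G) = -1 := by
    have := hT1 l₀ hl₀
    rw [ha] at this; exact_mod_cast this
  have hrest : 4 ≤ (Finset.univ.erase i₀).card := by
    rw [Finset.card_erase_of_mem (Finset.mem_univ _), Finset.card_univ, Fintype.card_coe]; omega
  have he0 : (e : ℂ) ≠ 0 := by rcases he with rfl | rfl <;> simp
  have hν1 : ∀ w, ν w ≠ irrOne G := by
    have key : ∀ w, w ≠ i₀ → ν w ≠ irrOne G ∧ ν i₀ ≠ irrOne G := fun w hw => by
      obtain ⟨l, hl, e⟩ := hs w
      have := hcoef w (irrOne G)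
      rw [← e, hT1 l hl, ha1] at this
      have h1 : ν w ≠ ν i₀ := fun e => hw (hνinj e)
      split_ifs at this with h2 h3 h3
      · exact absurd (h2.trans h3.symm) h1
      · simp [he0] at this
      · simp [he0] at this
      · exact ⟨h2, h3⟩
    intro w
    by_cases hw : w = i₀
    · obtain ⟨w', hw'⟩ := Finset.card_pos.mp (show 0 < (Finset.univ.erase i₀).card by omega)
      exact hw ▸ (key w' (Finset.ne_of_mem_erase hw')).2
    · exact (key w hw).1
  have hk : ∀ w, w ≠ i₀ → a (ν w) = a (ν i₀) - e := fun w hw => by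
    obtain ⟨l, hl, e'⟩ := hs w
    have h1 := congrArg (classInner (T l₀)) (hτ w)
    have h2 := ha (ν w)
    have h3 := ha (ν i₀)
    simp only [classInner_sub_right, classInner_smul_right, map_intCast] at h1
    rw [← e', hT3 l₀ l hl₀ hl fun h => hw (Subtype.ext (e'.symm.trans h.symm)), hT4 l₀ hl₀,
      show classInner (T l₀) (μ w) = _ from h2, show classInner (T l₀) (μ i₀) = _ from h3] at h1
    have h4 : (3 - 4 : ℤ) = e * (a (ν w) - a (ν i₀)) := by exact_mod_cast h1
    rcases he with rfl | rfl <;> omega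
  have hk0 : a (ν i₀) = e := by
    rw [hT4 l₀ hl₀] at ha4
    have h1 : ∑ χ, a χ ^ 2 = 4 := by exact_mod_cast ha4.symm
    have h2 := Finset.sum_le_sum_of_subset_of_nonneg (f := fun χ => a χ ^ 2)
      (Finset.subset_univ (insert (irrOne G) ((Finset.univ.erase i₀).image ν)))
      fun _ _ _ => sq_nonneg _
    rw [h1, Finset.sum_insert (by simp [hν1]), Finset.sum_image hνinj.injOn, ha1,
      Finset.sum_congr rfl fun w hw => by rw [hk w (Finset.ne_of_mem_erase hw)],
      Finset.sum_const, nsmul_eq_mul] at h2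
    by_contra hne
    have h3 : 1 ≤ (a (ν i₀) - e) ^ 2 := by
      have := sub_ne_zero.mpr hne
      exact Int.add_one_le_of_lt (sq_pos_of_ne_zero this)
    have h4 : (4 : ℤ) ≤ (Finset.univ.erase i₀).card := by exact_mod_cast hrest
    nlinarith
  have hρ1 : ∀ χ : Irr G, classInner (T l₀ + (irrOne G).1 - (e : ℂ) • μ i₀) χ.1 =
      a χ + (if irrOne G = χ then 1 else 0) - e * if ν i₀ = χ then 1 else 0 := fun χ => by
    rw [classInner_sub_left, classInner_add_left, classInner_smul_left, ha, ← irr_inner,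
      ← irr_inner]
  have hee : (e : ℂ) * e = 1 := by rcases he with rfl | rfl <;> simp
  obtain ⟨ζ₂, ζ₃, δ₂, δ₃, hζ₂, hζ₃, h23, hδ₂, hδ₃, hρ⟩ := (((hTgen l₀).add (irrOne G).2.isGen).sub
    ((hμ i₀).isGen.intCast_smul e)).exists_of_inner_self_two (by
      rw [classInner_sub_right, classInner_add_right, classInner_smul_right, hρ1, hρ1 (ν i₀),
        classInner_sub_left, classInner_add_left, classInner_smul_left, hT4 l₀ hl₀,
        ← conj_classInner (T l₀), ← conj_classInner (T l₀), ha, ha (ν i₀), ha1, hk0,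
        if_pos rfl, if_neg (hν1 _), if_neg (hν1 _).symm, if_pos rfl]
      simp only [map_intCast]
      push_cast
      linear_combination -hee)
  obtain ⟨t, ht, ht2⟩ := h.exists_inv
  have ht1 := H22.ne_one_of_orderOf_two ht2
  have htt := H22.mul_self_of_orderOf_two ht2
  have key : ∀ (ζ : Irr G) (δ : ℤ), (δ = 1 ∨ δ = -1) →
      classInner (T l₀ + (irrOne G).1 - (e : ℂ) • μ i₀) ζ.1 = δ →
      ζ ≠ irrOne G ∧ ∀ u ∈ (P : Subgroup G), u ≠ 1 → ζ.1 u = (-δ : ℤ) := fun ζ δ hδ h1 => by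
    rw [hρ1] at h1
    have hδ0 : (δ : ℂ) ≠ 0 := by rcases hδ with rfl | rfl <;> simp
    have h2 : irrOne G ≠ ζ := by
      rintro rfl
      rw [ha1, if_pos rfl, if_neg (hν1 _)] at h1
      exact hδ0 (by rw [← h1]; simp)
    have h3 : ν i₀ ≠ ζ := by
      rintro rfl
      rw [hk0, if_pos rfl, if_neg h2] at h1
      exact hδ0 (by rw [← h1]; simp)
    rw [if_neg h2, if_neg h3, mul_zero, add_zero, sub_zero] at h1
    have h4 : ∀ w, ν w ≠ ζ := fun w => by
      by_cases hw : w = i₀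
      · exact hw ▸ h3
      · rintro rfl
        rw [hk w hw, hk0] at h1
        exact hδ0 (by rw [← h1]; simp)
    have h5 : ζ ∈ principalBlock M G := by
      by_contra h5
      have := hTin l₀ ζ
      rw [ind_of_notMem h5, zero_mul, ha, h1] at this
      exact hδ0 this
    have h6 : ∀ l, l ≠ o → classInner (fun u : (P : Subgroup G) => ζ.1 u) l.1 =
        δ + classInner (fun u : (P : Subgroup G) => ζ.1 u) o.1 := fun l hl => by
      have := hcoef ⟨_, hmem l hl⟩ ζ
      rw [if_neg (h4 _), if_neg h3, h1, hTin, ind_of_mem h5, classInner_sub_left,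
        l.2.isCharacter.inner_comm (ζ.2.isCharacter.restrict _),
        o.2.isCharacter.inner_comm (ζ.2.isCharacter.restrict _)] at this
      linear_combination this
    refine ⟨h2.symm, fun u hu hu1 => ?_⟩
    have h7 := (ζ.2.classFun.restrict (P : Subgroup G)).apply_eq_sum ⟨u, hu⟩
    have h8 := sum_irr_comm hcomm (u := ⟨u, hu⟩) fun e => hu1 (congrArg Subtype.val e)
    rw [← Finset.add_sum_erase _ _ (Finset.mem_univ o)] at h7 h8
    rw [Finset.sum_congr rfl fun l hl => by rw [h6 l (Finset.ne_of_mem_erase hl)],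
      ← Finset.mul_sum] at h7
    change 1 + _ = 0 at h8
    change _ = _ * 1 + _ at h7
    push_cast
    linear_combination h7 + (δ + classInner (fun u : (P : Subgroup G) => ζ.1 u) o.1) * h8
  obtain ⟨k1, k2⟩ := key ⟨ζ₂, hζ₂⟩ δ₂ hδ₂ (by
    rw [hρ, classInner_add_left, classInner_smul_left, classInner_smul_left, hζ₂.inner_self,
      hζ₃.inner_of_ne hζ₂ h23.symm]; simp)
  obtain ⟨k3, k4⟩ := key ⟨ζ₃, hζ₃⟩ δ₃ hδ₃ (by
    rw [hρ, classInner_add_left, classInner_smul_left, classInner_smul_left, hζ₃.inner_self,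
      hζ₂.inner_of_ne hζ₃ h23]; simp)
  have hT0 : ∀ g, T l₀ g = -1 + e * μ i₀ g + δ₂ * ζ₂ g + δ₃ * ζ₃ g := fun g => by
    have := congrFun hρ g
    simp only [Pi.add_apply, Pi.sub_apply, Pi.smul_apply, smul_eq_mul, irrOne_apply] at this
    linear_combination this
  have v1 := hT0 1
  have vt := hT0 t
  have w2 : ζ₂ t = _ := k2 t ht ht1
  have w3 : ζ₃ t = _ := k4 t ht ht1
  rw [hTone] at v1
  rw [hTval l₀ t (by rw [pp_of_pElt (PElt.of_two ht2), htt]) hl₀', w2, w3] at vt
  have vs : ∑ x, T l₀ (x * t * x⁻¹ * t) = 0 := Finset.sum_eq_zero fun x _ => by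
    refine hTval l₀ _ ?_ hl₀'
    have h1 := H22.inverts_mul_of_mul_self' (H22.conj_mul_self htt x) htt
    have h2 : t * pp 2 (x * t * x⁻¹ * t) * t⁻¹ = (pp 2 (x * t * x⁻¹ * t))⁻¹ := by
      rw [← pp_conj, h1, pp_inv]
    have h3 := commute_of_abelian_sylow P h.comm (PElt.of_two ht2) (pElt_pp _)
      (h2 ▸ inv_mem (mem_zpowers _))
    rw [h3.eq, mul_inv_cancel_right] at h2
    exact mul_eq_one_iff_eq_inv.mpr h2
  simp only [hT0, Finset.sum_add_distrib, ← Finset.mul_sum, (hμ i₀).sum_conj_mul,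
    hζ₂.sum_conj_mul, hζ₃.sum_conj_mul, Finset.sum_const, Finset.card_univ, nsmul_eq_mul,
    ← Nat.card_eq_fintype_card, w2, w3] at vs
  obtain ⟨j₂, hj₂⟩ := card_dvd_deg_sub _ k2
  obtain ⟨j₃, hj₃⟩ := card_dvd_deg_sub _ k4
  have d2 : ζ₂ 1 = _ := (deg_eq ⟨ζ₂, hζ₂⟩).symm
  have d3 : ζ₃ 1 = _ := (deg_eq ⟨ζ₃, hζ₃⟩).symm
  have n2 := hζ₂.apply_one_ne_zero
  have n3 := hζ₃.apply_one_ne_zero
  have n0 := (hμ i₀).apply_one_ne_zero
  have nG := card_ne_zero G
  have hδδ₂ : (δ₂ : ℂ) * δ₂ = 1 := by rcases hδ₂ with rfl | rfl <;> simp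
  have hδδ₃ : (δ₃ : ℂ) * δ₃ = 1 := by rcases hδ₃ with rfl | rfl <;> simp
  have u1 : μ i₀ t = 3 * e := by
    push_cast at vt
    linear_combination -e * vt - μ i₀ t * hee + e * hδδ₂ + e * hδδ₃
  have u2 : μ i₀ 1 = e * (1 - δ₂ * ζ₂ 1 - δ₃ * ζ₃ 1) := by
    linear_combination -e * v1 - μ i₀ 1 * hee
  have := homo_arith (X := -δ₂ * deg ⟨ζ₂, hζ₂⟩) (Y := -δ₃ * deg ⟨ζ₃, hζ₃⟩)
    (q := Nat.card (P : Subgroup G)) (k := -δ₂ * j₂) (l := -δ₃ * j₃) (by exact_mod_cast h16)
    (by rcases hδ₂ with rfl | rfl; exacts [by linear_combination -hj₂, by linear_combination hj₂])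
    (by rcases hδ₃ with rfl | rfl; exacts [by linear_combination -hj₃, by linear_combination hj₃])
    (by
      have : (9 : ℂ) * (-δ₂ * ζ₂ 1 * (-δ₃ * ζ₃ 1)) = (1 + -δ₂ * ζ₂ 1 + -δ₃ * ζ₃ 1) *
          (-δ₂ * ζ₂ 1 * (-δ₃ * ζ₃ 1) + -δ₂ * ζ₂ 1 + -δ₃ * ζ₃ 1) := by
        rw [u1] at vs
        exact homo_arith' he hδ₂ hδ₃ nG n0 n2 n3 u2 vs
      rw [d2, d3] at this
      exact_mod_cast this)
  have fin : ∀ (ζ : Irr G) (δ : ℤ), (δ = 1 ∨ δ = -1) → -δ * deg ζ = 1 → ζ ≠ irrOne G →
      (∀ u ∈ (P : Subgroup G), u ≠ 1 → ζ.1 u = (-δ : ℤ)) →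
      ∃ χ : Irr G, χ ≠ irrOne G ∧ χ.1 1 = 1 ∧ ∀ u ∈ (P : Subgroup G), χ.1 u = 1 := by
    intro ζ δ hδ h1 h2 h3
    have := one_le_deg ζ
    rcases hδ with rfl | rfl
    · omega
    have h4 : ζ.1 1 = 1 := by
      rw [← deg_eq]; exact_mod_cast (show (deg ζ : ℤ) = 1 by omega)
    refine ⟨ζ, h2, h4, fun u hu => ?_⟩
    by_cases hu1 : u = 1
    · rw [hu1, h4]
    · rw [h3 u hu hu1]; simp
  rcases this with h1 | h1
  · exact fin _ _ hδ₂ h1 k1 k2
  · exact fin _ _ hδ₃ h1 k3 k4

universe u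

theorem homo_normal {A : Type} [Group A] (hA : ∀ {G : Type u} [Group G] (P : Subgroup G),
    (P ≃* A) → R2 P) (h16 : 16 ≤ Nat.card A) (n : ℕ) : ∀ (G : Type u) [Group G] [Finite G],
    Nat.card G = n → ∀ P : Sylow 2 G, ((P : Subgroup G) ≃* A) → pPrimeCore 2 G = ⊥ →
      (P : Subgroup G).Normal := by
  induction n using Nat.strong_induction_on with
  | _ n ih =>
  intro G _ _ hn P e hO
  have := Fintype.ofFinite G
  by_cases hN : normalizer ((P : Subgroup G) : Set G) ≤ centralizer ((P : Subgroup G) : Set G)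
  · have h1 := index_pPrimeCore_of_npc (H3.hasNPC_of_normalizer_le_centralizer P hN)
    rw [hO, index_bot, ← P.card_eq_multiplicity] at h1
    rw [Subgroup.eq_top_of_card_eq _ h1.symm]
    infer_instance
  obtain ⟨χ, h1, h2, h3⟩ := (hA _ e).exists_linear (by rwa [Nat.card_congr e.toEquiv]) hN
  have hK := H5.charKer_normal χ.2.classFun
  have hPK : (P : Subgroup G) ≤ H5.charKer χ.1 :=
    (H5.le_charKer_iff χ.2.isCharacter).mpr fun u hu => by rw [h3 u hu, h2]
  have hne : H5.charKer χ.1 ≠ ⊤ := fun h => h1 (Subtype.ext (funext fun g => by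
    rw [H5.apply_of_mem_charKer (χ := χ.1) (h ▸ mem_top g), h2, irrOne_apply]))
  have h4 := ih _ (hn ▸ H2.card_lt_of_ne_top hne) _ rfl (P.subtype hPK)
    ((subgroupOfEquivOfLe hPK).trans e) (by
      rw [← H2.pPrimeCore_subgroupOf_eq, hO, bot_subgroupOf])
  have h5 := Sylow.characteristic_of_normal _ h4
  rw [← map_subgroupOf_eq_of_le hPK]
  exact ConjAct.normal_of_characteristic_of_normal
    (K := (P.subtype hPK : Subgroup (H5.charKer χ.1)))

theorem pPrimeCore_eq_bot {G : Type*} [Group G] [Finite G]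
    (hO : ∀ N : Subgroup G, N.Normal → Odd (Nat.card N) → N = ⊥) : pPrimeCore 2 G = ⊥ :=
  hO _ inferInstance (Nat.coprime_two_right.mp (H2.pPrimeCore_coprime 2 G))

theorem centralizer_eq_of_normal {G : Type*} [Group G] [Finite G] {p : ℕ} [Fact p.Prime]
    (P : Sylow p G) [(P : Subgroup G).Normal] (hO : pPrimeCore p G = ⊥)
    (hc : (P : Subgroup G) ≤ centralizer ((P : Subgroup G) : Set G)) :
    centralizer ((P : Subgroup G) : Set G) = P := by
  have h1 := index_pPrimeCore_of_npc (H3.hasNPC_of_central_relSylow P.isPGroup'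
    (H3.sylow_not_dvd_relIndex_of_le P hc) le_rfl)
  rw [← H2.pPrimeCore_subgroupOf_eq, hO, bot_subgroupOf, index_bot, fact_card_of_sylow_le P hc]
    at h1
  exact (eq_of_le_of_card_ge hc h1.le).symm

end Homo

end H17
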