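import Mathlib
import Cfsg.Agent.H17.Klein

/-!
# The Brauer–Suzuki theorem for quaternion Sylow `2`-subgroups of order `8`
-/

set_option autoImplicit false
set_option linter.unusedSectionVars false
set_option linter.unusedVariables false

open Cfsg H4 Subgroup
open scoped ComplexConjugate

namespace H17

section Comb

variable {ι : Type*} [Fintype ι] [DecidableEq ι]

theorem sq_add_sq_le_sum (f : ι → ℤ) {i j : ι} (h : i ≠ j) :
    f i * f i + f j * f j ≤ ∑ k, f k * f k := by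
  have := Finset.sum_le_sum_of_subset_of_nonneg (f := fun k => f k * f k)
    (Finset.subset_univ {i, j}) fun _ _ _ => mul_self_nonneg _
  rwa [Finset.sum_pair h] at this

theorem abs_le_one_of_weight {f w : ι → ℤ} (hw : ∀ i, 0 < w i) (h4 : ∑ k, f k * f k = 4)
    (h0 : ∑ k, f k * w k = 0) (i : ι) : -1 ≤ f i ∧ f i ≤ 1 := by
  by_contra h
  have h1 : 4 ≤ f i * f i := by
    rcases not_and_or.mp h with h | h <;> nlinarith
  rw [Finset.sum_eq_single i (fun j _ hj => by
    have := sq_add_sq_le_sum f hj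
    rw [show f j = 0 by nlinarith, zero_mul]) (by simp)] at h0
  rcases mul_eq_zero.mp h0 with h2 | h2
  · rw [h2] at h1; omega
  · exact (hw i).ne' h2

theorem exists_of_sum_sq_three {v : ι → ℤ} {o : ι} (ho : v o = 1) (h3 : ∑ k, v k * v k = 3) :
    ∃ i j, i ≠ o ∧ j ≠ o ∧ (v i = 1 ∨ v i = -1) ∧ (v j = 1 ∨ v j = -1) ∧
      ∀ {R : Type} [CommRing R] (F : ι → R), ∑ k, v k * F k = F o + v i * F i + v j * F j := by
  have h1 : ∀ i, v i ≠ 0 → v i = 1 ∨ v i = -1 := fun i hi => by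
    by_cases h : i = o
    · exact Or.inl (h ▸ ho)
    · have := sq_add_sq_le_sum v h
      rw [ho, h3] at this
      have h3 : v i ≤ 1 := by nlinarith
      have h3 : -1 ≤ v i := by nlinarith
      omega
  set s := Finset.univ.filter fun k => v k ≠ 0 with hs
  have h2 : s.card = 3 := by
    rw [← Finset.sum_subset (Finset.subset_univ s) (fun k _ hk => by
      rw [show v k = 0 by simpa [hs] using hk, zero_mul]),
      Finset.sum_congr rfl (g := fun _ => 1) fun k hk => by
        rcases h1 k (by simpa [hs] using hk) with h | h <;> simp [h],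
      Finset.sum_const, nsmul_eq_mul, mul_one] at h3
    exact_mod_cast h3
  have hos : o ∈ s := by simp [hs, ho]
  obtain ⟨i, j, hij, h4⟩ := Finset.card_eq_two.mp
    (show (s.erase o).card = 2 by rw [Finset.card_erase_of_mem hos, h2])
  have hi : i ∈ s.erase o := by rw [h4]; simp
  have hj : j ∈ s.erase o := by rw [h4]; simp
  refine ⟨i, j, Finset.ne_of_mem_erase hi, Finset.ne_of_mem_erase hj,
    h1 i (by simpa [hs] using Finset.mem_of_mem_erase hi),
    h1 j (by simpa [hs] using Finset.mem_of_mem_erase hj), fun F => ?_⟩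
  rw [← Finset.sum_subset (Finset.subset_univ s) (fun k _ hk => by
      rw [show v k = 0 by simpa [hs] using hk, Int.cast_zero, zero_mul]),
    ← Finset.add_sum_erase _ _ hos, h4, Finset.sum_pair hij, ho, Int.cast_one, one_mul, add_assoc]

theorem q8_rows {A B C D A' B' C' D' α β : ℤ} (hα : α = 1 ∨ α = -1) (hβ : β = 1 ∨ β = -1)
    (e1 : α * A + β * A' = 1) (e2 : α * B + β * B' = 2) (e3 : α * C + β * C' = 0)
    (e4 : α * D + β * D' = 1) (h1 : A + B - C + D = 2 * α) (h2 : A' + B' - C' + D' = 2 * β)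
    (b1 : -1 ≤ A ∧ A ≤ 1) (b2 : -1 ≤ B ∧ B ≤ 1) (b4 : -1 ≤ D ∧ D ≤ 1)
    (b5 : -1 ≤ A - C ∧ A - C ≤ 1) (b6 : -1 ≤ B - C ∧ B - C ≤ 1)
    (c1 : -1 ≤ A' ∧ A' ≤ 1) (c2 : -1 ≤ B' ∧ B' ≤ 1) (c4 : -1 ≤ D' ∧ D' ≤ 1)
    (c5 : -1 ≤ A' - C' ∧ A' - C' ≤ 1) (c6 : -1 ≤ B' - C' ∧ B' - C' ≤ 1) :
    (A = 0 ∧ B = α ∧ C = 0 ∧ A' = β ∧ B' = β ∧ C' = 0) ∨
      (A' = 0 ∧ B' = β ∧ C' = 0 ∧ A = α ∧ B = α ∧ C = 0) := by
  have h3 : B = α ∧ B' = β := by
    rcases hα with rfl | rfl <;> rcases hβ with rfl | rfl <;> omega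
  obtain ⟨rfl, rfl⟩ := h3
  have h4 : C = 0 := by
    rcases hα with rfl | rfl <;> rcases hβ with rfl | rfl <;> omega
  subst h4
  have h5 : C' = 0 := by
    rcases hα with rfl | rfl <;> rcases hβ with rfl | rfl <;> omega
  subst h5
  by_cases h6 : A = 0
  · left
    rcases hα with rfl | rfl <;> rcases hβ with rfl | rfl <;> omega
  · right
    rcases hα with rfl | rfl <;> rcases hβ with rfl | rfl <;> omega

theorem q8_comb {o : ι} {a b c d w : ι → ℤ} (hw : ∀ i, 0 < w i)
    (haa : ∑ k, a k * a k = 4) (hbb : ∑ k, b k * b k = 4) (hcc : ∑ k, c k * c k = 4)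
    (hdd : ∑ k, d k * d k = 4) (hab : ∑ k, a k * b k = 2) (hac : ∑ k, a k * c k = 2)
    (hbc : ∑ k, b k * c k = 2) (had : ∑ k, a k * d k = 0) (hbd : ∑ k, b k * d k = 0)
    (hcd : ∑ k, c k * d k = 0) (haw : ∑ k, a k * w k = 0) (hbw : ∑ k, b k * w k = 0)
    (hcw : ∑ k, c k * w k = 0) (hdw : ∑ k, d k * w k = 0) (ha : a o = 1) (hb : b o = 0)
    (hc : c o = 0) (hd : d o = 1) (hpar : ∀ k, 2 ∣ a k + b k - c k + d k) :
    ∃ i j, ∃ α β : ℤ, i ≠ o ∧ (α = 1 ∨ α = -1) ∧ (β = 1 ∨ β = -1) ∧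
      a i = 0 ∧ b i = α ∧ c i = 0 ∧ a j = β ∧ b j = β ∧ c j = 0 ∧
      ∀ F : ι → ℂ, ∑ k, (a k + b k - c k + d k) * F k = 2 * (F o + α * F i + β * F j) := by
  choose v hv using hpar
  have hsum : ∀ f : ι → ℤ, 2 * ∑ k, v k * f k =
      ∑ k, a k * f k + ∑ k, b k * f k - ∑ k, c k * f k + ∑ k, d k * f k := fun f => by
    rw [Finset.mul_sum, ← Finset.sum_add_distrib, ← Finset.sum_sub_distrib,
      ← Finset.sum_add_distrib]
    exact Finset.sum_congr rfl fun k _ => by linear_combination -f k * hv k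
  have hcomm : ∀ f g : ι → ℤ, ∑ k, f k * g k = ∑ k, g k * f k := fun f g =>
    Finset.sum_congr rfl fun k _ => mul_comm _ _
  have h1 := hsum a
  have h2 := hsum b
  have h3 := hsum c
  have h4 := hsum d
  have h5 := hsum v
  rw [hcomm a v, hcomm b v, hcomm c v, hcomm d v] at h5
  rw [hcomm b a, hcomm c a, hcomm d a] at h1
  rw [hcomm c b, hcomm d b] at h2
  rw [hcomm d c] at h3
  obtain ⟨i, j, hi, hj, hα, hβ, hF⟩ := exists_of_sum_sq_three (v := v) (o := o)
    (by have := hv o; omega) (by omega)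
  have hF' : ∀ F : ι → ℂ, ∑ k, (a k + b k - c k + d k) * F k =
      2 * (F o + v i * F i + v j * F j) := fun F => by
    rw [← hF, Finset.mul_sum]
    refine Finset.sum_congr rfl fun k _ => ?_
    have : ((a k + b k - c k + d k : ℤ) : ℂ) = (2 * v k : ℤ) := by rw [hv]
    push_cast at this
    rw [this, mul_assoc]
  have e1 := hF a
  have e2 := hF b
  have e3 := hF c
  have e4 := hF d
  simp only [Int.cast_id] at e1 e2 e3 e4
  have hdiff : ∀ f g : ι → ℤ, ∑ k, f k * f k = 4 → ∑ k, g k * g k = 4 → ∑ k, f k * g k = 2 →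
      ∑ k, f k * w k = 0 → ∑ k, g k * w k = 0 → ∀ k, -1 ≤ f k - g k ∧ f k - g k ≤ 1 :=
    fun f g h1 h2 h3 h4 h5 => abs_le_one_of_weight (f := fun k => f k - g k) hw (by
      have : ∑ k, (f k - g k) * (f k - g k) =
          ∑ k, f k * f k + ∑ k, g k * g k - 2 * ∑ k, f k * g k := by
        rw [Finset.mul_sum, ← Finset.sum_add_distrib, ← Finset.sum_sub_distrib]
        exact Finset.sum_congr rfl fun k _ => by ring
      omega) (by simp only [sub_mul, Finset.sum_sub_distrib, h4, h5, sub_self])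
  have b1 := abs_le_one_of_weight hw haa haw
  have b2 := abs_le_one_of_weight hw hbb hbw
  have b4 := abs_le_one_of_weight hw hdd hdw
  have b5 := hdiff a c haa hcc hac haw hcw
  have b6 := hdiff b c hbb hcc hbc hbw hcw
  have key := q8_rows (A := a i) (B := b i) (C := c i) (D := d i) (A' := a j) (B' := b j)
    (C' := c j) (D' := d j) hα hβ (by linarith) (by linarith) (by linarith) (by linarith) (hv i)
    (hv j) (b1 i) (b2 i) (b4 i) (b5 i) (b6 i) (b1 j) (b2 j) (b4 j) (b5 j) (b6 j)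
  rcases key with ⟨k1, k2, k3, k4, k5, k6⟩ | ⟨k1, k2, k3, k4, k5, k6⟩
  · exact ⟨i, j, _, _, hi, hα, hβ, k1, k2, k3, k4, k5, k6, hF'⟩
  · exact ⟨j, i, _, _, hj, hβ, hα, k1, k2, k3, k4, k5, k6, fun F => by rw [hF']; ring⟩

theorem bs_arith {X Y s : ℂ} (hX : X ≠ 0) (hY : Y ≠ 0) (h1 : 1 + X + Y = 0)
    (h2 : 1 + s * s / X + (1 + s) * (1 + s) / Y = 0) : s = X := by
  field_simp at h2
  obtain rfl : Y = -(1 + X) := by linear_combination h1
  have : (s - X) ^ 2 = 0 := by linear_combination -h2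
  exact sub_eq_zero.mp (pow_eq_zero_iff two_ne_zero |>.mp this)

end Comb

section Central

variable {H K : Type*} [Group H] [Fintype H] [Group K] [Fintype K]

theorem sum_eq_sum_infl (π : H →* K) (hπ : Function.Surjective π) (F : Irr H → ℂ)
    (h : ∀ ξ : Irr H, (∃ n ∈ π.ker, ξ.1 n ≠ ξ.1 1) → F ξ = 0) :
    ∑ ξ, F ξ = ∑ ζ, F (infl π hπ ζ) := by
  classical
  symm
  refine Finset.sum_of_injOn (infl π hπ) (infl_injective _ _).injOn (by simp)
    (fun χ _ hχ => h χ ?_) fun ψ _ => rfl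
  by_contra h1
  push Not at h1
  obtain ⟨ψ, rfl⟩ := exists_infl π hπ h1
  exact hχ ⟨ψ, by simp, rfl⟩

/-- `π` is the quotient map by the central involution `z`. -/
structure CQ (π : H →* K) (z : H) : Prop where
  surj : Function.Surjective π
  two : orderOf z = 2
  central : ∀ g, Commute z g
  ker : ∀ h, π h = 1 ↔ h = 1 ∨ h = z

/-- The function on `K` given by `θ` on the lifts of odd order of the elements of odd order. -/
noncomputable def dn (π : H →* K) (hπ : Function.Surjective π) (θ : H → ℂ) : K → ℂ :=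
  co (push π hπ (hat (regPart 2 θ)))

theorem dn_classFun (π : H →* K) (hπ : Function.Surjective π) (θ : H → ℂ) :
    IsClassFunction K (dn π hπ θ) := co_classFun _

theorem dn_of_sing (π : H →* K) (hπ : Function.Surjective π) {θ : H → ℂ}
    (hθ : IsClassFunction H θ) {k : K} (hk : 2 ∣ orderOf k) : dn π hπ θ k = 0 :=
  co_push_of_sing π hπ (fun g hg => by
    rw [co_hat (regPart_classFun hθ), regPart_of_sing _ hg]) hk

namespace CQ

variable {π : H →* K} {z : H}

theorem isPGroup (h : CQ π z) : IsPGroup 2 π.ker := fun g => ⟨1, Subtype.ext (by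
  rcases (h.ker g).mp g.2 with e | e
  · simp [e]
  · change (g : H) ^ 2 ^ 1 = 1
    rw [e, pow_one, ← h.two, pow_orderOf_eq_one])⟩

theorem mem_centralizer (h : CQ π z) (g : H) : g ∈ centralizer (π.ker : Set H) := fun n hn => by
  rcases (h.ker n).mp hn with e | e
  · simp [e]
  · rw [e]; exact h.central g

theorem card (h : CQ π z) : Nat.card H = 2 * Nat.card K := by
  have h1 : (π.ker : Set H) = {1, z} := Set.ext fun g => h.ker g
  have h2 : Nat.card π.ker = 2 := by
    change Nat.card (π.ker : Set H) = 2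
    rw [h1, Nat.card_coe_set_eq, Set.ncard_pair (H22.ne_one_of_orderOf_two h.two).symm]
  rw [← π.ker.card_mul_index, h2, index_ker, MonoidHom.range_eq_top.mpr h.surj, card_top]

theorem dn_of_reg (h : CQ π z) {θ : H → ℂ} (hθ : IsClassFunction H θ) {y : H}
    (hy : ¬ 2 ∣ orderOf y) : dn π h.surj θ (π y) = θ y := by
  rw [dn, co_push_of_reg π h.surj h.isPGroup (fun g _ => h.mem_centralizer g) (fun g hg => by
    rw [co_hat (regPart_classFun hθ), regPart_of_sing _ hg]) hy, co_hat (regPart_classFun hθ),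
    regPart_of_reg _ hy]

theorem inner_dn (h : CQ π z) {θ : H → ℂ} (hθ : IsClassFunction H θ) (Φ : K → ℂ) :
    classInner (dn π h.surj θ) Φ =
      (2 : ℕ) * classInner (regPart 2 θ) fun g => Φ (π g) := by
  classical
  simp only [classInner_def, dn, co_push, co_hat (regPart_classFun hθ), Finset.sum_mul, h.card]
  rw [Finset.sum_comm, ← mul_assoc]
  congr 1
  · have := card_ne_zero K
    push_cast; field_simp
  · refine Finset.sum_congr rfl fun g _ => ?_
    rw [Finset.sum_eq_single (π g) (fun k _ hk => by rw [if_neg hk.symm, zero_mul]) (by simp),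
      if_pos rfl]

theorem inner_dn_int (h : CQ π z) {θ : H → ℂ} (hθ : IsGeneralizedCharacter H θ) {Φ : K → ℂ}
    (hΦ : IsGeneralizedCharacter K Φ) (h0 : ∀ k, 2 ∣ orderOf k → Φ k = 0) :
    ∃ n : ℤ, classInner (dn π h.surj θ) Φ = n := by
  obtain ⟨M, hM⟩ := exists_PM 2
  rw [h.inner_dn hθ.classFun]
  refine exists_int_mul_inner_regPart hθ (hΦ.comp π) 2 (M := M) ?_
  rw [← h.inner_dn hθ.classFun]
  obtain ⟨s, hs, h1⟩ := exists_comb (p := 2) (M := M) (dn_classFun π h.surj θ) fun k hk => by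
    obtain ⟨y, hy, rfl⟩ := exists_reg_lift π h.surj hk
    rw [h.dn_of_reg hθ.classFun hy]
    exact S_of_isIntegral (hθ.isIntegral y)
  have : classInner (dn π h.surj θ) Φ = classInner (∑ χ, s χ • χ.1) Φ := by
    rw [classInner_def, classInner_def]
    congr 1
    refine Finset.sum_congr rfl fun k _ => ?_
    by_cases hk : 2 ∣ orderOf k
    · simp [h0 k hk]
    · rw [← h1 k hk, Finset.sum_apply]; rfl
  rw [this]
  exact inner_mem_of_CR (comb_mem_CR hs) hΦ

theorem cls_cases (h : CQ π z) (ξ : Irr H) : cls z ξ = 1 ∨ cls z ξ = -1 := by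
  have := cls_pow_eq_one h.central ξ (n := 2) (by rw [← h.two, pow_orderOf_eq_one])
  rwa [sq, mul_self_eq_one_iff] at this

theorem isGen_mul (h : CQ π z) {θ : H → ℂ} (hθ : IsGeneralizedCharacter H θ) :
    IsGeneralizedCharacter H fun g => θ (z * g) := by
  obtain ⟨n, rfl⟩ := hθ.exists_eq_sum_int
  have : (fun g => (∑ ψ : Irr H, (n ψ : ℂ) • ψ.1) (z * g)) =
      ∑ ψ : Irr H, (n ψ : ℂ) • cls z ψ • ψ.1 := by
    ext g
    simp only [Finset.sum_apply, Pi.smul_apply, smul_eq_mul, central_mul h.central]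
  rw [this]
  refine isGen_sum _ _ fun ψ _ => ?_
  rcases h.cls_cases ψ with e | e <;> rw [e]
  · rw [one_smul]; exact ψ.2.isGen.intCast_smul _
  · rw [neg_smul, one_smul]; exact ψ.2.isGen.neg.intCast_smul _

variable {M : Ideal AlgInt} [PM 2 M]

theorem ind_infl (h : CQ π z) (ζ : Irr K) :
    ind (principalBlock M H) (infl π h.surj ζ) = ind (principalBlock M K) ζ := by
  classical
  rw [ind_apply, ind_apply]
  exact if_congr (SB_infl_iff_of_pgroup (χ := irrOne K) π h.surj h.isPGroup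
    fun g _ => h.mem_centralizer g) rfl rfl

theorem sum_add (h : CQ π z) (g g' : H) :
    ∑ ξ : Irr H, ind (principalBlock M H) ξ * (ξ.1 g * conj (ξ.1 g')) +
      ∑ ξ : Irr H, ind (principalBlock M H) ξ * (ξ.1 (z * g) * conj (ξ.1 g')) =
      2 * ∑ ζ : Irr K, ind (principalBlock M K) ζ * (ζ.1 (π g) * conj (ζ.1 (π g'))) := by
  rw [← Finset.sum_add_distrib, sum_eq_sum_infl π h.surj, Finset.mul_sum]
  · refine Finset.sum_congr rfl fun ζ _ => ?_
    rw [h.ind_infl, infl_apply, infl_apply, infl_apply, map_mul, (h.ker z).mpr (Or.inr rfl), one_mul]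
    ring
  · rintro ξ ⟨n, hn, h2⟩
    rcases (h.ker n).mp hn with rfl | rfl
    · exact absurd rfl h2
    rw [central_mul h.central]
    rcases h.cls_cases ξ with e | e
    · rw [cls_central h.central, div_eq_one_iff_eq ξ.2.apply_one_ne_zero] at e
      exact absurd e h2
    · rw [e]; ring

theorem principal_sum (h : CQ π z) {y y' : H} (hy : ¬ 2 ∣ orderOf y) (hy' : ¬ 2 ∣ orderOf y') :
    ∑ ξ : Irr H, ind (principalBlock M H) ξ * (ξ.1 y * conj (ξ.1 y')) =
      2 * ∑ ζ : Irr K, ind (principalBlock M K) ζ * (ζ.1 (π y) * conj (ζ.1 (π y'))) := by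
  rw [← h.sum_add, block_orth (g := z * y) (A := principalBlock M H) (fb_mem_ZS (irrOne H)),
    add_zero]
  rw [pp_mul (PElt.of_two h.two) hy (h.central y), pp_of_reg hy', isConj_one_left]
  exact H22.ne_one_of_orderOf_two h.two

end CQ

theorem sum_inner_mul_inner {ι : Type*} [Fintype ι] (c : ι → ℂ) (f f' : ι → K → ℂ) (Φ Φ' : K → ℂ) :
    ∑ i, c i * (classInner (f i) Φ * conj (classInner (f' i) Φ')) =
      (Nat.card K : ℂ)⁻¹ * (Nat.card K : ℂ)⁻¹ * ∑ k, ∑ k', conj (Φ k) * Φ' k' *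
        ∑ i, c i * (f i k * conj (f' i k')) := by
  simp only [classInner_def, map_mul, map_sum, map_inv₀, map_natCast, Complex.conj_conj,
    Finset.mul_sum, Finset.sum_mul]
  rw [Finset.sum_comm]
  conv_rhs => rw [Finset.sum_comm]
  refine Finset.sum_congr rfl fun k' _ => ?_
  rw [Finset.sum_comm]
  exact Finset.sum_congr rfl fun k _ => Finset.sum_congr rfl fun i _ => by ring

theorem sum_conj_inner_mul {ι : Type*} [Fintype ι] (c : ι → ℂ) (f : ι → K → ℂ) (Φ : K → ℂ) :
    ∑ i, c i * conj (classInner (f i) Φ) =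
      (Nat.card K : ℂ)⁻¹ * ∑ k, Φ k * ∑ i, c i * conj (f i k) := by
  simp only [classInner_def, map_mul, map_sum, map_inv₀, map_natCast, Complex.conj_conj,
    Finset.mul_sum]
  rw [Finset.sum_comm]
  exact Finset.sum_congr rfl fun k _ => Finset.sum_congr rfl fun i _ => by ring

end Central

section Core

variable {G : Type*} [Group G] [Finite G]

theorem exists_conj_pair_mem {p : ℕ} [Fact p.Prime] (P : Sylow p G) {a b : G} (ha : PElt p a)
    (hb : PElt p b) (h : a * b * a⁻¹ ∈ zpowers b) :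
    ∃ t, t * a * t⁻¹ ∈ (P : Subgroup G) ∧ t * b * t⁻¹ ∈ (P : Subgroup G) := by
  have h1 : a ∈ normalizer (zpowers b : Set G) := H3.mem_normalizer_of_forall fun x hx => by
    obtain ⟨k, rfl⟩ := mem_zpowers_iff.mp hx
    rw [← conj_zpow]; exact zpow_mem h k
  obtain ⟨D, hD, haD⟩ := exists_sylIn_ge ha.isPGroup_zpowers (zpowers_le.mpr h1)
  have hbD := hD.normal_le hb.isPGroup_zpowers le_normalizer le_rfl
  obtain ⟨t, -, ht⟩ := (sylIn_top P).exists_cj_le hD.isPGroup le_top
  exact ⟨t, ht (conj_mem_cj.mpr (haD (mem_zpowers a))), ht (conj_mem_cj.mpr (hbD (mem_zpowers b)))⟩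

variable (G) in
/-- Commuting involutions are equal: the Sylow `2`-subgroups have at most one involution. -/
def UI : Prop := ∀ a b : G, orderOf a = 2 → orderOf b = 2 → Commute a b → a = b

theorem ui_of_sylow (S : Sylow 2 G) (h : ∀ a ∈ (S : Subgroup G), ∀ b ∈ (S : Subgroup G),
    orderOf a = 2 → orderOf b = 2 → a = b) : UI G := fun a b ha hb hab => by
  obtain ⟨t, h1, h2⟩ := exists_conj_pair_mem S (PElt.of_two ha) (PElt.of_two hb)
    (by rw [hab.eq, mul_inv_cancel_right]; exact mem_zpowers b)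
  have := h _ h1 _ h2 (by rw [orderOf_conj, ha]) (by rw [orderOf_conj, hb])
  simpa using this

theorem UI.isolated (h : UI G) {z : G} (hz : orderOf z = 2) : IsIsolatedInvolution z :=
  ⟨hz, fun g hg => (h _ _ hz (by rw [orderOf_conj, hz]) hg).symm⟩

theorem UI.isConj (h : UI G) {a b : G} (ha : orderOf a = 2) (hb : orderOf b = 2) : IsConj a b := by
  obtain ⟨S, hS⟩ := (PElt.of_two ha).isPGroup_zpowers.exists_le_sylow
  obtain ⟨u, hu, h1⟩ := exists_conj_mem S (PElt.of_two hb)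
  obtain ⟨z, hz, hz2, hc⟩ := H6.exists_central_involution S.isPGroup' (by
    rintro e
    exact H22.ne_one_of_orderOf_two ha (mem_bot.mp (e ▸ hS (mem_zpowers a))))
  rw [h a z ha hz2 (hc a (hS (mem_zpowers a))),
    ← h u z (by rw [← orderOf_eq_of_isConj h1, hb]) hz2 (hc u hu)]
  exact h1.symm

theorem UI.subgroup (h : UI G) (K : Subgroup G) : UI K := fun a b ha hb hab =>
  Subtype.ext (h _ _ (by rwa [Subgroup.orderOf_coe]) (by rwa [Subgroup.orderOf_coe])
    (hab.map K.subtype))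

theorem ui_of_q8 (S : Sylow 2 G) (e : (S : Subgroup G) ≃* QuaternionGroup 2) : UI G :=
  ui_of_sylow S fun _ ha _ hb ha2 hb2 => H22.q8_unique_involution e ha hb
    (H22.mul_self_of_orderOf_two ha2) (H22.mul_self_of_orderOf_two hb2)
    (H22.ne_one_of_orderOf_two ha2) (H22.ne_one_of_orderOf_two hb2)

theorem isolated_sum_eq_zero [Fintype G] {z : G} (hz : IsIsolatedInvolution z) (a : Irr G → ℂ)
    (h : ∀ y, ¬ 2 ∣ orderOf y → ∑ χ, a χ * χ.1 y = 0) :
    ∑ χ, a χ * (χ.1 z * χ.1 z / χ.1 1) = 0 := by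
  have h1 : ∑ g : G, ∑ χ, a χ * χ.1 (g * z * g⁻¹ * z) = 0 := Finset.sum_eq_zero fun g _ =>
    h _ (by simpa using (H22.isolated_odd' hz g 1).not_two_dvd_nat)
  rw [Finset.sum_comm] at h1
  simp only [← Finset.mul_sum, fun χ : Irr G => χ.2.sum_conj_mul z z] at h1
  refine mul_left_cancel₀ (card_ne_zero G) ?_
  rw [mul_zero, ← h1, Finset.mul_sum]
  exact Finset.sum_congr rfl fun χ _ => by ring

/-- The fusion data of a group with quaternion Sylow `2`-subgroup of order `8` and no normal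
`2`-complement. -/
structure Q8D (x : G) : Prop where
  ui : UI G
  two : orderOf (x * x) = 2
  fact : ∃ S : Sylow 2 G, zpowers x ≤ S ∧ Nat.card (S : Subgroup G) = 8
  pow : ∀ g : G, PElt 2 g → g * g * (g * g) = 1
  four : ∀ g : G, PElt 2 g → g * g ≠ 1 → IsConj g x
  syl : SylIn 2 (zpowers x) (centralizer {x})

theorem exists_q8d (S : Sylow 2 G) (e : (S : Subgroup G) ≃* QuaternionGroup 2)
    (h : ¬ HasNormalPComplement 2 G) : ∃ x : G, Q8D x := by
  obtain ⟨x, hx⟩ := q8_exists_four e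
  have hx' : (x : G) * x ≠ 1 := fun h => hx (Subtype.ext h)
  have hsq : ∀ {g u : G}, IsConj g u → g * g ≠ 1 → u * u ≠ 1 := fun {g u} h1 h2 h3 => by
    obtain ⟨t, rfl⟩ := isConj_iff.mp h1.symm
    exact h2 (H22.conj_mul_self h3 t)
  refine ⟨x, ui_of_q8 S e, H22.orderOf_eq_two_of_mul_self (congrArg Subtype.val (q8_pow e x)) hx',
    ⟨S, zpowers_le.mpr x.2, H22.q8_card e⟩, fun g hg => ?_, fun g hg h2 => ?_, ?_⟩
  · obtain ⟨u, hu, h1⟩ := exists_conj_mem S hg
    obtain ⟨t, rfl⟩ := isConj_iff.mp h1.symm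
    have h2 : u * u * (u * u) = 1 := congrArg Subtype.val (q8_pow e ⟨u, hu⟩)
    calc _ = t * (u * u * (u * u)) * t⁻¹ := by group
      _ = 1 := by rw [h2]; group
  · obtain ⟨u, hu, h1⟩ := exists_conj_mem S hg
    obtain ⟨n, -, hn⟩ := q8_fusion S e h hu x.2 (hsq h1 h2) hx'
    exact h1.trans (isConj_iff.mpr ⟨n, hn⟩)
  · refine sylIn_of_maximal (zpowers_le.mpr (mem_centralizer_singleton.mpr (Commute.refl _)))
      (PElt.of_mem S.isPGroup' x.2).isPGroup_zpowers fun Q hQ h1 h2 y hy => ?_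
    obtain ⟨t, -, ht⟩ := (sylIn_top S).exists_cj_le hQ le_top
    have key : ∀ a b : QuaternionGroup 2, a * a ≠ 1 → b * a = a * b →
      b = 1 ∨ b = a ∨ b = a * a ∨ b = a⁻¹ := by decide
    have m1 := ht (conj_mem_cj.mpr (h1 (mem_zpowers _)))
    have m2 := ht (conj_mem_cj.mpr hy)
    have := key (e ⟨_, m1⟩) (e ⟨_, m2⟩)
    simp only [← map_mul, ← map_inv, ne_eq, EmbeddingLike.map_eq_one_iff,
      EmbeddingLike.apply_eq_iff_eq, Subtype.ext_iff, Subgroup.coe_mul, Subgroup.coe_inv,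
      Subgroup.coe_one, conj_mul, conj_inv, mul_left_inj, mul_right_inj, conj_eq_one_iff] at this
    rcases this hx' (mem_centralizer_singleton.mp (h2 hy)) with rfl | rfl | rfl | rfl
    exacts [one_mem _, mem_zpowers _, mul_mem (mem_zpowers _) (mem_zpowers _),
      inv_mem (mem_zpowers _)]

namespace Q8D

variable {x : G}

theorem pElt (h : Q8D x) : PElt 2 x := PElt.of_mem h.syl.isPGroup (mem_zpowers x)

theorem orderOf_eq (h : Q8D x) : orderOf x = 4 :=
  orderOf_eq_prime_pow (p := 2) (n := 1) (by simpa [sq] using H22.ne_one_of_orderOf_two h.two)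
    (by rw [← h.pow x h.pElt]; simp [pow_succ, mul_assoc])

theorem hasNPC (h : Q8D x) : HasNormalPComplement 2 (centralizer ({x} : Set G)) :=
  H3.hasNPC_of_central_relSylow h.syl.isPGroup h.syl.not_dvd_relIndex
    (centralizer_zpowers x).ge

theorem sum_eq {M : Ideal AlgInt} [PM 2 M] (h : Q8D x) (g : G) [Decidable (IsConj (pp 2 g) x)] :
    ∑ χ : Irr G, ind (principalBlock M G) χ * (χ.1 g * conj (χ.1 x)) =
      if IsConj (pp 2 g) x then 4 else 0 := by
  rw [npc_sum h.pElt h.hasNPC, ← h.syl.card, Nat.card_zpowers, h.orderOf_eq]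
  congr

theorem exists_int (h : Q8D x) (χ : Irr G) : ∃ n : ℤ, χ.1 x = n :=
  χ.2.isGen.exists_int_of_isConj fun m hm => by
    have h1 : orderOf (x ^ m) = 4 := by rw [hm.symm.orderOf_pow, h.orderOf_eq]
    refine (h.four _ ⟨2, h1⟩ fun h2 => ?_).symm
    have := orderOf_dvd_of_pow_eq_one (show (x ^ m) ^ 2 = 1 by rwa [sq])
    rw [h1] at this
    omega

theorem not_isConj (h : Q8D x) : ¬ IsConj x (x * x) := fun h1 => by
  have := orderOf_eq_of_isConj h1
  rw [h.orderOf_eq, h.two] at this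
  omega

theorem klein (h : Q8D x) {K : Type*} [Group K] [Finite K]
    {π : centralizer ({x * x} : Set G) →* K} (hπ : Function.Surjective π)
    (hker : ∀ g, π g = 1 ↔ g = 1 ∨ g = selfC (x * x))
    (hcard : Nat.card (centralizer ({x * x} : Set G)) = 2 * Nat.card K) :
    (∀ P : Sylow 2 K, IsKleinFour (P : Subgroup K)) ∧
      ∀ s t : K, orderOf s = 2 → orderOf t = 2 → IsConj s t := by
  have hlift : ∀ k : K, PElt 2 k → ∃ g, PElt 2 g ∧ π g = k := fun k hk => by
    obtain ⟨g, rfl⟩ := hπ k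
    exact ⟨pp 2 g, pElt_pp g, by rw [← pp_map, pp_of_pElt hk]⟩
  have hsq : ∀ g : centralizer ({x * x} : Set G), PElt 2 g → g * g ≠ 1 → (g : G) * g = x * x :=
    fun g hg h1 => h.ui _ _ (H22.orderOf_eq_two_of_mul_self (h.pow _ (hg.map (Subgroup.subtype _)))
      fun e => h1 (Subtype.ext e)) h.two (mem_centralizer_singleton.mp (g * g).2)
  constructor
  · intro P
    refine H22.isKleinFour_of ?_ fun k hk => ?_
    · obtain ⟨S, hx, hS⟩ := h.fact
      rw [zpowers_le] at hx
      obtain ⟨z, hz, hz2, hc⟩ := H6.exists_central_involution S.isPGroup' (by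
        rintro e; rw [e] at hS; simp at hS)
      have h1 := h.ui _ _ h.two hz2 (hc _ (mul_mem hx hx))
      have h2 := fact_card_of_sylow_le S (K := centralizer {x * x}) fun s hs =>
        mem_centralizer_singleton.mpr (h1 ▸ hc s hs)
      rw [hS, hcard, Nat.factorization_mul two_ne_zero Nat.card_pos.ne', Finsupp.add_apply,
        Nat.Prime.factorization_self Nat.prime_two, pow_add, ← P.card_eq_multiplicity] at h2
      omega
    · obtain ⟨g, hg, rfl⟩ := hlift k (PElt.of_mem P.isPGroup' hk)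
      rw [← map_mul, hker]
      exact or_iff_not_imp_left.mpr fun h1 => Subtype.ext (hsq g hg h1)
  · have key : ∀ s : K, orderOf s = 2 → ∃ g, π g = s ∧ (g : G) * g = x * x ∧ IsConj (g : G) x :=
      fun s hs => by
        obtain ⟨g, hg, rfl⟩ := hlift s (PElt.of_two hs)
        have h1 : g * g ≠ 1 := fun e => H22.ne_one_of_orderOf_two hs ((hker g).mpr
          (or_iff_not_imp_left.mpr fun h1 => Subtype.ext (h.ui _ _ (by
            rw [Subgroup.orderOf_coe]; exact H22.orderOf_eq_two_of_mul_self e h1) h.two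
            (mem_centralizer_singleton.mp g.2))))
        exact ⟨g, rfl, hsq g hg h1, h.four _ (hg.map (Subgroup.subtype _))
          fun e => h1 (Subtype.ext e)⟩
    intro s t hs ht
    obtain ⟨g, rfl, h1, h2⟩ := key s hs
    obtain ⟨g', rfl, h3, h4⟩ := key t ht
    obtain ⟨c, hc⟩ := isConj_iff.mp (h2.trans h4.symm)
    have h5 : c ∈ centralizer ({x * x} : Set G) := mem_centralizer_singleton.mpr (by
      have : c * (x * x) * c⁻¹ = x * x := by rw [← h1, ← conj_mul, hc, h3, h1]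
      exact mul_inv_eq_iff_eq_mul.mp this)
    exact π.map_isConj (isConj_iff.mpr ⟨⟨c, h5⟩, Subtype.ext hc⟩)

end Q8D

theorem cq_mk {H : Type*} [Group H] [Fintype H] {z : H} (hz : orderOf z = 2)
    (hc : ∀ g, Commute z g) [(zpowers z).Normal] [Fintype (H ⧸ zpowers z)] :
    CQ (QuotientGroup.mk' (zpowers z)) z := by
  classical
  refine ⟨QuotientGroup.mk'_surjective _, hz, hc, fun g => ?_⟩
  rw [QuotientGroup.mk'_apply, QuotientGroup.eq_one_iff]
  constructor
  · intro hg
    have := (mem_zpowers_iff_mem_range_orderOf).mp hg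
    rw [hz] at this
    simpa [Finset.range_add_one, eq_comm, or_comm] using this
  · rintro (rfl | rfl)
    exacts [one_mem _, mem_zpowers _]

theorem Q8D.exists_ker {x : G} (h : Q8D x) :
    ∃ χ : Irr G, χ ≠ irrOne G ∧ χ.1 (x * x) = χ.1 1 := by
  classical
  obtain ⟨M, hM⟩ := exists_PM 2
  have := Fintype.ofFinite G
  set z := x * x with hz
  have hn := normal_zpowers_of_central (commute_self_centralizer z)
  set K := centralizer ({z} : Set G) ⧸ zpowers (selfC z)
  have := Fintype.ofFinite (centralizer ({z} : Set G))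
  have := Fintype.ofFinite K
  have hq : CQ (QuotientGroup.mk' (zpowers (selfC z))) (selfC z) :=
    cq_mk (by rw [← Subgroup.orderOf_coe]; exact h.two) (commute_self_centralizer z)
  set π := QuotientGroup.mk' (zpowers (selfC z))
  obtain ⟨hK, hone⟩ := h.klein hq.surj hq.ker hq.card
  obtain ⟨P⟩ := (inferInstance : Nonempty (Sylow 2 K))
  obtain ⟨ζ₂, ζ₃, ζ₄, ε, hε, h2, h3, h4, h23, h24, h34, hB, hv, hr⟩ := klein_block M P (hK P) hone
  have hz2 := PElt.of_two h.two
  let B := principalBlock M G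
  have hθ : ∀ χ : Irr G, IsGeneralizedCharacter (centralizer ({z} : Set G))
      fun g => χ.1 (z * g) := fun χ => hq.isGen_mul (χ.2.isGen.restrict _)
  let f : Irr G → K → ℂ := fun χ => dn π hq.surj fun g => χ.1 (z * g)
  have hf0 : ∀ χ k, 2 ∣ orderOf k → f χ k = 0 := fun χ k hk =>
    dn_of_sing _ _ (hθ χ).classFun hk
  have hf1 : ∀ χ y, ¬ 2 ∣ orderOf y → f χ (π y) = χ.1 (z * y) := fun χ y hy =>
    hq.dn_of_reg (hθ χ).classFun hy
  have hgram : ∀ Φ Φ' : K → ℂ, ∑ χ, ind B χ * (classInner (f χ) Φ * conj (classInner (f χ) Φ')) =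
      2 * ∑ ζ : Irr K, ind (principalBlock M K) ζ *
        (classInner (regPart 2 ζ.1) Φ * conj (classInner (regPart 2 ζ.1) Φ')) := fun Φ Φ' => by
    rw [sum_inner_mul_inner, sum_inner_mul_inner, mul_left_comm 2, Finset.mul_sum _ _ 2]
    congr 1
    refine Finset.sum_congr rfl fun k _ => ?_
    rw [Finset.mul_sum]
    refine Finset.sum_congr rfl fun k' _ => ?_
    rw [mul_left_comm 2]
    congr 1
    by_cases hk : 2 ∣ orderOf k
    · simp [hf0 _ _ hk, regPart_of_sing _ hk]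
    by_cases hk' : 2 ∣ orderOf k'
    · simp [hf0 _ _ hk', regPart_of_sing _ hk']
    simp only [regPart_of_reg _ hk, regPart_of_reg _ hk']
    obtain ⟨y, hy, rfl⟩ := exists_reg_lift π hq.surj hk
    obtain ⟨y', hy', rfl⟩ := exists_reg_lift π hq.surj hk'
    simp only [hf1 _ _ hy, hf1 _ _ hy']
    rw [principal_sum hz2 hy hy', hq.principal_sum hy hy']
  have hvan : ∀ (Φ : K → ℂ) g, ¬ IsConj (pp 2 g) z →
      ∑ χ, ind B χ * χ.1 g * conj (classInner (f χ) Φ) = 0 := fun Φ g hg => by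
    rw [sum_conj_inner_mul, Finset.sum_eq_zero, mul_zero]
    intro k _
    by_cases hk : 2 ∣ orderOf k
    · simp [hf0 _ _ hk]
    obtain ⟨y, hy, rfl⟩ := exists_reg_lift π hq.surj hk
    simp only [hf1 _ _ hy, mul_assoc]
    rw [block_orth (A := B) (fb_mem_ZS (irrOne G)), mul_zero]
    rwa [pp_mul hz2 (by rwa [Subgroup.orderOf_coe]) (mem_centralizer_singleton.mp y.2).symm]
  -- integral columns
  have hcol : ∀ Φ : K → ℂ, IsGeneralizedCharacter K Φ → (∀ k, 2 ∣ orderOf k → Φ k = 0) →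
      ∃ a : Irr G → ℤ, ∀ χ, (a χ : ℂ) = ind B χ * classInner (f χ) Φ := fun Φ hΦ h0 => by
    choose n hn using fun χ => hq.inner_dn_int (hθ χ) hΦ h0
    refine ⟨fun χ => if χ ∈ B then n χ else 0, fun χ => ?_⟩
    rw [ind_apply, show classInner (f χ) Φ = _ from hn χ]
    split_ifs with h1 <;> simp [h1]
  have hεε : (ε : ℂ) * ε = 1 := by rcases hε with rfl | rfl <;> simp
  let Φ₁ := (irrOne K).1 + ζ₄.1
  let Φ₂ := ζ₂.1 + ζ₄.1
  let Φ₃ := (ε : ℂ) • ζ₃.1 + ζ₄.1
  have z1 : ∀ k, 2 ∣ orderOf k → Φ₁ k = 0 := fun k hk => by simp [Φ₁, hv k hk]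
  have z2 : ∀ k, 2 ∣ orderOf k → Φ₂ k = 0 := fun k hk => by simp [Φ₂, hv k hk]
  have z3 : ∀ k, 2 ∣ orderOf k → Φ₃ k = 0 := fun k hk => by simp [Φ₃, hv k hk, hεε]
  obtain ⟨a, ha⟩ := hcol Φ₁ ((irrOne K).2.isGen.add ζ₄.2.isGen) z1
  obtain ⟨b, hb⟩ := hcol Φ₂ (ζ₂.2.isGen.add ζ₄.2.isGen) z2
  obtain ⟨c, hc⟩ := hcol Φ₃ ((ζ₃.2.isGen.intCast_smul ε).add ζ₄.2.isGen) z3
  have hreg : ∀ (Φ : K → ℂ) (θ : K → ℂ), (∀ k, 2 ∣ orderOf k → Φ k = 0) →
      classInner (regPart 2 θ) Φ = classInner θ Φ := fun Φ θ h0 => by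
    rw [inner_regPart_comm]
    congr 1
    ext k
    by_cases hk : 2 ∣ orderOf k
    · rw [regPart_of_sing _ hk, h0 k hk]
    · rw [regPart_of_reg _ hk]
  have i1 : ∀ ζ : Irr K, classInner (regPart 2 ζ.1) Φ₁ =
      (if ζ = irrOne K then 1 else 0) + if ζ = ζ₄ then 1 else 0 := fun ζ => by
    rw [hreg _ _ z1, classInner_add_right, irr_inner, irr_inner]
  have i2 : ∀ ζ : Irr K, classInner (regPart 2 ζ.1) Φ₂ =
      (if ζ = ζ₂ then 1 else 0) + if ζ = ζ₄ then 1 else 0 := fun ζ => by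
    rw [hreg _ _ z2, classInner_add_right, irr_inner, irr_inner]
  have i3 : ∀ ζ : Irr K, classInner (regPart 2 ζ.1) Φ₃ =
      ε * (if ζ = ζ₃ then 1 else 0) + if ζ = ζ₄ then 1 else 0 := fun ζ => by
    rw [hreg _ _ z3, classInner_add_right, classInner_smul_right, irr_inner, irr_inner, map_intCast]
  have hii : ∀ χ, ind B χ * ind B χ = ind B χ := congrFun (ind_mul_self B)
  have hci : ∀ χ, conj (ind B χ) = ind B χ := fun χ => by rw [ind_apply]; split_ifs <;> simp
  have hdot : ∀ (u v : Irr G → ℤ) (Φ Φ' : K → ℂ) (n : ℤ),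
      (∀ χ, (u χ : ℂ) = ind B χ * classInner (f χ) Φ) →
      (∀ χ, (v χ : ℂ) = ind B χ * classInner (f χ) Φ') →
      2 * ∑ ζ : Irr K, ind (principalBlock M K) ζ *
        (classInner (regPart 2 ζ.1) Φ * conj (classInner (regPart 2 ζ.1) Φ')) = n →
      ∑ χ, u χ * v χ = n := fun u v Φ Φ' n hu hv hn => by
    rw [← hgram] at hn
    have : ((∑ χ, u χ * v χ : ℤ) : ℂ) = n := by
      rw [← hn]
      push_cast
      refine Finset.sum_congr rfl fun χ _ => ?_
      rw [← map_intCast (starRingEnd ℂ) (v χ), hu, hv, map_mul, hci]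
      linear_combination classInner (f χ) Φ * conj (classInner (f χ) Φ') * hii χ
    exact_mod_cast this
  have hvan' : ∀ (u : Irr G → ℤ) (Φ : K → ℂ), (∀ χ, (u χ : ℂ) = ind B χ * classInner (f χ) Φ) →
      ∀ g, ¬ IsConj (pp 2 g) z → ∑ χ, u χ * χ.1 g = 0 := fun u Φ hu g hg => by
    rw [← hvan Φ g hg]
    refine Finset.sum_congr rfl fun χ _ => ?_
    rw [← map_intCast (starRingEnd ℂ) (u χ), hu, map_mul, hci]; ring
  obtain ⟨d, hd⟩ : ∃ d : Irr G → ℤ, ∀ χ, (d χ : ℂ) = ind B χ * χ.1 x := by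
    choose n hn using h.exists_int
    refine ⟨fun χ => if χ ∈ B then n χ else 0, fun χ => ?_⟩
    rw [ind_apply, hn χ]
    split_ifs with h1 <;> simp [h1]
  have hdsum : ∀ g, ∑ χ, d χ * χ.1 g = if IsConj (pp 2 g) x then 4 else 0 := fun g => by
    rw [← h.sum_eq (M := M) g]
    refine Finset.sum_congr rfl fun χ _ => ?_
    rw [← map_intCast (starRingEnd ℂ) (d χ), hd, map_mul, hci]; ring
  have hdotd : ∀ (u : Irr G → ℤ) (n : ℤ), (∀ χ, (u χ : ℂ) = ind B χ * u χ) →
      ∑ χ, u χ * χ.1 x = n → ∑ χ, u χ * d χ = n := fun u n hu hn => by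
    have : ((∑ χ, u χ * d χ : ℤ) : ℂ) = n := by
      rw [← hn]
      push_cast
      refine Finset.sum_congr rfl fun χ _ => ?_
      rw [hd]
      linear_combination -χ.1 x * hu χ
    exact_mod_cast this
  have hdeg : ∀ u : Irr G → ℤ, ∑ χ, u χ * χ.1 1 = 0 → ∑ χ, u χ * deg χ = 0 := fun u hu => by
    simp only [← deg_eq] at hu
    exact_mod_cast hu
  have hx1 : ¬ IsConj (pp 2 x) z := by rw [pp_of_pElt h.pElt]; exact h.not_isConj
  have hr1 : ∀ y : G, ¬ 2 ∣ orderOf y → ¬ IsConj (pp 2 y) z := fun y hy => by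
    rw [pp_of_reg hy, isConj_one_right]; exact H22.ne_one_of_orderOf_two h.two
  have hr2 : ∀ y : G, ¬ 2 ∣ orderOf y → ∑ χ, d χ * χ.1 y = 0 := fun y hy => by
    rw [hdsum, if_neg]
    rw [pp_of_reg hy, isConj_one_right]
    rintro rfl
    have := h.two
    simp at this
  have h1B : ind B (irrOne G) = 1 := fb_self (M := M) (irrOne G)
  have hf : f (irrOne G) = regPart 2 (irrOne K).1 := funext fun k => by
    by_cases hk : 2 ∣ orderOf k
    · rw [hf0 _ _ hk, regPart_of_sing _ hk]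
    · rw [regPart_of_reg _ hk]
      obtain ⟨y, hy, rfl⟩ := exists_reg_lift π hq.surj hk
      rw [hf1 _ _ hy]; rfl
  -- the value at `z`
  have hval : ∀ χ, ind B χ * χ.1 z = a χ + ζ₂.1 1 * b χ + ε * ζ₃.1 1 * c χ := fun χ => by
    let Ψ : K → ℂ := (fun g => if g = 1 then (Nat.card K : ℂ) else 0) - Φ₁ - ζ₂.1 1 • Φ₂ -
      (ε * ζ₃.1 1) • Φ₃
    have e1 : ∀ θ : K → ℂ, classInner θ Ψ = θ 1 - classInner θ Φ₁ - ζ₂.1 1 * classInner θ Φ₂ -
        ε * ζ₃.1 1 * classInner θ Φ₃ := fun θ => by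
      rw [classInner_sub_right, classInner_sub_right, classInner_sub_right, classInner_smul_right,
        classInner_smul_right, map_mul, map_intCast, conj_apply_one ζ₂.2.isCharacter,
        conj_apply_one ζ₃.2.isCharacter, classInner_def, Finset.sum_eq_single 1
          (fun k _ hk => by simp [hk]) (by simp), if_pos rfl, map_natCast]
      have := card_ne_zero K
      field_simp
    have e2 := hgram Ψ Ψ
    rw [hB, sum_ind_four h2 h3 h4 h23 h24 h34] at e2
    have e3 := hr 1 reg_one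
    simp only [e1 (regPart 2 _), i1, i2, i3, regPart_of_reg _ reg_one, h2, h3, h4, h23, h24, h34,
      h2.symm, h3.symm, h4.symm, h23.symm, h24.symm, h34.symm, if_true, if_false,
      irrOne_apply] at e2
    rw [show ζ₄.1 1 - (0 + 1) - ζ₂.1 1 * (0 + 1) - ε * ζ₃.1 1 * (ε * 0 + 1) = 0 by
      linear_combination -e3, show ζ₃.1 1 - (0 + 0) - ζ₂.1 1 * (0 + 0) -
        ε * ζ₃.1 1 * (ε * 1 + 0) = 0 by linear_combination -ζ₃.1 1 * hεε] at e2
    have e4 : ∑ χ, ‖ind B χ * classInner (f χ) Ψ‖ ^ 2 = 0 := by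
      have : ((∑ χ, ‖ind B χ * classInner (f χ) Ψ‖ ^ 2 : ℝ) : ℂ) = 0 := by
        refine Eq.trans ?_ (e2.trans (by simp))
        push_cast
        refine Finset.sum_congr rfl fun χ _ => ?_
        rw [← Complex.mul_conj', map_mul, hci]
        linear_combination classInner (f χ) Ψ * conj (classInner (f χ) Ψ) * hii χ
      exact_mod_cast this
    have e5 := (Finset.sum_eq_zero_iff_of_nonneg fun _ _ => sq_nonneg _).mp e4 χ (Finset.mem_univ _)
    have e6 := hf1 χ 1 reg_one
    rw [map_one, OneMemClass.coe_one, mul_one] at e6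
    rw [sq_eq_zero_iff, norm_eq_zero, e1, e6] at e5
    rw [ha, hb, hc]
    linear_combination e5
  have hodd : ∀ (ζ : Irr K) (e : ℤ), (∀ g, 2 ∣ orderOf g → ζ.1 g = e) → ζ.1 1 - e ∈ Pm M :=
    fun ζ e he => by
      obtain ⟨t, -, ht⟩ := (r2_of_klein (hK P)).exists_inv
      have := char_mul_sub_mem (M := M) ζ.2.isCharacter (PElt.of_two ht) (Commute.one_right t)
      rw [mul_one, he t (by rw [ht])] at this
      exact sub_mem_Pm_symm this
  have hind : ∀ χ, ind B χ ∈ S M := fun χ => by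
    rw [ind_apply]; split_ifs
    exacts [one_mem _, zero_mem _]
  have hself : ∀ (u : Irr G → ℤ) (F : Irr G → ℂ), (∀ χ, (u χ : ℂ) = ind B χ * F χ) →
      ∀ χ, (u χ : ℂ) = ind B χ * u χ := fun u F hu χ => by rw [hu, ← mul_assoc, hii]
  have four : ∀ F : Irr K → ℂ, ∑ ζ, ind (principalBlock M K) ζ * F ζ =
      F (irrOne K) + F ζ₂ + F ζ₃ + F ζ₄ := fun F => by
    rw [hB, sum_ind_four h2 h3 h4 h23 h24 h34]
  obtain ⟨i, j, α, β, hi, hα, hβ, k1, k2, k3, k4, k5, k6, hF⟩ := q8_comb (o := irrOne G)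
    (a := a) (b := b) (c := c) (d := d) (w := fun χ => deg χ)
    (fun χ => by have := one_le_deg χ; omega)
    (hdot _ _ _ _ _ ha ha (by
      simp [four, i1, h2, h3, h4, h24, h34, h4.symm]; norm_num))
    (hdot _ _ _ _ _ hb hb (by
      simp [four, i2, h2.symm, h24, h34, h4.symm, h23.symm, h24.symm]; norm_num))
    (hdot _ _ _ _ _ hc hc (by
      simp [four, i3, h3.symm, h24, h34, h4.symm, h23, h34.symm, hεε]; norm_num))
    (hdotd _ _ (hself _ _ hd) (by rw [hdsum, if_pos (by rw [pp_of_pElt h.pElt])]; simp))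
    (hdot _ _ _ _ _ ha hb (by
      simp [four, i1, i2, h2, h3, h4, h2.symm, h24, h34, h4.symm, h23.symm, h24.symm]))
    (hdot _ _ _ _ _ ha hc (by
      simp [four, i1, i3, h2, h3, h4, h3.symm, h24, h34, h4.symm, h23, h34.symm]))
    (hdot _ _ _ _ _ hb hc (by
      simp [four, i2, i3, h2.symm, h3.symm, h24, h34, h4.symm, h23, h23.symm, h34.symm, h24.symm]))
    (hdotd _ _ (hself _ _ ha) (by rw [hvan' _ _ ha x hx1]; simp))
    (hdotd _ _ (hself _ _ hb) (by rw [hvan' _ _ hb x hx1]; simp))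
    (hdotd _ _ (hself _ _ hc) (by rw [hvan' _ _ hc x hx1]; simp))
    (hdeg _ (hvan' _ _ ha 1 (hr1 1 reg_one))) (hdeg _ (hvan' _ _ hb 1 (hr1 1 reg_one)))
    (hdeg _ (hvan' _ _ hc 1 (hr1 1 reg_one))) (hdeg _ (hr2 1 reg_one))
    (by have := ha (irrOne G); rw [hf, i1, h1B] at this; simpa [h4.symm] using this)
    (by have := hb (irrOne G); rw [hf, i2, h1B] at this; simpa [h4.symm, h2.symm] using this)
    (by have := hc (irrOne G); rw [hf, i3, h1B] at this; simpa [h4.symm, h3.symm] using this)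
    (by have := hd (irrOne G); rw [h1B] at this; simpa using this)
    (fun χ => by
      refine (intCast_mem_Pm (M := M) (p := 2)).mp ?_
      have e1 := char_mul_sub_mem (M := M) χ.2.isCharacter h.pElt (Commute.refl x)
      have e2 := hodd ζ₂ 1 fun g hg => by simpa using (hv g hg).1
      have e3 := hodd ζ₃ ε fun g hg => (hv g hg).2.1
      have e4 : (2 : ℂ) * (d χ - c χ) ∈ Pm M :=
        p_mul_mem_Pm (p := 2) (sub_mem (intCast_mem _ _) (intCast_mem _ _))
      have e5 := sub_mem (sub_mem (add_mem (Pm_mul_left (hind χ) e1) e4)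
        (Pm_mul_left (intCast_mem _ (b χ)) e2))
        (Pm_mul_left (mul_mem (intCast_mem _ ε) (intCast_mem _ (c χ))) e3)
      convert e5 using 1
      push_cast
      linear_combination -hval χ - hd χ - c χ * hεε)
  have hrel : ∀ y, ¬ 2 ∣ orderOf y →
      ∑ χ : Irr G, ((a χ : ℂ) + b χ - c χ + d χ) * χ.1 y = 0 := fun y hy => by
    simp only [add_mul, sub_mul, Finset.sum_add_distrib, Finset.sum_sub_distrib,
      hvan' _ _ ha y (hr1 y hy), hvan' _ _ hb y (hr1 y hy), hvan' _ _ hc y (hr1 y hy), hr2 y hy]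
    simp
  have r1 := hrel 1 reg_one
  have r2 := isolated_sum_eq_zero (h.ui.isolated h.two) _ hrel
  rw [hF] at r1 r2
  have hαα : (α : ℂ) * α = 1 := by rcases hα with rfl | rfl <;> simp
  have hββ : (β : ℂ) * β = 1 := by rcases hβ with rfl | rfl <;> simp
  have hα0 : (α : ℂ) ≠ 0 := left_ne_zero_of_mul_eq_one hαα
  have hβ0 : (β : ℂ) ≠ 0 := left_ne_zero_of_mul_eq_one hββ
  have hiB : ind B i = 1 := by
    have := hself _ _ hb i
    rw [k2] at this
    exact mul_right_cancel₀ hα0 (by rw [← this, one_mul])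
  have hjB : ind B j = 1 := by
    have := hself _ _ hb j
    rw [k5] at this
    exact mul_right_cancel₀ hβ0 (by rw [← this, one_mul])
  have vi := hval i
  have vj := hval j
  rw [hiB, k1, k2, k3] at vi
  rw [hjB, k4, k5, k6] at vj
  have ni := i.2.apply_one_ne_zero
  have nj := j.2.apply_one_ne_zero
  have := bs_arith (X := α * i.1 1) (Y := β * j.1 1) (s := ζ₂.1 1) (mul_ne_zero hα0 ni)
    (mul_ne_zero hβ0 nj) (by simpa using r1) (by
      rw [show i.1 z = α * ζ₂.1 1 by push_cast at vi; linear_combination vi,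
        show j.1 z = β * (1 + ζ₂.1 1) by push_cast at vj; linear_combination vj] at r2
      rcases hα with rfl | rfl <;> rcases hβ with rfl | rfl <;>
      · simp only [irrOne_apply] at r2
        push_cast at r2 ⊢
        field_simp at r2 ⊢
        linear_combination r2 / 2)
  refine ⟨i, hi, ?_⟩
  push_cast at vi
  linear_combination vi + α * this + i.1 1 * hαα

theorem card_eq_sum_ind [Fintype G] (B : Set (Irr G)) : (Nat.card B : ℂ) =
    (Nat.card G : ℂ)⁻¹ * ∑ g, ∑ χ, ind B χ * (χ.1 g * conj (χ.1 g)) := by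
  classical
  rw [Finset.sum_comm, Finset.mul_sum, Nat.card_eq_fintype_card, Fintype.card_subtype,
    Finset.card_filter]
  push_cast
  refine Finset.sum_congr rfl fun χ _ => ?_
  rw [← Finset.mul_sum, mul_left_comm, ← classInner_def, χ.2.inner_self, mul_one, ind_apply]

theorem Q8D.card_block {x : G} (h : Q8D x) (hc : ∀ g, Commute (x * x) g) (M : Ideal AlgInt)
    [PM 2 M] : Nat.card (principalBlock M G) = 7 := by
  classical
  have := Fintype.ofFinite G
  set z := x * x with hz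
  have hn := normal_zpowers_of_central hc
  set K := G ⧸ zpowers z
  have := Fintype.ofFinite K
  have hq : CQ (QuotientGroup.mk' (zpowers z)) z := cq_mk h.two hc
  set π := QuotientGroup.mk' (zpowers z)
  have htop : centralizer ({z} : Set G) = ⊤ :=
    eq_top_iff.mpr fun g _ => mem_centralizer_singleton.mpr (hc g).symm
  obtain ⟨hK, hone⟩ := h.klein (π := π.comp (Subgroup.subtype _))
    (fun k => by
      obtain ⟨g, rfl⟩ := hq.surj k
      exact ⟨⟨g, htop ▸ mem_top g⟩, rfl⟩)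
    (fun g => by simp only [Subtype.ext_iff]; exact hq.ker g)
    (by rw [← hz, htop, card_top, hq.card])
  obtain ⟨P⟩ := (inferInstance : Nonempty (Sylow 2 K))
  obtain ⟨ζ₂, ζ₃, ζ₄, ε, hε, h2, h3, h4, h23, h24, h34, hB, hv, hr⟩ := klein_block M P (hK P) hone
  have hεε : (ε : ℂ) * ε = 1 := by rcases hε with rfl | rfl <;> simp
  let θ := (irrOne K).1 + ζ₂.1 + (ε : ℂ) • ζ₃.1 - ζ₄.1
  have key : ∀ g, ∑ χ, ind (principalBlock M G) χ * (χ.1 g * conj (χ.1 g)) =
      2 * ∑ ζ, ind (principalBlock M K) ζ * (ζ.1 (π g) * conj (ζ.1 (π g))) - θ (π g) := fun g => by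
    by_cases hg : 2 ∣ orderOf (π g)
    · have h5 : IsConj (pp 2 g) x := h.four _ (pElt_pp g) fun e => by
        have h6 : π (pp 2 g) = 1 := (hq.ker _).mpr (or_iff_not_imp_left.mpr fun h1 =>
          h.ui _ _ (H22.orderOf_eq_two_of_mul_self e h1) h.two (hc _).symm)
        rw [← pp_map, pp_eq_one_iff] at h6
        exact h6 hg
      have h6 := h.sum_eq (M := M) g
      rw [if_pos h5] at h6
      rw [Finset.sum_congr rfl (g := fun χ => ind (principalBlock M G) χ * (χ.1 g * conj (χ.1 x)))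
        fun χ _ => by
          by_cases hχ : χ ∈ principalBlock M G
          · rw [← SB.npc_apply h.hasNPC hχ h5]
          · simp [ind_of_notMem hχ], h6, hB, sum_ind_four h2 h3 h4 h23 h24 h34]
      simp only [θ, Pi.add_apply, Pi.sub_apply, Pi.smul_apply, hv _ hg, irrOne_apply, map_one,
        map_intCast, map_neg, smul_eq_mul]
      linear_combination -hεε
    · have h5 : θ (π g) = 0 := hr _ hg
      obtain ⟨y, hy, e⟩ := exists_reg_lift π hq.surj hg
      rw [h5, sub_zero, ← e, ← hq.principal_sum hy hy]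
      rcases (hq.ker (g * y⁻¹)).mp (by rw [map_mul, map_inv, e, mul_inv_cancel]) with e' | e'
      · rw [mul_inv_eq_one.mp e']
      · rw [mul_inv_eq_iff_eq_mul.mp e']
        simp only [central_mul_conj hc]
  have h5 := classInner_comp_surjective π hq.surj (fun k => 2 * ∑ ζ, ind (principalBlock M K) ζ *
    (ζ.1 k * conj (ζ.1 k)) - θ k) (irrOne K).1
  have h6 : classInner θ (irrOne K).1 = 1 := by
    simp [θ, classInner_add_left, classInner_sub_left, classInner_smul_left, irr_inner, h2, h3, h4]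
  have h7 := card_eq_sum_ind (principalBlock M K)
  have h8 : Nat.card (principalBlock M K) = 4 := by
    rw [hB, Nat.card_coe_set_eq, Set.ncard_insert_of_notMem (by simp [h2.symm, h3.symm, h4.symm]),
      Set.ncard_insert_of_notMem (by simp [h23, h24]), Set.ncard_pair h34]
  rw [h8] at h7
  simp only [classInner_def, irrOne_apply, map_one, mul_one] at h5 h6
  have : (Nat.card (principalBlock M G) : ℂ) = 7 := by
    rw [card_eq_sum_ind, Finset.sum_congr rfl fun g _ => key g, h5, Finset.sum_sub_distrib,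
      ← Finset.mul_sum]
    push_cast at h7
    linear_combination -2 * h7 - h6
  exact_mod_cast this

end Core

end H17
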