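import Mathlib
import Cfsg.Agent.H17.BS8
import Cfsg.Agent.H2.Quaternion
import Cfsg.Agent.H22.Wr
import Cfsg.Agent.S0847

/-!
# The Brauer–Suzuki theorem and Glauberman's `Z*`-theorem
-/

set_option autoImplicit false
set_option linter.unusedSectionVars false

open Cfsg H4 Subgroup
open scoped ComplexConjugate

namespace H17

universe u

section BS

variable {G : Type*} [Group G] [Finite G]

theorem UI.eq_of_mem (h : UI G) {P : Subgroup G} (hP : IsPGroup 2 P) {a b : G} (ha : a ∈ P)
    (hb : b ∈ P) (ha2 : orderOf a = 2) (hb2 : orderOf b = 2) : a = b := by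
  obtain ⟨z, -, hz2, hc⟩ := H6.exists_central_involution hP (by
    rintro rfl
    exact H22.ne_one_of_orderOf_two ha2 (mem_bot.mp ha))
  rw [h a z ha2 hz2 (hc a ha), h b z hb2 hz2 (hc b hb)]

theorem eq_bot_of_odd (hO : pPrimeCore 2 G = ⊥) (N : Subgroup G) (hN : N.Normal)
    (h : Odd (Nat.card N)) : N = ⊥ :=
  eq_bot_iff.mpr (hO ▸ H2.le_pPrimeCore hN (Nat.coprime_two_right.mpr h))

theorem pPrimeCore_normal_eq_bot {p : ℕ} (hO : pPrimeCore p G = ⊥) (N : Subgroup G) [N.Normal] :
    pPrimeCore p N = ⊥ := by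
  rw [← H2.pPrimeCore_subgroupOf_eq, hO, bot_subgroupOf]

theorem isPGroup_of_npc {p : ℕ} [Fact p.Prime] (hO : pPrimeCore p G = ⊥)
    (h : HasNormalPComplement p G) : IsPGroup p G := by
  have h1 := index_pPrimeCore_of_npc h
  rw [hO, index_bot] at h1
  exact IsPGroup.of_card h1

theorem isolated_central_of_normal {z : G} (hz : IsIsolatedInvolution z) {N : Subgroup G}
    [hN : N.Normal] (hzN : z ∈ N) (h : ∀ g : N, Commute (⟨z, hzN⟩ : N) g) (g : G) :
    Commute z g := by
  have := hz.2 g ((h ⟨_, hN.conj_mem z hzN g⟩).map N.subtype)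
  exact (mul_inv_eq_iff_eq_mul.mp this).symm

theorem UI.central_aux (n : ℕ) : ∀ (G : Type u) [Group G] [Finite G], Nat.card G = n → UI G →
    pPrimeCore 2 G = ⊥ → ∀ z : G, orderOf z = 2 → ∀ g, Commute z g := by
  induction n using Nat.strong_induction_on with
  | _ n ih =>
  intro G _ _ hn h hO z hz
  have hcen : ∀ w : G, orderOf w = 2 → (∀ g, Commute w g) → ∀ g, Commute z g := fun w hw hc =>
    h w z hw hz (hc z) ▸ hc
  by_cases hN : HasNormalPComplement 2 G
  · obtain ⟨w, -, hw, hc⟩ := H6.exists_central_involution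
      (T := ⊤) ((isPGroup_of_npc hO hN).to_subgroup ⊤) (by
        intro e
        exact H22.ne_one_of_orderOf_two hz (mem_bot.mp (e ▸ mem_top z)))
    exact hcen w hw fun g => (hc g (mem_top g)).symm
  obtain ⟨S⟩ := (inferInstance : Nonempty (Sylow 2 G))
  rcases H2.UniqueOrderP.isCyclic_or_quaternion S.isPGroup' (fun x y hx hx2 hy2 => by
      by_cases hy : y = 1
      · rw [hy]; exact one_mem _
      · rw [show y = x from Subtype.ext (h.eq_of_mem S.isPGroup' y.2 x.2
          (by rw [Subgroup.orderOf_coe, orderOf_eq_prime hy2 hy])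
          (by rw [Subgroup.orderOf_coe, orderOf_eq_prime hx2 hx]))]
        exact mem_zpowers x) with hc | ⟨-, m, ⟨e⟩⟩
  · exact absurd ((H3.hasNPC_iff_sylow S).mpr (H6.exists_normal_complement_of_cyclic S hc)) hN
  cases m with
  | zero =>
    obtain ⟨x, hx⟩ := exists_q8d S e hN
    obtain ⟨χ, h1, h2⟩ := hx.exists_ker
    have hK := H5.charKer_normal χ.2.classFun
    have hzK : z ∈ H5.charKer χ.1 := (H5.mem_charKer_iff χ.2.isCharacter).mpr
      (by rw [χ.2.classFun.apply_of_isConj (h.isConj hz hx.two), h2])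
    have hne : H5.charKer χ.1 ≠ ⊤ := fun h => h1 (Subtype.ext (χ.2.eq_one_of_forall_apply_eq
      fun g => H5.apply_of_mem_charKer (h ▸ mem_top g)))
    exact isolated_central_of_normal (h.isolated hz) hzK (ih _ (hn ▸ H2.card_lt_of_ne_top hne) _
      rfl (h.subgroup _) (pPrimeCore_normal_eq_bot hO _) _ (by rwa [← Subgroup.orderOf_coe]))
  | succ m =>
    have h1 := Cfsg.Agent.S0847.result S m e (eq_bot_of_odd hO)
    obtain ⟨w, hw⟩ := exists_prime_orderOf_dvd_card' (G := center G) 2 (by rw [h1])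
    exact hcen w (by rwa [Subgroup.orderOf_coe]) fun g => (mem_center_iff.mp w.2 g).symm

/-- Brauer–Suzuki: core-free form. -/
theorem UI.central (h : UI G) (hO : pPrimeCore 2 G = ⊥) {z : G} (hz : orderOf z = 2) (g : G) :
    Commute z g := UI.central_aux _ G rfl h hO z hz g

theorem ui_of_quaternion (S : Sylow 2 G) {n : ℕ}
    (e : (S : Subgroup G) ≃* QuaternionGroup (2 ^ (n + 1))) : UI G :=
  ui_of_sylow S fun a ha b hb ha2 hb2 => by
    have h1 := ncard_inv_of_equiv e
    rw [← Nat.card_coe_set_eq {x : QuaternionGroup _ | _}] at h1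
    obtain ⟨c, hc⟩ := Set.ncard_eq_one.mp (h1.trans (H6.card_involutions_quaternion n))
    have h2 : a ∈ ({c} : Set G) := hc ▸ ⟨ha, ha2⟩
    have h3 : b ∈ ({c} : Set G) := hc ▸ ⟨hb, hb2⟩
    exact h2.trans h3.symm

theorem pElt_of_central {p : ℕ} [Fact p.Prime] (hO : pPrimeCore p G = ⊥) {g : G}
    (hg : ∀ x, Commute g x) : PElt p g := by
  have h1 : ∀ x, Commute (pr p g) x := fun x => by
    obtain ⟨k, hk⟩ := mem_zpowers_iff.mp (pr_mem_zpowers (p := p) g)
    rw [← hk]; exact (hg x).zpow_left k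
  have h2 := H2.le_pPrimeCore (p := p) (normal_zpowers_of_central h1) (by
    rw [Nat.card_zpowers]
    exact ((Nat.Prime.coprime_iff_not_dvd Fact.out).mpr (reg_pr g)).symm)
  rw [hO, le_bot_iff, zpowers_eq_bot] at h2
  rw [← pp_mul_pr (p := p) g, h2, mul_one]
  exact pElt_pp g

theorem mem_sylow_of_central {p : ℕ} [Fact p.Prime] (S : Sylow p G) {g : G} (h : PElt p g)
    (hg : ∀ x, Commute g x) : g ∈ (S : Subgroup G) := by
  obtain ⟨t, h1, -⟩ := exists_conj_pair_mem S h h (by simp)
  rwa [← (hg t).eq, mul_inv_cancel_right] at h1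

/-- The Brauer–Suzuki theorem. -/
theorem center_eq_of_quaternion (S : Sylow 2 G) {n : ℕ}
    (e : (S : Subgroup G) ≃* QuaternionGroup (2 ^ (n + 1))) (hO : pPrimeCore 2 G = ⊥) {z : G}
    (hz : orderOf z = 2) : center G = zpowers z := by
  have h := ui_of_quaternion S e
  refine le_antisymm (fun g hg => ?_) (zpowers_le.mpr (mem_center_iff.mpr fun g =>
    (h.central hO hz g).symm))
  have hc : ∀ x, Commute g x := fun x => (mem_center_iff.mp hg x).symm
  have h1 := (H22.quaternion_facts (by omega) e).1 g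
    (mem_sylow_of_central S (pElt_of_central hO hc) hc) fun y _ => (hc y).symm
  by_cases h2 : g = 1
  · rw [h2]; exact one_mem _
  · rw [h g z (H22.orderOf_eq_two_of_mul_self h1 h2) hz (hc z)]; exact mem_zpowers z

theorem ui_of_no_klein (h : ∀ E : Subgroup G, ¬ IsKleinFour E) : UI G := fun a b ha hb hab => by
  by_contra hne
  have hz : ∀ {x y : G}, orderOf x = 2 → y ∈ zpowers x → y = 1 ∨ y = x := fun {x y} hx hy => by
    classical
    have := (mem_zpowers_iff_mem_range_orderOf).mp hy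
    rw [hx] at this
    simpa [Finset.range_add_one, eq_comm, or_comm] using this
  have hn : zpowers a ≤ normalizer (zpowers b : Set G) :=
    (zpowers_le.mpr (centralizer_zpowers b ▸ mem_centralizer_singleton.mpr hab)).trans
      (centralizer_le_normalizer _)
  refine h (zpowers a ⊔ zpowers b) (H22.isKleinFour_of ?_ fun x hx => ?_)
  · rw [H2.card_sup_of_disjoint hn, Nat.card_zpowers, Nat.card_zpowers, ha, hb]
    refine eq_bot_iff.mpr fun x hx => ?_
    rcases hz ha hx.1 with e | e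
    · exact e
    · rcases hz hb hx.2 with e' | e'
      · exact e'
      · exact absurd (e.symm.trans e') hne
  · have h1 : x ∈ ((zpowers a ⊔ zpowers b : Subgroup G) : Set G) := hx
    rw [coe_mul_of_left_le_normalizer_right _ _ hn] at h1
    obtain ⟨u, hu, v, hv, rfl⟩ := h1
    have h2 := H22.mul_self_of_orderOf_two ha
    have h3 := H22.mul_self_of_orderOf_two hb
    rcases hz ha hu with rfl | rfl <;> rcases hz hb hv with rfl | rfl
    · simp
    · simpa using h3
    · simpa using h2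
    · change u * v * (u * v) = 1
      rw [mul_assoc, ← mul_assoc v, ← hab.eq, mul_assoc, h3, mul_one, h2]

end BS

section ZStar

variable {G : Type*} [Group G] [Finite G]

theorem isolated_iff_sylow {z : G} (hz : orderOf z = 2) (P : Sylow 2 G) (hzP : z ∈ (P : Subgroup G)) :
    IsIsolatedInvolution z ↔ ∀ g : G, g * z * g⁻¹ ∈ (P : Subgroup G) → g * z * g⁻¹ = z := by
  constructor
  · intro h g hg
    have h1 := eq_one_of_PElt_of_reg (PElt.of_mem P.isPGroup' (mul_mem hzP hg))
      (H22.isolated_odd h g).not_two_dvd_nat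
    rw [← H22.isolated_inv h]
    exact eq_inv_of_mul_eq_one_right (by rwa [H22.isolated_inv h])
  · refine fun h => ⟨hz, fun g hg => ?_⟩
    obtain ⟨t, h1, h2⟩ := exists_conj_pair_mem P (PElt.of_two hz) ((PElt.of_two hz).conj g)
      (by rw [hg.eq, mul_inv_cancel_right]; exact mem_zpowers _)
    have h3 := h (t * g) (by convert h2 using 1; group)
    have h4 : t * (g * z * g⁻¹) * t⁻¹ = t * z * t⁻¹ := by
      rw [h t h1]; exact Eq.trans (by group) h3
    simpa using h4

theorem isolated_apply {M : Ideal AlgInt} [PM 2 M] {z : G} (hz : IsIsolatedInvolution z)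
    (ih : ∀ s x, orderOf s = 2 → IsIsolatedInvolution x → ∀ hx : x ∈ centralizer ({s} : Set G),
      ∀ g : centralizer ({s} : Set G), (⟨x, hx⟩ * g * (⟨x, hx⟩ : centralizer ({s} : Set G))⁻¹ * g⁻¹) ∈
        pPrimeCore 2 (centralizer ({s} : Set G)))
    {v : G} (hv : orderOf v = 2) (hzv : Commute z v) (hne : v ≠ z) {χ : Irr G}
    (hχ : SB M (irrOne G) χ) (g : G) : χ.1 (g * z * g⁻¹ * v) = χ.1 (z * v) := by
  have hx := H22.isolated_conj hz g
  set x := g * z * g⁻¹ with hxdef
  have hxx := H22.isolated_mul_self hx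
  have hvv := H22.mul_self_of_orderOf_two hv
  have hinv := H22.inverts_mul_of_mul_self hxx hvv
  set s := pp 2 (x * v) with hs
  set w := pr 2 (x * v) with hw
  have h1 : x * s * x⁻¹ = s⁻¹ := by rw [hs, ← pp_conj, hinv, pp_inv]
  have h2 : x * w * x⁻¹ = w⁻¹ := by rw [hw, ← pr_conj, hinv, pr_inv]
  have hnc : ¬ IsConj z v := fun h => by
    obtain ⟨c, rfl⟩ := isConj_iff.mp h
    exact hne (hz.2 c hzv)
  have hs1 : s ≠ 1 := fun e => by
    obtain ⟨j, hj⟩ := H22.exists_conj_of_odd_orderOf hxx hvv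
      (Nat.odd_iff.mpr (by have := pp_eq_one_iff.mp e; omega))
    exact hnc ((isConj_iff.mpr ⟨g, rfl⟩).trans (isConj_iff.mpr ⟨_, hj⟩).symm)
  have hss : s * s = 1 := by
    have h3 : x * (s⁻¹ * x * s⁻¹⁻¹) = s * s := by
      calc _ = (x * s * x⁻¹)⁻¹ * (x * x) * s := by group
        _ = _ := by rw [h1, hxx]; group
    refine eq_one_of_PElt_of_reg ((pElt_pp _).mul (pElt_pp _) (Commute.refl _)) ?_
    rw [← h3]
    exact (H22.isolated_odd hx _).not_two_dvd_nat
  have hs2 := H22.orderOf_eq_two_of_mul_self hss hs1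
  have hxs : Commute x s := by
    rw [inv_eq_of_mul_eq_one_right hss] at h1
    exact mul_inv_eq_iff_eq_mul.mp h1
  have h3 : χ.1 (x * v) = χ.1 s := hχ.apply_of_pp fun hwC => by
    have h4 := ih s x hs2 hx (mem_centralizer_singleton.mpr hxs) ⟨w, hwC⟩
    refine H3.mem_of_pow_mem_of_coprime (m := 2) ?_ ?_
    · convert inv_mem h4 using 1
      apply Subtype.ext
      change w ^ 2 = (x * w * x⁻¹ * w⁻¹)⁻¹
      rw [h2]; group
    · rw [← Subgroup.orderOf_coe]
      exact ((Nat.Prime.coprime_iff_not_dvd Nat.prime_two).mpr (reg_pr _)).symm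
  have h4 : x * s * (x * s) = 1 := by
    calc x * s * (x * s) = x * (s * x) * s := by simp only [mul_assoc]
      _ = x * x * (s * s) := by rw [← hxs.eq]; simp only [mul_assoc]
      _ = 1 := by rw [hxx, hss, one_mul]
  have h5 : x * s * v = w := by
    rw [hxs.eq, mul_assoc, ← pp_mul_pr (p := 2) (x * v), ← hs, ← mul_assoc, hss, one_mul]
  obtain ⟨j, hj⟩ := H22.exists_conj_of_odd_orderOf h4 hvv
    (Nat.odd_iff.mpr (by have : ¬ 2 ∣ orderOf w := reg_pr _; rw [h5]; omega))
  obtain ⟨c, -, hc1, hc2⟩ := H22.isolated_controls_fusion hz ⊤ (le_normalizer (mem_top z)) v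
    (g⁻¹ * (x * s) * g) hzv.symm (by
      have : Commute (x * s) x := (Commute.refl x).mul_left hxs.symm
      calc g⁻¹ * (x * s) * g * z = g⁻¹ * (x * s * x) * g := by rw [hxdef]; group
        _ = _ := by rw [this.eq, hxdef]; group) (g⁻¹ * (x * s * v) ^ j) (mem_top _)
    (by
      calc _ = g⁻¹ * ((x * s * v) ^ j * v * ((x * s * v) ^ j)⁻¹) * g := by group
        _ = _ := by rw [hj])
  rw [h3, ← χ.2.classFun (z * v) (g * c)]
  refine congrArg χ.1 ?_
  calc s = x * x * s := by rw [hxx, one_mul]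
    _ = g * (z * (c * v * c⁻¹)) * g⁻¹ := by rw [hc2, hxdef]; group
    _ = _ := by rw [← mul_assoc z, ← mul_assoc z, ← hc1.eq]; group

theorem zstar_aux (n : ℕ) : ∀ (G : Type u) [Group G] [Finite G], Nat.card G = n →
    ∀ z : G, IsIsolatedInvolution z → ∀ g, z * g * z⁻¹ * g⁻¹ ∈ pPrimeCore 2 G := by
  induction n using Nat.strong_induction_on with
  | _ n ih =>
  intro G _ _ hn z hz
  have hquot : ∀ (N : Subgroup G) [N.Normal], N ≠ ⊥ → z ∉ N → ∀ g,
      z * g * z⁻¹ * g⁻¹ ∈ (pPrimeCore 2 (G ⧸ N)).comap (QuotientGroup.mk' N) :=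
    fun N _ h1 h2 g => ih _ (hn ▸ H2.card_quotient_lt h1) _ rfl _
      (H22.isolated_quotient hz N h2).2 (g : G ⧸ N)
  by_cases hO : pPrimeCore 2 G = ⊥
  swap
  · intro g
    have := hquot _ hO (fun h => reg_of_mem (H2.not_dvd_card_pPrimeCore 2 G) h (by rw [hz.1])) g
    rwa [H2.comap_pPrimeCore_mk' _ (H2.pPrimeCore_coprime 2 G)] at this
  suffices ∀ g, Commute z g from fun g => by
    rw [(this g).eq, mul_inv_cancel_right, mul_inv_cancel]; exact one_mem _
  have hsub : ∀ (K : Subgroup G), K ≠ ⊤ → ∀ x, IsIsolatedInvolution x → ∀ hx : x ∈ K, ∀ g : K,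
      (⟨x, hx⟩ * g * (⟨x, hx⟩ : K)⁻¹ * g⁻¹) ∈ pPrimeCore 2 K := fun K hK x hx hxK =>
    ih _ (hn ▸ H2.card_lt_of_ne_top hK) _ rfl _ (H22.isolated_subgroup hx K hxK)
  by_contra hcon
  have hnormal : ∀ (N : Subgroup G) [N.Normal], z ∈ N → N = ⊤ := fun N _ hzN => by
    by_contra hN
    refine hcon (isolated_central_of_normal hz hzN fun g => ?_)
    have := hsub N hN z hz hzN g
    rw [pPrimeCore_normal_eq_bot hO, mem_bot, mul_inv_eq_one, mul_inv_eq_iff_eq_mul] at this
    exact this
  have hcent : ∀ s : G, orderOf s = 2 → centralizer ({s} : Set G) ≠ ⊤ := fun s hs htop => by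
    have hc : ∀ g, Commute s g := fun g =>
      (mem_centralizer_singleton.mp (htop ▸ mem_top g)).symm
    have := normal_zpowers_of_central hc
    have h1 : z ∉ zpowers s := fun h => hcon fun g => by
      obtain ⟨k, rfl⟩ := mem_zpowers_iff.mp h
      exact (hc g).zpow_left k
    refine hcon fun g => ?_
    have h2 := hquot (zpowers s) (by simpa using H22.ne_one_of_orderOf_two hs) h1 g
    set K := (pPrimeCore 2 (G ⧸ zpowers s)).comap (QuotientGroup.mk' (zpowers s))
    have hle : zpowers s ≤ K := fun x hx => by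
      change (x : G ⧸ zpowers s) ∈ pPrimeCore 2 (G ⧸ zpowers s)
      rw [(QuotientGroup.eq_one_iff x).mpr hx]; exact one_mem _
    have h3 : HasNormalPComplement 2 K := H3.hasNPC_of_central_relSylow
      (PElt.of_two hs).isPGroup_zpowers (by
        have h4 := H2.card_mul_relIndex hle
        rw [H2.card_comap_mk'] at h4
        rw [Nat.eq_of_mul_eq_mul_left Nat.card_pos h4]
        exact H2.not_dvd_card_pPrimeCore 2 _) (by rw [centralizer_zpowers, htop]; exact le_top)
    have h4 := mem_pPrimeCore_of_npc h3 (g := ⟨_, h2⟩) (by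
      rw [← Subgroup.orderOf_coe]
      have := (H22.isolated_odd hz g).not_two_dvd_nat
      rwa [show z * (g * z * g⁻¹) = z * g * z⁻¹ * g⁻¹ by rw [H22.isolated_inv hz]; group] at this)
    rw [pPrimeCore_normal_eq_bot hO, mem_bot, Subtype.ext_iff] at h4
    exact mul_inv_eq_iff_eq_mul.mp (mul_inv_eq_one.mp h4)
  obtain ⟨v, hv, hzv, hne⟩ : ∃ v, orderOf v = 2 ∧ Commute z v ∧ v ≠ z := by
    by_contra h
    push Not at h
    obtain ⟨S, hS⟩ := (PElt.of_two hz.1).isPGroup_zpowers.exists_le_sylow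
    have hzS := hS (mem_zpowers z)
    have h1 : ∀ a ∈ (S : Subgroup G), Commute z a := fun a ha =>
      (mul_inv_eq_iff_eq_mul.mp ((isolated_iff_sylow hz.1 S hzS).mp hz a
        (mul_mem (mul_mem ha hzS) (inv_mem ha)))).symm
    exact hcon ((ui_of_sylow S fun a ha b hb ha2 hb2 =>
      (h a ha2 (h1 a ha)).trans (h b hb2 (h1 b hb)).symm).central hO hz.1)
  obtain ⟨M, hM⟩ := exists_PM 2
  have := Fintype.ofFinite G
  have hzz := H22.isolated_mul_self hz
  have key : ∀ v, orderOf v = 2 → Commute z v → v ≠ z → ∀ χ : Irr G, SB M (irrOne G) χ →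
      χ.1 z * χ.1 v = χ.1 1 * χ.1 (z * v) := fun v hv hzv hne χ hχ => by
    have h := χ.2.sum_conj_mul z v
    rw [Finset.sum_congr rfl fun x _ => isolated_apply hz
      (fun s x hs hx => hsub _ (hcent s hs) x hx) hv hzv hne hχ x,
      Finset.sum_const, Finset.card_univ, nsmul_eq_mul, ← Nat.card_eq_fintype_card,
      eq_div_iff χ.2.apply_one_ne_zero, mul_assoc, mul_assoc] at h
    rw [← mul_left_cancel₀ (card_ne_zero G) h, mul_comm]
  have hv1 := H22.ne_one_of_orderOf_two hv
  have hzv2 : orderOf (z * v) = 2 := H22.orderOf_eq_two_of_mul_self (by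
    rw [mul_assoc, ← mul_assoc v, ← hzv.eq, mul_assoc, H22.mul_self_of_orderOf_two hv, mul_one,
      hzz]) fun e => hne (by rw [eq_inv_of_mul_eq_one_right e, H22.isolated_inv hz])
  have hnc : ¬ IsConj v z := fun h => by
    obtain ⟨c, rfl⟩ := isConj_iff.mp h.symm
    exact hne (hz.2 c hzv)
  have e1 := block_orth (fb_mem_ZS (M := M) (irrOne G)) (g := v) (h := 1) (by
    rwa [pp_of_pElt (PElt.of_two hv), pp_of_pElt PElt.one, isConj_one_left])
  have e2 := block_orth (fb_mem_ZS (M := M) (irrOne G)) (g := v) (h := z) (by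
    rwa [pp_of_pElt (PElt.of_two hv), pp_of_pElt (PElt.of_two hz.1)])
  have e3 : ∑ χ : Irr G, ind (blockOf M (irrOne G).1) χ * (χ.1 v * conj (χ.1 1 + χ.1 z)) = 2 := by
    rw [Finset.sum_eq_single (irrOne G) (fun χ _ hχ => ?_) (by simp),
      show ind _ _ = 1 from fb_self (M := M) (irrOne G)]
    · simp only [irrOne_apply, map_add, map_one]; norm_num
    by_cases hB : SB M (irrOne G) χ
    swap
    · rw [ind_of_notMem hB, zero_mul]
    have h1 := key v hv hzv hne χ hB
    have h2 := key _ hzv2 ((Commute.refl z).mul_right hzv) (by simpa using hv1) χ hB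
    rw [← mul_assoc, hzz, one_mul] at h2
    have h3 : χ.1 1 - χ.1 z ≠ 0 := fun h => by
      have hK := H5.charKer_normal χ.2.classFun
      have h4 := hnormal _ ((H5.mem_charKer_iff χ.2.isCharacter).mpr (sub_eq_zero.mp h).symm)
      exact hχ (Subtype.ext (χ.2.eq_one_of_forall_apply_eq
        fun g => H5.apply_of_mem_charKer (h4 ▸ mem_top g)))
    have h4 : χ.1 v * (χ.1 1 + χ.1 z) = 0 := mul_left_cancel₀ h3 (by
      linear_combination -χ.1 z * h1 - χ.1 1 * h2)
    rcases mul_eq_zero.mp h4 with h5 | h5 <;> simp [h5]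
  simp only [map_add, mul_add, Finset.sum_add_distrib, e1, e2] at e3
  norm_num at e3

/-- Glauberman's `Z*`-theorem. -/
theorem zstar {z : G} (hz : IsIsolatedInvolution z) (g : G) :
    z * g * z⁻¹ * g⁻¹ ∈ pPrimeCore 2 G := zstar_aux _ G rfl z hz g

/-- Glauberman's `Z*`-theorem, core-free form. -/
theorem zstar_central (hO : pPrimeCore 2 G = ⊥) {z : G} (hz : IsIsolatedInvolution z) (g : G) :
    Commute z g := by
  have := zstar hz g
  rwa [hO, mem_bot, mul_inv_eq_one, mul_inv_eq_iff_eq_mul] at this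

theorem odd_card_pPrimeCore : Odd (Nat.card (pPrimeCore 2 G)) :=
  Nat.coprime_two_right.mp (H2.pPrimeCore_coprime 2 G)

end ZStar

end H17
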