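import Mathlib
import Cfsg.Agent.H3.B71A
import Cfsg.Agent.H16.Orbits

/-! Counting lemmas for the last case of the `Z`-form of Bender's theorem. -/

set_option autoImplicit false

namespace H17.ZB

open H24 H3.B71 Subgroup MulAction

variable {G : Type*} [Group G] [Finite G]

theorem dvd_relIndex_pred {K H Y : Subgroup G} (hK : K ≤ H) (hY : H ≤ Y)
    (h : ∀ k ∈ K, k ≠ 1 → ∀ g ∈ Y, g⁻¹ * k * g ∈ H → g ∈ H) : ♯K ∣ H.relIndex Y - 1 := by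
  have e := ncard_Orb Y ((1 : G) : G ⧸ H)
  rw [stabilizer_quotient] at e
  rw [← e, ← Set.ncard_sdiff_singleton_add_one (mem_Orb_self Y ((1 : G) : G ⧸ H)),
    Nat.add_sub_cancel]
  have f : ∀ g : G, g • ((1 : G) : G ⧸ H) = ((1 : G) : G ⧸ H) ↔ g ∈ H := fun g => by
    rw [← mem_stabilizer_iff, stabilizer_quotient]
  refine H16.card_dvd_ncard_of_semiregular K _ (Set.toFinite _) (fun k hk c hc =>
    ⟨smul_mem_Orb (hY (hK hk)) hc.1, smul_ne_of_fix' ((f k).2 (hK hk)) hc.2⟩) ?_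
  rintro k hk _ ⟨⟨g, hg, rfl⟩, h1⟩ h2
  by_contra k1
  refine h1 ((f g).2 (h k hk k1 g hg ((f _).1 ?_)))
  rw [mul_smul, mul_smul, h2, inv_smul_smul]
where smul_ne_of_fix' {g : G} {a b : G ⧸ H} (hg : g • a = a) (hb : b ∉ ({a} : Set _)) :
    g • b ∉ ({a} : Set _) := fun e => hb (smul_left_cancel g (Eq.trans e hg.symm))

theorem exists_ppow {N₀ H : Subgroup G} (hs : Sol N₀) (hn : H ≤ N[N₀]) (hN : ¬ N₀ ≤ H) :
    ∃ N ≤ N₀, H ≤ N[N] ∧ ∃ p c : ℕ, p.Prime ∧ 0 < c ∧ H.relIndex N = p ^ c := by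
  obtain ⟨N, h1, ⟨h2, h3⟩, h4⟩ := exists_min (P := fun N => H ≤ N[N] ∧ ¬ N ≤ H) ⟨hn, hN⟩
  have h5 := (hs.of_le h1).der1_lt fun e => h3 (e ▸ bot_le)
  obtain ⟨p, hp, hd⟩ := Nat.exists_prime_and_dvd (n := (⁅N, N⁆).relIndex N)
    fun e => h5.not_ge (relIndex_eq_one.1 e)
  have h6 := (abl_quo_der1 N).nil.pcore_hall {p}ᶜ
  have h7 : PiNat {p} ((coreMod {p}ᶜ N ⁅N, N⁆).relIndex N) := by
    have := h6.idx
    rwa [compl_compl, ← relIndex_coq _ (der1_nml N).norm] at this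
  have h8 : coreMod {p}ᶜ N ⁅N, N⁆ ≤ H := by
    by_contra k
    have := coreMod_idx {p}ᶜ N ⁅N, N⁆
    rw [h4 _ ⟨norm_coreMod _ (der1_nml N) h2 (norm_der1 h2), k⟩
      (coreMod_le _ (der1_nml N))] at this
    exact this p hp hd rfl
  obtain ⟨c, hc⟩ := (piNat_singleton hp (relIndex_pos H N).ne').1
    (h7.dvd (relIndex_dvd_of_le_left _ h8))
  refine ⟨N, h1, h2, p, c, hp, Nat.pos_of_ne_zero ?_, hc⟩
  rintro rfl
  exact h3 (relIndex_eq_one.1 hc)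

theorem exists_ppow' {K N₀ H : Subgroup G} (hs : Sol N₀) (hn : H ≤ N[N₀]) (hN : ¬ N₀ ≤ H)
    (hK : K ≤ H) (h : ∀ k ∈ K, k ≠ 1 → ∀ g ∈ H ⊔ N₀, g⁻¹ * k * g ∈ H → g ∈ H) :
    ∃ p c : ℕ, p.Prime ∧ 0 < c ∧ ♯K ∣ p ^ c - 1 ∧ p ^ c ∣ H.relIndex (H ⊔ N₀) := by
  obtain ⟨N, h1, h2, p, c, hp, hc, e⟩ := exists_ppow hs hn hN
  have le : H ⊔ N ≤ H ⊔ N₀ := sup_le_sup_left h1 H
  rw [← relIndex_sup_of_norm' h2] at e
  refine ⟨p, c, hp, hc, e ▸ dvd_relIndex_pred hK le_sup_left fun k hk k1 g hg =>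
    h k hk k1 g (le hg), e ▸ Dvd.intro _ (relIndex_mul_relIndex H _ _ le_sup_left le)⟩

theorem nb_arith {d p c : ℕ} (hd : 2 ≤ d) (h3 : ¬ 3 ∣ 2 ^ d - 1) (hp : p.Prime) (h2 : p ≠ 2)
    (hc : 0 < c) (h1 : 2 ^ d - 1 ∣ p ^ c - 1)
    (h : p ^ c ∣ (2 ^ d) ^ 5 * ((2 ^ d - 1) * (((2 ^ d) ^ 2 + 1) * (2 ^ d * (2 ^ d - 1) + 1)))) :
    False := by
  have q2 : 2 ∣ 2 ^ d := dvd_pow_self 2 (by omega)
  have q3 : ¬ 3 ∣ 2 ^ d := fun k => by
    have := Nat.le_of_dvd two_pos (Nat.prime_three.dvd_of_dvd_pow k); omega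
  have q4 : 4 ≤ 2 ^ d := Nat.pow_le_pow_right (n := 2) two_pos hd
  have qp : ¬ p ∣ 2 ^ d := fun k =>
    h2 ((Nat.prime_dvd_prime_iff_eq hp Nat.prime_two).1 (hp.dvd_of_dvd_pow k))
  generalize 2 ^ d = q at *
  obtain ⟨r, rfl⟩ : ∃ r, q = r + 1 := ⟨q - 1, by omega⟩
  rw [Nat.add_sub_cancel] at h h1 h3
  have p1 : 1 < p ^ c := Nat.one_lt_pow hc.ne' hp.one_lt
  obtain ⟨α, hα⟩ := h1
  have e : p ^ c = r * α + 1 := by omega
  have pc : p ∣ p ^ c := dvd_pow_self p hc.ne'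
  have pr : ¬ p ∣ r := fun k => hp.one_lt.ne' (Nat.dvd_one.1
    ((Nat.dvd_add_right (k.mul_right α)).1 (e ▸ pc)))
  have cop : ∀ {n}, ¬ p ∣ n → (p ^ c).Coprime n := fun k =>
    ((Nat.Prime.coprime_iff_not_dvd hp).2 k).pow_left c
  have h4 := (cop pr).dvd_of_dvd_mul_left (((cop qp).pow_right 5).dvd_of_dvd_mul_left h)
  have α1 : 1 ≤ α := Nat.pos_of_ne_zero (by rintro rfl; omega)
  by_cases k : p ∣ (r + 1) * r + 1
  · have k' : ¬ p ∣ (r + 1) ^ 2 + 1 := fun k' => qp ((Nat.dvd_add_right k).1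
      (by rwa [show (r + 1) * r + 1 + (r + 1) = (r + 1) ^ 2 + 1 by ring]))
    obtain ⟨u, hu⟩ := (cop k').dvd_of_dvd_mul_left h4
    have u1 : 1 ≤ u := Nat.pos_of_ne_zero (by rintro rfl; omega)
    obtain ⟨v, rfl⟩ : ∃ v, u = v + 1 := ⟨u - 1, by omega⟩
    have : r ∣ v := (Nat.dvd_add_right (dvd_mul_right r (α * (v + 1)))).1
      ⟨r + 1, by rw [e] at hu; nlinarith⟩
    rcases Nat.eq_zero_or_pos v with rfl | v0
    · obtain ⟨s, rfl⟩ : ∃ s, r = 3 * s + 1 := ⟨r / 3, by omega⟩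
      rw [zero_add, mul_one] at hu
      have p3 : 3 = p := (Nat.prime_dvd_prime_iff_eq Nat.prime_three hp).1
        (Nat.prime_three.dvd_of_dvd_pow (n := c) ⟨3 * s ^ 2 + 3 * s + 1, by rw [← hu]; ring⟩)
      subst p3
      obtain ⟨c, rfl⟩ : ∃ c', c = c' + 1 := ⟨c - 1, by omega⟩
      have h5 : 3 ^ c = 3 * (s ^ 2 + s) + 1 := by rw [pow_succ] at hu; nlinarith
      rcases Nat.eq_zero_or_pos c with rfl | c0
      · have : 1 ≤ s := by omega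
        nlinarith
      · have := dvd_pow_self 3 c0.ne'
        omega
    · have := Nat.le_of_dvd v0 this
      rw [e] at hu
      nlinarith [Nat.mul_le_mul (Nat.mul_le_mul_left r α1) this]
  · obtain ⟨u, hu⟩ := (cop k).dvd_of_dvd_mul_right h4
    obtain ⟨s, hs⟩ := q2
    have u2 : ¬ 2 ∣ u := fun k => by
      have := hu ▸ k.mul_left (p ^ c)
      rw [hs, mul_pow] at this
      omega
    have u1 : u ≠ 1 := by
      rintro rfl
      have : r ∣ 1 := (Nat.dvd_add_right (dvd_mul_right r (r + 2))).1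
        ⟨α, by rw [e] at hu; nlinarith⟩
      have := Nat.le_of_dvd one_pos this
      omega
    obtain ⟨v, rfl⟩ : ∃ v, u = v + 2 := ⟨u - 2, by omega⟩
    have : r ∣ v := (Nat.dvd_add_right (dvd_mul_right r (α * (v + 2)))).1
      ⟨r + 2, by rw [e] at hu; nlinarith⟩
    have := Nat.le_of_dvd (by omega) this
    rw [e] at hu
    nlinarith [Nat.mul_le_mul (Nat.mul_le_mul_left r α1) this]

end H17.ZB
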