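import Mathlib
import Cfsg.Agent.H4.Real
import Cfsg.Agent.H4.Induce
import Cfsg.Agent.H4.Galois

/-! Counting tools for permutation characters; restriction to an abelian subgroup. -/

set_option autoImplicit false
set_option linter.unusedSectionVars false

open Cfsg H4 Finset
open scoped ComplexConjugate

namespace H17.PC

variable {G : Type*} [Group G] [Fintype G]

section Perm

variable (X : Type*) [MulAction G X] [Fintype X] [DecidableEq X]
  {Y : Type*} [MulAction G Y] [Fintype Y] [DecidableEq Y]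

/-- the number of fixed points -/
def fx (g : G) : ℕ := #{x : X | g • x = x}

theorem isCharacter_fx : IsCharacter G fun g : G => (fx X g : ℂ) := by
  convert isCharacter_fixedBy (G := G) X with g
  rw [fx, ← Fintype.card_subtype, ← Nat.card_eq_fintype_card]
  rfl

theorem fx_one : fx X (1 : G) = Fintype.card X := by simp [fx]

variable {X}

variable (G) in
/-- the number of transporters -/
def tr (x y : X) : ℕ := #{g : G | g • x = y}

theorem sum_tr (x : X) : ∑ y, tr G x y = Fintype.card G :=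
  (card_eq_sum_card_fiberwise (f := fun g : G => g • x) fun _ _ => mem_univ _).symm

theorem tr_smul (g : G) (x y : X) : tr G (g • x) y = tr G x y :=
  card_bij (fun k _ => k * g) (by simp [mul_smul]) (by simp) fun k hk =>
    ⟨k * g⁻¹, by simpa [mul_smul] using hk, by simp⟩

theorem tr_eq {g : G} {x y : X} (h : g • x = y) : tr G x y = tr G y y := by rw [← tr_smul g, h]

theorem tr_eq_zero {x y : X} (h : ∀ g : G, g • x ≠ y) : tr G x y = 0 := by simpa [tr] using h

theorem tr_cases (x y : X) : (∃ g : G, g • x = y) ∧ tr G x y = tr G y y ∨ tr G x y = 0 :=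
  (em _).imp (fun ⟨g, h⟩ => ⟨⟨g, h⟩, tr_eq h⟩) fun h => tr_eq_zero (not_exists.mp h)

theorem tr_pos (x : X) : 0 < tr G x x := card_pos.mpr ⟨1, by simp⟩

theorem tr_smul_smul (g : G) (x : X) : tr G (g • x) (g • x) = tr G x x :=
  (tr_smul g x _).trans (card_bij (fun k _ => g⁻¹ * k) (by simp [mul_smul, inv_smul_eq_iff])
    (by simp) fun k hk => ⟨g * k, by simpa [mul_smul] using hk, by simp⟩)

theorem sum_fx_mul : ∑ g : G, fx X g * fx Y g = ∑ y : X × Y, tr G y y := by
  have : ∀ g : G, fx X g * fx Y g = #{y : X × Y | g • y = y} := fun g => by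
    rw [fx, fx, ← card_product]
    congr 1; ext y; simp [Prod.ext_iff]
  simp only [this, tr, card_filter]
  exact sum_comm

theorem inner_fx : (Nat.card G : ℂ) * classInner (fun g : G => (fx X g : ℂ)) (fun g => (fx Y g : ℂ)) =
    ((∑ y : X × Y, tr G y y : ℕ) : ℂ) := by
  rw [card_mul_classInner, ← sum_fx_mul]; simp

theorem sum_fx_sq : ∑ g : G, fx X (g * g) = ∑ y : X × X, tr G y y.swap := by
  have : ∀ g : G, fx X (g * g) = #{y : X × X | g • y = y.swap} := fun g =>
    card_bij (fun x _ => (x, g • x)) (by simp [mul_smul]) (by simp +contextual) fun y hy => by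
      have : g • y.1 = y.2 ∧ g • y.2 = y.1 := by simpa [Prod.ext_iff] using hy
      exact ⟨y.1, by simp [mul_smul, this], by simp [this]⟩
  simp only [this, tr, card_filter]
  exact sum_comm

/-- multiplicities of a character -/
theorem exists_mult {θ : G → ℂ} (h : IsCharacter G θ) : ∃ n : IrrCharacter G → ℕ,
    (∀ g, θ g = ∑ χ, (n χ : ℂ) * χ.1 g) ∧ ∀ χ : IrrCharacter G, classInner θ χ.1 = n χ := by
  obtain ⟨n, rfl⟩ := h.exists_eq_sum_nat
  exact ⟨n, fun g => by simp, classInner_sum_smul_irr _⟩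

theorem inner_mult {θ η : G → ℂ} (h : IsCharacter G θ) {n k : IrrCharacter G → ℕ}
    (hn : ∀ χ : IrrCharacter G, classInner θ χ.1 = n χ)
    (hk : ∀ χ : IrrCharacter G, classInner η χ.1 = k χ) :
    classInner θ η = ((∑ χ, n χ * k χ : ℕ) : ℂ) := by
  rw [h.classFun.inner_eq_sum]; simp [hn, hk]

theorem fsInd_sum {θ : G → ℂ} {n : IrrCharacter G → ℕ} (hn : ∀ g, θ g = ∑ χ, (n χ : ℂ) * χ.1 g) :
    fsInd θ = ∑ χ, n χ * fsInd χ.1 := by
  simp only [fsInd, hn, mul_sum]
  rw [sum_comm]
  exact sum_congr rfl fun _ _ => sum_congr rfl fun _ _ => by ring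

/-- if all pairs are swapped, the permutation character is multiplicity free -/
theorem mult_le_one (hs : ∀ x y : X, ∃ g : G, g • x = y ∧ g • y = x) {n : IrrCharacter G → ℕ}
    (hn : ∀ g, (fx X g : ℂ) = ∑ χ, (n χ : ℂ) * χ.1 g)
    (hn' : ∀ χ : IrrCharacter G, classInner (fun g : G => (fx X g : ℂ)) χ.1 = n χ)
    (χ : IrrCharacter G) : n χ ≤ 1 := by
  have h1 : fsInd (fun g : G => (fx X g : ℂ)) = ((∑ χ, n χ * n χ : ℕ) : ℂ) := by
    rw [← inner_mult (isCharacter_fx X) hn' hn', fsInd, inv_mul_eq_iff_eq_mul₀ (card_ne_zero G),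
      inner_fx, ← Nat.cast_sum, sum_fx_sq]
    congr 1
    refine sum_congr rfl fun y _ => ?_
    obtain ⟨g, h1, h2⟩ := hs y.1 y.2
    have : g • y = y.swap := Prod.ext h1 h2
    rw [tr_eq this, ← this, tr_smul_smul]
  choose ν hν using fun χ : IrrCharacter G => show ∃ k : ℤ, fsInd χ.1 = k ∧ k ≤ 1 by
    rcases χ.2.fsInd_trichotomy with e | e | e
    exacts [⟨0, by simp [e], by norm_num⟩, ⟨1, by simp [e], le_rfl⟩, ⟨-1, by simp [e], by norm_num⟩]
  rw [fsInd_sum hn] at h1
  simp only [fun χ => (hν χ).1] at h1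
  have h2 : ∑ χ, ((n χ : ℤ) * n χ - n χ * ν χ) = 0 := by
    rw [sum_sub_distrib, sub_eq_zero]; exact_mod_cast h1.symm
  have h3 : ∀ χ, (n χ : ℤ) * (n χ - 1) ≤ n χ * n χ - n χ * ν χ := fun χ => by
    nlinarith [(hν χ).2, Int.natCast_nonneg (n χ)]
  have h4 : ∀ χ, 0 ≤ (n χ : ℤ) * (n χ - 1) := fun χ => by
    rcases Nat.eq_zero_or_pos (n χ) with e | e
    · simp [e]
    · exact mul_nonneg (by omega) (by omega)
  have := (h3 χ).trans_eq ((sum_eq_zero_iff_of_nonneg fun χ _ => (h4 χ).trans (h3 χ)).mp h2 χ (mem_univ _))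
  by_contra hc
  nlinarith [show (2 : ℤ) ≤ n χ by omega]

end Perm

theorem var_le {ι : Type*} [DecidableEq ι] (L : Finset ι) (n : ι → ℤ) (β : ℤ) :
    (#{i ∈ L | n i = β} * #{i ∈ L | n i ≠ β} : ℤ) ≤ #L * ∑ i ∈ L, n i ^ 2 - (∑ i ∈ L, n i) ^ 2 := by
  have h0 : ∀ f : ℤ → ℤ, f 0 = 0 → ∑ i ∈ L, f (n i - β) = ∑ i ∈ L with n i ≠ β, f (n i - β) :=
    fun f hf => (sum_filter_of_ne (p := fun i => n i ≠ β) fun i _ h e => h (by rw [e, sub_self, hf])).symm
  have h1 := h0 (fun x => x ^ 2) (by simp)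
  have h2 := h0 id rfl
  have h3 := sq_sum_le_card_mul_sum_sq (s := {i ∈ L | n i ≠ β}) (f := fun i => n i - β)
  have h4 : (#{i ∈ L | n i ≠ β} : ℤ) ≤ ∑ i ∈ L with n i ≠ β, (n i - β) ^ 2 := by
    rw [card_eq_sum_ones, Nat.cast_sum]
    exact sum_le_sum fun i hi => by
      have := sq_pos_of_ne_zero (sub_ne_zero.mpr (mem_filter.mp hi).2)
      push_cast; omega
  have h5 : (#L : ℤ) = #{i ∈ L | n i = β} + #{i ∈ L | n i ≠ β} := by
    exact_mod_cast (card_filter_add_card_filter_not (s := L) fun i => n i = β).symm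
  have h7 : #L * ∑ i ∈ L, n i ^ 2 - (∑ i ∈ L, n i) ^ 2 =
      #L * ∑ i ∈ L, (n i - β) ^ 2 - (∑ i ∈ L, id (n i - β)) ^ 2 := by
    simp only [id, sub_sq, sum_add_distrib, sum_sub_distrib, ← sum_mul, ← mul_sum, sum_const,
      nsmul_eq_mul]
    ring
  have h6 : (0 : ℤ) ≤ #{i ∈ L | n i = β} := by positivity
  rw [h7, h1, h2, h5]
  simp only [id]
  nlinarith [mul_le_mul_of_nonneg_left h4 h6]

section Abel

variable (K : Subgroup G) [Fintype K]

theorem card_irr (hK : ∀ a b : K, a * b = b * a) : Fintype.card (IrrCharacter K) = Nat.card K := by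
  have := sum_degree_sq (G := K)
  simp only [fun χ : IrrCharacter K => χ.2.apply_one_of_comm hK] at this
  exact_mod_cast (by simpa using this : (Fintype.card (IrrCharacter K) : ℂ) = Nat.card K)

/-- the action of an automorphism on irreducible characters -/
def act (α : MulAut K) (l : IrrCharacter K) : IrrCharacter K := ⟨fun k => l.1 (α k), l.2.comp_mulEquiv α⟩

variable {K}

theorem act_mul (α β : MulAut K) (l : IrrCharacter K) : act K (α * β) l = act K β (act K α l) := rfl

theorem eq_one_of_act (hK : ∀ a b : K, a * b = b * a) {α : MulAut K} (hα : ∀ k, α k = k → k = 1)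
    {l : IrrCharacter K} (h : act K α l = l) : l = irrOne K := by
  have h1 := l.2.apply_one_of_comm hK
  have hb : Function.Surjective fun k : K => α k * k⁻¹ :=
    Finite.injective_iff_surjective.mp fun k k' e => by
      have : α (k'⁻¹ * k) = k'⁻¹ * k := by
        rw [map_mul, map_inv, eq_mul_of_mul_inv_eq (show α k * k⁻¹ = _ from e)]; group
      exact (inv_mul_eq_one.mp (hα _ this)).symm
  refine Subtype.ext (funext fun k => ?_)
  obtain ⟨k, rfl⟩ := hb k
  have : l.1 (α k) = l.1 k := congrFun (congrArg Subtype.val h) k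
  change l.1 (α k * k⁻¹) = 1
  rw [l.2.isCharacter.map_mul_of_apply_one h1, this, ← l.2.isCharacter.map_mul_of_apply_one h1,
    mul_inv_cancel, h1]

theorem act_eq_one {α : MulAut K} {l : IrrCharacter K} (h : act K α l = irrOne K) : l = irrOne K :=
  Subtype.ext (funext fun k => by simpa [act] using congrFun (congrArg Subtype.val h) (α.symm k))

end Abel

end H17.PC
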