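import Mathlib
import Cfsg.Agent.H17.PermCh

/-! Restriction of irreducible characters to a self-centralising abelian TI-subgroup. -/

set_option autoImplicit false
set_option linter.unusedSectionVars false

open Cfsg H4 Finset
open scoped ComplexConjugate

namespace H17.PC

variable {G : Type*} [Group G] [Fintype G]

theorem kpart {K : Subgroup G} (hK : ∀ a b : K, a * b = b * a) {y : G}
    (hy : y ∈ Subgroup.normalizer (K : Set G)) {r : ℕ}
    (hf : ∀ l, 0 < l → l < r → ∀ k ∈ K, y ^ l * k = k * y ^ l → k = 1)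
    (hc : ∀ k ∈ K, k ≠ 1 → Subgroup.centralizer {k} ≤ K)
    (hN : ∀ k ∈ K, k ≠ 1 → Nat.card {g : G // g * k * g⁻¹ ∈ K} = r * Nat.card K) {e : ℤ}
    (he : (Nat.card K : ℤ) = e + 1) :
    ∃ B W : IrrCharacter G → ℤ, (∀ χ, (B χ : ℂ) = ∑ᶠ k : K, χ.1 k - χ.1 1) ∧
      ∑ χ, B χ ^ 2 = r * (e + 1) * e ∧ ∑ χ, W χ ≤ e * (e - r) ∧ (∀ χ, 0 ≤ W χ) ∧
      ∀ χ, (∃ c β : ℤ, B χ = e * c ∧ χ.1 1 = (c + (e + 1) * β : ℤ)) ∨
        (r * (e - r) ≤ W χ ∧ 2 * r ≤ e) := by
  classical
  choose n hn hn' using fun χ : IrrCharacter G => exists_mult (χ.2.isCharacter.restrict K)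
  set L := (univ : Finset (IrrCharacter K)).erase (irrOne K)
  set K' := (univ : Finset K).erase 1
  have hL : (#L : ℤ) = e := by
    rw [card_erase_of_mem (mem_univ _), card_univ, card_irr K hK]
    have := Nat.card_pos (α := K)
    omega
  have hK' : (#K' : ℤ) = e := by
    rw [card_erase_of_mem (mem_univ _), card_univ, ← Nat.card_eq_fintype_card]
    have := Nat.card_pos (α := K)
    omega
  have he' : (Nat.card K : ℂ) = e + 1 := by exact_mod_cast he
  have hd : ∀ χ : IrrCharacter G, χ.1 1 = ((n χ (irrOne K) + ∑ l ∈ L, (n χ l : ℤ) : ℤ) : ℂ) := fun χ => by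
    have := hn χ 1
    simp only [fun l : IrrCharacter K => l.2.apply_one_of_comm hK, mul_one, OneMemClass.coe_one] at this
    rw [this, ← add_sum_erase _ _ (mem_univ (irrOne K))]
    push_cast; rfl
  have hB : ∀ χ : IrrCharacter G, ∑ k ∈ K', χ.1 k =
      ((e * n χ (irrOne K) - ∑ l ∈ L, (n χ l : ℤ) : ℤ) : ℂ) := fun χ => by
    have := card_mul_classInner (fun k : K => χ.1 k) (irrOne K).1
    rw [hn', ← add_sum_erase _ _ (mem_univ (1 : K)), he'] at this
    simp only [irrOne_apply, map_one, mul_one, OneMemClass.coe_one, hd] at this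
    push_cast at this ⊢
    linear_combination -this
  have hA : ∀ χ : IrrCharacter G, ∑ k ∈ K', χ.1 k * conj (χ.1 k) =
      (((e + 1) * (n χ (irrOne K) ^ 2 + ∑ l ∈ L, (n χ l : ℤ) ^ 2) -
        (n χ (irrOne K) + ∑ l ∈ L, (n χ l : ℤ)) ^ 2 : ℤ) : ℂ) := fun χ => by
    have := card_mul_classInner (fun k : K => χ.1 k) (fun k : K => χ.1 k)
    rw [inner_mult (χ.2.isCharacter.restrict K) (hn' χ) (hn' χ),
      ← add_sum_erase _ _ (mem_univ (1 : K)), ← add_sum_erase _ _ (mem_univ (irrOne K)), he'] at this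
    simp only [OneMemClass.coe_one, hd, map_intCast] at this
    simp only [sq]
    push_cast at this ⊢
    linear_combination -this
  have sB : ∑ χ, (e * n χ (irrOne K) - ∑ l ∈ L, (n χ l : ℤ)) ^ 2 = r * (e + 1) * e := by
    have h1 : ∑ χ : IrrCharacter G, (∑ k ∈ K', χ.1 k) * conj (∑ k ∈ K', χ.1 k) =
        ∑ k' ∈ K', (r * (e + 1) : ℂ) := by
      simp only [map_sum, sum_mul_sum]
      rw [sum_comm]
      simp only [sum_comm (s := (univ : Finset (IrrCharacter G))), column_orth_card]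
      rw [sum_comm]
      refine sum_congr rfl fun k' hk' => ?_
      have h1 : (k' : G) ≠ 1 := by simpa using ne_of_mem_erase hk'
      rw [← he', ← Nat.cast_mul, ← hN k' k'.2 h1, ← Nat.cast_sum]
      simp only [Nat.card_eq_fintype_card, Fintype.card_subtype]
      congr 1
      symm
      refine card_eq_sum_card_fiberwise (f := fun g : G => if h : g * k' * g⁻¹ ∈ K then ⟨_, h⟩ else 1)
        (t := K') (fun g hg => ?_) |>.trans (sum_congr rfl fun k hk => ?_)
      · have hg' : g * k' * g⁻¹ ∈ K := by simpa using hg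
        simp only [dif_pos hg', mem_coe]
        exact mem_erase.mpr ⟨fun e => h1 (by simpa using congrArg Subtype.val e), mem_univ _⟩
      · congr 1
        ext g
        simp only [mem_filter, mem_univ, true_and]
        exact ⟨fun ⟨h1, h2⟩ => by rw [dif_pos h1] at h2; exact congrArg Subtype.val h2,
          fun h => ⟨h ▸ k.2, by rw [dif_pos (h ▸ k.2)]; exact Subtype.ext h⟩⟩
    simp only [hB, map_intCast, sum_const, nsmul_eq_mul] at h1
    have h2 : (#K' : ℂ) = e := by exact_mod_cast hK'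
    rw [h2] at h1
    simp only [sq]
    exact_mod_cast h1.trans (mul_comm _ _)
  have sA : ∑ χ, ((e + 1) * (n χ (irrOne K) ^ 2 + ∑ l ∈ L, (n χ l : ℤ) ^ 2) -
      (n χ (irrOne K) + ∑ l ∈ L, (n χ l : ℤ)) ^ 2) ≤ e * (e + 1) := by
    have h1 : ∑ χ : IrrCharacter G, ∑ k ∈ K', χ.1 k * conj (χ.1 k) =
        ((∑ k ∈ K', (Nat.card (Subgroup.centralizer ({(k : G)} : Set G)) : ℤ) : ℤ) : ℂ) := by
      rw [sum_comm]; simp only [column_orth_of_isConj (IsConj.refl _)]; push_cast; rfl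
    simp only [hA] at h1
    rw [← Int.cast_sum, Int.cast_inj] at h1
    rw [h1, ← hK', ← nsmul_eq_mul]
    refine sum_le_card_nsmul _ _ _ fun k hk => ?_
    rw [hK', ← he]
    exact_mod_cast Subgroup.card_le_of_le (hc k k.2 (by simpa using ne_of_mem_erase hk))
  have e0 : 0 < e + 1 := by rw [← he]; exact_mod_cast Nat.card_pos
  refine ⟨fun χ => e * n χ (irrOne K) - ∑ l ∈ L, (n χ l : ℤ), fun χ =>
    e * ∑ l ∈ L, (n χ l : ℤ) ^ 2 - (∑ l ∈ L, (n χ l : ℤ)) ^ 2, fun χ => ?_, sB, ?_, fun χ => ?_,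
    fun χ => ?_⟩
  · rw [← hB, finsum_eq_sum_of_fintype, ← add_sum_erase _ _ (mem_univ (1 : K))]; simp [K']
  · refine le_of_mul_le_mul_left ?_ e0
    have h1 := mul_le_mul_of_nonneg_left sA (show 0 ≤ e by omega)
    have h2 : (e + 1) * ∑ χ, (e * ∑ l ∈ L, (n χ l : ℤ) ^ 2 - (∑ l ∈ L, (n χ l : ℤ)) ^ 2) =
        e * ∑ χ, ((e + 1) * (n χ (irrOne K) ^ 2 + ∑ l ∈ L, (n χ l : ℤ) ^ 2) -
          (n χ (irrOne K) + ∑ l ∈ L, (n χ l : ℤ)) ^ 2) -
          ∑ χ, (e * n χ (irrOne K) - ∑ l ∈ L, (n χ l : ℤ)) ^ 2 := by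
      rw [mul_sum, mul_sum, ← sum_sub_distrib]
      exact sum_congr rfl fun _ _ => by ring
    rw [h2, sB]
    linarith
  · rw [← hL, sub_nonneg]; exact sq_sum_le_card_mul_sum_sq
  by_cases hcon : ∃ β : ℤ, ∀ l ∈ L, (n χ l : ℤ) = β
  · obtain ⟨β, hβ⟩ := hcon
    refine Or.inl ⟨n χ (irrOne K) - β, β, ?_, ?_⟩
    · simp only [sum_congr rfl hβ, sum_const, nsmul_eq_mul, hL]; ring
    · rw [hd, sum_congr rfl hβ, sum_const, nsmul_eq_mul, hL]; congr 1; ring
  right
  let α : MulAut K := K.normalizerMonoidHom ⟨y, hy⟩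
  have hα : ∀ (i : ℕ) (k : K), ((α ^ i) k : G) = y ^ i * k * (y ^ i)⁻¹ := fun i k => by
    rw [← map_pow]; rfl
  have inv : ∀ (i : ℕ) l, n χ (act K (α ^ i) l) = n χ l := fun i l => by
    have := classInner_comp_equiv (α ^ i).toEquiv (fun k : K => χ.1 k) l.1
    simp only [MulEquiv.toEquiv_eq_coe, EquivLike.coe_coe, hα, χ.2.classFun _ _] at this
    have h1 := hn' χ (act K (α ^ i) l)
    rw [show (act K (α ^ i) l).1 = fun k => l.1 ((α ^ i) k) from rfl, this, hn' χ l] at h1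
    exact (Nat.cast_injective h1).symm
  have big : ∀ P : ℤ → Prop, ∀ [DecidablePred P], ∀ l ∈ L, P (n χ l) → (r : ℤ) ≤ #{l ∈ L | P (n χ l)} := by
    intro P _ l hl hP
    have l1 := ne_of_mem_erase hl
    have key : ∀ i j, i < j → j < r → act K (α ^ i) l ≠ act K (α ^ j) l := fun i j hij hj e => by
      obtain ⟨d, rfl⟩ := Nat.exists_eq_add_of_lt hij
      rw [add_assoc, pow_add α i, act_mul] at e
      exact l1 (act_eq_one (eq_one_of_act hK (fun k hk => Subtype.ext (hf (d + 1) (by omega) (by omega)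
        k k.2 (mul_inv_eq_iff_eq_mul.mp ((hα _ k).symm.trans (congrArg Subtype.val hk))))) e.symm))
    have := card_le_card_of_injOn (s := range r) (t := {l ∈ L | P (n χ l)})
      (fun i => act K (α ^ i) l) (fun i _ => by
        simp only [coe_filter, Set.mem_setOf_eq, inv]
        exact ⟨mem_erase.mpr ⟨fun e => l1 (act_eq_one e), mem_univ _⟩, hP⟩) fun i hi j hj e => by
      rcases lt_trichotomy i j with h | h | h
      exacts [absurd e (key i j h (by simpa using hj)), h, absurd e.symm (key j i h (by simpa using hi))]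
    exact_mod_cast (card_range r).symm.le.trans this
  push Not at hcon
  obtain ⟨l, hl, -⟩ := hcon 0
  obtain ⟨l', hl', hne⟩ := hcon (n χ l)
  have b1 := big (· = n χ l) l hl rfl
  have b2 := big (· ≠ n χ l) l' hl' hne
  have b3 := var_le L (fun l => n χ l) (n χ l)
  have b4 : (#{i ∈ L | (n χ i : ℤ) = n χ l} : ℤ) + #{i ∈ L | (n χ i : ℤ) ≠ n χ l} = e := by
    rw [← hL]; exact_mod_cast card_filter_add_card_filter_not (s := L) fun i => (n χ i : ℤ) = n χ l
  rw [hL] at b3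
  exact ⟨by nlinarith [mul_nonneg (sub_nonneg.mpr b1) (sub_nonneg.mpr b2)], by omega⟩

end H17.PC
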