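import Mathlib
import Cfsg.Agent.H3.B71Defs
import Cfsg.Agent.H3.PNil
import Cfsg.Agent.H17.PermK

/-! Step SIX of Bender's theorem: the subgroup `K`. -/

set_option autoImplicit false
set_option linter.unusedSectionVars false

namespace H17.Six

open H24 Subgroup Cfsg H4 H3.B71 H17.PC Finset MulAction

theorem arith {p e N1 N2 S : ℤ} (hp : 3 ≤ p) (he : e = 6 ∧ p = 3 ∨ p ^ 2 * (e + 1) < e ^ 2) (h0 : 0 < e)
    (hN : e + p ≤ p * (N1 + N2)) (h2 : 2 * p * N2 ≤ e) (h3 : e < 4 * p → N2 = 0)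
    (h1 : 4 * N1 * e ^ 2 ≤ S + 6 * e ^ 2) (hS : S + 2 * e ^ 2 ≤ 2 * p * (e + 1) * e) : False := by
  have h4 : 4 * N1 * e ≤ 2 * p * (e + 1) + 4 * e := le_of_mul_le_mul_right (by nlinarith) h0
  rcases he with ⟨rfl, rfl⟩ | he
  · have := h3 (by norm_num); omega
  · nlinarith [mul_le_mul_of_nonneg_left h4 (show 0 ≤ p by omega),
      mul_le_mul_of_nonneg_left (show e + 2 * p ≤ 2 * p * N1 by nlinarith) h0.le]

theorem pow_bound {p : ℕ} (hp : 5 ≤ p) : (p : ℤ) ^ 2 * (2 ^ p - 2 + 1) < (2 ^ p - 2) ^ 2 := by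
  have : (p : ℤ) ^ 2 + 4 ≤ 2 ^ p := by
    induction p, hp using Nat.le_induction with
    | base => norm_num
    | succ p hp ih =>
      have : (5 : ℤ) ≤ p := by exact_mod_cast hp
      rw [pow_succ 2]; push_cast; nlinarith
  nlinarith [sq_nonneg (p : ℤ)]

theorem const_bound {e n a c β j : ℤ} (he : Even e) (h0 : 0 < a) (ha : a ≤ e) (hn : n + 2 * e = (e + 1) * j)
    (h : n * a = c + (e + 1) * β) : 4 * e ≤ e * c ^ 2 + 6 * a := by
  have h1 : c - 2 * a = (e + 1) * ((j - 2) * a - β) := by linear_combination -h + a * hn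
  generalize (j - 2) * a - β = ν at h1
  obtain ⟨f, rfl⟩ := he
  by_contra hc
  have : c ^ 2 < 4 := by nlinarith
  have : -2 < c ∧ c < 2 := by constructor <;> nlinarith
  have : -2 ≤ ν ∧ ν ≤ 0 := by constructor <;> nlinarith
  obtain ⟨a1, a2⟩ := this
  obtain ⟨a3, a4⟩ := this
  interval_cases c <;> interval_cases ν <;> omega
/-- the hypotheses of step SIX -/
structure Hy {G Ω : Type*} [Group G] [MulAction G Ω] (a b : Ω) (t x : G) (K : Subgroup G) : Prop where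
  h : SE G Ω
  hab : a ≠ b
  h2 : ∀ c d : Ω, c ≠ a → d ≠ a → ∃ g : G, g • a = a ∧ g • c = d
  ht : Inv t
  hta : t • a = b
  hK : ∀ k, k ∈ K ↔ k • a = a ∧ k • b = b ∧ t * k * t⁻¹ = k⁻¹
  hKfix : ∀ k ∈ K, k ≠ 1 → ∀ c : Ω, k • c = c → c = a ∨ c = b
  hxa : x • a = a
  hxb : x • b = b
  hxt : x * t = t * x
  hp : (orderOf x).Prime
  hxK : K ⊓ C{x} = ⊥
  hcard : ♯K + 1 = 2 ^ orderOf x
  hD : ∀ d : G, d • a = a → d • b = b → ∃ k ∈ K, ∃ i : ℕ, d = k * x ^ i
  hcomm : ∀ u v : G, Inv u → Inv v → u • a = a → v • a = a → u * v = v * u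
  hI : ∀ u v u' v' : G, Inv u → Inv v → Inv u' → Inv v' → u • a = a → v • a = a →
      u' • a = a → v' • a = a → u ≠ v → u' ≠ v' →
      ∃ g : G, g • a = a ∧ g * u * g⁻¹ = u' ∧ g * v * g⁻¹ = v'

namespace Hy

variable {G Ω : Type*} [Group G] [Fintype G] [MulAction G Ω] {a b : Ω} {t x : G} {K : Subgroup G}
  (H : Hy a b t x K)
include H

theorem po : Odd (orderOf x) := H.h.odd_orderOf_of_fix H.hab H.hxa H.hxb

theorem p3 : 3 ≤ orderOf x := by have := H.hp.two_le; obtain ⟨k, hk⟩ := H.po; omega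

theorem m7 : 7 ≤ ♯K := by have := Nat.pow_le_pow_right two_pos H.p3; have := H.hcard; omega

theorem Kodd : Odd ♯K :=
  H.h.odd_of_fix H.hab (fun k hk => ((H.hK k).1 hk).1) fun k hk => ((H.hK k).1 hk).2.1

theorem tK : ∀ k ∈ K, t * k * t⁻¹ = k⁻¹ := fun k hk => ((H.hK k).1 hk).2.2

theorem xN : x ∈ N[K] := mem_N_of_finite fun k hk => (H.hK _).2 ⟨by
    simpa only [H.hxa] using conj_fix (g := x) ((H.hK k).1 hk).1, by
    simpa only [H.hxb] using conj_fix (g := x) ((H.hK k).1 hk).2.1, by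
    calc _ = (t * x) * k * (t * x)⁻¹ := by group
      _ = x * (t * k * t⁻¹) * x⁻¹ := by rw [← H.hxt]; group
      _ = _ := by rw [H.tK k hk]; group⟩

theorem kp {e : ℤ} (he : (♯K : ℤ) = e + 1) :
    ∃ B W : IrrCharacter G → ℤ, (∀ χ, (B χ : ℂ) = ∑ᶠ k : K, χ.1 k - χ.1 1) ∧
      ∑ χ, B χ ^ 2 = (2 * orderOf x : ℕ) * (e + 1) * e ∧ ∑ χ, W χ ≤ e * (e - (2 * orderOf x : ℕ)) ∧
      (∀ χ, 0 ≤ W χ) ∧ ∀ χ, (∃ c β : ℤ, B χ = e * c ∧ χ.1 1 = (c + (e + 1) * β : ℤ)) ∨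
        ((2 * orderOf x : ℕ) * (e - (2 * orderOf x : ℕ)) ≤ W χ ∧ 2 * (2 * orderOf x : ℕ) ≤ e) := by
  classical
  have po := H.po
  have Kodd := H.Kodd
  have tK := H.tK
  have xN := H.xN
  obtain ⟨h, hab, -, ht, hta, hK, hKfix, hxa, hxb, hxt, hp, hxK, -, hD, -, -⟩ := H
  set p := orderOf x with hpx
  set m := ♯K with hm
  have htb : t • b = a := ht.smul_eq hta
  have Kc : ∀ k ∈ K, ∀ l ∈ K, k * l = l * k := fun k hk l hl => inv_injective (by
    rw [← tK _ (mul_mem hk hl), mul_inv_rev, ← tK k hk, ← tK l hl]; group)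
  have xt : Commute x t := hxt
  have tN : t ∈ N[K] := mem_N_of_finite fun k hk => by rw [tK k hk]; exact inv_mem hk
  have xfree : ∀ k ∈ K, k * x = x * k → k = 1 := fun k hk e =>
    mem_bot.mp (hxK ▸ (⟨hk, mem_C1.2 e⟩ : k ∈ K ⊓ C{x}))
  have pair : ∀ k ∈ K, k ≠ 1 → ∀ g : G, g * k * g⁻¹ ∈ K →
      ∃ l ∈ K, ∃ i : ℕ, g = l * x ^ i ∨ g = l * x ^ i * t := fun k hk k1 g hg => by
    have a1 := hKfix _ hg (by simpa using k1) _ (conj_fix (g := g) ((hK k).1 hk).1)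
    have a2 := hKfix _ hg (by simpa using k1) _ (conj_fix (g := g) ((hK k).1 hk).2.1)
    have a3 : g • a ≠ g • b := by simpa using hab
    rcases a1 with e | e
    · obtain ⟨l, hl, i, f⟩ := hD g e (a2.resolve_left (e ▸ a3.symm))
      exact ⟨l, hl, i, Or.inl f⟩
    · obtain ⟨l, hl, i, f⟩ := hD (g * t) (by rw [mul_smul, hta, a2.resolve_right (e ▸ a3.symm)])
        (by rw [mul_smul, htb, e])
      exact ⟨l, hl, i, Or.inr (by rw [← f, mul_assoc, ht.2, mul_one])⟩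
  have cent : ∀ k ∈ K, k ≠ 1 → C{k} ≤ K := fun k hk k1 g hg => by
    have e0 := mem_C1_iff_conj.1 hg
    obtain ⟨l, hl, i, rfl | rfl⟩ := pair k hk k1 g (e0.symm ▸ hk)
    · by_cases hi : p ∣ i
      · rwa [orderOf_dvd_iff_pow_eq_one.mp hi, mul_one]
      have a1 : x ^ i ∈ C{k} := by simpa using mul_mem (inv_mem (mem_C1.2 (Kc l hl k hk))) hg
      exact absurd (xfree k hk (mem_C1.1 (H3.mem_of_pow_mem_of_coprime a1
        ((hp.coprime_iff_not_dvd.mpr hi)))).symm) k1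
    · have a1 : x ^ i * k * (x ^ i)⁻¹ = k⁻¹ := by
        have a2 := conj_mem (pow_mem xN i) hk
        have : l * (x ^ i * (t * k * t⁻¹) * (x ^ i)⁻¹) * l⁻¹ = k := Eq.trans (by group) e0
        rw [tK k hk, ← conj_inv, Kc l hl _ (inv_mem a2), mul_inv_cancel_right] at this
        exact inv_eq_iff_eq_inv.mp this
      have := H21.eq_inv_of_odd_inverts po (by rw [← pow_mul, mul_comm, pow_mul, pow_orderOf_eq_one, one_pow]) a1
      exact absurd (H21.eq_one_of_sq_of_mem_odd Kodd hk (by nth_rw 1 [this]; simp)) k1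
  have yK : ∀ l, 0 < l → l < 2 * p → (x * t) ^ l ∉ K := fun l l0 l1 hl => by
    rw [xt.mul_pow] at hl
    rcases Nat.even_or_odd' l with ⟨j, rfl | rfl⟩
    · rw [pow_mul t, sq, ht.2, one_pow, mul_one] at hl
      have := orderOf_dvd_of_pow_eq_one (xfree _ hl (Commute.pow_self x _))
      have := Nat.le_of_dvd (by omega) ((Nat.coprime_two_right.mpr po).dvd_of_dvd_mul_left this)
      omega
    · have a1 := ((hK _).1 hl).1
      rw [pow_succ t, pow_mul t, sq, ht.2, one_pow, one_mul, mul_smul, hta,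
        show x ^ (2 * j + 1) • b = b from pow_mem (show x ∈ stabilizer G b from hxb) _] at a1
      exact hab a1.symm
  have yN : x * t ∈ N[K] := mul_mem xN tN
  have t2 : orderOf t = 2 := ht.orderOf_eq
  have oy : orderOf (x * t) = 2 * p := by
    rw [xt.orderOf_mul_eq_mul_orderOf_of_coprime (by rw [t2]; exact Nat.coprime_two_right.mpr po), t2,
      mul_comm]
  have cM : ♯(K ⊔ zpowers (x * t)) = 2 * p * m := by
    rw [card_sup_of_inf (zpowers_le.mpr yN), Nat.card_zpowers, oy, mul_comm]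
    refine eq_bot_iff.mpr fun g ⟨g1, g2⟩ => ?_
    obtain ⟨l, hl, rfl⟩ := mem_image.mp (mem_zpowers_iff_mem_range_orderOf.mp g2)
    rcases Nat.eq_zero_or_pos l with rfl | l0
    · simp
    · exact absurd g1 (yK l l0 (oy ▸ mem_range.mp hl))
  have xM : x ∈ zpowers (x * t) := ⟨(p + 1 : ℕ), by
    obtain ⟨j, hj⟩ := po
    simp only [zpow_natCast, xt.mul_pow]
    rw [pow_succ x, pow_orderOf_eq_one, hj, show 2 * j + 1 + 1 = 2 * (j + 1) by ring, pow_mul, sq, ht.2]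
    simp⟩
  have tM : t ∈ zpowers (x * t) := by simpa using mul_mem (inv_mem xM) (mem_zpowers (x * t))
  exact kpart (fun k l => Subtype.ext (Kc _ k.2 _ l.2)) yN (r := 2 * p)
    (fun l l0 l1 k hk e => by_contra fun k1 => yK l l0 l1 (cent k hk k1 (mem_C1.2 e))) cent
    (fun k hk k1 => cM ▸ Nat.card_congr (Equiv.subtypeEquivRight fun g => ⟨fun hg => by
      obtain ⟨l, hl, i, rfl | rfl⟩ := pair k hk k1 g hg
      · exact mul_mem (mem_sup_left hl) (mem_sup_right (pow_mem xM i))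
      · exact mul_mem (mul_mem (mem_sup_left hl) (mem_sup_right (pow_mem xM i))) (mem_sup_right tM),
      fun hg => conj_mem (sup_le le_normalizer (zpowers_le.mpr yN) hg) hk⟩)) he

end Hy

end H17.Six
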