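import Mathlib
import Cfsg.Agent.H17.Six1

/-! Step SIX of Bender's theorem: the action on involutions. -/

set_option autoImplicit false
set_option linter.unusedSectionVars false

namespace H17.Six

open H24 Subgroup Cfsg H4 H3.B71 H17.PC Finset MulAction

/-- the involutions -/
structure J (G : Type*) [Group G] where
  val : G
  inv : Inv val

variable {G Ω : Type*} [Group G] [MulAction G Ω]

theorem ext {u v : J G} (h : u.1 = v.1) : u = v := by cases u; cases v; congr

instance instMulActionJ : MulAction G (J G) where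
  smul g u := ⟨g * u.1 * g⁻¹, u.2.conj g⟩
  one_smul u := ext (show 1 * u.1 * 1⁻¹ = u.1 by simp)
  mul_smul g h u := ext (show g * h * u.1 * (g * h)⁻¹ = g * (h * u.1 * h⁻¹) * g⁻¹ by group)

theorem val_smul (g : G) (u : J G) : (g • u).1 = g * u.1 * g⁻¹ := rfl

theorem smul_smul' (u v : J G) : u.1 • u.1 • v = v := by rw [← mul_smul, u.2.2, one_smul]

/-- the point of an involution -/
noncomputable def pt (h : SE G Ω) (u : J G) : Ω := (h.ex u.1 u.2).choose

section

variable (h : SE G Ω)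

theorem pt_eq {u : J G} {c : Ω} : pt h u = c ↔ u.1 • c = c :=
  ⟨fun e => e ▸ (h.ex u.1 u.2).choose_spec, h.uniq _ u.2 _ _ (h.ex u.1 u.2).choose_spec⟩

theorem pt_smul (g : G) (u : J G) : pt h (g • u) = g • pt h u :=
  (pt_eq h).2 (conj_fix ((pt_eq h).1 rfl))

theorem exists_pt (c : Ω) : ∃ u : J G, pt h u = c := by
  obtain ⟨v, v1, v2⟩ := h.pt c
  exact ⟨⟨v, v1⟩, (pt_eq h).2 v2⟩

variable [Fintype G] [Fintype (J G)] [DecidableEq (J G)]

theorem move (a : Ω) (u : J G) : ∃ g : G, pt h (g • u) = a := by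
  simpa only [pt_smul] using h.exists_smul (pt h u) a

theorem N1 (v w : J G) (e : pt h v ≠ pt h w) : #{u : J G | u.1 • v = w} = 1 := by
  obtain ⟨u, u1, u2, u3, -⟩ := h.exists_swap v.2 w.2 ((pt_eq h).1 rfl) ((pt_eq h).1 rfl) e
  refine card_eq_one.mpr ⟨⟨u, u1⟩, eq_singleton_iff_unique_mem.mpr ⟨mem_filter.mpr ⟨mem_univ _, ext u2⟩,
    fun u' hu' => ext (h.swap_unique v.2 ((pt_eq h).1 rfl) u1 u'.2 (u3 ▸ e.symm) ?_).symm⟩⟩
  exact u2.trans (congrArg J.val (mem_filter.mp hu').2).symm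

end

namespace Hy

variable [Fintype G] [Fintype Ω] [DecidableEq Ω] [Fintype (J G)] [DecidableEq (J G)]
  {a b : Ω} {t x : G} {K : Subgroup G} (H : Hy a b t x K)

theorem cI (c : Ω) : #{u : J G | pt H.h u = c} = ♯K := by
  classical
  obtain ⟨s, ps⟩ := exists_pt H.h a
  have hs2 := (pt_eq H.h).1 ps
  obtain ⟨g, rfl⟩ := H.h.exists_smul a c
  rw [Nat.card_eq_fintype_card, ← card_univ]
  refine (card_bij (fun (k : K) _ => g • k.1 • s) (fun k _ => ?_) (fun k _ l _ e => Subtype.ext ?_)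
    fun u hu => ?_).symm
  · simp [pt_smul, ps, ((H.hK k).1 k.2).1]
  · exact H.h.K_inj H.ht (H.hta ▸ H.hab.symm) s.2 hs2 ((H.hK k).1 k.2).1 ((H.hK l).1 l.2).1
      (H.tK _ k.2) (H.tK _ l.2) (congrArg J.val ((smul_left_cancel_iff g).mp e))
  · obtain ⟨k, k1, k2, k3, k4, -⟩ := H.h.exists_K H.ht H.hta H.hab s.2 (g⁻¹ • u).2 hs2 ((pt_eq H.h).1 (by
      rw [pt_smul, (mem_filter.mp hu).2, inv_smul_smul]))
    exact ⟨⟨k, (H.hK k).2 ⟨k1, k2, k3⟩⟩, mem_univ _, by
      rw [show k • s = g⁻¹ • u from ext k4, smul_inv_smul]⟩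

theorem sumJ (F : Ω → ℕ) : ∑ u : J G, F (pt H.h u) = ♯K * ∑ c, F c := by
  rw [← sum_fiberwise (s := univ) (g := pt H.h), mul_sum]
  refine sum_congr rfl fun c _ => ?_
  rw [sum_congr rfl (g := fun _ => F c) fun u hu => by rw [(mem_filter.mp hu).2], sum_const, H.cI,
    smul_eq_mul]

include H

theorem cJ : Fintype.card (J G) = ♯K * Fintype.card Ω := by simpa using H.sumJ fun _ => 1

theorem comm (u v : J G) : pt H.h u = pt H.h v ↔ u.1 • v = v := ⟨fun e => by
    obtain ⟨g, hg⟩ := move H.h a u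
    have := H.hcomm _ _ (g • u).2 (g • v).2 ((pt_eq H.h).1 hg)
      ((pt_eq H.h).1 (by rwa [pt_smul, ← e, ← pt_smul]))
    simp only [val_smul, conj_mul, mul_left_inj, mul_right_inj] at this
    exact ext (by rw [val_smul, this, mul_inv_cancel_right]),
  fun e => (pt_eq H.h).2 (by rw [← pt_smul, e])⟩

theorem N2 (v w : J G) : #{u : J G | u.1 • v = w} + (if pt H.h v = pt H.h w then 1 else 0) =
    (if v = w then ♯K else 0) + 1 := by
  by_cases e : pt H.h v = pt H.h w
  · rw [if_pos e, add_left_inj]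
    split_ifs with f
    · simpa only [f, ← H.comm] using H.cI (pt H.h w)
    · exact card_eq_zero.mpr (filter_eq_empty_iff.mpr fun u _ hu => f (by
        rw [← hu, (H.comm u v).1 ((pt_eq H.h).2 (by rw [← pt_smul, hu, e]))]))
  · rw [N1 H.h v w e, if_neg e, if_neg fun f => e (by rw [f])]

theorem N3 (c d : Ω) : #{u : J G | u.1 • c = d} = ♯K := by
  by_cases e : c = d
  · simpa only [e, pt_eq] using H.cI d
  obtain ⟨v, pv⟩ := exists_pt H.h c
  rw [card_eq_sum_card_fiberwise (f := fun u : J G => u.1 • v) (t := {w | pt H.h w = d})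
    fun u hu => by simpa [pt_smul, pv] using hu, ← H.cI d, card_eq_sum_ones]
  refine sum_congr rfl fun w hw => Eq.trans ?_ (N1 H.h v w (by rwa [pv, (mem_filter.mp hw).2]))
  congr 1; ext u
  simp only [mem_filter, mem_univ, true_and, and_iff_right_iff_imp]
  exact fun f => by rw [← pv, ← pt_smul, f, (mem_filter.mp hw).2]

theorem key (g : G) : ∑ u : J G, fx (J G) (u.1 * g) + ♯K * fx Ω g =
    ♯K * fx (J G) g + ∑ u : J G, fx Ω (u.1 * g) := by
  have a1 : ∑ u : J G, fx Ω (u.1 * g) = ♯K * Fintype.card Ω := by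
    simp only [fx, card_filter, mul_smul]
    rw [sum_comm]
    simp only [← card_filter, H.N3]
    simp [mul_comm]
  have a2 := H.sumJ fun c => if g • c = c then 1 else 0
  have a3 := sum_congr (s₁ := univ) rfl fun v _ => H.N2 (g • v) v
  simp only [sum_add_distrib, pt_smul, a2, ← card_filter, sum_const, card_univ, H.cJ, smul_eq_mul,
    mul_one, ← sum_filter] at a3
  have a4 : ∑ u : J G, fx (J G) (u.1 * g) = ∑ v : J G, #{u : J G | u.1 • g • v = v} := by
    simp only [fx, card_filter, mul_smul]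
    rw [sum_comm]
  rw [a1, a4, fx, fx, a3, mul_comm]

theorem conjJ (u v : J G) : ∃ g : G, g • u = v ∧ g • v = u := by
  by_cases e : pt H.h u = pt H.h v
  · by_cases f : u = v
    · exact ⟨1, by simp [f]⟩
    obtain ⟨g, hg⟩ := move H.h a u
    have hv : pt H.h (g • v) = a := by rwa [pt_smul, ← e, ← pt_smul]
    have f' : (g • u).1 ≠ (g • v).1 := fun e => f ((smul_left_cancel_iff g).mp (ext e))
    obtain ⟨k, -, k1, k2⟩ := H.hI _ _ _ _ (g • u).2 (g • v).2 (g • v).2 (g • u).2 ((pt_eq H.h).1 hg)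
      ((pt_eq H.h).1 hv) ((pt_eq H.h).1 hv) ((pt_eq H.h).1 hg) f' f'.symm
    exact ⟨g⁻¹ * k * g, by rw [mul_smul, mul_smul, show k • g • u = g • v from ext k1, inv_smul_smul],
      by rw [mul_smul, mul_smul, show k • g • v = g • u from ext k2, inv_smul_smul]⟩
  · obtain ⟨w, hw⟩ := card_pos.mp ((N1 H.h u v e).symm ▸ one_pos)
    exact ⟨w.1, (mem_filter.mp hw).2, by rw [← (mem_filter.mp hw).2, smul_smul']⟩

theorem cG : Fintype.card G ≤ #(offDiag (univ : Finset Ω)) * (♯K * orderOf x) := by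
  classical
  have a1 : tr G (a, b) (a, b) ≤ ♯K * orderOf x := by
    rw [← Nat.card_zpowers, ← card_sup_of_inf (zpowers_le.mpr H.xN) (eq_bot_iff.mpr
      fun g hg => H.hxK.le ⟨hg.1, zpowers_le.mpr (mem_C1.2 rfl) hg.2⟩), Nat.card_eq_fintype_card,
      Fintype.card_subtype]
    refine card_le_card fun g hg => ?_
    have : g • a = a ∧ g • b = b := by simpa using (mem_filter.mp hg).2
    obtain ⟨l, hl, i, rfl⟩ := H.hD g this.1 this.2
    exact mem_filter.mpr ⟨mem_univ _, mul_mem (mem_sup_left hl) (mem_sup_right (pow_mem (mem_zpowers x) i))⟩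
  rw [← sum_tr (a, b), ← sum_subset (subset_univ (offDiag univ)) fun y _ hy => tr_eq_zero fun g e =>
    hy (by simpa [← e] using H.hab)]
  refine sum_le_card_nsmul _ _ _ fun y _ => ?_
  rcases tr_cases (G := G) (a, b) y with ⟨⟨g, rfl⟩, e⟩ | e
  · rwa [e, tr_smul_smul]
  · omega

theorem trΩ : ∑ y : Ω × Ω, tr G y y ≤ Fintype.card G * 2 := by
  rw [mul_two, ← sum_tr (a, a)]
  nth_rw 2 [sum_tr]
  rw [← sum_tr (a, b), ← sum_add_distrib]
  refine sum_le_sum fun ⟨c, d⟩ _ => ?_
  obtain ⟨g, rfl⟩ := H.h.exists_smul a c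
  by_cases e : d = g • a
  · rw [tr_eq (g := g) (x := (a, a)) (by simp [e])]; omega
  · obtain ⟨k, k1, k2⟩ := H.h2 b (g⁻¹ • d) H.hab.symm (by rwa [ne_eq, inv_smul_eq_iff])
    rw [tr_eq (g := g * k) (x := (a, b)) (by simp [mul_smul, k1, k2])]; omega

theorem trJΩ : Fintype.card G * 2 ≤ ∑ y : J G × Ω, tr G y y := by
  obtain ⟨s, ps⟩ := exists_pt H.h a
  rw [mul_two, ← sum_tr (s, a)]
  nth_rw 2 [sum_tr]
  rw [← sum_tr (s, b), ← sum_add_distrib]
  refine sum_le_sum fun y _ => ?_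
  rcases tr_cases (G := G) (s, a) y with ⟨⟨g, hg⟩, e⟩ | e <;>
    rcases tr_cases (G := G) (s, b) y with ⟨⟨k, hk⟩, f⟩ | f <;> try omega
  have : k • s = g • s ∧ k • b = g • a := by simpa using hk.trans hg.symm
  exact absurd ((smul_left_cancel_iff k).mp (by rw [this.2, ← ps, ← pt_smul, ← pt_smul, this.1])) H.hab

theorem exists_fix : ∃ s : J G, pt H.h s = a ∧ x • s = s := by
  have := Fact.mk H.hp
  obtain ⟨⟨s0, s4⟩, s5⟩ := Equiv.Perm.exists_fixed_point_of_prime (p := orderOf x) (n := 1)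
    (σ := Equiv.Perm.subtypePerm (toPerm x) (p := fun u : J G => pt H.h u = a) fun u => by
      rw [toPerm_apply, pt_smul, smul_eq_iff_eq_inv_smul, (inv_smul_eq_iff.mpr H.hxa.symm :)]) (by
      rw [Fintype.card_subtype, H.cI]
      intro e
      have a1 := (ZMod.natCast_eq_zero_iff _ _).mpr e
      have a2 := congrArg (Nat.cast : ℕ → ZMod (orderOf x)) H.hcard
      push_cast at a2
      rw [a1, ZMod.pow_card] at a2
      exact one_ne_zero (α := ZMod (orderOf x)) (by linear_combination -a2)) (by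
      rw [pow_one, Equiv.Perm.subtypePerm_pow]
      exact Equiv.ext fun u => Subtype.ext (show (toPermHom G (J G) x ^ orderOf x) u.1 = u.1 by
        rw [← map_pow, pow_orderOf_eq_one, map_one]; rfl))
  exact ⟨s0, s4, congrArg Subtype.val s5⟩

theorem trJ : Fintype.card G * (3 * orderOf x + ♯K) ≤
    orderOf x * ∑ y : J G × J G, tr G y y + Fintype.card G := by
  obtain ⟨s, ps⟩ := exists_pt H.h a
  have m7 := H.m7
  have p3 := H.p3
  have cG := H.cG
  have tne : t • a ≠ a := H.hta ▸ H.hab.symm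
  obtain ⟨s1, s2, s3⟩ := exists_mem_ne (s := {u : J G | pt H.h u = a}) (by rw [H.cI]; omega) s
  obtain ⟨s0, s4, s6⟩ := H.exists_fix
  set p := orderOf x
  have s7 : p ≤ tr G (s0, t • s0) (s0, t • s0) := by
    have : x • (s0, t • s0) = (s0, t • s0) := by
      rw [Prod.smul_mk, ← mul_smul, H.hxt, mul_smul, s6]
    exact (card_range p).symm.le.trans (card_le_card_of_injOn (fun i => x ^ i) (fun i _ => by
      simpa using pow_mem (show x ∈ stabilizer G (s0, t • s0) from this) i)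
      (by simpa using pow_injOn_Iio_orderOf))
  have a1 : ∑ y : J G × J G, (if pt H.h y.1 = pt H.h y.2 then 0 else 1) =
      ♯K * (♯K * #(offDiag (univ : Finset Ω))) := by
    rw [Fintype.sum_prod_type]
    simp only [fun u => H.sumJ fun c => if pt H.h u = c then 0 else 1]
    rw [H.sumJ fun c => ♯K * ∑ d, if c = d then 0 else 1, ← mul_sum, ← Fintype.sum_prod_type'
      (f := fun c d : Ω => if c = d then 0 else 1)]
    rw [show offDiag (univ : Finset Ω) = univ.filter fun y : Ω × Ω => ¬y.1 = y.2 from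
      Finset.ext (by simp)]
    simp [sum_ite]
  have a2 : ∑ y : J G × J G, (p * tr G (s, s) y + p * tr G (s, s1) y + (p - 1) * tr G (s0, t • s0) y +
      p * if pt H.h y.1 = pt H.h y.2 then 0 else 1) ≤ ∑ y : J G × J G, p * tr G y y :=
    sum_le_sum fun y _ => by
      have b1 : y.1 ≠ y.2 → tr G (s, s) y = 0 := fun e => tr_eq_zero fun g f => e (by simp [← f])
      have b2 : y.1 = y.2 ∨ pt H.h y.1 ≠ pt H.h y.2 → tr G (s, s1) y = 0 := fun e =>
        tr_eq_zero fun g f => by simp [← f, s3.symm, pt_smul, ps, (mem_filter.mp s2).2] at e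
      have b3 : pt H.h y.1 = pt H.h y.2 → tr G (s0, t • s0) y = 0 := fun e => tr_eq_zero fun g f => by
        simp [← f, pt_smul, s4, tne.symm] at e
      have le : ∀ z, tr G z y ≤ tr G y y := fun z => by
        rcases tr_cases (G := G) z y with ⟨-, e⟩ | e <;> omega
      split_ifs with e
      · by_cases f : y.1 = y.2
        · simpa [b2 (Or.inl f), b3 e] using Nat.mul_le_mul_left p (le _)
        · simpa [b1 f, b3 e] using Nat.mul_le_mul_left p (le _)
      · rw [b1 fun f => e (by rw [f]), b2 (Or.inr e)]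
        obtain ⟨q, hq⟩ : ∃ q, p = q + 1 := ⟨p - 1, by omega⟩
        rcases tr_cases (G := G) (s0, t • s0) y with ⟨⟨g, f⟩, f'⟩ | f
        · rw [← tr_smul_smul g, f, hq] at s7
          rw [f', hq, add_tsub_cancel_right]; linarith
        · rw [f]; simpa using Nat.mul_le_mul_left p (tr_pos (G := G) y)
  simp only [sum_add_distrib, ← mul_sum, sum_tr, a1] at a2
  obtain ⟨q, hq⟩ : ∃ q, p = q + 1 := ⟨p - 1, by omega⟩
  rw [hq, add_tsub_cancel_right] at a2
  rw [hq] at cG ⊢
  linarith [Nat.mul_le_mul_left ♯K cG]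

end Hy

end H17.Six
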