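import Mathlib
import Cfsg.Agent.H17.Six2

/-! Step SIX of Bender's theorem: multiplicities and degrees. -/

set_option autoImplicit false
set_option linter.unusedSectionVars false

namespace H17.Six

open H24 Subgroup Cfsg H4 H3.B71 H17.PC Finset MulAction

variable {G Ω : Type*} [Group G] [MulAction G Ω] [Fintype G]

theorem card_mult {X Y : Type*} [MulAction G X] [Fintype X] [DecidableEq X] [MulAction G Y] [Fintype Y]
    [DecidableEq Y] {n k : IrrCharacter G → ℕ}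
    (hn : ∀ χ : IrrCharacter G, classInner (fun g : G => (fx X g : ℂ)) χ.1 = n χ)
    (hk : ∀ χ : IrrCharacter G, classInner (fun g : G => (fx Y g : ℂ)) χ.1 = k χ) :
    Fintype.card G * ∑ χ, n χ * k χ = ∑ y : X × Y, tr G y y := by
  have := inner_fx (G := G) (X := X) (Y := Y)
  rw [inner_mult (isCharacter_fx X) hn hk, Nat.card_eq_fintype_card] at this
  exact_mod_cast this

theorem sq_aux (B e : ℤ) : 2 * e * B - e ^ 2 ≤ B ^ 2 := by nlinarith [sq_nonneg (B - e)]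

theorem sq_aux' {e c a : ℤ} (h0 : 0 ≤ e) (h : 4 * e ≤ e * c ^ 2 + 6 * a) :
    4 * e ^ 2 ≤ (e * c) ^ 2 + 6 * e * a := by nlinarith

namespace Hy

variable [Fintype Ω] [DecidableEq Ω] [Fintype (J G)] [DecidableEq (J G)]
  {a b : Ω} {t x : G} {K : Subgroup G} (H : Hy a b t x K)
include H

theorem mults : ∃ π r : IrrCharacter G → ℕ, (∀ g, (fx (J G) g : ℂ) = ∑ χ, (π χ : ℂ) * χ.1 g) ∧
    (∀ g, (fx Ω g : ℂ) = ∑ χ, (r χ : ℂ) * χ.1 g) ∧ (∀ χ, π χ ≤ 1) ∧ (∀ χ, r χ = 0 ∨ r χ = 1 ∧ π χ = 1) ∧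
    ∑ χ, r χ = 2 ∧ 3 * orderOf x + ♯K ≤ orderOf x * ∑ χ, π χ + 1 := by
  obtain ⟨π, hπ, hπ'⟩ := exists_mult (isCharacter_fx (G := G) (J G))
  obtain ⟨r, hr, hr'⟩ := exists_mult (isCharacter_fx (G := G) Ω)
  have π1 := mult_le_one H.conjJ hπ hπ'
  have G0 : 0 < Fintype.card G := Fintype.card_pos
  have rr : ∑ χ, r χ * r χ ≤ 2 := Nat.le_of_mul_le_mul_left (card_mult hr' hr' ▸ H.trΩ) G0
  have πr : 2 ≤ ∑ χ, π χ * r χ := Nat.le_of_mul_le_mul_left (card_mult hπ' hr' ▸ H.trJΩ) G0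
  have rπ : ∀ χ, r χ = 0 ∨ r χ = 1 ∧ π χ = 1 := fun χ => by
    have a1 : ∀ χ, π χ * r χ ≤ r χ * r χ := fun χ => by
      rcases Nat.eq_zero_or_pos (r χ) with e | e
      · simp [e]
      · exact Nat.mul_le_mul_right _ ((π1 χ).trans e)
    have := (sum_eq_sum_iff_of_le fun χ _ => a1 χ).mp (le_antisymm (sum_le_sum fun χ _ => a1 χ)
      (rr.trans πr)) χ (mem_univ _)
    refine (Nat.eq_zero_or_pos _).imp id fun e => ?_
    have := Nat.eq_of_mul_eq_mul_right e this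
    have := π1 χ
    omega
  have a1 : ∀ χ, r χ * r χ = r χ ∧ π χ * r χ = r χ := fun χ => by rcases rπ χ with e | e <;> simp [e]
  have a2 : ∀ χ, π χ * π χ = π χ := fun χ => by
    rcases Nat.le_one_iff_eq_zero_or_eq_one.mp (π1 χ) with f | f <;> simp [f]
  have a3 := H.trJ
  rw [← card_mult hπ' hπ'] at a3
  simp only [a1, a2] at rr πr a3
  exact ⟨π, r, hπ, hr, π1, rπ, le_antisymm rr πr, Nat.le_of_mul_le_mul_left (by linarith) G0⟩

theorem deg {π r : IrrCharacter G → ℕ} (hπ : ∀ g, (fx (J G) g : ℂ) = ∑ χ, (π χ : ℂ) * χ.1 g)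
    (hr : ∀ g, (fx Ω g : ℂ) = ∑ χ, (r χ : ℂ) * χ.1 g) {s : J G} {α : IrrCharacter G → ℤ}
    (hα : ∀ χ, χ.1 s.1 = α χ) {χ : IrrCharacter G} (h1 : π χ = 1) (h0 : r χ = 0) :
    χ.1 1 = Fintype.card Ω * α χ := by
  classical
  have cJ := H.cJ
  have m0 : (♯K : ℂ) ≠ 0 := by exact_mod_cast Nat.card_pos.ne'
  set m := ♯K
  set n := Fintype.card Ω
  have a1 : ∀ (ψ : IrrCharacter G) g, ∑ u : J G, ψ.1 (u.1 * g) = m * n * α ψ / ψ.1 1 * ψ.1 g := fun ψ g => by
    have b1 : ∀ F : G → ℂ, ∑ u : J G, F u.1 = ∑ u : G, (if Inv u then 1 else 0) * F u := fun F =>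
      sum_of_injOn J.val (fun _ _ _ _ => ext) (by simp) (fun u _ hu => by
        rw [if_neg fun e => hu ⟨⟨u, e⟩, by simp⟩, zero_mul]) fun u _ => by rw [if_pos u.2, one_mul]
    rw [b1 fun u => ψ.1 (u * g), ψ.2.sum_classFun_mul (fun u k => if_congr ⟨fun e => by
      simpa [mul_assoc] using e.conj k⁻¹, fun e => e.conj k⟩ rfl rfl), ← b1,
      sum_congr rfl (g := fun _ => (α ψ : ℂ)) fun u _ => by
        obtain ⟨k, rfl, -⟩ := H.conjJ s u
        rw [val_smul, ψ.2.classFun, hα]]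
    simp [cJ]
  have a2 : ∑ ψ : IrrCharacter G, ((π ψ - r ψ) * (m * n * α ψ / ψ.1 1 - m)) • ψ.1 = 0 := by
    ext g
    have := congrArg (Nat.cast : ℕ → ℂ) (H.key g)
    push_cast at this
    simp only [hπ, hr] at this
    rw [sum_comm, sum_comm (s := (univ : Finset (J G)))] at this
    simp only [← mul_sum, a1] at this
    simp only [Finset.sum_apply, Pi.smul_apply, smul_eq_mul, Pi.zero_apply, mul_sub, sub_mul,
      sum_sub_distrib, mul_sum, mul_assoc, mul_left_comm _ (m : ℂ)] at this ⊢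
    linear_combination this
  have a3 := classInner_sum_smul_irr (fun ψ => (π ψ - r ψ) * (m * n * α ψ / ψ.1 1 - m)) χ
  rw [a2, classInner_zero_left, h1, h0] at a3
  have := χ.2.apply_one_ne_zero
  field_simp at a3
  refine mul_left_cancel₀ m0 ?_
  push_cast at a3
  linear_combination a3

theorem sρ {e : ℤ} (he : (♯K : ℤ) = e + 1) [Fintype K] :
    ∑ k : K, (fx Ω (k : G) : ℂ) = Fintype.card Ω + 2 * e := by
  classical
  have he' : (♯K : ℂ) = e + 1 := by exact_mod_cast he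
  rw [← add_sum_erase _ _ (mem_univ (1 : K)), sum_congr rfl (g := fun _ => 2) fun k hk => by
    rw [fx, show ({c | (k : G) • c = c} : Finset Ω) = {a, b} from Finset.ext fun c => by
      simpa using ⟨H.hKfix k k.2 (by simpa using ne_of_mem_erase hk) c, by
        rintro (rfl | rfl); exacts [((H.hK k).1 k.2).1, ((H.hK k).1 k.2).2.1]⟩, card_pair H.hab]; rfl]
  rw [sum_const, card_erase_of_mem (mem_univ _), card_univ, ← Nat.card_eq_fintype_card,
    nsmul_eq_mul, Nat.cast_sub Nat.card_pos, he', OneMemClass.coe_one, fx_one]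
  ring

theorem final : False := by
  classical
  obtain ⟨π, r, hπ, hr, π1, rπ, r2', ππ⟩ := H.mults
  obtain ⟨e, he⟩ : ∃ e : ℤ, (♯K : ℤ) = e + 1 := ⟨♯K - 1, by ring⟩
  obtain ⟨B, W, hB, sB, sW, W0, hW⟩ := H.kp he
  obtain ⟨s, -⟩ := exists_pt H.h a
  choose α hα using fun χ : IrrCharacter G => χ.2.isGen.exists_int_of_sq (g := s.1) (by rw [sq, s.2.2])
  set C : Finset (IrrCharacter G) := {χ | π χ = 1 ∧ r χ = 0}
  have deg : ∀ χ ∈ C, χ.1 1 = Fintype.card Ω * α χ := fun χ hχ =>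
    H.deg hπ hr hα (mem_filter.mp hχ).2.1 (mem_filter.mp hχ).2.2
  have sρ := H.sρ he
  have cJ := H.cJ
  have po := H.po
  have p3 := H.p3
  have m7 := H.m7
  have Kodd := H.Kodd
  have hcard := H.hcard
  set p := orderOf x
  set m := ♯K with hm
  set n := Fintype.card Ω
  have sC : ∀ F : IrrCharacter G → ℂ, ∑ χ ∈ C, F χ = ∑ χ, (π χ - r χ) * F χ := fun F => by
    rw [sum_filter]
    refine sum_congr rfl fun χ _ => ?_
    rcases rπ χ with e | e
    · rcases Nat.le_one_iff_eq_zero_or_eq_one.mp (π1 χ) with f | f <;> simp [e, f]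
    · simp [e]
  have n0 : 0 < n := Fintype.card_pos_iff.mpr ⟨a⟩
  have he' : (m : ℂ) = e + 1 := by exact_mod_cast he
  have α0 : ∀ χ ∈ C, 0 < α χ := fun χ hχ => by
    obtain ⟨d, d0, hd⟩ := χ.2.exists_nat_apply_one
    have : (d : ℤ) = n * α χ := by exact_mod_cast hd.symm.trans (deg χ hχ)
    exact pos_of_mul_pos_right (a := (n : ℤ)) (by omega) (by omega)
  have sα : ∑ χ ∈ C, α χ = e := by
    have a1 := sC fun χ => χ.1 1
    simp only [sub_mul, sum_sub_distrib, ← hπ, ← hr, fx_one, cJ] at a1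
    rw [sum_congr rfl deg, ← mul_sum, Nat.cast_mul, he'] at a1
    have : (n : ℂ) ≠ 0 := by exact_mod_cast n0.ne'
    exact_mod_cast mul_left_cancel₀ this (a1.trans (show _ = n * (e : ℂ) by ring))
  obtain ⟨j, hj⟩ := ((isCharacter_fx (G := G) Ω).restrict K).inner_nat isCharacter_one
  have hj' : (n : ℤ) + 2 * e = (e + 1) * j := by
    have := card_mul_classInner (fun k : K => (fx Ω (k : G) : ℂ)) fun _ => 1
    simp only [hj, map_one, mul_one, sρ, ← hm, he'] at this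
    exact_mod_cast this.symm
  have r2 : ∑ χ, (r χ : ℤ) = 2 := by exact_mod_cast r2'
  have rB : ∑ χ, (r χ : ℤ) * B χ = 2 * e := by
    have : ∑ χ, (r χ : ℂ) * B χ = 2 * e := by
      simp only [hB, finsum_eq_sum_of_fintype, mul_sub, mul_sum, sum_sub_distrib]
      rw [sum_comm]
      simp only [← hr, sρ, fx_one]; ring
    exact_mod_cast this
  have sB' : ∑ χ ∈ C, B χ ^ 2 + 2 * e ^ 2 ≤ 2 * p * (e + 1) * e := by
    have : ∑ χ, ((if π χ = 1 ∧ r χ = 0 then B χ ^ 2 else 0) + (2 * e * (r χ * B χ) - e ^ 2 * r χ)) ≤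
        ∑ χ, B χ ^ 2 := sum_le_sum fun χ _ => by
      rcases rπ χ with f | f
      · simp only [f]; split_ifs <;> simp [sq_nonneg]
      · simpa [f] using sq_aux (B χ) e
    simp only [sum_add_distrib, sum_sub_distrib, ← mul_sum, rB, r2, sB, ← sum_filter] at this
    push_cast at this
    linarith
  have cC : e + p ≤ p * #C := by
    have a1 := sC fun _ => 1
    simp only [sum_const, nsmul_eq_mul, mul_one, sum_sub_distrib] at a1
    have a3 : (#C : ℤ) = ∑ χ, (π χ : ℤ) - ∑ χ, (r χ : ℤ) := by exact_mod_cast a1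
    have a4 : (3 * p + m : ℤ) ≤ p * ∑ χ, (π χ : ℤ) + 1 := by exact_mod_cast ππ
    rw [a3, r2]; linarith
  let P : IrrCharacter G → Prop := fun χ => ∃ c β : ℤ, B χ = e * c ∧ χ.1 1 = (c + (e + 1) * β : ℤ)
  have e6 : 6 ≤ e := by omega
  have e2 : e = 2 ^ p - 2 := by
    have : (m : ℤ) + 1 = 2 ^ p := by exact_mod_cast hcard
    omega
  have hP : ∀ χ ∈ C.filter (¬ P ·), 2 * p * (e - 2 * p) ≤ W χ ∧ 4 * p ≤ e := fun χ hχ => by
    have := (hW χ).resolve_left (mem_filter.mp hχ).2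
    push_cast at this
    exact ⟨this.1, by omega⟩
  refine arith (p := p) (e := e) (N1 := #(C.filter P)) (N2 := #(C.filter (¬ P ·)))
    (S := ∑ χ ∈ C, B χ ^ 2) (by omega) ?_ (by omega) ?_ ?_ (fun f => ?_) ?_ sB'
  · rcases (by obtain ⟨k, hk⟩ := po; omega : p = 3 ∨ 5 ≤ p) with f | f
    · exact Or.inl ⟨by rw [e2, f]; norm_num, by omega⟩
    · exact Or.inr (e2 ▸ pow_bound f)
  · rwa [← Nat.cast_add, card_filter_add_card_filter_not]
  · rcases (C.filter (¬ P ·)).eq_empty_or_nonempty with f | ⟨χ, f⟩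
    · simp only [f]; simp; omega
    have a1 := card_nsmul_le_sum _ _ _ fun χ hχ => (hP χ hχ).1
    have a2 := (hP χ f).2
    have a3 := sum_le_univ_sum_of_nonneg (s := C.filter (¬ P ·)) W0
    rw [nsmul_eq_mul] at a1
    push_cast at sW
    exact le_of_mul_le_mul_right (a := (e - 2 * p : ℤ)) (by linarith) (by omega)
  · exact_mod_cast card_eq_zero.mpr (eq_empty_of_forall_notMem fun χ hχ => by
      have := (hP χ hχ).2; omega)
  · have a1 := card_nsmul_le_sum (C.filter P) (fun χ => B χ ^ 2 + 6 * e * α χ) (4 * e ^ 2) fun χ hχ => by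
      obtain ⟨hχ, c, β, h1, h2⟩ := mem_filter.mp hχ
      have := const_bound (e := e) (a := α χ) (c := c) (β := β) (by
        obtain ⟨k, hk⟩ := Kodd; exact ⟨k, by omega⟩) (α0 χ hχ)
        (sα ▸ single_le_sum (fun χ hχ => (α0 χ hχ).le) hχ) hj'
        (by exact_mod_cast (deg χ hχ).symm.trans h2)
      exact h1 ▸ sq_aux' (by omega) this
    have a2 := sum_le_sum_of_subset_of_nonneg (filter_subset P C)
      (f := fun χ => B χ ^ 2 + 6 * e * α χ) fun χ hχ _ => by have := α0 χ hχ; positivity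
    rw [nsmul_eq_mul] at a1
    have a3 := a1.trans a2
    rw [sum_add_distrib, ← mul_sum, sα] at a3
    linarith
end Hy

end H17.Six
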