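import Mathlib
import Cfsg.Agent.H17.ZStar
import Cfsg.Agent.H22.Alperin

/-!
# Automorphisms centralizing a Sylow `2`-subgroup (Glauberman)
-/

set_option autoImplicit false
set_option linter.unusedSectionVars false

open Cfsg H4 Subgroup

namespace H17

section Centric

variable {G : Type*} [Group G] [Finite G] {p : ℕ} [hp : Fact p.Prime]

variable (p) in
/-- every `p`-element centralizing `D` lies in `D` -/
def Centric (D : Subgroup G) : Prop := ∀ w, PElt p w → w ∈ centralizer (D : Set G) → w ∈ D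

theorem mem_of_sylIn_centralizer {X V : Subgroup G} (N : Subgroup G) [hN : N.Normal]
    (hV : H22.SylIn p V (centralizer (X : Set G))) (h : V ⊓ N ≤ X) {w : G} (hw : PElt p w)
    (hwN : w ∈ N) (hwC : w ∈ centralizer (X : Set G)) : w ∈ X := by
  obtain ⟨g, hg, h1⟩ := hV.exists_cj_le (zpowers_le.mpr hwC) hw.isPGroup_zpowers
  have h2 := h ⟨h1 (H22.conj_mem_cj (mem_zpowers w)), hN.conj_mem w hwN g⟩
  have h3 := mem_centralizer_iff.mp hg _ h2
  rw [inv_mul_cancel_right, mul_right_inj] at h3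
  exact h3 ▸ h2

theorem Centric.pp_mul {D : Subgroup G} (h : Centric p D) (hD : IsPGroup p D) {a b : G}
    (ha : a ∈ centralizer (D : Set G)) (hb : b ∈ centralizer (D : Set G)) :
    pp p (a * b) = pp p a * pp p b := by
  have h1 : HasNormalPComplement p (centralizer (D : Set G)) := H3.hasNPC_of_central_relSylow hD
    (by
      rw [← inf_relIndex_right]
      exact H22.SylIn.not_dvd ⟨inf_le_right, hD.to_inf_left, fun R hR h1 h2 => le_antisymm
        (fun x hx => ⟨h x (PElt.of_mem h1 hx) (hR hx), hR hx⟩) h2⟩) le_rfl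
  have h2 : ∀ c (hc : c ∈ centralizer (D : Set G)),
      (⟨pr p c, pr_mem hc⟩ : centralizer (D : Set G)) ∈ pPrimeCore p (centralizer (D : Set G)) :=
    fun c hc => mem_pPrimeCore_of_npc h1 (by rw [← Subgroup.orderOf_coe]; exact reg_pr c)
  have h3 := reg_of_mem (H2.not_dvd_card_pPrimeCore p _) (mul_mem (h2 a ha) (h2 b hb))
  rw [← Subgroup.orderOf_coe] at h3
  have h4 : ∀ c ∈ centralizer (D : Set G), ∀ d ∈ centralizer (D : Set G), Commute (pp p c) d :=
    fun c hc d hd => mem_centralizer_iff.mp hd _ (h _ (pElt_pp c) (pp_mem hc))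
  have h5 : a * b = (pp p a * pp p b) * (pr p a * pr p b) := by
    rw [mul_assoc, ← mul_assoc (pp p b), (h4 b hb _ (pr_mem ha)).eq, mul_assoc, pp_mul_pr,
      ← mul_assoc, pp_mul_pr]
  rw [h5]
  exact H17.pp_mul ((pElt_pp a).mul (pElt_pp b) (h4 a ha _ (pp_mem hb))) h3
    ((h4 a ha _ (mul_mem (pr_mem ha) (pr_mem hb))).mul_left
      (h4 b hb _ (mul_mem (pr_mem ha) (pr_mem hb))))

end Centric

section Aut

variable {G : Type*} [Group G] [Finite G]

theorem isolated_of_centric {Γ : Type*} [Group Γ] [Finite Γ] (ι : G →* Γ)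
    (hι : Function.Injective ι) (hN : ι.range.index = 2) {t : Γ} (ht : orderOf t = 2)
    (htN : t ∉ ι.range) (γ : G → G) (hγ : ∀ g, t * ι g * t⁻¹ = ι (γ g)) (S : Sylow 2 G)
    (hS : ∀ s ∈ (S : Subgroup G), γ s = s)
    (h : ∀ D : Subgroup G, D ≤ S → Centric 2 D → ∀ n ∈ normalizer (D : Set G),
      pp 2 (n⁻¹ * γ n) = 1) : IsIsolatedInvolution t := by
  have hNn := normal_of_index_eq_two hN
  have hmul : ∀ {x y : Γ}, x ∉ ι.range → y ∉ ι.range → x * y ∈ ι.range := fun hx hy =>
    (mul_mem_iff_of_index_two hN).mpr (iff_of_false hx hy)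
  have hred : ∀ (a : Γ) (K : Subgroup Γ), t ∈ K → Commute a t →
      (∀ x ∈ K, x ∈ ι.range → Commute a x) → ∀ x ∈ K, Commute a x := fun a K htK hat hK x hx => by
    by_cases hxN : x ∈ ι.range
    · exact hK x hx hxN
    · simpa using (hK _ (mul_mem hx htK) (hmul hxN htN)).mul_right hat.inv_right
  have htS : ∀ s ∈ (S : Subgroup G), Commute t (ι s) := fun s hs =>
    mul_inv_eq_iff_eq_mul.mp (by rw [hγ, hS s hs])
  obtain ⟨P, hP⟩ := (H22.isPGroup_sup_of_le_normalizer (PElt.of_two ht).isPGroup_zpowers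
    (S.isPGroup'.map ι) ((zpowers_le.mpr (mem_centralizer_iff.mpr (by
      rintro _ ⟨s, hs, rfl⟩
      exact (htS s hs).symm))).trans (centralizer_le_normalizer _))).exists_le_sylow
  have htP : t ∈ (P : Subgroup Γ) := hP (mem_sup_left (mem_zpowers t))
  have hPS : (P : Subgroup Γ).comap ι = S := S.is_maximal'
    (P.isPGroup'.comap_of_injective ι hι) fun s hs => hP (mem_sup_right ⟨s, hs, rfl⟩)
  have htc : ∀ x ∈ (P : Subgroup Γ), Commute t x := hred t P htP (Commute.refl t) (by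
    rintro _ hx ⟨s, rfl⟩
    exact htS s (hPS ▸ hx))
  have key : ∀ g a, Commute t g → (a = t ↔ g * a * g⁻¹ = t) := fun g a hg => by
    rw [mul_inv_eq_iff_eq_mul, hg.eq, mul_right_inj]
  refine (isolated_iff_sylow ht P htP).mpr fun g hg => (H22.alperin_rel P
    (fun a b => a = t ↔ b = t) (fun _ _ h => h.symm) (fun _ _ _ h h' => h.trans h')
    (fun a _ s hs => key s a (htc s hs)) (fun X hX hC hsyl _ g hg a _ => key g a ?_) htP hg).mp rfl
  have htX : t ∈ X := hC ⟨htP, mem_centralizer_iff.mpr fun x hx => (htc x (hX hx)).symm⟩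
  have hXP : IsPGroup 2 X := P.isPGroup'.to_le hX
  have hXc : Centric 2 X := fun w hw hwC => mem_of_sylIn_centralizer ⊤
    (hsyl.inf_normal (centralizer_le_normalizer _) (H22.normalizer_le_normalizer_centralizer X))
    (fun x hx => hC ⟨hx.1.1.1, hx.1.2⟩) hw (mem_top w) hwC
  have hDc : Centric 2 (X.comap ι) := fun w hw hwC => by
    obtain ⟨V, hV, htV⟩ := H22.exists_sylIn (H := centralizer ((X ⊓ ι.range : Subgroup Γ) : Set Γ))
      (zpowers_le.mpr (mem_centralizer_iff.mpr fun x hx => (htc x (hX hx.1)).symm))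
      (PElt.of_two ht).isPGroup_zpowers
    replace htV := htV (mem_zpowers t)
    obtain ⟨c, hc⟩ := H22.sylow_exists_cj_le P (H22.isPGroup_sup_of_le_normalizer hV.isPGroup
      (hXP.to_inf_left (K := ι.range)) (hV.le.trans (centralizer_le_normalizer _)))
    have h1 : ∀ x ∈ V ⊔ X ⊓ ι.range, Commute (c⁻¹ * t * c) x := fun x hx => by
      have := (htc _ (hc (H22.conj_mem_cj hx))).eq
      calc c⁻¹ * t * c * x = c⁻¹ * (t * (c * x * c⁻¹)) * c := by group
        _ = _ := by rw [this]; group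
    have h2 := h1 t (mem_sup_left htV)
    have h3 : t * (c⁻¹ * t * c) ∈ X ⊓ ι.range := by
      refine ⟨hXc _ ((PElt.of_two ht).mul (by simpa using (PElt.of_two ht).conj c⁻¹) h2.symm)
        (mem_centralizer_iff.mpr fun x hx => (hred _ X htX ((Commute.refl t).mul_left h2)
          (fun x hx hxN => (htc x (hX hx)).mul_left (h1 x (mem_sup_right ⟨hx, hxN⟩))) x hx).symm),
        hmul htN fun h => htN (by simpa [mul_assoc] using hNn.conj_mem _ h c)⟩
    have h4 : V ≤ X := fun v hv => hXc v (PElt.of_mem hV.isPGroup hv)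
      (mem_centralizer_iff.mpr fun x hx => (hred v X htX (by
        have h5 : Commute v (t * (c⁻¹ * t * c)) := (mem_centralizer_iff.mp (hV.le hv) _ h3).symm
        have h6 := h5.mul_right (h1 v (mem_sup_left hv)).symm.inv_right
        rwa [mul_inv_cancel_right] at h6)
        (fun x hx hxN => (mem_centralizer_iff.mp (hV.le hv) x ⟨hx, hxN⟩).symm) x hx).symm)
    exact (mem_of_sylIn_centralizer ι.range hV (inf_le_inf_right _ h4) (hw.map ι) ⟨w, rfl⟩
      (mem_centralizer_iff.mpr (by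
        rintro _ ⟨hx, x, rfl⟩
        rw [← map_mul, ← map_mul, mem_centralizer_iff.mp hwC x hx]))).1
  refine hred t _ (le_normalizer htX) (Commute.refl t) ?_ g hg
  rintro _ hn ⟨n, rfl⟩
  have h1 := h _ (hPS ▸ comap_mono hX) hDc n (mem_normalizer_iff.mpr fun d => by
    simpa using mem_normalizer_iff.mp hn (ι d))
  have h2 : ι (n⁻¹ * γ n) = (ι n)⁻¹ * t * ι n * t⁻¹ := by rw [map_mul, ← hγ, map_inv]; group
  rw [pp_of_pElt (PElt.of_injective hι (PElt.of_mem hXP (h2 ▸ mul_mem
    (H22.conj_mem_of_mem_normalizer' hn htX) (inv_mem htX))))] at h1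
  rw [h1, map_one, eq_mul_inv_iff_mul_eq, one_mul, mul_assoc, eq_inv_mul_iff_mul_eq] at h2
  exact h2.symm

theorem eq_one_of_centric (hO : pPrimeCore 2 G = ⊥) (γ : MulAut G) (hγ : γ ^ 2 = 1) (S : Sylow 2 G)
    (hS : ∀ s ∈ (S : Subgroup G), γ s = s)
    (h : ∀ D : Subgroup G, D ≤ S → Centric 2 D → ∀ n ∈ normalizer (D : Set G),
      pp 2 (n⁻¹ * γ n) = 1) : γ = 1 := by
  by_contra hne
  have h2 := orderOf_eq_prime hγ hne
  have : Finite (MulAut G) := Finite.of_injective _ (DFunLike.coe_injective (F := MulAut G))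
  let Γ := G ⋊[(zpowers γ).subtype] zpowers γ
  have : Finite Γ := Finite.of_equiv _ SemidirectProduct.equivProd.symm
  let t : Γ := SemidirectProduct.inr ⟨γ, mem_zpowers γ⟩
  have hN : (SemidirectProduct.inl : G →* Γ).range.index = 2 := by
    rw [SemidirectProduct.range_inl_eq_ker_rightHom, index_ker,
      MonoidHom.range_eq_top.mpr SemidirectProduct.rightHom_surjective, card_top,
      Nat.card_zpowers, h2]
  have hc : ∀ g, t * SemidirectProduct.inl g * t⁻¹ = SemidirectProduct.inl (γ g) := fun g => by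
    rw [← map_inv]; exact (SemidirectProduct.inl_aut _ g).symm
  have ht : IsIsolatedInvolution t := isolated_of_centric SemidirectProduct.inl
    SemidirectProduct.inl_injective hN (by
      rw [orderOf_injective _ SemidirectProduct.inr_injective, ← Subgroup.orderOf_coe, h2]) (by
      rw [SemidirectProduct.range_inl_eq_ker_rightHom, MonoidHom.mem_ker,
        SemidirectProduct.rightHom_inr]
      exact fun e => hne (congrArg Subtype.val e)) γ hc S hS h
  refine hne (MulEquiv.ext fun g => ?_)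
  have h3 := zstar ht (SemidirectProduct.inl g)
  rw [hc, ← map_inv, ← map_mul] at h3
  have h4 := eq_bot_of_odd hO ((pPrimeCore 2 Γ).comap SemidirectProduct.inl) inferInstance
    (odd_card_pPrimeCore.of_dvd_nat (card_comap_dvd_of_injective _ _
      SemidirectProduct.inl_injective))
  have h5 : γ g * g⁻¹ ∈ (⊥ : Subgroup G) := h4 ▸ h3
  exact mul_inv_eq_one.mp (mem_bot.mp h5)

/-- Glauberman: the automorphisms centralizing a Sylow `2`-subgroup of a core-free group form
an odd-by-(abelian `2`-group). -/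
theorem exists_odd_of_centralizes_sylow (hO : pPrimeCore 2 G = ⊥) (S : Sylow 2 G)
    (C : Subgroup (MulAut G)) (hC : ∀ φ ∈ C, ∀ s ∈ (S : Subgroup G), φ s = s) :
    ∃ K : Subgroup C, K.Normal ∧ Odd (Nat.card K) ∧ commutator C ≤ K ∧ pResidual 2 C ≤ K := by
  have : Finite (MulAut G) := Finite.of_injective _ (DFunLike.coe_injective (F := MulAut G))
  have h1 : ∀ D : Subgroup G, D ≤ S → ∀ n ∈ normalizer (D : Set G), ∀ φ : C,
      n⁻¹ * φ.1 n ∈ centralizer (D : Set G) := fun D hD n hn φ =>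
    mem_centralizer_iff.mpr fun d hd => by
      have := hC _ φ.2 _ (hD (H22.conj_mem_of_mem_normalizer hn hd))
      rw [map_mul, map_mul, hC _ φ.2 d (hD hd), map_inv, mul_inv_eq_iff_eq_mul] at this
      rw [mul_assoc, this]; group
  have h2 : ∀ D : Subgroup G, D ≤ S → Centric 2 D → ∀ n ∈ normalizer (D : Set G),
      ∃ f : C →* (D ⊓ centralizer (D : Set G) : Subgroup G),
        ∀ φ, (f φ : G) = pp 2 (n⁻¹ * φ.1 n) := fun D hD hc n hn =>
    ⟨MonoidHom.mk' (fun φ => ⟨_, hc _ (pElt_pp _) (pp_mem (h1 D hD n hn φ)),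
      pp_mem (h1 D hD n hn φ)⟩) fun φ ψ => Subtype.ext (by
        have h3 : φ.1 (pp 2 (n⁻¹ * ψ.1 n)) = _ :=
          hC _ φ.2 _ (hD (hc _ (pElt_pp _) (pp_mem (h1 D hD n hn ψ))))
        have h4 := h1 D hD n hn (φ * ψ)
        have h5 : n⁻¹ * (φ * ψ).1 n = n⁻¹ * φ.1 n * φ.1 (n⁻¹ * ψ.1 n) := by simp [mul_assoc]
        change pp 2 (n⁻¹ * (φ * ψ).1 n) = pp 2 (n⁻¹ * φ.1 n) * pp 2 (n⁻¹ * ψ.1 n)
        rw [h5] at h4 ⊢
        rw [hc.pp_mul (S.isPGroup'.to_le hD) (h1 D hD n hn φ)
          ((mul_mem_cancel_left (h1 D hD n hn φ)).mp h4), ← h3]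
        exact congrArg _ (pp_map φ.1.toMonoidHom _)), fun _ => rfl⟩
  choose f hf using h2
  refine ⟨⨅ D, ⨅ hD, ⨅ hc, ⨅ n, ⨅ hn, (f D hD hc n hn).ker, ?_, ?_, ?_, ?_⟩
  · exact ⟨fun φ hφ ψ => by
      simp only [mem_iInf] at hφ ⊢
      exact fun D hD hc n hn => (MonoidHom.normal_ker _).conj_mem φ (hφ D hD hc n hn) ψ⟩
  · rw [← Nat.not_even_iff_odd, even_iff_two_dvd]
    intro h
    obtain ⟨⟨γ, hγ⟩, h2⟩ := exists_prime_orderOf_dvd_card' 2 h
    rw [← Subgroup.orderOf_coe, ← Subgroup.orderOf_coe] at h2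
    simp only [mem_iInf] at hγ
    refine H22.ne_one_of_orderOf_two h2 (eq_one_of_centric hO γ.1 (by rw [← h2, pow_orderOf_eq_one])
      S (hC _ γ.2) fun D hD hc n hn => ?_)
    rw [← hf D hD hc n hn γ, hγ D hD hc n hn]; rfl
  · simp only [le_iInf_iff]
    intro D hD hc n hn
    rw [commutator_def, commutator_le]
    intro a _ b _
    rw [MonoidHom.mem_ker, map_commutatorElement, commutatorElement_eq_one_iff_mul_comm]
    exact Subtype.ext (mem_centralizer_iff.mp (f D hD hc n hn b).2.2 _ (f D hD hc n hn a).2.1)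
  · simp only [le_iInf_iff]
    exact fun D hD hc n hn => H3.pResidual_le_ker (S.isPGroup'.to_le hD).to_inf_left _

end Aut

end H17
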