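import Mathlib
import Cfsg.Agent.H22.U34

/-! A computable model `W` of the Sylow 2-subgroup of `U₃(4)`. -/

set_option autoImplicit false

open Subgroup

namespace H17.Ly

def W : Type := Fin 64
instance : Fintype W := inferInstanceAs (Fintype (Fin 64))
instance : DecidableEq W := inferInstanceAs (DecidableEq (Fin 64))
def W.mk (n : ℕ) : W := (⟨n % 64, Nat.mod_lt _ (by norm_num)⟩ : Fin 64)
def W.val (w : W) : ℕ := Fin.val w
def FT : ℕ := 0x4b4bb4b4f5a0f5a0eb41be1455aaff004bb44bb4f55f0aa0ebbe4114555500001e1eb4b4a0f5f5a0be14be1400ffff001ee14bb4a00a0aa0beeb411400000000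
def AT : ℕ := 0x102a1ebe9cc5c47f7b6ac9a0d3262e7d90f507734ba9c590512e0eff98d5857b6b2bcdb092223e3c94e546775be8c180
def W.mul (x y : W) : W :=
  W.mk (x.val ^^^ y.val ^^^ 16 * (FT >>> (32 * (x.val % 16) + 2 * (y.val % 16)) % 4))
instance : Mul W := ⟨W.mul⟩
instance : One W := ⟨W.mk 0⟩
instance : Inv W := ⟨fun x => x * x * x⟩

theorem W.assoc (a b c : W) : a * b * c = a * (b * c) := by
  have h1 : ∀ g ∈ [0, 1, 2, 4, 8, 16, 32, 48], ∀ a c : W, a * W.mk g * c = a * (W.mk g * c) := by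
    decide +kernel
  have h2 : ∀ b : W, ∃ p ∈ [0, 1], ∃ q ∈ [0, 2], ∃ r ∈ [0, 4], ∃ s ∈ [0, 8], ∃ v ∈ [0, 16, 32, 48],
      b = W.mk p * (W.mk q * (W.mk r * (W.mk s * W.mk v))) := by decide +kernel
  have h3 : ∀ g h : W, (∀ a c : W, a * g * c = a * (g * c)) → (∀ a c : W, a * h * c = a * (h * c)) →
      ∀ a c : W, a * (g * h) * c = a * (g * h * c) := fun g h hg hh a c => by
    rw [← hg, hh, hh, hg]
  obtain ⟨p, hp, q, hq, r, hr, s, hs, v, hv, rfl⟩ := h2 b
  refine h3 _ _ (h1 _ ?_) (h3 _ _ (h1 _ ?_) (h3 _ _ (h1 _ ?_) (h3 _ _ (h1 _ ?_) (h1 _ ?_)))) a c <;>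
    simp only [List.mem_cons, List.not_mem_nil, or_false] at * <;> omega

instance : Group W := Group.ofLeftAxioms W.assoc (by decide +kernel) (by decide +kernel)

def W.al (x : W) : W := W.mk (AT >>> (6 * x.val))

def W.alpha : MulAut W where
  toFun := W.al
  invFun x := W.al (W.al x)
  left_inv := by decide +kernel
  right_inv := by decide +kernel
  map_mul' := by decide +kernel

theorem W.u34 : H22.U34 W W.alpha where
  two := IsPGroup.of_card (n := 6) (by rw [Nat.card_eq_fintype_card]; rfl)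
  cent := by decide +kernel
  card := by rw [Nat.card_eq_fintype_card, Fintype.card_subtype]; decide +kernel
  cube := by
    ext x
    revert x
    change ∀ x, W.al (W.al (W.al x)) = x
    decide +kernel
  fpf := by
    change ∀ v, v * v = 1 → W.al v = v → v = 1
    decide +kernel
  exp := by decide +kernel
  nonab := ⟨W.mk 1, W.mk 2, by decide +kernel⟩

/-- sign characters of `W` -/
def sg (m : ℕ) (x : W) : ℤ := if (0x6996 >>> (m &&& x.val)) % 2 = 0 then 1 else -1

theorem sg_mul : ∀ m ∈ [1, 2, 3, 4, 6, 7], ∀ x y : W, sg m (x * y) = sg m x * sg m y := by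
  decide +kernel

theorem sg_one : ∀ m ∈ [1, 2, 3, 4, 6, 7], sg m 1 = 1 := by decide +kernel

/-- representatives for the fibres of squaring -/
def rq : Fin 3 → W := ![W.mk 1, W.mk 2, W.mk 4]
def kq (x : W) : Fin 3 := if x * x = W.mk 16 then 0 else if x * x = W.mk 32 then 1 else 2
def mq : Fin 3 → ℕ := ![7, 1, 3]
/-- representatives for the five homocyclic subgroups of order 16 -/
def rl : Fin 5 → W := ![W.mk 1, W.mk 2, W.mk 3, W.mk 4, W.mk 5]
def kl (x : W) : Fin 5 := if x * W.mk 1 = W.mk 1 * x then 0 else if x * W.mk 2 = W.mk 2 * x then 1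
  else if x * W.mk 3 = W.mk 3 * x then 2 else if x * W.mk 4 = W.mk 4 * x then 3 else 4
def ml : Fin 5 → ℕ := ![6, 1, 4, 3, 2]

theorem mq_mem : ∀ i, mq i ∈ [1, 2, 3, 4, 6, 7] := by decide
theorem ml_mem : ∀ i, ml i ∈ [1, 2, 3, 4, 6, 7] := by decide
theorem rq_sq : ∀ i, rq i * rq i ≠ 1 := by decide +kernel
theorem rq_ne : ∀ i j, rq i * rq i = rq j * rq j → i = j := by decide +kernel
theorem kq_sq : ∀ x : W, x * x ≠ 1 → x * x = rq (kq x) * rq (kq x) := by decide +kernel
theorem rl_sq : ∀ i, rl i * rl i ≠ 1 := by decide +kernel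
theorem rl_ne : ∀ i j, rl i * rl j = rl j * rl i → i = j := by decide +kernel
theorem kl_comm : ∀ x : W, x * rl (kl x) = rl (kl x) * x := by decide +kernel
theorem sg_V : ∀ m ∈ [1, 2, 3, 4, 6, 7], ∀ x : W, x * x = 1 → sg m x = 1 := by decide +kernel
theorem coef_q : ∀ i k, ∑ x : W, (if kq x = k then 1 - sg (mq i) x else 0) =
    if i = k then 32 else 16 := by decide +kernel
theorem coef_l : ∀ i k, ∑ x : W, (if kl x = k then 1 - sg (ml i) x else 0) =
    if i = k then 0 else 16 := by decide +kernel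
theorem coef_l0 : ∀ k, ∑ x : W, (if kl x = k then (if x * x = 1 then 0 else 1) else 0 : ℤ) = 12 := by
  decide +kernel

theorem w_comm : ∀ x s : W, x⁻¹ * (s * x * s⁻¹) * (x⁻¹ * (s * x * s⁻¹)) = 1 := by decide +kernel
theorem w_conj : ∀ x : W, x * x ≠ 1 → ∀ v : W, v * v = 1 → ∃ s, s * x * s⁻¹ = x * v := by
  decide +kernel
theorem w_cc : ∀ x : W, x * x ≠ 1 → ∀ y, y * x = x * y → ∀ z, z * x = x * z → y * z = z * y := by
  decide +kernel
theorem w_card_c : ∀ x : W, x * x ≠ 1 → (Finset.univ.filter fun y => y * x = x * y).card = 16 := by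
  decide +kernel
theorem w_card_f : ∀ x : W, x * x ≠ 1 → (Finset.univ.filter fun y => y * y = x * x).card = 20 := by
  decide +kernel
theorem w_card_f' : ∀ x : W, x * x ≠ 1 →
    (Finset.univ.filter fun y => y * y = x * x ∧ y * x ≠ x * y).card = 16 := by decide +kernel
theorem w_card_four : (Finset.univ.filter fun y : W => y * y ≠ 1).card = 60 := by decide +kernel
theorem w_card_inv : (Finset.univ.filter fun y : W => y * y = 1 ∧ y ≠ 1).card = 3 := by decide +kernel
theorem w_root : ∀ v : W, v * v = 1 → v ≠ 1 → ∃ x, x * x = v := by decide +kernel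

end H17.Ly
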