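import Mathlib
import Cfsg.Agent.H17.LyW
import Cfsg.Agent.H17.ZStar

/-! Groups with a Sylow 2-subgroup of type `U₃(4)`: local group theory. -/

set_option autoImplicit false
set_option linter.unusedSectionVars false

open Cfsg H4 Subgroup

namespace H17.Ly

variable {G : Type*} [Group G]

/-- `S` is a copy of the model group `W`. -/
def US (S : Subgroup G) : Prop := ∃ ι : W →* G, Function.Injective ι ∧ ι.range = S

theorem us_of_equiv {S : Subgroup G} (e : S ≃* W) : US S :=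
  ⟨S.subtype.comp e.symm.toMonoidHom, S.subtype_injective.comp e.symm.injective, by
    ext g
    exact ⟨fun ⟨w, h⟩ => h ▸ (e.symm w).2, fun h => ⟨e ⟨g, h⟩, by simp⟩⟩⟩

theorem us_of_u34 {S : Subgroup G} [Finite S] {α : MulAut S} (h : H22.U34 S α) : US S :=
  (h.nonempty_equiv W.u34).elim us_of_equiv

theorem exists_fix [Finite G] (h : G) (X : Set G) (hX : ∀ x, h * x * h⁻¹ ∈ X ↔ x ∈ X) {p : ℕ}
    (hp : p.Prime) (hpow : ∀ x ∈ X, h ^ p * x * (h ^ p)⁻¹ = x) (hd : ¬ p ∣ X.ncard) :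
    ∃ x ∈ X, h * x * h⁻¹ = x := by
  classical
  have := Fact.mk hp
  have := Fintype.ofFinite X
  obtain ⟨a, ha⟩ := Equiv.Perm.exists_fixed_point_of_prime (p := p) (n := 1) (α := X)
    (by rwa [← Nat.card_eq_fintype_card, Nat.card_coe_set_eq])
    (σ := Equiv.Perm.subtypePerm (MulAut.toPerm G (MulAut.conj h)) hX) (by
      have e : ∀ (n : ℕ) (x : X), (((Equiv.Perm.subtypePerm (p := (· ∈ X))
          (MulAut.toPerm G (MulAut.conj h)) hX ^ n) x : X) : G) = h ^ n * x * (h ^ n)⁻¹ := by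
        intro n
        induction n with
        | zero => simp
        | succ n ih =>
          intro x
          rw [pow_succ', Equiv.Perm.mul_apply]
          change h * _ * h⁻¹ = _
          rw [ih]; group
      ext x
      rw [pow_one]
      exact (e p x).trans (hpow x x.2))
  exact ⟨a, a.2, congrArg Subtype.val ha⟩

theorem exists_prime_step [Finite G] (K : Subgroup G) (n : ℕ) : ∀ h : G, orderOf h = n →
    ¬ 2 ∣ orderOf h → h ∉ K → ∃ k p : ℕ, p.Prime ∧ p ≠ 2 ∧ h ^ k ∉ K ∧ (h ^ k) ^ p ∈ K := by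
  induction n using Nat.strong_induction_on with
  | _ n ih =>
  intro h hn h2 hK
  have h1 : orderOf h ≠ 1 := fun e => hK (orderOf_eq_one_iff.mp e ▸ one_mem _)
  obtain ⟨p, hp, hd⟩ := Nat.exists_prime_and_dvd h1
  have hp2 : p ≠ 2 := fun e => h2 (e ▸ hd)
  by_cases hpK : h ^ p ∈ K
  · exact ⟨1, p, hp, hp2, by rwa [pow_one], by rwa [pow_one]⟩
  obtain ⟨k, q, h3, h4, h5, h6⟩ := ih (orderOf (h ^ p)) (by
    rw [orderOf_pow_of_dvd hp.ne_zero hd, ← hn]
    exact Nat.div_lt_self (orderOf_pos h) hp.one_lt) _ rfl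
    (fun e => h2 (e.trans (orderOf_pow_dvd p))) hpK
  exact ⟨p * k, q, h3, h4, by rwa [pow_mul], by rwa [pow_mul]⟩

theorem fix_of_sq [Finite G] {h y : G} (hh : ¬ 2 ∣ orderOf h) (h2 : h * (h * y * h⁻¹) * h⁻¹ = y) :
    h * y * h⁻¹ = y := by
  have : h ∈ centralizer ({y} : Set G) := H3.mem_of_pow_mem_of_coprime (m := 2)
    (mem_centralizer_singleton.mpr (by
      rw [sq]; exact mul_inv_eq_iff_eq_mul.mp (Eq.trans (by group) h2)))
    ((Nat.Prime.coprime_iff_not_dvd Nat.prime_two).mpr hh).symm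
  rw [(mem_centralizer_singleton.mp this).eq, mul_inv_cancel_right]

theorem conj_mul_conj (g a b : G) : g * a * g⁻¹ * (g * b * g⁻¹) = g * (a * b) * g⁻¹ := by group

theorem conj_eq_iff {g a b : G} (hb : g * b * g⁻¹ = b) : g * a * g⁻¹ = b ↔ a = b := by
  conv_lhs => rw [← hb]
  simp

theorem exists_sylow_of_comm [Finite G] (s : Set G) (h2 : ∀ a ∈ s, a * a = 1)
    (hc : ∀ a ∈ s, ∀ b ∈ s, a * b = b * a) : ∃ T : Sylow 2 G, ∀ a ∈ s, a ∈ (T : Subgroup G) := by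
  have h1 : closure s ≤ centralizer (closure s : Set G) := by
    rw [centralizer_closure, closure_le]
    exact fun a ha b hb => hc b hb a ha
  have h3 : IsPGroup 2 (closure s) := fun ⟨g, hg⟩ => ⟨1, Subtype.ext (by
    change g ^ 2 ^ 1 = 1
    rw [pow_one, sq]
    induction hg using closure_induction with
    | mem x hx => exact h2 x hx
    | one => simp
    | mul x y hx hy ihx ihy =>
      rw [mul_assoc, ← mul_assoc y, h1 hx y hy, mul_assoc, ihy, mul_one, ihx]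
    | inv x _ ih => rw [← mul_inv_rev, ih, inv_one])⟩
  obtain ⟨T, hT⟩ := h3.exists_le_sylow
  exact ⟨T, fun a ha => hT (subset_closure ha)⟩

namespace US

variable {S : Subgroup G} (h : US S)
include h

theorem nonempty_equiv : Nonempty (S ≃* W) := by
  obtain ⟨ι, hι, rfl⟩ := h
  exact ⟨(MonoidHom.ofInjective hι).symm⟩

theorem of_equiv {K : Type*} [Group K] {T : Subgroup K} (e : S ≃* T) : US T :=
  h.nonempty_equiv.elim fun f => us_of_equiv (e.symm.trans f)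

theorem map {K : Type*} [Group K] (f : G →* K) (hf : ∀ s ∈ S, f s = 1 → s = 1) : US (S.map f) := by
  obtain ⟨ι, hι, rfl⟩ := h
  exact ⟨f.comp ι, (injective_iff_map_eq_one _).mpr fun w hw =>
    hι ((hf _ ⟨w, rfl⟩ hw).trans (map_one ι).symm), MonoidHom.range_comp _ _⟩

theorem card : Nat.card S = 64 := by
  obtain ⟨e⟩ := h.nonempty_equiv
  rw [Nat.card_congr e.toEquiv, Nat.card_eq_fintype_card]; rfl

theorem sq_sq {x : G} (hx : x ∈ S) : x * x * (x * x) = 1 := by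
  obtain ⟨ι, hι, rfl⟩ := h
  obtain ⟨x, rfl⟩ := hx
  simp only [← map_mul, W.u34.exp, map_one]

theorem cent {v x : G} (hv : v ∈ S) (h2 : v * v = 1) (hx : x ∈ S) : x * v = v * x := by
  obtain ⟨ι, hι, rfl⟩ := h
  obtain ⟨x, rfl⟩ := hx
  obtain ⟨v, rfl⟩ := hv
  rw [← map_mul, map_eq_one_iff _ hι] at h2
  rw [← map_mul, W.u34.cent v h2, map_mul]

theorem cases {a b c : G} (ha : a ∈ S) (hb : b ∈ S) (hc : c ∈ S) (ha2 : a * a = 1)
    (hb2 : b * b = 1) (hc2 : c * c = 1) (ha1 : a ≠ 1) (hb1 : b ≠ 1) (hab : a ≠ b) :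
    c = 1 ∨ c = a ∨ c = b ∨ c = a * b := by
  obtain ⟨ι, hι, rfl⟩ := h
  obtain ⟨a, rfl⟩ := ha
  obtain ⟨b, rfl⟩ := hb
  obtain ⟨c, rfl⟩ := hc
  simp only [← map_mul, map_eq_one_iff _ hι, ne_eq, hι.eq_iff] at *
  exact W.u34.cases ha2 hb2 hc2 ha1 hb1 hab

theorem comm {x s : G} (hx : x ∈ S) (hs : s ∈ S) :
    x⁻¹ * (s * x * s⁻¹) * (x⁻¹ * (s * x * s⁻¹)) = 1 := by
  obtain ⟨ι, hι, rfl⟩ := h
  obtain ⟨x, rfl⟩ := hx
  obtain ⟨s, rfl⟩ := hs
  simp only [← map_mul, ← map_inv, w_comm, map_one]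

theorem conj {x y : G} (hx : x ∈ S) (h2 : x * x ≠ 1) (hy : y ∈ S)
    (hxy : x⁻¹ * y * (x⁻¹ * y) = 1) : ∃ s ∈ S, s * x * s⁻¹ = y := by
  obtain ⟨ι, hι, rfl⟩ := h
  obtain ⟨x, rfl⟩ := hx
  obtain ⟨y, rfl⟩ := hy
  simp only [← map_mul, ← map_inv, map_eq_one_iff _ hι, ne_eq] at *
  obtain ⟨s, hs⟩ := w_conj x h2 _ hxy
  exact ⟨ι s, ⟨s, rfl⟩, by simp only [← map_mul, ← map_inv, hs, mul_inv_cancel_left]⟩

theorem cc {x y z : G} (hx : x ∈ S) (h2 : x * x ≠ 1) (hy : y ∈ S) (hz : z ∈ S)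
    (hxy : y * x = x * y) (hxz : z * x = x * z) : y * z = z * y := by
  obtain ⟨ι, hι, rfl⟩ := h
  obtain ⟨x, rfl⟩ := hx
  obtain ⟨y, rfl⟩ := hy
  obtain ⟨z, rfl⟩ := hz
  simp only [← map_mul, map_eq_one_iff _ hι, ne_eq, hι.eq_iff] at *
  exact w_cc x h2 y hxy z hxz

theorem root {v : G} (hv : v ∈ S) (h2 : v * v = 1) (h1 : v ≠ 1) : ∃ x ∈ S, x * x = v := by
  obtain ⟨ι, hι, rfl⟩ := h
  obtain ⟨v, rfl⟩ := hv
  simp only [← map_mul, map_eq_one_iff _ hι, ne_eq] at *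
  obtain ⟨x, rfl⟩ := w_root v h2 h1
  exact ⟨ι x, ⟨x, rfl⟩, (map_mul _ _ _).symm⟩

omit h in
theorem ncard_eq {ι : W →* G} (hι : Function.Injective ι) (p : G → Prop) (q : W → Prop)
    [DecidablePred q] (hpq : ∀ w, p (ι w) ↔ q w) :
    {y | y ∈ ι.range ∧ p y}.ncard = (Finset.univ.filter q).card := by
  rw [← Set.ncard_coe_finset, ← Set.ncard_image_of_injective _ hι]
  congr 1
  ext y
  simp only [Set.mem_ofPred_eq, Finset.coe_filter, Finset.mem_univ, true_and, Set.mem_image]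
  exact ⟨fun ⟨⟨w, e⟩, h⟩ => ⟨w, (hpq w).1 (e ▸ h), e⟩, fun ⟨w, h, e⟩ => ⟨⟨w, e⟩, e ▸ (hpq w).2 h⟩⟩

theorem ncard_c {x : G} (hx : x ∈ S) (h2 : x * x ≠ 1) :
    {y | y ∈ S ∧ y * x = x * y}.ncard = 16 := by
  obtain ⟨ι, hι, rfl⟩ := h
  obtain ⟨x, rfl⟩ := hx
  simp only [← map_mul, map_eq_one_iff _ hι, ne_eq] at h2
  rw [← w_card_c x h2]
  exact ncard_eq hι _ _ fun w => by simp only [← map_mul, hι.eq_iff]

theorem ncard_f {x : G} (hx : x ∈ S) (h2 : x * x ≠ 1) :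
    {y | y ∈ S ∧ y * y = x * x}.ncard = 20 := by
  obtain ⟨ι, hι, rfl⟩ := h
  obtain ⟨x, rfl⟩ := hx
  simp only [← map_mul, map_eq_one_iff _ hι, ne_eq] at h2
  rw [← w_card_f x h2]
  exact ncard_eq hι _ _ fun w => by simp only [← map_mul, hι.eq_iff]

theorem ncard_f' {x : G} (hx : x ∈ S) (h2 : x * x ≠ 1) :
    {y | y ∈ S ∧ (y * y = x * x ∧ y * x ≠ x * y)}.ncard = 16 := by
  obtain ⟨ι, hι, rfl⟩ := h
  obtain ⟨x, rfl⟩ := hx
  simp only [← map_mul, map_eq_one_iff _ hι, ne_eq] at h2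
  rw [← w_card_f' x h2]
  exact ncard_eq hι _ _ fun w => by simp only [← map_mul, hι.eq_iff, ne_eq]

theorem ncard_inv : {y | y ∈ S ∧ orderOf y = 2}.ncard = 3 := by
  obtain ⟨ι, hι, rfl⟩ := h
  rw [← w_card_inv]
  exact ncard_eq hι _ _ fun w => by
    simp only [orderOf_eq_two_iff', ← map_mul, map_eq_one_iff _ hι, ne_eq]

theorem card_inf {x : G} (hx : x ∈ S) (h2 : x * x ≠ 1) :
    Nat.card ↥(S ⊓ centralizer ({x} : Set G)) = 16 := by
  rw [← h.ncard_c hx h2, ← Nat.card_coe_set_eq]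
  exact Nat.card_congr (Equiv.subtypeEquivRight fun y =>
    and_congr_right fun _ => mem_centralizer_singleton)

/-- the four-group of `S` -/
def V : Subgroup G where
  carrier := {v | v ∈ S ∧ v * v = 1}
  one_mem' := ⟨one_mem _, mul_one _⟩
  mul_mem' := fun {a b} ha hb => ⟨mul_mem ha.1 hb.1, by
    rw [mul_assoc, ← mul_assoc b, h.cent ha.1 ha.2 hb.1, mul_assoc, hb.2, mul_one, ha.2]⟩
  inv_mem' := fun {a} ha => ⟨inv_mem ha.1, by rw [← mul_inv_rev, ha.2, inv_one]⟩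

theorem mem_V {v : G} : v ∈ h.V ↔ v ∈ S ∧ v * v = 1 := Iff.rfl

theorem card_V [Finite G] : Nat.card h.V = 4 := by
  have h1 : (h.V : Set G) = insert 1 {y | y ∈ S ∧ orderOf y = 2} := by
    ext y
    simp only [Set.mem_insert_iff, Set.mem_ofPred_eq, orderOf_eq_two_iff', SetLike.mem_coe, mem_V]
    exact ⟨fun e => (em _).imp id fun e' => ⟨e.1, e.2, e'⟩,
      fun e => e.elim (fun e => by simp [e, one_mem]) fun e => ⟨e.1, e.2.1⟩⟩
  change Nat.card (h.V : Set G) = 4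
  rw [Nat.card_coe_set_eq, h1, Set.ncard_insert_of_notMem (by simp), h.ncard_inv]

theorem sq_ne_of_sq_eq {x y : G} (hxy : y * x = x * y) (e : y * y = x * x) :
    x⁻¹ * y * (x⁻¹ * y) = 1 := by
  have : Commute x⁻¹ y := (show Commute x y from hxy.symm).inv_left
  rw [mul_assoc, ← mul_assoc y, ← this.eq, mul_assoc, e]; group

theorem sq_mul_V {x v : G} (hx : x ∈ S) (hv : v ∈ h.V) : x * v * (x * v) = x * x := by
  rw [mul_assoc, ← mul_assoc v, ← h.cent hv.1 hv.2 hx, mul_assoc, hv.2, mul_one]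

variable [Finite G]

theorem isPGroup : IsPGroup 2 S := IsPGroup.of_card (n := 6) h.card

theorem fix_coset {g x : G} (hg : ¬ 2 ∣ orderOf g) (hV : ∀ v ∈ h.V, g * v * g⁻¹ = v)
    (hx : x⁻¹ * (g * x * g⁻¹) ∈ h.V) : g * x * g⁻¹ = x := by
  refine fix_of_sq hg ?_
  have h1 := hV _ hx
  have h2 := hx.2
  set v := x⁻¹ * (g * x * g⁻¹) with hv
  have h3 : g * x * g⁻¹ = x * v := by rw [hv]; group
  calc g * (g * x * g⁻¹) * g⁻¹ = g * x * g⁻¹ * (g * v * g⁻¹) := by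
        conv_lhs => rw [h3]
        group
    _ = x := by rw [h1, h3, mul_assoc, h2, mul_one]

theorem fix_comm {g x y : G} (hN : g ∈ normalizer (S : Set G)) (hg : ¬ 2 ∣ orderOf g)
    (hV : ∀ v ∈ h.V, g * v * g⁻¹ = v) (hx : x ∈ S) (h2 : x * x ≠ 1) (hgx : g * x * g⁻¹ = x)
    (hy : y ∈ S) (hxy : y * x = x * y) : g * y * g⁻¹ = y := by
  have h1 := H22.conj_mem_of_mem_normalizer hN hy
  refine h.fix_coset hg hV ⟨mul_mem (inv_mem hy) h1, h.sq_ne_of_sq_eq (h.cc hx h2 h1 hy ?_ hxy) ?_⟩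
  · calc g * y * g⁻¹ * x = g * (y * x) * g⁻¹ := by conv_lhs => rw [← hgx]
                                                   group
      _ = _ := by rw [hxy]; conv_rhs => rw [← hgx]
                  group
  · rw [← hV (y * y) ⟨mul_mem hy hy, h.sq_sq hy⟩]; group

theorem cent_of_fix {g x : G} (hN : g ∈ normalizer (S : Set G)) (hg : ¬ 2 ∣ orderOf g)
    (hV : ∀ v ∈ h.V, g * v * g⁻¹ = v) (hx : x ∈ S) (h2 : x * x ≠ 1) (hgx : g * x * g⁻¹ = x) :
    g ∈ centralizer (S : Set G) := by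
  by_contra hc
  obtain ⟨k, p, hp, hp2, h3, h4⟩ := exists_prime_step _ _ g rfl hg hc
  have cm : ∀ y, g * y * g⁻¹ = y → g ^ k * y * (g ^ k)⁻¹ = y := fun y e => by
    rw [((show Commute g y from mul_inv_eq_iff_eq_mul.mp e).pow_left k).eq, mul_inv_cancel_right]
  replace hN := pow_mem hN k
  replace hg : ¬ 2 ∣ orderOf (g ^ k) := fun e => hg (e.trans (orderOf_pow_dvd k))
  replace hV : ∀ v ∈ h.V, g ^ k * v * (g ^ k)⁻¹ = v := fun v hv => cm v (hV v hv)
  replace hgx := cm x hgx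
  generalize g ^ k = g at *
  have hpd : ∀ n : ℕ, ¬ p ∣ 2 ^ n := fun n e =>
    hp2 ((Nat.prime_dvd_prime_iff_eq hp Nat.prime_two).mp (hp.dvd_of_dvd_pow e))
  have hS : ∀ y, g * y * g⁻¹ ∈ S ↔ y ∈ S := fun y => (mem_normalizer_iff.mp hN y).symm
  have hpow : ∀ y ∈ S, g ^ p * y * (g ^ p)⁻¹ = y := fun y hy => by
    rw [← h4 y hy, mul_inv_cancel_right]
  obtain ⟨y, ⟨hy, -, hy2⟩, hy3⟩ := exists_fix g {y | y ∈ S ∧ (y * y = x * x ∧ y * x ≠ x * y)}
    (fun y => and_congr (hS y) (and_congr (by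
      rw [conj_mul_conj, conj_eq_iff (hV (x * x) ⟨mul_mem hx hx, h.sq_sq hx⟩)]) (not_congr (by
      conv_lhs => rw [← hgx, conj_mul_conj, conj_mul_conj]
      simp)))) hp (fun y hy => hpow y hy.1) (by rw [h.ncard_f' hx h2]; exact hpd 4)
  set H := S ⊓ centralizer ({g} : Set G) with hH
  have mH : ∀ y, y ∈ H ↔ y ∈ S ∧ g * y * g⁻¹ = y := fun y => and_congr_right fun _ =>
    mem_centralizer_singleton.trans (by rw [mul_inv_eq_iff_eq_mul]; exact eq_comm)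
  have hlt : S ⊓ centralizer ({x} : Set G) < H := lt_of_le_of_ne (fun a ha => (mH a).2 ⟨ha.1,
    h.fix_comm hN hg hV hx h2 hgx ha.1 (mem_centralizer_singleton.mp ha.2)⟩) fun e =>
      hy2 (mem_centralizer_singleton.mp (e ▸ (mH y).2 ⟨hy, hy3⟩ : y ∈ S ⊓ _).2)
  have hlt2 : H < S := lt_of_le_of_ne inf_le_left fun e => h3 fun a ha =>
    (mem_centralizer_singleton.mp (e ▸ ha : a ∈ H).2)
  have c1 := H2.card_lt_of_lt hlt
  have c2 := H2.card_lt_of_lt hlt2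
  have c3 := card_dvd_of_le hlt2.le
  rw [h.card_inf hx h2] at c1
  rw [h.card] at c2 c3
  have c4 : Nat.card H = 32 := by
    have := Nat.le_of_dvd (by norm_num) c3
    generalize Nat.card H = n at *
    interval_cases n <;> omega
  obtain ⟨w, hw, hw2⟩ := exists_fix g ((S : Set G) \ H) (fun y => and_congr (hS y) (not_congr (by
    rw [SetLike.mem_coe, SetLike.mem_coe, mH, mH, hS]
    exact and_congr_right fun _ => by simp))) hp (fun y hy => hpow y hy.1) (by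
      rw [Set.ncard_sdiff hlt2.le, ← Nat.card_coe_set_eq, ← Nat.card_coe_set_eq]
      change ¬ p ∣ Nat.card S - Nat.card H
      rw [h.card, c4]; exact hpd 5)
  exact hw.2 ((mH w).2 ⟨hw.1, hw2⟩)

/-- an element inducing an automorphism of order 5 centralizing the four-group -/
structure Five (g : G) : Prop where
  norm : g ∈ normalizer (S : Set G)
  odd : ¬ 2 ∣ orderOf g
  cV : ∀ v ∈ h.V, g * v * g⁻¹ = v
  pow : g ^ 5 ∈ centralizer (S : Set G)
  notMem : g ∉ centralizer (S : Set G)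

theorem exists_five {g : G} (hN : g ∈ normalizer (S : Set G)) (hg : ¬ 2 ∣ orderOf g)
    (hV : ∀ v ∈ h.V, g * v * g⁻¹ = v) (hc : g ∉ centralizer (S : Set G)) :
    ∃ k : ℕ, h.Five (g ^ k) := by
  obtain ⟨k, p, hp, hp2, h3, h4⟩ := exists_prime_step _ _ g rfl hg hc
  have cm : ∀ y, g * y * g⁻¹ = y → g ^ k * y * (g ^ k)⁻¹ = y := fun y e => by
    rw [((show Commute g y from mul_inv_eq_iff_eq_mul.mp e).pow_left k).eq, mul_inv_cancel_right]
  replace hN := pow_mem hN k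
  replace hg : ¬ 2 ∣ orderOf (g ^ k) := fun e => hg (e.trans (orderOf_pow_dvd k))
  replace hV : ∀ v ∈ h.V, g ^ k * v * (g ^ k)⁻¹ = v := fun v hv => cm v (hV v hv)
  refine ⟨k, hN, hg, hV, ?_, h3⟩
  generalize g ^ k = g at *
  obtain ⟨x, hx, h2⟩ : ∃ x ∈ S, x * x ≠ 1 := by
    obtain ⟨ι, hι, rfl⟩ := h
    exact ⟨ι (rq 0), ⟨_, rfl⟩, by rw [← map_mul, Ne, map_eq_one_iff _ hι]; exact rq_sq 0⟩
  by_contra h5
  obtain ⟨y, hy, hy2⟩ := exists_fix g {y | y ∈ S ∧ y * y = x * x}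
    (fun y => and_congr (mem_normalizer_iff.mp hN y).symm (by
      rw [conj_mul_conj, conj_eq_iff (hV (x * x) ⟨mul_mem hx hx, h.sq_sq hx⟩)])) hp (fun y hy => by rw [← h4 y hy.1, mul_inv_cancel_right]) (by
      rw [h.ncard_f hx h2, show 20 = 2 ^ 2 * 5 by norm_num, hp.dvd_mul]
      rintro (e | e)
      · exact hp2 ((Nat.prime_dvd_prime_iff_eq hp Nat.prime_two).mp (hp.dvd_of_dvd_pow e))
      · exact h5 ((Nat.prime_dvd_prime_iff_eq hp Nat.prime_five).mp e ▸ h4))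
  exact h3 (h.cent_of_fix hN hg hV hy.1 (hy.2 ▸ h2) hy2)

namespace Five

variable {h} {g : G} (h5 : h.Five g)
include h5

theorem dvd {n : ℤ} (hn : g ^ n ∈ centralizer (S : Set G)) : 5 ∣ n := by
  by_contra hd
  obtain ⟨a, b, e⟩ := (Int.prime_ofNat_iff.mpr Nat.prime_five).coprime_iff_not_dvd.mpr hd
  refine h5.notMem ?_
  have := mul_mem (zpow_mem h5.pow a) (zpow_mem hn b)
  rwa [← zpow_natCast, ← zpow_mul, ← zpow_mul, ← zpow_add, mul_comm _ a, mul_comm n,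
    show a * ((5 : ℕ) : ℤ) + b * n = 1 from e, zpow_one] at this

theorem zcV (n : ℤ) : ∀ v ∈ h.V, g ^ n * v * (g ^ n)⁻¹ = v := fun v hv => by
  rw [((show Commute g v from mul_inv_eq_iff_eq_mul.mp (h5.cV v hv)).zpow_left n).eq,
    mul_inv_cancel_right]

theorem conj {x y : G} (hx : x ∈ S) (h2 : x * x ≠ 1) (hy : y ∈ S) (hxy : y * y = x * x) :
    ∃ i : ℤ, ∃ s ∈ S, s * (g ^ i * x * (g ^ i)⁻¹) * s⁻¹ = y := by
  have m : ∀ i : ℤ, g ^ i * x * (g ^ i)⁻¹ ∈ S := fun i =>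
    H22.conj_mem_of_mem_normalizer (zpow_mem h5.norm i) hx
  have q : ∀ i : ℤ, g ^ i * x * (g ^ i)⁻¹ * (g ^ i * x * (g ^ i)⁻¹) = x * x := fun i => by
    rw [conj_mul_conj, h5.zcV i _ ⟨mul_mem hx hx, h.sq_sq hx⟩]
  let f : Fin 5 × h.V → {y | y ∈ S ∧ y * y = x * x} := fun p =>
    ⟨g ^ (p.1 : ℤ) * x * (g ^ (p.1 : ℤ))⁻¹ * p.2, mul_mem (m _) p.2.2.1, by
      rw [h.sq_mul_V (m _) p.2.2, q]⟩
  have hf : Function.Injective f := by
    rintro ⟨i, v⟩ ⟨j, w⟩ e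
    have e1 : g ^ (i : ℤ) * x * (g ^ (i : ℤ))⁻¹ * v = g ^ (j : ℤ) * x * (g ^ (j : ℤ))⁻¹ * w :=
      congrArg Subtype.val e
    have e2 : x⁻¹ * (g ^ ((j : ℤ) - i) * x * (g ^ ((j : ℤ) - i))⁻¹) = v * w⁻¹ := by
      change _ = (v : G) * (w : G)⁻¹
      rw [← h5.zcV (-(i : ℤ)) _ (mul_mem v.2 (inv_mem w.2)), eq_inv_mul_iff_mul_eq.mpr e1]
      group
    have e3 := h5.dvd (h.cent_of_fix (zpow_mem h5.norm _) (reg_zpow h5.odd _) (h5.zcV _) hx h2
      (h.fix_coset (reg_zpow h5.odd _) (h5.zcV _) (e2 ▸ mul_mem v.2 (inv_mem w.2))))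
    obtain rfl : i = j := by omega
    rw [Subtype.ext (mul_left_cancel e1 : (v : G) = w)]
  obtain ⟨⟨i, v⟩, e⟩ := (hf.bijective_of_nat_card_le (by
    rw [Nat.card_coe_set_eq, h.ncard_f hx h2, Nat.card_prod, h.card_V]; simp)).2 ⟨y, hy, hxy⟩
  have e1 : g ^ (i : ℤ) * x * (g ^ (i : ℤ))⁻¹ * v = y := congrArg Subtype.val e
  exact ⟨i, h.conj (m _) (by rwa [q]) hy (by rw [← e1, inv_mul_cancel_left]; exact v.2.2)⟩

theorem isConj {x y : G} (hx : x ∈ S) (h2 : x * x ≠ 1) (hy : y ∈ S) (hxy : y * y = x * x) :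
    IsConj x y := by
  obtain ⟨i, s, -, rfl⟩ := h5.conj hx h2 hy hxy
  exact (H22.isConj_conj _ _).trans (H22.isConj_conj _ _)

end Five

end US

namespace US

variable [Finite G] {S : Sylow 2 G} (h : US (S : Subgroup G))
include h

theorem sylow (T : Sylow 2 G) : US (T : Subgroup G) := h.of_equiv (S.equiv T)

theorem sylIn {x : G} (hx : x ∈ (S : Subgroup G)) (h2 : x * x ≠ 1) :
    H22.SylIn 2 ((S : Subgroup G) ⊓ centralizer {x}) (centralizer {x}) :=
  H22.sylIn_of_card_ge inf_le_right S.isPGroup'.to_inf_left fun R hR hp hle => by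
    obtain ⟨T, hT⟩ := hp.exists_le_sylow
    rw [h.card_inf hx h2, ← (h.sylow T).card_inf (hT (hle ⟨hx, (selfC x).2⟩)) h2]
    exact card_le_of_le (le_inf hT hR)

theorem hasNPC {x : G} (hx : x ∈ (S : Subgroup G)) (h2 : x * x ≠ 1) :
    HasNormalPComplement 2 (centralizer ({x} : Set G)) := by
  have hs := h.sylIn hx h2
  have hR : R2 (hs.toSylow : Subgroup (centralizer ({x} : Set G))) := ⟨fun a ha b hb =>
    Subtype.ext (h.cc hx h2 ha.1 hb.1 (mem_centralizer_singleton.mp a.2)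
      (mem_centralizer_singleton.mp b.2)), by
    rw [← h.ncard_inv, ← Set.ncard_image_of_injective _ Subtype.val_injective]
    congr 1
    ext y
    refine ⟨?_, fun hy => ?_⟩
    · rintro ⟨y, hy, rfl⟩
      exact ⟨hy.1.1, by rw [Subgroup.orderOf_coe, hy.2]⟩
    · have : y ∈ centralizer ({x} : Set G) := mem_centralizer_singleton.mpr
        (h.cent hy.1 (H22.mul_self_of_orderOf_two hy.2) hx).symm
      exact ⟨⟨y, this⟩, ⟨⟨hy.1, this⟩, by rw [← Subgroup.orderOf_coe, hy.2]⟩, rfl⟩⟩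
  exact H3.hasNPC_of_normalizer_le_centralizer hs.toSylow fun n hn => hR.mem_centralizer hn
    (z := selfC x) ⟨hx, (selfC x).2⟩ (fun e => h2 (by rw [show x = 1 from congrArg Subtype.val e, mul_one]))
    (by rw [← (commute_self_centralizer x n).eq, mul_inv_cancel_right])

theorem four_sum {M : Ideal AlgInt} [PM 2 M] {x : G} (hx : x ∈ (S : Subgroup G)) (h2 : x * x ≠ 1)
    (g : G) [Decidable (IsConj (pp 2 g) x)] :
    ∑ χ : Irr G, ind (principalBlock M G) χ * (χ.1 g * (starRingEnd ℂ) (χ.1 x)) =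
      if IsConj (pp 2 g) x then 16 else 0 := by
  rw [npc_sum (PElt.of_mem S.isPGroup' hx) (h.hasNPC hx h2),
    ← (h.sylIn hx h2).toSylow.card_eq_multiplicity, H22.SylIn.coe_toSylow,
    Nat.card_congr (subgroupOfEquivOfLe inf_le_right).toEquiv, h.card_inf hx h2]
  congr

theorem exists_int {x : G} (hx : x ∈ (S : Subgroup G)) {θ : G → ℂ}
    (hθ : IsGeneralizedCharacter G θ) : ∃ n : ℤ, θ x = n := by
  by_cases h2 : x * x = 1
  · exact hθ.exists_int_of_sq (by rwa [sq])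
  have h4 : x ^ 4 = 1 := by rw [← h.sq_sq hx]; simp only [pow_succ, pow_zero, one_mul, mul_assoc]
  refine hθ.exists_int_of_pow (by norm_num) h4 fun m hm => ?_
  obtain ⟨k, rfl⟩ : Odd m := Nat.coprime_two_right.mp (Nat.Coprime.coprime_dvd_right (by norm_num) hm)
  obtain ⟨s, -, e⟩ := h.conj hx h2 (pow_mem hx (2 * k + 1)) (by
    rw [pow_succ', inv_mul_cancel_left, ← pow_add, show 2 * k + 2 * k = 4 * k by ring, pow_mul, h4,
      one_pow])
  rw [← e, hθ.classFun]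

theorem fusion {x y : G} (hx : x ∈ (S : Subgroup G)) (h2 : x * x ≠ 1) (hy : y ∈ (S : Subgroup G))
    (hxy : IsConj x y) : ∃ n ∈ normalizer ((S : Subgroup G) : Set G), n * x * n⁻¹ = y := by
  obtain ⟨g, rfl⟩ := isConj_iff.mp hxy
  have h3 : g * x * g⁻¹ * (g * x * g⁻¹) ≠ 1 := by rw [conj_mul_conj]; simpa using h2
  obtain ⟨c, hc, hle⟩ := (h.sylIn hy h3).exists_cj_le
    (R := H22.cj g ((S : Subgroup G) ⊓ centralizer {x}))
    (by rw [← H22.cj_centralizer_singleton]; exact H22.cj_mono inf_le_right)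
    (H22.isPGroup_cj S.isPGroup'.to_inf_left g)
  rw [← H22.cj_mul, H22.cj_le_iff] at hle
  have e : c * g * x * (c * g)⁻¹ = g * x * g⁻¹ := by
    rw [← mul_inv_cancel_right (g * x * g⁻¹) c, ← (mem_centralizer_singleton.mp hc).eq]; group
  have hV : c * g ∈ normalizer (h.V : Set G) := H22.mem_normalizer_of_conj_mem fun v hv =>
    ⟨(hle v ⟨hv.1, mem_centralizer_singleton.mpr (h.cent hv.1 hv.2 hx).symm⟩).1, by
      rw [conj_mul_conj, hv.2]; simp⟩
  rw [← e] at hy h3 ⊢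
  generalize c * g = g at *
  have key : ∀ z ∈ (S : Subgroup G), (S : Subgroup G) ≤ normalizer {w | z⁻¹ * w ∈ h.V} := by
    have : ∀ z ∈ (S : Subgroup G), ∀ s ∈ (S : Subgroup G), ∀ w, z⁻¹ * w ∈ h.V →
        z⁻¹ * (s * w * s⁻¹) ∈ h.V := fun z hz s hs w hw => by
      have hw' : w ∈ (S : Subgroup G) := by simpa using mul_mem hz hw.1
      have := mul_mem hw (show w⁻¹ * (s * w * s⁻¹) ∈ h.V from
        ⟨mul_mem (inv_mem hw') (mul_mem (mul_mem hs hw') (inv_mem hs)), h.comm hw' hs⟩)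
      rwa [mul_assoc, mul_inv_cancel_left] at this
    refine fun z hz s hs w => ⟨this z hz s hs w, fun hw => ?_⟩
    simpa [mul_assoc] using this z hz _ (inv_mem hs) _ hw
  obtain ⟨n, hn, e⟩ := H3.burnside_fusion_set S _ _ (key x hx) (key _ hy) g (by
    ext w
    refine ⟨?_, fun hw => ⟨g⁻¹ * w * g, ?_, by group⟩⟩
    · rintro ⟨w, hw, rfl⟩
      have := H22.conj_mem_of_mem_normalizer hV hw
      change _ ∈ h.V
      convert this using 1; group
    · have := H22.conj_mem_of_mem_normalizer' hV hw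
      change _ ∈ h.V
      convert this using 1; group)
  have h4 : (g * x * g⁻¹)⁻¹ * (n * x * n⁻¹) ∈ h.V :=
    (e ▸ ⟨x, by simp, rfl⟩ : n * x * n⁻¹ ∈ {w | (g * x * g⁻¹)⁻¹ * w ∈ h.V})
  obtain ⟨s, hs, e⟩ := h.conj hy h3 (H22.conj_mem_of_mem_normalizer hn hx) h4.2
  exact ⟨s⁻¹ * n, mul_mem (inv_mem (le_normalizer hs)) hn, by
    calc s⁻¹ * n * x * (s⁻¹ * n)⁻¹ = s⁻¹ * (n * x * n⁻¹) * s := by group
      _ = _ := by rw [← e]; group⟩

theorem comm_of_sq {g a : G} (hg : g ∈ normalizer (h.V : Set G)) (ha : a ∈ h.V)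
    (h2 : Commute a (g * g)) : Commute a g := by
  have h1 : Commute a (pp 2 g) := by
    obtain ⟨T, hT⟩ := (H22.isPGroup_sup_of_le_normalizer (pElt_pp g).isPGroup_zpowers
      (h.isPGroup.to_le (H := h.V) fun _ hv => hv.1) (zpowers_le.mpr (pp_mem hg))).exists_le_sylow
    exact ((h.sylow T).cent (hT (mem_sup_right ha)) ha.2 (hT (mem_sup_left (mem_zpowers _)))).symm
  have h3 : pr 2 g ∈ centralizer ({a} : Set G) := H3.mem_of_pow_mem_of_coprime (m := 2) (by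
    obtain ⟨k, hk⟩ := mem_zpowers_iff.mp (pr_mem_zpowers (p := 2) g)
    rw [← hk, ← zpow_natCast, ← zpow_mul, mul_comm, zpow_mul]
    exact zpow_mem (mem_centralizer_singleton.mpr (by rw [zpow_natCast, sq]; exact h2.symm)) k)
    ((Nat.Prime.coprime_iff_not_dvd Nat.prime_two).mpr (reg_pr g)).symm
  rw [← pp_mul_pr (p := 2) g]
  exact h1.mul_right (mem_centralizer_singleton.mp h3).symm

theorem cV_of_fix {g u : G} (hg : g ∈ normalizer (h.V : Set G)) (hu : u ∈ h.V) (h1 : u ≠ 1)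
    (hgu : g * u * g⁻¹ = u) : ∀ a ∈ h.V, g * a * g⁻¹ = a := by
  intro a ha
  by_cases ha1 : a = 1
  · simp [ha1]
  by_cases hau : u = a
  · rwa [← hau]
  have hb := H22.conj_mem_of_mem_normalizer hg ha
  rcases h.cases hu.1 ha.1 hb.1 hu.2 ha.2 hb.2 h1 ha1 hau with e | e | e | e
  · exact absurd (by simpa using e) ha1
  · exact absurd ((conj_eq_iff hgu).mp e).symm hau
  · exact e
  · rw [← (h.comm_of_sq hg ha (mul_inv_eq_iff_eq_mul.mp ?_).symm).eq, mul_inv_cancel_right]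
    calc g * g * a * (g * g)⁻¹ = g * (g * a * g⁻¹) * g⁻¹ := by group
      _ = a := by rw [e, ← conj_mul_conj, hgu, e, ← mul_assoc, hu.2, one_mul]

theorem isolated {u : G} (hu : orderOf u = 2) {a : centralizer ({u} : Set G)} (ha : orderOf a = 2) :
    IsIsolatedInvolution a := by
  refine ⟨ha, fun g hg => Subtype.ext ?_⟩
  have hu2 := H22.mul_self_of_orderOf_two hu
  have ha2 : (a : G) * a = 1 := congrArg Subtype.val (H22.mul_self_of_orderOf_two ha)
  have c1 := (mem_centralizer_singleton.mp a.2).eq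
  have c2 := (mem_centralizer_singleton.mp (g * a * g⁻¹).2).eq
  have c3 : (a : G) * (g * a * g⁻¹) = g * a * g⁻¹ * a := congrArg Subtype.val hg.eq
  have hgu : (g : G) * u * (g : G)⁻¹ = u := by
    rw [(mem_centralizer_singleton.mp g.2).eq, mul_inv_cancel_right]
  have hb2 : (g : G) * a * (g : G)⁻¹ * (g * a * (g : G)⁻¹) = 1 := by rw [conj_mul_conj, ha2]; simp
  obtain ⟨T, hT⟩ := exists_sylow_of_comm {u, (a : G), (g : G) * a * (g : G)⁻¹} (by
      simp only [Set.forall_mem_insert, Set.mem_singleton_iff, forall_eq]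
      exact ⟨hu2, ha2, hb2⟩) (by
      simp only [Set.forall_mem_insert, Set.mem_singleton_iff, forall_eq, true_and, and_true]
      exact ⟨⟨c1.symm, c2.symm⟩, ⟨c1, c3⟩, c2, c3.symm⟩)
  simp only [Set.forall_mem_insert, Set.mem_singleton_iff, forall_eq] at hT
  by_cases hau : u = a
  · change (g : G) * a * (g : G)⁻¹ = a
    rwa [← hau]
  have hT' := h.sylow T
  refine hT'.cV_of_fix (H22.mem_normalizer_of_conj_mem fun v hv => ?_) ⟨hT.1, hu2⟩
    (H22.ne_one_of_orderOf_two hu) hgu a ⟨hT.2.1, ha2⟩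
  have hb : (g : G) * a * (g : G)⁻¹ ∈ hT'.V := ⟨hT.2.2, hb2⟩
  rcases hT'.cases hT.1 hT.2.1 hv.1 hu2 ha2 hv.2 (H22.ne_one_of_orderOf_two hu)
    (fun e => H22.ne_one_of_orderOf_two ha (Subtype.ext e)) hau with e | e | e | e <;> rw [e]
  · simpa using one_mem hT'.V
  · rw [hgu]; exact ⟨hT.1, hu2⟩
  · exact hb
  · rw [← conj_mul_conj, hgu]; exact mul_mem ⟨hT.1, hu2⟩ hb

end US

end H17.Ly
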