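import Mathlib

/-! Two small numerical lemmas for Lyons' theorem. -/

set_option autoImplicit false

namespace H17.Ly

theorem num2 {ι : Type*} (I : Finset ι) (i0 : ι) (hi0 : i0 ∈ I) (c : Fin 3 → ι → ℤ)
    (c0 : ∀ k, c k i0 = 1) (g : ∀ j k, ∑ i ∈ I, c j i * c k i = if j = k then 6 else 5) :
    ∃ i ∈ I, i ≠ i0 ∧ c 0 i = c 1 i ∧ c 1 i = c 2 i ∧ c 0 i ≠ 0 := by
  classical
  by_contra hcon
  push Not at hcon
  have d : ∀ j k, j ≠ k → ∑ i ∈ I, (c j i - c k i) ^ 2 = 2 := fun j k hjk => by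
    rw [Finset.sum_congr rfl (g := fun i => c j i * c j i + c k i * c k i - 2 * (c j i * c k i))
      fun i _ => by ring]
    simp only [Finset.sum_sub_distrib, Finset.sum_add_distrib, ← Finset.mul_sum, g, hjk]
    norm_num
  have d1 : ∀ j k, j ≠ k → ∀ i ∈ I, -1 ≤ c j i - c k i ∧ c j i - c k i ≤ 1 := fun j k hjk i hi => by
    have := Finset.single_le_sum (f := fun i => (c j i - c k i) ^ 2) (fun _ _ => sq_nonneg _) hi
    rw [d j k hjk] at this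
    constructor <;> nlinarith
  set J := I.filter fun i => ¬ (c 0 i = c 1 i ∧ c 1 i = c 2 i) with hJ
  have h1 : ∑ i ∈ I, ((c 0 i - c 1 i) ^ 2 + (c 1 i - c 2 i) ^ 2 + (c 0 i - c 2 i) ^ 2) =
      ∑ i ∈ J, 2 := by
    rw [hJ, Finset.sum_filter]
    refine Finset.sum_congr rfl fun i hi => ?_
    obtain ⟨a1, a2⟩ := d1 0 1 (by decide) i hi
    obtain ⟨b1, b2⟩ := d1 1 2 (by decide) i hi
    obtain ⟨e1, e2⟩ := d1 0 2 (by decide) i hi
    rw [show c 0 i - c 2 i = (c 0 i - c 1 i) + (c 1 i - c 2 i) by ring] at e1 e2 ⊢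
    simp only [← sub_eq_zero (a := c 0 i) (b := c 1 i), ← sub_eq_zero (a := c 1 i) (b := c 2 i)]
    generalize c 0 i - c 1 i = x at *
    generalize c 1 i - c 2 i = y at *
    interval_cases x <;> interval_cases y <;> simp_all
  simp only [Finset.sum_add_distrib, d 0 1 (by decide), d 1 2 (by decide), d 0 2 (by decide),
    Finset.sum_const, nsmul_eq_mul] at h1
  obtain ⟨x, y, z, hxy, hxz, hyz, e⟩ := Finset.card_eq_three.mp (show J.card = 3 by omega)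
  have h2 : ∑ i ∈ I, (c 0 i + c 1 i + c 2 i) ^ 2 = 48 := by
    rw [Finset.sum_congr rfl (g := fun i => c 0 i * c 0 i + c 1 i * c 1 i + c 2 i * c 2 i +
      2 * (c 0 i * c 1 i) + 2 * (c 0 i * c 2 i) + 2 * (c 1 i * c 2 i)) fun i _ => by ring]
    simp only [Finset.sum_add_distrib, ← Finset.mul_sum, g]
    rfl
  have h3 : ∑ i ∈ I, (c 0 i + c 1 i + c 2 i) ^ 2 = ∑ i ∈ insert i0 J, (c 0 i + c 1 i + c 2 i) ^ 2 := by
    refine (Finset.sum_subset (Finset.insert_subset hi0 (Finset.filter_subset _ _)) fun i hi hn => ?_).symm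
    simp only [Finset.mem_insert, Finset.mem_filter, hi, true_and, not_or, not_not] at hn
    have := hcon i hi hn.1 hn.2.1 hn.2.2
    rw [← hn.2.2, ← hn.2.1, this]; rfl
  rw [h3, Finset.sum_insert (by simp [hJ, c0]), e, Finset.sum_insert (by simp [hxy, hxz]),
    Finset.sum_pair hyz, c0, c0, c0] at h2
  have sq : ∀ a : ℤ, a ^ 2 % 8 = 0 ∨ a ^ 2 % 8 = 1 ∨ a ^ 2 % 8 = 4 := fun a => by
    have : a % 8 = 0 ∨ a % 8 = 1 ∨ a % 8 = 2 ∨ a % 8 = 3 ∨ a % 8 = 4 ∨ a % 8 = 5 ∨ a % 8 = 6 ∨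
      a % 8 = 7 := by omega
    rcases this with h | h | h | h | h | h | h | h <;> simp [sq, Int.mul_emod, h]
  have s1 := sq (c 0 x + c 1 x + c 2 x)
  have s2 := sq (c 0 y + c 1 y + c 2 y)
  have s3 := sq (c 0 z + c 1 z + c 2 z)
  omega

theorem row3 {t0 t1 t2 t3 t4 s d : ℤ} (h0 : 4 ∣ t0 - s) (h1 : 4 ∣ t1 - s) (h2 : 4 ∣ t2 - s)
    (h3 : 4 ∣ t3 - s) (h4 : 4 ∣ t4 - s) (hb : t1 + t2 + t3 + t4 = -4)
    (hm : 4 * (t0 ^ 2 + t1 ^ 2 + t2 ^ 2 + t3 ^ 2 + t4 ^ 2) + s ^ 2 ≤ 64)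
    (hd : 64 ∣ d + 3 * s + 12 * (t0 + t1 + t2 + t3 + t4)) (hK : |s| + 16 ≤ d) : 2 * s ^ 2 < d := by
  have hs0 : s ^ 2 ≤ 8 ^ 2 := by
    linarith [sq_nonneg t0, sq_nonneg t1, sq_nonneg t2, sq_nonneg t3, sq_nonneg t4]
  obtain ⟨hs1, hs2⟩ := abs_le_of_sq_le_sq' hs0 (by norm_num)
  clear hs0
  have a : ∀ t : ℤ, t ≤ t ^ 2 ∧ -t ≤ t ^ 2 ∧ 3 * t - 2 ≤ t ^ 2 ∧ -3 * t - 2 ≤ t ^ 2 ∧
      7 * t - 12 ≤ t ^ 2 ∧ -7 * t - 12 ≤ t ^ 2 ∧ 5 * t - 6 ≤ t ^ 2 ∧ -5 * t - 6 ≤ t ^ 2 := fun t => by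
    have q : ∀ a : ℤ, 0 ≤ (t - a) * (t - a - 1) := fun a => by
      rcases le_or_gt t a with h | h <;> nlinarith
    refine ⟨?_, ?_, ?_, ?_, ?_, ?_, ?_, ?_⟩
    · nlinarith [q 0]
    · nlinarith [q (-1)]
    · nlinarith [q 1]
    · nlinarith [q (-2)]
    · nlinarith [q 3]
    · nlinarith [q (-4)]
    · nlinarith [q 2]
    · nlinarith [q (-3)]
  have a0 := a t0
  have a1 := a t1
  have a2 := a t2
  have a3 := a t3
  have a4 := a t4
  generalize t0 ^ 2 = u0 at *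
  generalize t1 ^ 2 = u1 at *
  generalize t2 ^ 2 = u2 at *
  generalize t3 ^ 2 = u3 at *
  generalize t4 ^ 2 = u4 at *
  interval_cases s <;> simp at hK hm ⊢ <;> omega

theorem num3 {ι : Type*} (I : Finset ι) (i0 : ι) (hi0 : i0 ∈ I) (t : Fin 5 → ι → ℤ) (s d : ι → ℤ)
    (t0 : ∀ j, t j i0 = 1) (s0 : s i0 = 1) (d0 : d i0 = 1)
    (hK : ∀ i ∈ I, i ≠ i0 → |s i| + 16 ≤ d i) (h4 : ∀ j, ∀ i ∈ I, 4 ∣ ∑ k, t k i - t j i)
    (hc : ∀ i ∈ I, (64 : ℤ) ∣ d i + 3 * s i + 12 * ∑ k, t k i) (h16 : ∀ i ∈ I, 16 ∣ d i - s i)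
    (g1 : ∀ j k, ∑ i ∈ I, t j i * t k i = if j = k then 16 else 0)
    (g2 : ∀ j, ∑ i ∈ I, t j i * s i = 0) (g3 : ∑ i ∈ I, s i * s i = 64)
    (l : ∀ j, ∑ i ∈ I, t j i * d i = 0)
    (q : ∀ j, ∑ i ∈ I, ((t j i * s i ^ 2 : ℤ) : ℚ) / (d i : ℚ) = 0) : False := by
  classical
  have quad : ∀ u0 u1 u2 u3 u4 w : ℤ, ∑ i ∈ I, (u0 * t 0 i + u1 * t 1 i + u2 * t 2 i + u3 * t 3 i +
      u4 * t 4 i + w * s i) ^ 2 = 16 * (u0 ^ 2 + u1 ^ 2 + u2 ^ 2 + u3 ^ 2 + u4 ^ 2) + 64 * w ^ 2 := by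
    intro u0 u1 u2 u3 u4 w
    rw [Finset.sum_congr rfl (g := fun i => u0 ^ 2 * (t 0 i * t 0 i) + u1 ^ 2 * (t 1 i * t 1 i) +
      u2 ^ 2 * (t 2 i * t 2 i) + u3 ^ 2 * (t 3 i * t 3 i) + u4 ^ 2 * (t 4 i * t 4 i) +
      w ^ 2 * (s i * s i) + 2 * u0 * u1 * (t 0 i * t 1 i) + 2 * u0 * u2 * (t 0 i * t 2 i) +
      2 * u0 * u3 * (t 0 i * t 3 i) + 2 * u0 * u4 * (t 0 i * t 4 i) + 2 * u1 * u2 * (t 1 i * t 2 i) +
      2 * u1 * u3 * (t 1 i * t 3 i) + 2 * u1 * u4 * (t 1 i * t 4 i) + 2 * u2 * u3 * (t 2 i * t 3 i) +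
      2 * u2 * u4 * (t 2 i * t 4 i) + 2 * u3 * u4 * (t 3 i * t 4 i) + 2 * u0 * w * (t 0 i * s i) +
      2 * u1 * w * (t 1 i * s i) + 2 * u2 * w * (t 2 i * s i) + 2 * u3 * w * (t 3 i * s i) +
      2 * u4 * w * (t 4 i * s i)) fun i _ => by ring]
    simp only [Finset.sum_add_distrib, ← Finset.mul_sum, g1, g2, g3]
    simp only [Fin.isValue, Fin.reduceEq, ↓reduceIte]
    ring
  let b : ι → ℤ := fun i => (t 1 i + t 2 i + t 3 i + t 4 i) / 4
  have hb : ∀ i ∈ I, t 1 i + t 2 i + t 3 i + t 4 i = 4 * b i := fun i hi => by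
    have := h4 0 i hi
    rw [Fin.sum_univ_five] at this
    simp only [b]; omega
  have b0 : b i0 = 1 := by simp only [b, t0]; rfl
  have er : ∀ {M : Type} [AddCommGroup M] (f : ι → M), ∑ i ∈ I.erase i0, f i = ∑ i ∈ I, f i - f i0 :=
    fun f => Finset.sum_erase_eq_sub hi0
  have mem : ∀ i ∈ I.erase i0, i ∈ I := fun i => Finset.mem_of_mem_erase
  have e1 : ∑ i ∈ I.erase i0, b i ^ 2 = 3 := by
    have := quad 0 1 1 1 1 0
    rw [Finset.sum_congr rfl (g := fun i => 16 * b i ^ 2) fun i hi => by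
      linear_combination (t 1 i + t 2 i + t 3 i + t 4 i + 4 * b i) * hb i hi, ← Finset.mul_sum] at this
    rw [er, b0]; linarith
  have e2 : ∑ i ∈ I.erase i0, b i * d i = -1 := by
    have : ∑ i ∈ I, 4 * (b i * d i) = 0 := by
      rw [Finset.sum_congr rfl (g := fun i => t 1 i * d i + t 2 i * d i + t 3 i * d i + t 4 i * d i)
        fun i hi => by linear_combination (-d i) * hb i hi]
      simp only [Finset.sum_add_distrib, l, add_zero]
    rw [← Finset.mul_sum] at this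
    rw [er, b0, d0]; linarith
  have e3 : ∑ i ∈ I.erase i0, ((b i * s i ^ 2 : ℤ) : ℚ) / (d i : ℚ) = -1 := by
    have : ∑ i ∈ I, 4 * (((b i * s i ^ 2 : ℤ) : ℚ) / (d i : ℚ)) = 0 := by
      rw [Finset.sum_congr rfl (g := fun i => ((t 1 i * s i ^ 2 : ℤ) : ℚ) / (d i : ℚ) +
        ((t 2 i * s i ^ 2 : ℤ) : ℚ) / (d i : ℚ) + ((t 3 i * s i ^ 2 : ℤ) : ℚ) / (d i : ℚ) +
        ((t 4 i * s i ^ 2 : ℤ) : ℚ) / (d i : ℚ)) fun i hi => by
          have : ((t 1 i + t 2 i + t 3 i + t 4 i : ℤ) : ℚ) = (4 * b i : ℤ) := by rw [hb i hi]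
          push_cast at this ⊢
          linear_combination (-(s i : ℚ) ^ 2 / d i) * this]
      simp only [Finset.sum_add_distrib, q, add_zero]
    rw [← Finset.mul_sum] at this
    rw [er, b0, d0, s0]; norm_num; push_cast at this; linarith
  have hd : ∀ i ∈ I.erase i0, 16 ≤ d i := fun i hi => by
    have := hK i (mem i hi) (Finset.ne_of_mem_erase hi)
    linarith [abs_nonneg (s i)]
  have b1 : ∀ i ∈ I.erase i0, b i = -1 ∨ b i = 0 ∨ b i = 1 := fun i hi => by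
    have := Finset.single_le_sum (f := fun i => b i ^ 2) (fun _ _ => sq_nonneg _) hi
    rw [e1] at this
    have : -1 ≤ b i := by nlinarith
    have : b i ≤ 1 := by nlinarith
    omega
  have key : ∀ i ∈ I.erase i0, b i = -1 → 2 * s i ^ 2 < d i := fun i hi hbi => by
    have hI := mem i hi
    have c1 := hc i hI
    have c2 := h16 i hI
    have c3 := fun j => h4 j i hI
    simp only [Fin.sum_univ_five] at c1 c3
    have c40 := c3 0; have c41 := c3 1; have c42 := c3 2; have c43 := c3 3; have c44 := c3 4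
    refine row3 (t0 := t 0 i) (by omega) (by omega) (by omega) (by omega) (by omega)
      (by rw [hb i hI, hbi]; rfl) ?_ c1 (hK i hI (Finset.ne_of_mem_erase hi))
    have := (Finset.single_le_sum (f := fun k => (4 * t 0 i * t 0 k + 4 * t 1 i * t 1 k +
      4 * t 2 i * t 2 k + 4 * t 3 i * t 3 k + 4 * t 4 i * t 4 k + s i * s k) ^ 2)
      (fun _ _ => sq_nonneg _) hI).trans_eq (quad _ _ _ _ _ _)
    by_contra hlt
    set m := 4 * (t 0 i ^ 2 + t 1 i ^ 2 + t 2 i ^ 2 + t 3 i ^ 2 + t 4 i ^ 2) + s i ^ 2 with hm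
    have : m ^ 2 ≤ 64 * m := by rw [hm]; nlinarith [this]
    nlinarith
  have gp : ∀ i ∈ I.erase i0, 0 ≤ ((b i * s i ^ 2 : ℤ) : ℚ) / (d i : ℚ) + ((b i ^ 2 - b i : ℤ) : ℚ) / 4 ∧
      (b i = -1 → 0 < ((b i * s i ^ 2 : ℤ) : ℚ) / (d i : ℚ) + ((b i ^ 2 - b i : ℤ) : ℚ) / 4) := by
    intro i hi
    have hd' : (0 : ℚ) < d i := by have := hd i hi; exact_mod_cast (by omega : 0 < d i)
    have : b i = -1 → 0 < ((b i * s i ^ 2 : ℤ) : ℚ) / (d i : ℚ) + ((b i ^ 2 - b i : ℤ) : ℚ) / 4 := by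
      intro h
      have h1 : (2 * s i ^ 2 : ℚ) < d i := by exact_mod_cast key i hi h
      have h2 : (s i ^ 2 : ℚ) / d i < 1 / 2 := by rw [div_lt_iff₀ hd']; linarith
      rw [h]; push_cast; rw [neg_one_mul, neg_div]; linarith
    refine ⟨?_, this⟩
    rcases b1 i hi with h | h | h
    · exact (this h).le
    · simp [h]
    · rw [h]; positivity
  have e4 : ∑ i ∈ I.erase i0, (((b i * s i ^ 2 : ℤ) : ℚ) / (d i : ℚ) + ((b i ^ 2 - b i : ℤ) : ℚ) / 4) =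
      ((-1 - ∑ i ∈ I.erase i0, b i : ℤ) : ℚ) / 4 := by
    rw [Finset.sum_add_distrib, e3, ← Finset.sum_div, ← Int.cast_sum, Finset.sum_sub_distrib, e1]
    push_cast; ring
  by_cases hsum : -1 ≤ ∑ i ∈ I.erase i0, b i
  · have h0 : ∀ i ∈ I.erase i0, 0 ≤ b i := fun i hi => by
      by_contra hneg
      have := (Finset.single_le_sum (fun j hj => (gp j hj).1) hi).trans_eq e4
      have h2 := (gp i hi).2 (by have := b1 i hi; omega)
      have h3 : ((-1 - ∑ i ∈ I.erase i0, b i : ℤ) : ℚ) ≤ 0 := by exact_mod_cast (by omega)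
      linarith
    have := Finset.sum_nonneg fun i hi => mul_nonneg (h0 i hi) (by have := hd i hi; omega : 0 ≤ d i)
    omega
  · have h1 : 2 ∣ ∑ i ∈ I.erase i0, (b i ^ 2 + b i) := Finset.dvd_sum fun i hi => by
      rcases b1 i hi with h | h | h <;> simp [h]
    have h2 : ∑ i ∈ I.erase i0, (b i * d i + 16 * b i ^ 2) ≤
        ∑ i ∈ I.erase i0, 0 := Finset.sum_le_sum fun i hi => by
      have h3 := Finset.single_le_sum (f := fun i => b i ^ 2 + b i) (fun j hj => by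
        rcases b1 j hj with h | h | h <;> simp [h]) hi
      rw [Finset.sum_add_distrib, e1] at h1 h3
      have := hd i hi
      rcases b1 i hi with h | h | h <;> simp only [h] at h3 ⊢ <;> omega
    rw [Finset.sum_add_distrib, ← Finset.mul_sum, e1, e2] at h2
    simp at h2

end H17.Ly
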