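import Mathlib
import Cfsg.Agent.H17.LyGrp
import Cfsg.Agent.H17.LyNum2

/-! Groups with a Sylow 2-subgroup of type `U₃(4)`: integrality relations, and normality of the
Sylow subgroup when the four-group is central. -/

set_option autoImplicit false
set_option linter.unusedSectionVars false

open Cfsg H4 Subgroup
open scoped ComplexConjugate

namespace H17.Ly

universe u

theorem card_W : Nat.card W = 64 := by rw [Nat.card_eq_fintype_card]; rfl

theorem int_inner {θ η : W → ℂ} (hθ : IsGeneralizedCharacter W θ) (hη : IsGeneralizedCharacter W η) :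
    ∃ n : ℤ, ∑ w, θ w * conj (η w) = 64 * n := by
  obtain ⟨n, hn⟩ := hθ.inner_int hη
  exact ⟨n, by rw [← card_mul_classInner, hn, card_W]; norm_num⟩

theorem int_one {θ : W → ℂ} (hθ : IsGeneralizedCharacter W θ) : ∃ n : ℤ, ∑ w, θ w = 64 * n := by
  simpa using int_inner hθ isGen_one

theorem int_sg {θ : W → ℂ} (hθ : IsGeneralizedCharacter W θ) {m : ℕ} (hm : m ∈ [1, 2, 3, 4, 6, 7]) :
    ∃ n : ℤ, ∑ w, θ w * ((1 - sg m w : ℤ) : ℂ) = 64 * n := by
  let lam : W →* ℂ := ⟨⟨fun w => (sg m w : ℂ), by simp [sg_one m hm]⟩, fun x y => by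
    simp [sg_mul m hm]⟩
  obtain ⟨n, hn⟩ := int_inner hθ (isGen_one.sub (isIrrCharacter_monoidHom lam).isGen)
  exact ⟨n, by rw [← hn]; exact Finset.sum_congr rfl fun w _ => by simp [lam]⟩

theorem sum_class {n : ℕ} (κ : W → Fin n) (c : W → ℤ) (F : W → ℂ) (T : Fin n → ℂ)
    (h : ∀ w, c w ≠ 0 → F w = T (κ w)) :
    ∑ w, F w * c w = ∑ k, ((∑ w, if κ w = k then c w else 0 : ℤ) : ℂ) * T k := by
  simp only [Int.cast_sum, Finset.sum_mul]
  rw [Finset.sum_comm]
  refine Finset.sum_congr rfl fun w _ => ?_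
  rw [Finset.sum_eq_single (κ w) (fun k _ hk => by rw [if_neg hk.symm]; simp) (by simp), if_pos rfl]
  by_cases hc : c w = 0
  · simp [hc]
  · rw [h w hc, mul_comm]

theorem sum_split (F : W → ℂ) {z v : W} (hz : z * z = 1) (hv : v * v = 1) (hz1 : z ≠ 1)
    (hv1 : v ≠ 1) (hzv : z ≠ v) : ∑ w, F w = F 1 + F z + F v + F (z * v) +
      ∑ w, F w * ((if w * w = 1 then 0 else 1 : ℤ) : ℂ) := by
  have h1 : Finset.univ.filter (fun w : W => w * w = 1) = {1, z, v, z * v} := by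
    ext w
    simp only [Finset.mem_filter, Finset.mem_univ, true_and, Finset.mem_insert, Finset.mem_singleton]
    refine ⟨fun hw => W.u34.cases hz hv hw hz1 hv1 hzv, ?_⟩
    rintro (rfl | rfl | rfl | rfl)
    · simp
    · exact hz
    · exact hv
    · exact W.u34.V.mul_mem hz hv
  have h2 : z * v ≠ 1 := fun e => hzv (by rw [eq_inv_of_mul_eq_one_left e, inv_eq_of_mul_eq_one_left hv])
  rw [← Finset.sum_filter_add_sum_filter_not _ (fun w : W => w * w = 1), h1,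
    Finset.sum_insert (by simp [hz1.symm, hv1.symm, h2.symm]), Finset.sum_insert (by simp [hzv, hv1]),
    Finset.sum_pair (by simp [hz1]), Finset.sum_filter]
  simp only [add_assoc]
  congr 4
  exact Finset.sum_congr rfl fun w _ => by split_ifs <;> simp

variable {G : Type*} [Group G]

namespace US

variable {S : Subgroup G} (h : US S)
include h

theorem int_const (F : G → ℂ) (hF : ∀ ι : W →* G, Function.Injective ι → ι.range = S →
    ∃ n : ℤ, ∑ w, F (ι w) = 64 * n) {z v : G}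
    (hz : z ∈ h.V) (hv : v ∈ h.V) (hz1 : z ≠ 1) (hv1 : v ≠ 1) (hzv : z ≠ v) {c : ℂ}
    (hc : ∀ x ∈ S, x * x ≠ 1 → F x = c) :
    ∃ n : ℤ, F 1 + F z + F v + F (z * v) + 60 * c = 64 * n := by
  obtain ⟨ι, hι, rfl⟩ := h
  obtain ⟨⟨z, rfl⟩, hz⟩ := hz
  obtain ⟨⟨v, rfl⟩, hv⟩ := hv
  simp only [← map_mul, map_eq_one_iff _ hι, ne_eq, hι.eq_iff] at hz hv hz1 hv1 hzv
  obtain ⟨n, hn⟩ := hF ι hι rfl
  refine ⟨n, ?_⟩
  rw [← hn, sum_split _ hz hv hz1 hv1 hzv, sum_class (fun _ => (0 : Fin 1)) _ _ (fun _ => c)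
    fun w hw => hc _ ⟨w, rfl⟩ (by rw [← map_mul, Ne, map_eq_one_iff _ hι]; simpa using hw)]
  have : (∑ w : W, if w * w = 1 then 0 else 1 : ℤ) = 60 := by decide +kernel
  simp [this]

theorem int_q : ∃ x : Fin 3 → G, (∀ i, x i ∈ S ∧ x i * x i ≠ 1) ∧
    (∀ i j, x i * x i = x j * x j → i = j) ∧ (∀ y ∈ S, y * y ≠ 1 → ∃ i, y * y = x i * x i) ∧
    ∀ θ, IsGeneralizedCharacter G θ → (∀ y ∈ S, ∀ i, y * y = x i * x i → θ y = θ (x i)) →
      ∀ i, ∃ n : ℤ, θ (x i) + ∑ k, θ (x k) = 4 * n := by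
  obtain ⟨ι, hι, rfl⟩ := h
  refine ⟨fun i => ι (rq i), fun i => ⟨⟨_, rfl⟩, ?_⟩, fun i j e => rq_ne i j (hι ?_), ?_,
    fun θ hθ hc i => ?_⟩
  · rw [← map_mul, Ne, map_eq_one_iff _ hι]; exact rq_sq i
  · simpa only [map_mul] using e
  · rintro _ ⟨y, rfl⟩ hy
    rw [← map_mul, Ne, map_eq_one_iff _ hι] at hy
    exact ⟨kq y, by rw [← map_mul, ← map_mul, ← kq_sq y hy]⟩
  obtain ⟨n, hn⟩ := int_sg (hθ.comp ι) (mq_mem i)
  rw [sum_class kq _ _ (fun k => θ (ι (rq k))) fun w hw => hc _ ⟨w, rfl⟩ _ (by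
    rw [← map_mul, ← map_mul, ← kq_sq w fun e => hw (by rw [sg_V _ (mq_mem i) w e, sub_self])])] at hn
  simp only [coef_q] at hn
  refine ⟨n, ?_⟩
  fin_cases i <;> simp [Fin.sum_univ_three] at hn ⊢ <;> linear_combination hn / 16

theorem int_l : ∃ x : Fin 5 → G, (∀ i, x i ∈ S ∧ x i * x i ≠ 1) ∧
    (∀ i j, x i * x j = x j * x i → i = j) ∧
    ∀ θ, IsGeneralizedCharacter G θ →
      (∀ y ∈ S, y * y ≠ 1 → ∀ i, y * x i = x i * y → θ y = θ (x i)) →
      (∀ i, ∃ n : ℤ, ∑ k, θ (x k) - θ (x i) = 4 * n) ∧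
      ∀ s, (∀ v ∈ h.V, v ≠ 1 → θ v = s) → ∃ n : ℤ, θ 1 + 3 * s + 12 * ∑ k, θ (x k) = 64 * n := by
  obtain ⟨ι, hι, rfl⟩ := h
  refine ⟨fun i => ι (rl i), fun i => ⟨⟨_, rfl⟩, ?_⟩, fun i j e => rl_ne i j (hι ?_),
    fun θ hθ hc => ?_⟩
  · rw [← map_mul, Ne, map_eq_one_iff _ hι]; exact rl_sq i
  · simpa only [map_mul] using e
  have hc' : ∀ w, w * w ≠ 1 → θ (ι w) = θ (ι (rl (kl w))) := fun w hw => hc _ ⟨w, rfl⟩
    (by rwa [← map_mul, Ne, map_eq_one_iff _ hι]) _ (by rw [← map_mul, kl_comm, map_mul])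
  refine ⟨fun i => ?_, fun s hs => ?_⟩
  · obtain ⟨n, hn⟩ := int_sg (hθ.comp ι) (ml_mem i)
    rw [sum_class kl _ _ (fun k => θ (ι (rl k))) fun w hw => hc' w
      fun e => hw (by rw [sg_V _ (ml_mem i) w e, sub_self])] at hn
    simp only [coef_l] at hn
    refine ⟨n, ?_⟩
    fin_cases i <;> simp [Fin.sum_univ_five] at hn ⊢ <;> linear_combination hn / 16
  · obtain ⟨n, hn⟩ := int_one (hθ.comp ι)
    have hs' : ∀ w, w * w = 1 → w ≠ 1 → θ (ι w) = s := fun w hw h1 =>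
      hs _ ⟨⟨w, rfl⟩, by rw [← map_mul, hw, map_one]⟩ (by rwa [Ne, map_eq_one_iff _ hι])
    rw [sum_split _ (z := W.mk 16) (v := W.mk 32) (by decide +kernel) (by decide +kernel)
      (by decide +kernel) (by decide +kernel) (by decide +kernel),
      sum_class kl _ _ (fun k => θ (ι (rl k))) fun w hw => hc' w (by simpa using hw),
      map_one, hs' (W.mk 16) (by decide +kernel) (by decide +kernel),
      hs' (W.mk 32) (by decide +kernel) (by decide +kernel),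
      hs' (W.mk 16 * W.mk 32) (by decide +kernel) (by decide +kernel)] at hn
    simp only [coef_l0, ← Finset.mul_sum] at hn
    exact ⟨n, by push_cast at hn; linear_combination hn⟩

end US

section B0

variable [Finite G] {p : ℕ} [Fact p.Prime] (M : Ideal AlgInt) [PM p M]

open Classical in
variable (G) in
/-- the principal block as a finite set -/
noncomputable def B0 : Finset (Irr G) := Finset.univ.filter fun χ => SB M (irrOne G) χ

omit [PM p M] in
theorem mem_B0 {χ : Irr G} : χ ∈ B0 G M ↔ SB M (irrOne G) χ := by simp [B0]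

omit [PM p M] in
theorem sum_B0 (F : Irr G → ℂ) : ∑ χ, ind (principalBlock M G) χ * F χ = ∑ χ ∈ B0 G M, F χ := by
  rw [← sum_ind_coe (B0 G M), show (B0 G M : Set (Irr G)) = principalBlock M G from Set.ext fun _ => mem_B0 M]

omit [PM p M] in
theorem one_mem_B0 [M.IsMaximal] : irrOne G ∈ B0 G M := (mem_B0 M).2 (self_mem_blockOf _)

theorem B0_orth {g k : G} (h : ¬ IsConj (pp p g) (pp p k)) :
    ∑ χ ∈ B0 G M, χ.1 g * conj (χ.1 k) = 0 := by
  rw [← sum_B0]; exact block_orth (fb_mem_ZS (M := M) (irrOne G)) h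

omit [PM p M] in
theorem int_sum {g k : G} {a b : Irr G → ℤ} (ha : ∀ χ ∈ B0 G M, χ.1 g = a χ)
    (hb : ∀ χ ∈ B0 G M, χ.1 k = b χ) {n : ℤ} (h : ∑ χ ∈ B0 G M, χ.1 g * conj (χ.1 k) = n) :
    ∑ χ ∈ B0 G M, a χ * b χ = n := by
  rw [Finset.sum_congr rfl (g := fun χ => ((a χ * b χ : ℤ) : ℂ)) fun χ hχ => by
    rw [ha χ hχ, hb χ hχ]; simp] at h
  exact_mod_cast h

theorem sb_of_constrained {Q : Subgroup G} [Q.Normal] (hQ : IsPGroup p Q)
    (hC : centralizer (Q : Set G) ≤ Q) (χ : Irr G) : SB M (irrOne G) χ := by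
  obtain ⟨θ, hθ⟩ := exists_under Q χ
  have h1 : SB M (irrOne Q) θ := sb_of_ker (N := ⊥) (fun g hg => mem_bot.mpr
    (eq_one_of_PElt_of_reg (PElt.of_mem (hQ.to_subgroup ⊤) (mem_top g)) hg))
    fun n hn => by rw [mem_bot.mp hn]
  exact ((((over_one_iff Q).mpr fun _ _ => rfl).cov M).indRel hQ hC).unique
    (((hθ.cov M).congr (self_mem_blockOf _) h1.symm).indRel hQ hC)

end B0

theorem mem_sylow_of_normalizer [Finite G] {p : ℕ} [Fact p.Prime] (S : Sylow p G) {g : G}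
    (hg : PElt p g) (hn : g ∈ normalizer ((S : Subgroup G) : Set G)) : g ∈ (S : Subgroup G) := by
  rw [← S.is_maximal' (H22.isPGroup_sup_of_le_normalizer hg.isPGroup_zpowers S.isPGroup'
    (zpowers_le.mpr hn)) le_sup_right]
  exact mem_sup_left (mem_zpowers g)

theorem eq_one_of_cent [Finite G] {p : ℕ} [Fact p.Prime] (S : Sylow p G) [(S : Subgroup G).Normal]
    (hO : pPrimeCore p G = ⊥) {g : G} (hg : ¬ p ∣ orderOf g)
    (hc : g ∈ centralizer ((S : Subgroup G) : Set G)) : g = 1 := by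
  have h1 := ((H22.sylIn_top S).inf_normal (K := centralizer ((S : Subgroup G) : Set G)) le_top
    (by rw [normalizer_eq_top]))
  have h2 := mem_pPrimeCore_of_npc (H3.hasNPC_of_central_relSylow h1.isPGroup h1.not_dvd
    (centralizer_le fun _ hx => hx.1)) (g := ⟨g, hc⟩) (by rwa [← Subgroup.orderOf_coe])
  rwa [pPrimeCore_normal_eq_bot hO, mem_bot, Subtype.ext_iff] at h2

namespace US

variable [Finite G] {S : Sylow 2 G} (h : US (S : Subgroup G))
include h

theorem npc_or_five (hV : ∀ v ∈ h.V, ∀ g, Commute v g) :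
    HasNormalPComplement 2 G ∨ ∃ g, h.Five g := by
  by_cases h1 : ∀ g ∈ normalizer ((S : Subgroup G) : Set G), ¬ 2 ∣ orderOf g →
      g ∈ centralizer ((S : Subgroup G) : Set G)
  · refine Or.inl (H22.hasNPC_of_controls_fusion S fun a ha g hg => ?_)
    by_cases h2 : a * a = 1
    · exact ⟨1, one_mem _, by rw [← (hV a ⟨ha, h2⟩ g).eq]; simp⟩
    obtain ⟨n, hn, e⟩ := h.fusion ha h2 hg (H22.isConj_conj g a)
    refine ⟨pp 2 n, mem_sylow_of_normalizer S (pElt_pp n) (pp_mem hn), ?_⟩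
    rw [← e]
    conv_rhs => rw [← pp_mul_pr (p := 2) n, mul_assoc (pp 2 n), ← h1 _ (pr_mem hn) (reg_pr n) a ha]
    group
  · push Not at h1
    obtain ⟨g, h1, h2, h3⟩ := h1
    obtain ⟨k, hk⟩ := h.exists_five h1 h2 (fun v hv => by
      rw [← (hV v hv g).eq, mul_inv_cancel_right]) h3
    exact Or.inr ⟨_, hk⟩

theorem exists_ker (hV : ∀ v ∈ h.V, ∀ g, Commute v g) {g : G} (h5 : h.Five g) :
    ∃ χ : Irr G, χ ≠ irrOne G ∧ ∀ x ∈ (S : Subgroup G), χ.1 x = χ.1 1 := by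
  classical
  obtain ⟨M, hM⟩ := exists_PM 2
  have := Fintype.ofFinite G
  obtain ⟨x, hx, hne, hcov, hint⟩ := h.int_q
  have hcls : ∀ χ : Irr G, ∀ y ∈ (S : Subgroup G), ∀ i, y * y = x i * x i → χ.1 y = χ.1 (x i) :=
    fun χ y hy i e => (χ.2.classFun.apply_of_isConj (h5.isConj (hx i).1 (hx i).2 hy e)).symm
  choose t ht using fun i (χ : Irr G) => h.exists_int (hx i).1 χ.2.isGen
  choose c hc using fun (χ : Irr G) => hint _ χ.2.isGen (hcls χ)
  have hc' : ∀ χ i, t i χ + (t 0 χ + t 1 χ + t 2 χ) = 4 * c χ i := fun χ i => by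
    have := hc χ i
    simp only [ht, Fin.sum_univ_three] at this
    exact_mod_cast this
  have hV2 : ∀ i, x i * x i ∈ h.V := fun i => ⟨mul_mem (hx i).1 (hx i).1, h.sq_sq (hx i).1⟩
  have hG : ∀ i j, ∑ χ ∈ B0 G M, t i χ * t j χ = if i = j then 16 else 0 := fun i j =>
    int_sum M (fun χ _ => ht i χ) (fun χ _ => ht j χ) (by
      rw [← sum_B0, h.four_sum (hx j).1 (hx j).2, pp_of_pElt (PElt.of_mem S.isPGroup' (hx i).1)]
      by_cases e : i = j
      · rw [if_pos e, if_pos (e ▸ IsConj.refl _)]; norm_num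
      · rw [if_neg e, if_neg, Int.cast_zero]
        intro hc
        obtain ⟨k, hk⟩ := isConj_iff.mp hc
        exact e (hne i j (by rw [← hk, conj_mul_conj, ← (hV _ (hV2 i) k).eq, mul_inv_cancel_right])))
  obtain ⟨χ, hχ, h1, e1, e2, e3⟩ := num2 (B0 G M) _ (one_mem_B0 M) (fun i χ => c χ i)
    (fun k => by
      have h1 : ∀ i, t i (irrOne G) = 1 := fun i => by
        have := ht i (irrOne G); rw [irrOne_apply] at this; exact_mod_cast this.symm
      have := hc' (irrOne G) k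
      simp only [h1] at this
      omega)
    (fun j k => by
      have : ∑ χ ∈ B0 G M, 16 * (c χ j * c χ k) = ∑ χ ∈ B0 G M, (t j χ * t k χ + (t j χ * t 0 χ +
          t j χ * t 1 χ + t j χ * t 2 χ) + (t 0 χ * t k χ + t 1 χ * t k χ + t 2 χ * t k χ) +
          (t 0 χ * t 0 χ + t 1 χ * t 1 χ + t 2 χ * t 2 χ + 2 * (t 0 χ * t 1 χ) + 2 * (t 0 χ * t 2 χ) +
          2 * (t 1 χ * t 2 χ))) := Finset.sum_congr rfl fun χ _ => by
        linear_combination (-(4 * c χ k)) * hc' χ j - (t j χ + (t 0 χ + t 1 χ + t 2 χ)) * hc' χ k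
      simp only [Finset.sum_add_distrib, ← Finset.mul_sum, hG] at this
      fin_cases j <;> fin_cases k <;> simp at this ⊢ <;> omega)
  have hti : ∀ i, t i χ = c χ 0 := by
    have a0 := hc' χ 0
    have a1 := hc' χ 1
    have a2 := hc' χ 2
    intro i
    fin_cases i <;> simp only [Fin.zero_eta, Fin.mk_one, Fin.reduceFinMk] <;> omega
  have h4 : ∀ y ∈ (S : Subgroup G), y * y ≠ 1 → χ.1 y = c χ 0 := fun y hy h2 => by
    obtain ⟨i, e⟩ := hcov y hy h2
    rw [hcls χ y hy i e, ht, hti]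
  have h6 : ∀ k, χ.1 (k * x 0 * k⁻¹ * x 1) = c χ 0 := fun k => by
    obtain ⟨u, hu, hcu⟩ := exists_conj_mem S (pElt_pp (p := 2) (k * x 0 * k⁻¹ * x 1))
    by_cases hu2 : u * u = 1
    swap
    · rw [((mem_B0 M).1 hχ).npc_apply (h.hasNPC hu hu2) hcu, h4 u hu hu2]
    exfalso
    obtain ⟨l, hl⟩ := isConj_iff.mp hcu.symm
    rw [← (hV u ⟨hu, hu2⟩ l).eq, mul_inv_cancel_right] at hl
    set a := k * x 0 * k⁻¹ with ha
    have haa : a * a = x 0 * x 0 := by
      rw [ha, conj_mul_conj, ← (hV _ (hV2 0) k).eq, mul_inv_cancel_right]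
    have e4 : a * (a * x 1) * a⁻¹ = x 0 * x 0 * (x 1 * x 1) * (a * x 1)⁻¹ := by
      rw [← haa]; group
    have e5 := congrArg (pp 2) e4
    rw [pp_conj, pp_mul_of_central (PElt.of_mem S.isPGroup' (mul_mem (hV2 0) (hV2 1)).1)
      (hV _ (mul_mem (hV2 0) (hV2 1)) _), pp_inv, ← hl, ← (hV u ⟨hu, hu2⟩ a).eq, mul_inv_cancel_right,
      inv_eq_of_mul_eq_one_right hu2, right_eq_mul] at e5
    exact absurd (hne 0 1 (by rw [eq_inv_of_mul_eq_one_left e5, inv_eq_of_mul_eq_one_left (hV2 1).2]))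
      (by decide)
  have h7 := χ.2.sum_conj_mul (x 0) (x 1)
  rw [Finset.sum_congr rfl fun k _ => h6 k, Finset.sum_const, Finset.card_univ, nsmul_eq_mul,
    ← Nat.card_eq_fintype_card, eq_div_iff χ.2.apply_one_ne_zero, ht, ht, hti, hti, mul_assoc,
    mul_assoc] at h7
  have h8 := mul_left_cancel₀ (Int.cast_ne_zero.mpr e3) (mul_left_cancel₀ (card_ne_zero G) h7)
  have h9 : ∀ y ∈ (S : Subgroup G), y * y ≠ 1 → y ∈ H5.charKer χ.1 := fun y hy h2 =>
    (H5.mem_charKer_iff χ.2.isCharacter).mpr (by rw [h4 y hy h2, h8])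
  refine ⟨χ, h1, fun y hy => H5.apply_of_mem_charKer ?_⟩
  by_cases h2 : y * y = 1
  · have := mul_mem (inv_mem (h9 _ (hx 0).1 (hx 0).2)) (h9 (x 0 * y) (mul_mem (hx 0).1 hy)
      (by rw [h.sq_mul_V (hx 0).1 ⟨hy, h2⟩]; exact (hx 0).2))
    rwa [inv_mul_cancel_left] at this
  · exact h9 y hy h2

end US

theorem normal_aux (n : ℕ) : ∀ (G : Type u) [Group G] [Finite G], Nat.card G = n →
    ∀ (S : Sylow 2 G) (h : US (S : Subgroup G)), (∀ v ∈ h.V, ∀ g, Commute v g) →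
      pPrimeCore 2 G = ⊥ → (S : Subgroup G).Normal := by
  induction n using Nat.strong_induction_on with
  | _ n ih =>
  intro G _ _ hn P h hV hO
  rcases h.npc_or_five hV with hN | ⟨g, h5⟩
  · have h1 := index_pPrimeCore_of_npc hN
    rw [hO, index_bot, ← P.card_eq_multiplicity] at h1
    rw [Subgroup.eq_top_of_card_eq _ h1.symm]
    infer_instance
  obtain ⟨χ, h1, h3⟩ := h.exists_ker hV h5
  have hK := H5.charKer_normal χ.2.classFun
  have hPK : (P : Subgroup G) ≤ H5.charKer χ.1 := (H5.le_charKer_iff χ.2.isCharacter).mpr h3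
  have hne : H5.charKer χ.1 ≠ ⊤ := fun h => h1 (Subtype.ext (χ.2.eq_one_of_forall_apply_eq
    fun g => H5.apply_of_mem_charKer (h ▸ mem_top g)))
  have h4 := ih _ (hn ▸ H2.card_lt_of_ne_top hne) _ rfl (P.subtype hPK)
    (h.of_equiv (subgroupOfEquivOfLe hPK).symm)
    (fun v hv g => Subtype.ext (hV v ⟨hv.1, congrArg Subtype.val hv.2⟩ g).eq)
    (pPrimeCore_normal_eq_bot hO _)
  have h5 := Sylow.characteristic_of_normal _ h4
  rw [← map_subgroupOf_eq_of_le hPK]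
  exact ConjAct.normal_of_characteristic_of_normal
    (K := (P.subtype hPK : Subgroup (H5.charKer χ.1)))

theorem US.normal [Finite G] {S : Sylow 2 G} (h : US (S : Subgroup G))
    (hV : ∀ v ∈ h.V, ∀ g, Commute v g) (hO : pPrimeCore 2 G = ⊥) : (S : Subgroup G).Normal :=
  normal_aux _ G rfl S h hV hO

end H17.Ly
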