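import Mathlib
import Cfsg.Agent.H17.LyChar

/-! Groups with a Sylow 2-subgroup of type `U₃(4)` whose four-group is central modulo the core. -/

set_option autoImplicit false
set_option linter.unusedSectionVars false

open Cfsg H4 Subgroup
open scoped ComplexConjugate

namespace H17.Ly

variable {G : Type*} [Group G] [Finite G]

namespace US

variable {S : Sylow 2 G} (h : US (S : Subgroup G))
include h

section Normal

variable (hV : ∀ v ∈ h.V, ∀ g, Commute v g) (hO : pPrimeCore 2 G = ⊥)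
include hV hO

theorem constrained : centralizer ((S : Subgroup G) : Set G) ≤ S := fun g hg => by
  have := h.normal hV hO
  rw [← pp_mul_pr (p := 2) g, eq_one_of_cent S hO (reg_pr g) (pr_mem hg), mul_one]
  exact mem_sylow_of_normalizer S (pElt_pp g) (by rw [normalizer_eq_top]; trivial)

theorem centralizer_le {x : G} (hx : x ∈ (S : Subgroup G)) (h2 : x * x ≠ 1) :
    centralizer ({x} : Set G) ≤ S := fun g hg => by
  have := h.normal hV hO
  have h1 := h.cent_of_fix (g := pr 2 g) (by rw [normalizer_eq_top]; trivial) (reg_pr g)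
    (fun v hv => by rw [← (hV v hv _).eq, mul_inv_cancel_right]) hx h2
    (by rw [(mem_centralizer_singleton.mp (pr_mem hg)).eq, mul_inv_cancel_right])
  rw [← pp_mul_pr (p := 2) g, eq_one_of_cent S hO (reg_pr g) h1, mul_one]
  exact mem_sylow_of_normalizer S (pElt_pp g) (by rw [normalizer_eq_top]; trivial)

variable {g : G} (h5 : h.Five g)
include h5

theorem card_eq : Nat.card G = 320 := by
  have hN := h.normal hV hO
  obtain ⟨x, hx, -⟩ := h.int_q
  obtain ⟨hx, h2⟩ := hx 0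
  have h1 : Nat.card (centralizer ({x 0} : Set G)) = 16 := by
    rw [← h.card_inf hx h2, inf_eq_right.mpr (h.centralizer_le hV hO hx h2)]
  rw [← (centralizer ({x 0} : Set G)).card_mul_index, h1, ← card_isConj_eq_index,
    show (320 : ℕ) = 16 * 20 from rfl, ← h.ncard_f hx h2, ← Nat.card_coe_set_eq]
  congr 1
  refine Nat.card_congr (Equiv.subtypeEquivRight fun y => ⟨fun hy => ?_, fun hy =>
    h5.isConj hx h2 hy.1 hy.2⟩)
  obtain ⟨k, rfl⟩ := isConj_iff.mp hy
  exact ⟨hN.conj_mem _ hx k, by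
    rw [conj_mul_conj, ← (hV _ ⟨mul_mem hx hx, h.sq_sq hx⟩ k).eq, mul_inv_cancel_right]⟩

theorem index_eq : (S : Subgroup G).index = 5 := by
  have := (S : Subgroup G).card_mul_index
  rw [h.card, h.card_eq hV hO h5] at this
  omega

theorem dvd_of_mem {n : ℤ} (hn : g ^ n ∈ (S : Subgroup G)) : 5 ∣ n := h5.dvd (by
  rw [eq_one_of_PElt_of_reg (PElt.of_mem S.isPGroup' hn) (reg_zpow h5.odd n)]; exact one_mem _)

theorem column (i j : Fin 5) : ∑ ξ : Irr G, ξ.1 (g ^ (i : ℕ)) * conj (ξ.1 (g ^ (j : ℕ))) =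
    if i = j then (if i = 0 then 320 else 20) else 0 := by
  have hN := h.normal hV hO
  split_ifs with e e0
  · rw [column_orth_of_isConj (e ▸ IsConj.refl _), e0]
    rw [show centralizer {g ^ ((0 : Fin 5) : ℕ)} = ⊤ from eq_top_iff.mpr fun k _ =>
      mem_centralizer_singleton.mpr (by simp), card_top, h.card_eq hV hO h5]
    norm_num
  · rw [column_orth_of_isConj (e ▸ IsConj.refl _), ← H2.card_inf_mul_relIndex (S : Subgroup G)]
    have hi : ¬ (5 : ℤ) ∣ ((i : ℕ) : ℤ) := by omega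
    have h1 : (S : Subgroup G) ⊓ centralizer {g ^ (i : ℕ)} = h.V := by
      refine le_antisymm (fun x hx => ⟨hx.1, ?_⟩) fun v hv => ⟨hv.1, mem_centralizer_singleton.mpr (hV v hv _)⟩
      by_contra h2
      refine hi (h5.dvd (h.cent_of_fix (zpow_mem h5.norm _) (reg_zpow h5.odd _) (h5.zcV _) hx.1 h2 ?_))
      rw [zpow_natCast, ← (mem_centralizer_singleton.mp hx.2).eq, mul_inv_cancel_right]
    have h2 := relIndex_dvd_index_of_normal (S : Subgroup G) (centralizer {g ^ (i : ℕ)})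
    rw [h.index_eq hV hO h5] at h2
    rcases (Nat.dvd_prime Nat.prime_five).mp h2 with h3 | h3
    · exact absurd (h.dvd_of_mem hV hO h5 (n := ((i : ℕ) : ℤ)) (by
        rw [zpow_natCast]; exact relIndex_eq_one.mp h3 (selfC _).2)) hi
    · rw [h1, h.card_V, h3]; norm_num
  · refine column_orth_of_not_isConj fun hc => e ?_
    have : Fact (Nat.card (G ⧸ (S : Subgroup G))).Prime := ⟨by
      rw [← index_eq_card, h.index_eq hV hO h5]; exact Nat.prime_five⟩
    have hcyc := isCyclic_of_prime_card (α := G ⧸ (S : Subgroup G)) rfl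
    obtain ⟨k, hk⟩ := isConj_iff.mp hc
    have h1 : ((g ^ (j : ℕ) : G) : G ⧸ (S : Subgroup G)) = (g ^ (i : ℕ) : G) := by
      rw [← hk, QuotientGroup.mk_mul, QuotientGroup.mk_mul, hcyc.commGroup.mul_comm (k : G ⧸ _),
        QuotientGroup.mk_inv, mul_inv_cancel_right]
    have h2 := h.dvd_of_mem hV hO h5 (n := -((j : ℕ) : ℤ) + (i : ℕ)) (by
      rw [zpow_add, zpow_neg, zpow_natCast, zpow_natCast]; exact QuotientGroup.eq.mp h1)
    omega

end Normal

omit h in
theorem eq_one_of_mem_core {s : G} (hs : s ∈ (S : Subgroup G)) (h1 : s ∈ pPrimeCore 2 G) : s = 1 :=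
  eq_one_of_PElt_of_reg (PElt.of_mem S.isPGroup' hs) (reg_of_mem (H2.not_dvd_card_pPrimeCore 2 G) h1)

theorem quot : US (S.mapSurjective (QuotientGroup.mk'_surjective (pPrimeCore 2 G)) :
    Subgroup (G ⧸ pPrimeCore 2 G)) :=
  h.map _ fun _ hs e => eq_one_of_mem_core hs ((QuotientGroup.eq_one_iff _).mp e)

theorem mem_quot_V {w : G ⧸ pPrimeCore 2 G} (hw : w ∈ h.quot.V) : ∃ v ∈ h.V, (v : G ⧸ _) = w := by
  obtain ⟨⟨v, hv, rfl⟩, h2⟩ := hw
  exact ⟨v, ⟨hv, eq_one_of_mem_core (mul_mem hv hv) ((QuotientGroup.eq_one_iff _).mp h2)⟩, rfl⟩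

variable (hV : ∀ v ∈ h.V, ∀ g, v * g * v⁻¹ * g⁻¹ ∈ pPrimeCore 2 G)
include hV

theorem quot_central : ∀ v ∈ h.quot.V, ∀ g, Commute v g := by
  intro w hw g
  obtain ⟨v, hv, rfl⟩ := h.mem_quot_V hw
  obtain ⟨g, rfl⟩ := QuotientGroup.mk_surjective g
  have := (QuotientGroup.eq_one_iff _).mpr (hV v hv g)
  simp only [QuotientGroup.mk_mul, QuotientGroup.mk_inv] at this
  exact mul_inv_eq_iff_eq_mul.mp (mul_inv_eq_one.mp this)

theorem frattini (g : G) : ∃ o ∈ pPrimeCore 2 G, o * g ∈ normalizer ((S : Subgroup G) : Set G) := by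
  have hN := (h.quot.normal (h.quot_central hV) (H2.pPrimeCore_quotient_pPrimeCore 2 G)).comap
    (QuotientGroup.mk' (pPrimeCore 2 G))
  rw [Sylow.coe_mapSurjective, comap_map_eq, QuotientGroup.ker_mk'] at hN
  obtain ⟨k, hk, h1⟩ := (H22.sylIn_of_sylow_le S (le_sup_left (b := pPrimeCore 2 G))).frattini
    (H := ⊤) (by rw [normalizer_eq_top]) (mem_top g)
  obtain ⟨s, hs, o, ho, rfl⟩ := (H22.mem_sup_of_le_normalizer (by rw [normalizer_eq_top]; exact le_top)).mp hk
  exact ⟨o, ho, by simpa [mul_assoc] using mul_mem (inv_mem (le_normalizer hs)) h1⟩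

theorem principal_eq (M : Ideal AlgInt) [PM 2 M] :
    principalBlock M G = {χ : Irr G | ∀ n ∈ pPrimeCore 2 G, χ.1 n = χ.1 1} := by
  refine Set.ext fun χ => ⟨fun hχ => SB.pPrimeCore_ker hχ, fun hχ => ?_⟩
  obtain ⟨ψ, rfl⟩ := exists_infl _ (QuotientGroup.mk'_surjective (pPrimeCore 2 G)) (χ := χ)
    (by rwa [QuotientGroup.ker_mk'])
  have := h.quot.normal (h.quot_central hV) (H2.pPrimeCore_quotient_pPrimeCore 2 G)
  exact (sb_of_constrained M (Sylow.isPGroup' _) (h.quot.constrained (h.quot_central hV)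
    (H2.pPrimeCore_quotient_pPrimeCore 2 G)) ψ).infl _ _

theorem mem_core {g : G} (hg : ¬ 2 ∣ orderOf g) (hc : g ∈ centralizer ((S : Subgroup G) : Set G)) :
    g ∈ pPrimeCore 2 G := by
  have := h.quot.normal (h.quot_central hV) (H2.pPrimeCore_quotient_pPrimeCore 2 G)
  refine (QuotientGroup.eq_one_iff _).mp (eq_one_of_cent (S.mapSurjective
    (QuotientGroup.mk'_surjective (pPrimeCore 2 G))) (H2.pPrimeCore_quotient_pPrimeCore 2 G)
    (reg_map hg (QuotientGroup.mk' _)) ?_)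
  rintro _ ⟨s, hs, rfl⟩
  exact congrArg (QuotientGroup.mk' (pPrimeCore 2 G)) (hc s hs)

theorem five_sum (M : Ideal AlgInt) [PM 2 M] {g : G} (h5 : h.Five g) (i j : Fin 5) :
    ∑ ξ : Irr G, ind (principalBlock M G) ξ * (ξ.1 (g ^ (i : ℕ)) * conj (ξ.1 (g ^ (j : ℕ)))) =
      if i = j then (if i = 0 then 320 else 20) else 0 := by
  have hN := h.quot.normal (h.quot_central hV) (H2.pPrimeCore_quotient_pPrimeCore 2 G)
  rw [h.principal_eq hV, sum_ind_ker, ← h.quot.column (h.quot_central hV)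
    (H2.pPrimeCore_quotient_pPrimeCore 2 G) (g := (g : G ⧸ pPrimeCore 2 G)) ⟨by
      rw [normalizer_eq_top]; trivial, reg_map h5.odd (QuotientGroup.mk' _), fun v hv => by
      rw [← (h.quot_central hV v hv _).eq, mul_inv_cancel_right], ?_, fun hc => h5.notMem fun s hs => ?_⟩]
  · rfl
  · rintro _ ⟨s, hs, rfl⟩
    exact congrArg (QuotientGroup.mk' (pPrimeCore 2 G)) (h5.pow s hs)
  · have h1 : ((s⁻¹ * (g * s * g⁻¹) : G) : G ⧸ pPrimeCore 2 G) = 1 := by
      have := hc _ ⟨s, hs, rfl⟩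
      simp only [QuotientGroup.mk'_apply] at this
      rw [QuotientGroup.mk_mul, QuotientGroup.mk_mul, QuotientGroup.mk_mul, ← this]
      simp
    have h2 := eq_one_of_mem_core (mul_mem (inv_mem hs) (H22.conj_mem_of_mem_normalizer h5.norm hs))
      ((QuotientGroup.eq_one_iff _).mp h1)
    exact (mul_inv_eq_iff_eq_mul.mp (inv_mul_eq_one.mp h2).symm).symm

theorem one_sum (M : Ideal AlgInt) [PM 2 M] (h1 : ∀ g ∈ normalizer ((S : Subgroup G) : Set G),
    ¬ 2 ∣ orderOf g → g ∈ centralizer ((S : Subgroup G) : Set G)) :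
    ∑ ξ : Irr G, ind (principalBlock M G) ξ * (ξ.1 1 * conj (ξ.1 1)) = 64 := by
  have hreg : ∀ g : G, ¬ 2 ∣ orderOf g → g ∈ pPrimeCore 2 G := fun g hg => by
    obtain ⟨o, ho, hn⟩ := h.frattini hV g
    have h2 := h.mem_core hV (reg_pr _) (h1 _ (pr_mem hn) (reg_pr _))
    refine (QuotientGroup.eq_one_iff _).mp (eq_one_of_PElt_of_reg ?_ (reg_map hg (QuotientGroup.mk' _)))
    have h3 : (g : G ⧸ pPrimeCore 2 G) = (pp 2 (o * g) : G) := by
      rw [← one_mul (g : G ⧸ pPrimeCore 2 G), ← (QuotientGroup.eq_one_iff o).mpr ho,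
        ← QuotientGroup.mk_mul]
      conv_lhs => rw [← pp_mul_pr (p := 2) (o * g), QuotientGroup.mk_mul,
        (QuotientGroup.eq_one_iff _).mpr h2, mul_one]
    rw [h3]
    exact (pElt_pp _).map (QuotientGroup.mk' _)
  obtain ⟨k, hk⟩ := IsPGroup.iff_card.mp (show IsPGroup 2 (G ⧸ pPrimeCore 2 G) from fun q => by
    obtain ⟨g, rfl⟩ := QuotientGroup.mk_surjective q
    rw [← pp_mul_pr (p := 2) g, QuotientGroup.mk_mul,
      (QuotientGroup.eq_one_iff _).mpr (hreg _ (reg_pr g)), mul_one]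
    exact PElt.iff_pow.mp ((pElt_pp g).map (QuotientGroup.mk' _)))
  rw [principal_sum_npc (H2.not_dvd_card_pPrimeCore 2 G) hreg (one_mem _) (one_mem _),
    index_eq_pow_fact (H2.not_dvd_card_pPrimeCore 2 G) hk, ← S.card_eq_multiplicity, h.card]
  norm_num

end US

end H17.Ly
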