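import Mathlib
import Cfsg.Agent.H17.LyCent

/-! Groups with a Sylow 2-subgroup of type `U₃(4)`: the class multiplication relation and a lower
bound for the degrees in the principal block. -/

set_option autoImplicit false
set_option linter.unusedSectionVars false

open Cfsg H4 Subgroup
open scoped ComplexConjugate

namespace H17.Ly

variable {G : Type*} [Group G] [Finite G]

theorem cls_sign {z : G} (hz : z * z = 1) (hc : ∀ g, Commute z g) (ψ : Irr G) :
    ∃ ε : ℤ, (ε = 1 ∨ ε = -1) ∧ ∀ g, ψ.1 (z * g) = ε * ψ.1 g := by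
  rcases sq_eq_one_iff.mp (cls_pow_eq_one hc ψ (n := 2) (by rwa [sq])) with e | e
  · exact ⟨1, Or.inl rfl, fun g => by rw [central_mul hc, e]; simp⟩
  · exact ⟨-1, Or.inr rfl, fun g => by rw [central_mul hc, e]; simp⟩

theorem isGen_minus {z : G} (hz : z * z = 1) (hc : ∀ g, Commute z g) {θ : G → ℂ}
    (hθ : IsGeneralizedCharacter G θ) : IsGeneralizedCharacter G fun g => (θ g - θ (z * g)) / 2 := by
  obtain ⟨n, rfl⟩ := hθ.exists_eq_sum_int
  choose ε h1 h2 using cls_sign hz hc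
  have : (fun g => ((∑ ψ : Irr G, (n ψ : ℂ) • ψ.1) g - (∑ ψ : Irr G, (n ψ : ℂ) • ψ.1) (z * g)) / 2) =
      ∑ ψ : Irr G, ((if ε ψ = 1 then 0 else n ψ : ℤ) : ℂ) • ψ.1 := by
    ext g
    simp only [Finset.sum_apply, Pi.smul_apply, smul_eq_mul, h2, ← Finset.sum_sub_distrib,
      Finset.sum_div]
    refine Finset.sum_congr rfl fun ψ _ => ?_
    rcases h1 ψ with e | e <;> simp [e]
  rw [this]
  exact isGen_sum_int _

namespace US

variable {S : Sylow 2 G} (h : US (S : Subgroup G))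
include h

theorem inv_core {u : G} (hu : orderOf u = 2) (a g : centralizer ({u} : Set G)) (ha : a * a = 1) :
    a * g * a⁻¹ * g⁻¹ ∈ pPrimeCore 2 (centralizer ({u} : Set G)) := by
  by_cases h1 : a = 1
  · simp [h1]
  · exact zstar (h.isolated hu (H22.orderOf_eq_two_of_mul_self ha h1)) g

theorem prod_apply {M : Ideal AlgInt} [PM 2 M] {a b : G} (ha : a * a = 1) (hb : b * b = 1)
    (hab : 2 ∣ orderOf (a * b)) : orderOf (pp 2 (a * b)) = 2 ∧
      ∀ χ ∈ B0 G M, χ.1 (a * b) = χ.1 (pp 2 (a * b)) := by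
  have hinv := H22.inverts_mul_of_mul_self ha hb
  have h1 : a * pp 2 (a * b) * a⁻¹ = (pp 2 (a * b))⁻¹ := by rw [← pp_conj, hinv, pp_inv]
  have h2 : a * pr 2 (a * b) * a⁻¹ = (pr 2 (a * b))⁻¹ := by rw [← pr_conj, hinv, pr_inv]
  obtain ⟨t, h3, h4⟩ := exists_conj_pair_mem S (PElt.iff_pow.mpr ⟨1, by rwa [pow_one, sq]⟩)
    (pElt_pp (a * b)) (h1 ▸ inv_mem (mem_zpowers _))
  have h5 : Commute a (pp 2 (a * b)) := by
    have := h.cent h3 (by rw [conj_mul_conj, ha]; simp) h4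
    rw [conj_mul_conj, conj_mul_conj] at this
    exact (mul_left_cancel (mul_right_cancel this)).symm
  have h6 : orderOf (pp 2 (a * b)) = 2 := H22.orderOf_eq_two_of_mul_self (by
    rw [h5.eq, mul_inv_cancel_right] at h1
    exact mul_eq_one_iff_eq_inv.mpr h1) fun e => pp_eq_one_iff.mp e hab
  refine ⟨h6, fun χ hχ => ((mem_B0 M).1 hχ).apply_of_pp fun hw => ?_⟩
  have h7 := h.inv_core h6 ⟨a, mem_centralizer_singleton.mpr h5⟩ ⟨_, hw⟩ (Subtype.ext ha)
  refine H3.mem_of_pow_mem_of_coprime (m := 2) ?_ ?_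
  · convert inv_mem h7 using 1
    apply Subtype.ext
    change pr 2 (a * b) ^ 2 = (a * pr 2 (a * b) * a⁻¹ * (pr 2 (a * b))⁻¹)⁻¹
    rw [h2]; group
  · rw [← Subgroup.orderOf_coe]
    exact ((Nat.Prime.coprime_iff_not_dvd Nat.prime_two).mpr (reg_pr _)).symm

theorem exists_other (z : G) : ∃ v ∈ h.V, v ≠ 1 ∧ z ≠ v := by
  by_contra hc
  push Not at hc
  have : Nat.card h.V ≤ ({1, z} : Set G).ncard := by
    refine Set.ncard_le_ncard (s := (h.V : Set G)) (fun v hv => ?_) (Set.toFinite _)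
    by_cases e : v = 1
    · exact Or.inl e
    · exact Or.inr (hc v hv e).symm
  have h2 := Set.ncard_insert_le (1 : G) {z}
  rw [h.card_V] at this
  rw [Set.ncard_singleton] at h2
  omega

theorem two {v : G} (hv : v ∈ h.V) (h1 : v ≠ 1) : orderOf v = 2 :=
  H22.orderOf_eq_two_of_mul_self hv.2 h1

theorem mul_ne_one {z v : G} (hv : v ∈ h.V) (hzv : z ≠ v) : z * v ≠ 1 := fun e =>
  hzv (by rw [eq_inv_of_mul_eq_one_left e, inv_eq_of_mul_eq_one_left hv.2])

variable (hfus : ∀ a b : G, orderOf a = 2 → orderOf b = 2 → IsConj a b) {z : G} (hz : z ∈ h.V)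
  (hz1 : z ≠ 1) (M : Ideal AlgInt) [PM 2 M]
include hfus hz hz1

theorem class_rel : ∃ c : ℚ, 0 < c ∧ ∀ g, 2 ∣ orderOf g →
    ∑ χ ∈ B0 G M, χ.1 z * χ.1 z / χ.1 1 * conj (χ.1 g) = c * ∑ χ ∈ B0 G M, χ.1 z * conj (χ.1 g) := by
  classical
  have := Fintype.ofFinite G
  set A := Finset.univ.filter fun k : G => 2 ∣ orderOf (k * z * k⁻¹ * z) with hA
  refine ⟨A.card / Nat.card G, div_pos ?_ (by exact_mod_cast Nat.card_pos), fun g hg => ?_⟩
  · obtain ⟨v, hv, hv1, hzv⟩ := h.exists_other z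
    obtain ⟨k, rfl⟩ := isConj_iff.mp (hfus _ _ (h.two hz hz1) (h.two hv hv1))
    exact_mod_cast Finset.card_pos.mpr ⟨k, by
      simp [hA, h.two (mul_mem hv hz) (h.mul_ne_one hz hzv.symm)]⟩
  have h1 : ∀ k, ∑ χ ∈ B0 G M, χ.1 (k * z * k⁻¹ * z) * conj (χ.1 g) =
      if 2 ∣ orderOf (k * z * k⁻¹ * z) then ∑ χ ∈ B0 G M, χ.1 z * conj (χ.1 g) else 0 := fun k => by
    split_ifs with e
    · obtain ⟨h2, h3⟩ := h.prod_apply (M := M) (by rw [conj_mul_conj, hz.2]; simp) hz.2 e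
      exact Finset.sum_congr rfl fun χ hχ => by
        rw [h3 χ hχ, χ.2.classFun.apply_of_isConj (hfus _ _ h2 (h.two hz hz1))]
    · rw [← sum_B0]; exact weak_block_orth (fb_mem_ZS (M := M) (irrOne G)) e hg
  have h2 := Finset.sum_congr (rfl : Finset.univ = _) fun k _ => h1 k
  rw [Finset.sum_comm, ← Finset.sum_filter, Finset.sum_const, nsmul_eq_mul] at h2
  simp only [← Finset.sum_mul, fun χ : Irr G => χ.2.sum_conj_mul z z] at h2
  push_cast
  rw [div_mul_eq_mul_div, ← h2, Finset.sum_div]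
  refine Finset.sum_congr rfl fun χ _ => ?_
  field_simp [card_ne_zero G]

omit [PM 2 M] in
theorem sixteen_dvd (χ : Irr G) {s : ℤ} (hs : χ.1 z = s) : 16 ∣ (deg χ : ℤ) - s := by
  obtain ⟨v, hv, hv1, hzv⟩ := h.exists_other z
  have e : ∀ u ∈ h.V, u ≠ 1 → χ.1 u = s := fun u hu h1 => by
    rw [← hs, χ.2.classFun.apply_of_isConj (hfus _ _ (h.two hu h1) (h.two hz hz1))]
  obtain ⟨n, hn⟩ := h.int_const (fun g => (χ.1 g - χ.1 (z * g)) / 2 * conj ((χ.1 g - χ.1 (z * g)) / 2))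
    (fun ι hι e => by
      obtain ⟨z, rfl⟩ : z ∈ ι.range := e ▸ hz.1
      have h2 : z * z = 1 := hι (by rw [map_mul, hz.2, map_one])
      have := isGen_minus h2 (fun g => (W.u34.cent z h2 g).symm) (χ.2.isGen.comp ι)
      simpa only [map_mul] using int_inner this this) hz hv hz1 hv1 hzv (c := 0) fun x hx h2 => by
      obtain ⟨s, -, e⟩ := h.conj hx h2 (mul_mem hz.1 hx) (by
        rw [← h.cent hz.1 hz.2 hx, inv_mul_cancel_left, hz.2])
      simp only [← e, χ.2.classFun _ _, sub_self, zero_div, zero_mul]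
  simp only [mul_one, ← mul_assoc, hz.2, one_mul, hs, e v hv hv1,
    e _ (mul_mem hz hv) (h.mul_ne_one hv hzv), ← deg_eq] at hn
  have h3 : ((deg χ : ℤ) - s) ^ 2 = 128 * n := by
    simp only [map_div₀, map_sub, map_natCast, map_intCast, map_ofNat] at hn
    have : ((deg χ : ℂ) - s) ^ 2 = 128 * n := by linear_combination 2 * hn
    exact_mod_cast this
  generalize (deg χ : ℤ) - s = m at *
  have step : ∀ a b : ℤ, a ^ 2 = 2 * b → ∃ c, a = 2 * c := fun a b e =>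
    Int.prime_two.dvd_of_dvd_pow (⟨b, e⟩ : 2 ∣ a ^ 2)
  obtain ⟨m, rfl⟩ := step m (64 * n) (by linarith)
  obtain ⟨m, rfl⟩ := step m (16 * n) (by linarith)
  obtain ⟨m, rfl⟩ := step m (4 * n) (by linarith)
  obtain ⟨m, rfl⟩ := step m n (by linarith)
  exact ⟨m, by ring⟩

omit hfus [PM 2 M] in
theorem eight_le {v : G} (hv : v ∈ h.V) (ψ : Irr G) (hψ : ∀ g, ψ.1 (z * g) = -ψ.1 g) {y : G}
    (hy : ψ.1 (v * y * v⁻¹ * y⁻¹) ≠ ψ.1 1) : 8 ≤ deg ψ := by
  obtain ⟨r, hr⟩ := h.exists_int hv.1 ψ.2.isGen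
  have hc : v ∉ H5.charCenter ψ.1 := fun hc =>
    hy (H5.apply_of_mem_charKer (H5.commutator_mem_charKer ψ.2.classFun hc y))
  have hv1 : v ≠ 1 := fun e => hc (e ▸ one_mem _)
  have hzv : z ≠ v := fun e => hc ⟨-1, fun x => by rw [← e, hψ]; simp⟩
  obtain ⟨n, hn⟩ := h.int_const (fun g => ψ.1 g * conj (ψ.1 g))
    (fun ι _ _ => int_inner (ψ.2.isGen.comp ι) (ψ.2.isGen.comp ι)) hz hv hz1 hv1 hzv (c := 0)
    fun x hx h2 => by
      obtain ⟨s, -, e⟩ := h.conj hx h2 (mul_mem hz.1 hx) (by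
        rw [← h.cent hz.1 hz.2 hx, inv_mul_cancel_left, hz.2])
      have := hψ x
      rw [← e, ψ.2.classFun] at this
      rw [show ψ.1 x = 0 by linear_combination this / 2, zero_mul]
  have hz' := hψ 1
  rw [mul_one] at hz'
  simp only [hz', hψ, hr, ← deg_eq, map_neg, map_natCast, map_intCast] at hn
  have h3 : (deg ψ : ℤ) ^ 2 + r ^ 2 = 32 * n := by
    have : (deg ψ : ℂ) ^ 2 + r ^ 2 = 32 * n := by linear_combination hn / 2
    exact_mod_cast this
  have h4 : |r| < deg ψ := by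
    have h5 := ψ.2.isCharacter.norm_le v
    have h6 := (H5.mem_charCenter_iff ψ.2.isCharacter).not.mp hc
    rw [hr, ← deg_eq, Complex.norm_intCast, Complex.natCast_re] at h5 h6
    exact_mod_cast lt_of_le_of_ne h5 h6
  by_contra h8
  obtain ⟨h5, h6⟩ := abs_lt.mp h4
  generalize deg ψ = d at *
  have h9 : d < 8 := by omega
  interval_cases d <;> simp at h5 h6 <;> interval_cases r <;> omega

omit hfus in
theorem deg_bound [IsSimpleGroup G] {v : G} (hv : v ∈ h.V) {y : centralizer ({z} : Set G)}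
    (hy : y ∈ pPrimeCore 2 (centralizer ({z} : Set G))) (hvy : ¬ Commute v y) {χ : Irr G}
    (hχ : χ ∈ B0 G M) (h1 : χ ≠ irrOne G) {s : ℤ} (hs : χ.1 z = s) : |s| + 16 ≤ deg χ := by
  classical
  have hle : (S : Subgroup G) ≤ centralizer {z} := fun x hx =>
    mem_centralizer_singleton.mpr (h.cent hz.1 hz.2 hx)
  have hC : US (S.subtype hle : Subgroup (centralizer ({z} : Set G))) :=
    h.of_equiv (subgroupOfEquivOfLe hle).symm
  set O := pPrimeCore 2 (centralizer ({z} : Set G))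
  have := Fintype.ofFinite O
  obtain ⟨a, ha⟩ := (χ.2.isCharacter.restrict (centralizer {z})).exists_eq_sum_nat
  replace ha : ∀ g : centralizer ({z} : Set G), χ.1 g = ∑ ψ : Irr _, a ψ * ψ.1 g := fun g => by
    simpa using congrFun ha g
  choose ε hε1 hε using cls_sign (z := selfC z) (Subtype.ext hz.2) (commute_self_centralizer z)
  have hb : ∀ o ∈ O, ∑ ψ : Irr _, a ψ * (ε ψ * ψ.1 o) = s := fun o ho => by
    rw [← hs, ← ((mem_B0 M).1 hχ).apply_mul_core (PElt.of_mem S.isPGroup' hz.1) ho]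
    exact (Finset.sum_congr rfl fun ψ _ => by rw [hε]).trans (ha (selfC z * o)).symm
  let v' : centralizer ({z} : Set G) := ⟨v, hle hv.1⟩
  have hw : v' * y * v'⁻¹ * y⁻¹ ∈ O := mul_mem (Normal.conj_mem inferInstance y hy v') (inv_mem hy)
  obtain ⟨ψ, hψ1, hψ2, hψ3⟩ : ∃ ψ, a ψ ≠ 0 ∧ ε ψ = -1 ∧ ψ.1 (v' * y * v'⁻¹ * y⁻¹) ≠ ψ.1 1 := by
    by_contra hcon
    push Not at hcon
    have e1 : ∑ ψ : Irr _, (a ψ : ℂ) * (1 - ε ψ) * (ψ.1 (v' * y * v'⁻¹ * y⁻¹) - ψ.1 1) = 0 :=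
      Finset.sum_eq_zero fun ψ _ => by
        by_cases e : a ψ = 0
        · simp [e]
        rcases hε1 ψ with e' | e'
        · simp [e']
        · simp [hcon ψ e e']
    have e2 : χ.1 (v' * y * v'⁻¹ * y⁻¹ : centralizer ({z} : Set G)) = χ.1 (1 : centralizer ({z} : Set G)) := by
      have e3 : ∑ ψ : Irr _, (a ψ : ℂ) * (1 - ε ψ) * (ψ.1 (v' * y * v'⁻¹ * y⁻¹) - ψ.1 1) =
          ∑ ψ : Irr _, (a ψ : ℂ) * ψ.1 (v' * y * v'⁻¹ * y⁻¹) - ∑ ψ : Irr _, (a ψ : ℂ) * ψ.1 1 -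
          (∑ ψ : Irr _, (a ψ : ℂ) * (ε ψ * ψ.1 (v' * y * v'⁻¹ * y⁻¹)) -
            ∑ ψ : Irr _, (a ψ : ℂ) * (ε ψ * ψ.1 1)) := by
        simp only [← Finset.sum_sub_distrib]
        exact Finset.sum_congr rfl fun _ _ => by ring
      rw [hb _ hw, hb 1 (one_mem _), e1, sub_self, sub_zero] at e3
      rw [ha, ha, ← sub_eq_zero, e3]
    exact hvy (mul_inv_eq_iff_eq_mul.mp (mul_inv_eq_one.mp
      (χ.2.eq_one_of_apply_eq_of_simple (fun e => h1 (Subtype.ext e)) e2)))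
  have h8 := hC.eight_le (z := selfC z) ⟨hz.1, Subtype.ext hz.2⟩
    (fun e => hz1 (congrArg Subtype.val e)) (v := v') ⟨hv.1, Subtype.ext hv.2⟩ ψ
    (fun g => by rw [hε, hψ2]; simp) hψ3
  have e1 : (deg χ : ℤ) = ∑ ψ : Irr _, (a ψ : ℤ) * deg ψ := by
    have := ha 1
    simp only [OneMemClass.coe_one, ← deg_eq] at this
    exact_mod_cast this
  have e2 : s = ∑ ψ : Irr _, (a ψ : ℤ) * (ε ψ * deg ψ) := by
    have := hb 1 (one_mem _)
    simp only [← deg_eq] at this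
    exact_mod_cast this.symm
  have e3 : s = ∑ ψ : Irr _, if O ≤ H5.charKer ψ.1 then (a ψ : ℤ) * (ε ψ * deg ψ) else 0 := by
    have h3 := Finset.sum_congr (rfl : (Finset.univ : Finset O) = _) fun o _ => hb o o.2
    rw [Finset.sum_comm, Finset.sum_const, Finset.card_univ, nsmul_eq_mul, ← Nat.card_eq_fintype_card,
      Finset.sum_congr rfl (g := fun ψ => (Nat.card O : ℂ) *
        ((if O ≤ H5.charKer ψ.1 then (a ψ : ℤ) * (ε ψ * deg ψ) else 0 : ℤ) : ℂ)) fun ψ _ => ?_,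
      ← Finset.mul_sum] at h3
    · exact_mod_cast (mul_left_cancel₀ (card_ne_zero O) h3).symm
    simp only [← Finset.mul_sum]
    split_ifs with e
    · rw [Finset.sum_congr rfl fun o _ => H5.apply_of_mem_charKer (e o.2), ← deg_eq]
      simp; ring
    · have := H5.sum_normal_mul_eq_zero O ψ.2 e 1
      simp only [mul_one] at this
      simp [this]
  have hK : ¬ O ≤ H5.charKer ψ.1 := fun e => hψ3 (H5.apply_of_mem_charKer (e hw))
  have h16 : (16 : ℤ) ≤ a ψ * (2 * deg ψ) := by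
    have : (1 : ℤ) ≤ a ψ := by omega
    have : (8 : ℤ) ≤ deg ψ := by omega
    nlinarith
  have i1 : (a ψ : ℤ) * (2 * deg ψ) ≤ ∑ ψ : Irr _, ((a ψ : ℤ) * deg ψ - a ψ * (ε ψ * deg ψ)) := by
    refine le_trans (by simp [hψ2]; linarith) (Finset.single_le_sum (fun ξ _ => ?_) (Finset.mem_univ ψ))
    rcases hε1 ξ with e | e <;> simp [e]; positivity
  have i2 : (a ψ : ℤ) * (2 * deg ψ) ≤ ∑ ψ : Irr _, ((a ψ : ℤ) * deg ψ - a ψ * (ε ψ * deg ψ) +
      2 * if O ≤ H5.charKer ψ.1 then (a ψ : ℤ) * (ε ψ * deg ψ) else 0) := by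
    refine le_trans (by simp [hψ2, hK]; linarith) (Finset.single_le_sum (fun ξ _ => ?_) (Finset.mem_univ ψ))
    rcases hε1 ξ with e | e <;> split_ifs <;> simp [e] <;> nlinarith
  simp only [Finset.sum_add_distrib, Finset.sum_sub_distrib, ← Finset.mul_sum, ← e1, ← e2, ← e3] at i1 i2
  rcases abs_cases s with ⟨e, -⟩ | ⟨e, -⟩ <;> linarith

end US

end H17.Ly
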