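import Cfsg.Agent.H17.LyCert

set_option autoImplicit false

namespace H17.Ly

def Row.s (r : Row) : ℤ := 5 * r.t + 4 * (r.a0 + r.a1 + r.a2 + r.a3 + r.a4)
def Row.g (r : Row) : Row := ⟨r.a0, r.a3, r.a1, r.a4, r.a2, r.t⟩
def Row.m (r : Row) : ℤ := r.t * (9 * r.t + 8 * (r.a0 + r.a1 + r.a2 + r.a3 + r.a4)) +
  16 * (r.a0 * r.a0 + r.a1 * r.a1 + r.a2 * r.a2 + r.a3 * r.a3 + r.a4 * r.a4)
def Row.b (r : Row) : ℤ := 9 * r.t + 4 * (r.a0 + r.a1 + r.a2 + r.a3 + r.a4 - r.t) - 16 * r.a0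

def look (r : Row) : Option Ty := D.find? fun τ => τ.r == r
def cw (r : Row) : ℕ := ((look r).map Ty.w).getD 0

def box : Bool :=
  [-2, -1, 0, 1, 2].all fun a0 => [-2, -1, 0, 1, 2].all fun a1 => [-2, -1, 0, 1, 2].all fun a2 =>
  [-2, -1, 0, 1, 2].all fun a3 => [-2, -1, 0, 1, 2].all fun a4 => [-3, -2, -1, 0, 1, 2, 3].all fun t =>
    let r : Row := ⟨a0, a1, a2, a3, a4, t⟩
    decide (r.s ≤ 0) || decide (64 * r.m < r.m * r.m + r.b * r.b) ||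
      cw r + cw r.g + cw r.g.g + cw r.g.g.g == 4

theorem box_ok : box = true := by decide +kernel

theorem cw_sum (r : Row) (h0 : r.a0 ^ 2 ≤ 5) (h1 : r.a1 ^ 2 ≤ 5) (h2 : r.a2 ^ 2 ≤ 5)
    (h3 : r.a3 ^ 2 ≤ 5) (h4 : r.a4 ^ 2 ≤ 5) (ht : r.t ^ 2 ≤ 15) (hs : 0 < r.s)
    (hm : r.m * r.m + r.b * r.b ≤ 64 * r.m) : cw r + cw r.g + cw r.g.g + cw r.g.g.g = 4 := by
  have A : ∀ a : ℤ, a ^ 2 ≤ 5 → a ∈ [-2, -1, 0, 1, 2] := by
    intro a h
    have : -2 ≤ a := by nlinarith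
    have : a ≤ 2 := by nlinarith
    interval_cases a <;> simp
  have B : r.t ∈ [-3, -2, -1, 0, 1, 2, 3] := by
    have : -3 ≤ r.t := by nlinarith
    have : r.t ≤ 3 := by nlinarith
    generalize r.t = a at *
    interval_cases a <;> simp
  have h := box_ok
  simp only [box, List.all_eq_true] at h
  have := h _ (A _ h0) _ (A _ h1) _ (A _ h2) _ (A _ h3) _ (A _ h4) _ B
  simp only [Bool.or_eq_true, decide_eq_true_eq, beq_iff_eq] at this
  rcases this with (h | h) | h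
  · exact absurd hs (not_lt.2 h)
  · exact absurd hm (not_le.2 h)
  · exact h

def Ty.Valid (τ : Ty) : Prop :=
  (τ.inv.a : ℤ) = τ.w * τ.r.t ^ 2 ∧ (τ.inv.b : ℤ) = τ.w * τ.r.a0 ^ 2 ∧
  (τ.inv.c : ℤ) = τ.w * (τ.r.a1 ^ 2 + τ.r.a2 ^ 2 + τ.r.a3 ^ 2 + τ.r.a4 ^ 2) ∧
  (τ.inv.d : ℤ) = τ.w * (τ.r.t + τ.r.a0) ^ 2 ∧
  (τ.inv.e : ℤ) = τ.w * ((τ.r.t + τ.r.a1) ^ 2 + (τ.r.t + τ.r.a2) ^ 2 + (τ.r.t + τ.r.a3) ^ 2 +
    (τ.r.t + τ.r.a4) ^ 2) ∧
  (τ.inv.f : ℤ) = τ.w * ((τ.r.a0 - τ.r.a1) ^ 2 + (τ.r.a0 - τ.r.a2) ^ 2 + (τ.r.a0 - τ.r.a3) ^ 2 +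
    (τ.r.a0 - τ.r.a4) ^ 2) ∧
  (τ.inv.g : ℤ) = τ.w * ((τ.r.a1 - τ.r.a4) ^ 2 + (τ.r.a2 - τ.r.a3) ^ 2) ∧
  (τ.inv.h : ℤ) = τ.w * ((τ.r.a1 - τ.r.a2) ^ 2 + (τ.r.a2 - τ.r.a4) ^ 2 + (τ.r.a4 - τ.r.a3) ^ 2 +
    (τ.r.a3 - τ.r.a1) ^ 2) ∧
  τ.A = τ.w * τ.r.a0 ∧ τ.S = τ.w * (τ.r.a1 + τ.r.a2 + τ.r.a3 + τ.r.a4) ∧ τ.T = τ.w * τ.r.t ∧
  τ.s2 = τ.r.s ^ 2 ∧ 0 < τ.P ∧ 0 < τ.N ∧ τ.P < τ.r.s + 80 ∧ τ.N < τ.r.s + 80 ∧
  (τ.P + 3 * τ.r.s + 60 * τ.r.t) % 64 = 0 ∧ (τ.P + τ.N) % 64 = 0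

instance (τ : Ty) : Decidable τ.Valid := by unfold Ty.Valid; infer_instance

theorem valid_D : ∀ τ ∈ D, τ.Valid := by
  have : D.all (fun τ => decide τ.Valid) = true := by decide +kernel
  simpa only [List.all_eq_true, decide_eq_true_eq] using this

theorem vsum_eq (L : List (Ty × ℤ)) : vsum L = ⟨(L.map fun p => p.1.inv.a).sum,
    (L.map fun p => p.1.inv.b).sum, (L.map fun p => p.1.inv.c).sum, (L.map fun p => p.1.inv.d).sum,
    (L.map fun p => p.1.inv.e).sum, (L.map fun p => p.1.inv.f).sum, (L.map fun p => p.1.inv.g).sum,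
    (L.map fun p => p.1.inv.h).sum⟩ := by
  induction L with
  | nil => rfl
  | cons p L ih => simp only [vsum, ih, V8.add, List.map_cons, List.sum_cons]

/-- normalised form: rows with `s > 0`, signed degrees `x` -/
theorem row_core {ι : Type*} (J : Finset ι) (r : ι → Row) (x : ι → ℤ) (π : Equiv.Perm ι)
    (hπ : ∀ i, i ∈ J ↔ π i ∈ J) (hr : ∀ i ∈ J, r (π i) = (r i).g) (hxπ : ∀ i ∈ J, x (π i) = x i)
    (hs : ∀ i ∈ J, 0 < (r i).s) (hx : ∀ i ∈ J, (r i).s + 16 ≤ |x i|)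
    (hc : ∀ i ∈ J, (64 : ℤ) ∣ x i + 3 * (r i).s + 60 * (r i).t)
    (hq : ∀ u0 u1 u2 u3 u4 w : ℤ, ∑ i ∈ J, (u0 * (r i).a0 + u1 * (r i).a1 + u2 * (r i).a2 +
      u3 * (r i).a3 + u4 * (r i).a4 + w * (r i).t) ^ 2 = 4 * (u0 ^ 2 + u1 ^ 2 + u2 ^ 2 + u3 ^ 2 + u4 ^ 2)
        + (u0 + u1 + u2 + u3 + u4) ^ 2 - 8 * w * (u0 + u1 + u2 + u3 + u4) + 16 * w ^ 2 - (w - u0) ^ 2)
    (l0 : ∑ i ∈ J, (r i).a0 * x i = 1)
    (l1 : ∑ i ∈ J, ((r i).a1 + (r i).a2 + (r i).a3 + (r i).a4) * x i = 0)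
    (l2 : ∑ i ∈ J, (r i).t * x i = -1) (c : ℚ) (hc0 : 0 < c)
    (q0 : ∑ i ∈ J, ((r i).a0 * (r i).s ^ 2 : ℤ) / (x i : ℚ) = c + 1)
    (q1 : ∑ i ∈ J, (((r i).a1 + (r i).a2 + (r i).a3 + (r i).a4) * (r i).s ^ 2 : ℤ) / (x i : ℚ) = 4 * c)
    (q2 : ∑ i ∈ J, ((r i).t * (r i).s ^ 2 : ℤ) / (x i : ℚ) = -1) : False := by
  classical
  have le1 : ∀ (f : ι → ℤ) i, i ∈ J → f i ^ 2 ≤ ∑ j ∈ J, f j ^ 2 := fun f i hi =>
    Finset.single_le_sum (f := fun j => f j ^ 2) (fun j _ => sq_nonneg _) hi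
  have hcw : ∀ i ∈ J, cw (r i) + cw (r i).g + cw (r i).g.g + cw (r i).g.g.g = 4 := by
    intro i hi
    have H := fun u0 u1 u2 u3 u4 w => (le1 _ i hi).trans_eq (hq u0 u1 u2 u3 u4 w)
    refine cw_sum _ (by have := H 1 0 0 0 0 0; linarith) (by have := H 0 1 0 0 0 0; linarith)
      (by have := H 0 0 1 0 0 0; linarith) (by have := H 0 0 0 1 0 0; linarith)
      (by have := H 0 0 0 0 1 0; linarith) (by have := H 0 0 0 0 0 1; linarith) (hs i hi) ?_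
    have := H (4 * (r i).t + 16 * (r i).a0) (4 * (r i).t + 16 * (r i).a1)
      (4 * (r i).t + 16 * (r i).a2) (4 * (r i).t + 16 * (r i).a3) (4 * (r i).t + 16 * (r i).a4)
      (9 * (r i).t + 4 * ((r i).a0 + (r i).a1 + (r i).a2 + (r i).a3 + (r i).a4))
    unfold Row.m Row.b
    nlinarith [this]
  have sym : ∀ f : Row → ℤ → ℚ, (∀ r x, f r.g x = f r x) →
      ∑ i ∈ J, (cw (r i) : ℚ) * f (r i) (x i) = ∑ i ∈ J, f (r i) (x i) := by
    intro f hf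
    have step : ∀ F : Row → ℚ, ∑ i ∈ J, F (r i).g * f (r i) (x i) = ∑ i ∈ J, F (r i) * f (r i) (x i) := by
      intro F
      rw [← Finset.sum_equiv π hπ (f := fun i => F (r (π i)) * f (r (π i)) (x (π i)))
        (g := fun i => F (r i) * f (r i) (x i)) (fun _ _ => rfl)]
      exact Finset.sum_congr rfl fun i hi => by rw [hr i hi, hxπ i hi, hf]
    have e1 := step fun r => (cw r : ℚ)
    have e2 := step fun r => (cw r.g : ℚ)
    have e3 := step fun r => (cw r.g.g : ℚ)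
    have e4 : ∑ i ∈ J, (4 : ℚ) * f (r i) (x i) = ∑ i ∈ J, ((cw (r i) : ℚ) * f (r i) (x i) +
        (cw (r i).g : ℚ) * f (r i) (x i) + (cw (r i).g.g : ℚ) * f (r i) (x i) +
        (cw (r i).g.g.g : ℚ) * f (r i) (x i)) := Finset.sum_congr rfl fun i hi => by
      have : (4 : ℚ) = (cw (r i) + cw (r i).g + cw (r i).g.g + cw (r i).g.g.g : ℕ) := by
        rw [hcw i hi]; norm_num
      rw [this]; push_cast; ring
    simp only [Finset.sum_add_distrib, ← Finset.mul_sum] at e4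
    linarith
  set L : List (Ty × ℤ) := J.toList.filterMap fun i => (look (r i)).map fun τ => (τ, x i) with hL
  have hmem : ∀ p ∈ L, p.1 ∈ D ∧ ∃ i ∈ J, p.1.r = r i ∧ p.2 = x i := by
    intro p hp
    obtain ⟨i, hi, h⟩ := List.mem_filterMap.1 hp
    obtain ⟨τ, hτ, rfl⟩ := Option.map_eq_some_iff.1 h
    exact ⟨List.mem_of_find?_eq_some hτ, i, Finset.mem_toList.1 hi,
      by simpa using List.find?_some hτ, rfl⟩
  have key : ∀ (G : Ty × ℤ → ℚ) (f : Row → ℤ → ℚ), (∀ r x, f r.g x = f r x) →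
      (∀ τ, τ.Valid → ∀ x, G (τ, x) = τ.w * f τ.r x) → (L.map G).sum = ∑ i ∈ J, f (r i) (x i) := by
    intro G f hf hG
    rw [← sym f hf, ← Finset.sum_map_toList, hL]
    generalize J.toList = l
    induction l with
    | nil => simp
    | cons i l ih =>
      rw [List.map_cons, List.sum_cons, ← ih]
      cases h : look (r i) with
      | none => simp [h, cw]
      | some τ =>
        have h1 : τ.r = r i := by simpa using List.find?_some h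
        simp [h, cw, hG τ (valid_D τ (List.mem_of_find?_eq_some h)), h1]
  have keyZ : ∀ (G : Ty × ℤ → ℤ) (f : Row → ℤ → ℤ), (∀ r x, f r.g x = f r x) →
      (∀ τ, τ.Valid → ∀ x, G (τ, x) = τ.w * f τ.r x) → (L.map G).sum = ∑ i ∈ J, f (r i) (x i) := by
    intro G f hf hG
    have := key (fun p => (G p : ℚ)) (fun r x => (f r x : ℚ)) (fun r x => by rw [hf])
      (fun τ h x => by rw [hG τ h]; push_cast; ring)
    have e : (L.map fun p => (G p : ℚ)).sum = ((L.map G).sum : ℤ) := by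
      rw [Int.cast_list_sum, List.map_map]; rfl
    rw [e] at this
    exact_mod_cast this
  have keyN : ∀ (G : Ty → ℕ) (f : Row → ℤ) (n : ℕ), (∀ r, f r.g = f r) →
      (∀ τ, τ.Valid → (G τ : ℤ) = τ.w * f τ.r) → ∑ i ∈ J, f (r i) = n →
      (L.map fun p => G p.1).sum = n := by
    intro G f n hf hG hn
    have := keyZ (fun p => (G p.1 : ℤ)) (fun r _ => f r) (fun r _ => hf r) (fun τ h _ => hG τ h)
    have e : (L.map fun p => (G p.1 : ℤ)).sum = ((L.map fun p => G p.1).sum : ℕ) := by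
      rw [Nat.cast_list_sum, List.map_map]; rfl
    rw [e, hn] at this
    exact_mod_cast this
  refine list_core L (fun p hp => (hmem p hp).1) ?_ ⟨?_, ?_, ?_, ?_, ?_, ?_, ?_⟩
  · rw [vsum_eq, target]
    congr 1
    · refine keyN (fun τ => τ.inv.a) (fun r => r.t ^ 2) _ (fun r => rfl) (fun τ h => h.1) ?_
      simpa using hq 0 0 0 0 0 1
    · refine keyN (fun τ => τ.inv.b) (fun r => r.a0 ^ 2) _ (fun r => rfl) (fun τ h => h.2.1) ?_
      simpa using hq 1 0 0 0 0 0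
    · refine keyN (fun τ => τ.inv.c) (fun r => r.a1 ^ 2 + r.a2 ^ 2 + r.a3 ^ 2 + r.a4 ^ 2) _
        (fun r => by simp only [Row.g]; ring) (fun τ h => h.2.2.1) ?_
      have h1 := hq 0 1 0 0 0 0; have h2 := hq 0 0 1 0 0 0
      have h3 := hq 0 0 0 1 0 0; have h4 := hq 0 0 0 0 1 0
      simp only [zero_mul, one_mul, add_zero, zero_add] at h1 h2 h3 h4
      simp only [Finset.sum_add_distrib, h1, h2, h3, h4]; norm_num
    · refine keyN (fun τ => τ.inv.d) (fun r => (r.t + r.a0) ^ 2) _ (fun r => rfl)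
        (fun τ h => h.2.2.2.1) ?_
      have h1 := hq 1 0 0 0 0 1
      simp only [zero_mul, one_mul, add_zero, add_comm _ (r _).t] at h1
      rw [h1]; norm_num
    · refine keyN (fun τ => τ.inv.e)
        (fun r => (r.t + r.a1) ^ 2 + (r.t + r.a2) ^ 2 + (r.t + r.a3) ^ 2 + (r.t + r.a4) ^ 2) _
        (fun r => by simp only [Row.g]; ring) (fun τ h => h.2.2.2.2.1) ?_
      have h1 := hq 0 1 0 0 0 1; have h2 := hq 0 0 1 0 0 1
      have h3 := hq 0 0 0 1 0 1; have h4 := hq 0 0 0 0 1 1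
      simp only [zero_mul, one_mul, add_zero, zero_add, add_comm _ (r _).t] at h1 h2 h3 h4
      simp only [Finset.sum_add_distrib, h1, h2, h3, h4]; norm_num
    · refine keyN (fun τ => τ.inv.f)
        (fun r => (r.a0 - r.a1) ^ 2 + (r.a0 - r.a2) ^ 2 + (r.a0 - r.a3) ^ 2 + (r.a0 - r.a4) ^ 2) _
        (fun r => by simp only [Row.g]; ring) (fun τ h => h.2.2.2.2.2.1) ?_
      have h1 := hq 1 (-1) 0 0 0 0; have h2 := hq 1 0 (-1) 0 0 0
      have h3 := hq 1 0 0 (-1) 0 0; have h4 := hq 1 0 0 0 (-1) 0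
      simp only [zero_mul, one_mul, add_zero, neg_one_mul, ← sub_eq_add_neg] at h1 h2 h3 h4
      simp only [Finset.sum_add_distrib, h1, h2, h3, h4]; norm_num
    · refine keyN (fun τ => τ.inv.g) (fun r => (r.a1 - r.a4) ^ 2 + (r.a2 - r.a3) ^ 2) _
        (fun r => by simp only [Row.g]; ring) (fun τ h => h.2.2.2.2.2.2.1) ?_
      have h1 := hq 0 1 0 0 (-1) 0; have h2 := hq 0 0 1 (-1) 0 0
      simp only [zero_mul, one_mul, add_zero, zero_add, neg_one_mul, ← sub_eq_add_neg] at h1 h2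
      simp only [Finset.sum_add_distrib, h1, h2]; norm_num
    · refine keyN (fun τ => τ.inv.h)
        (fun r => (r.a1 - r.a2) ^ 2 + (r.a2 - r.a4) ^ 2 + (r.a4 - r.a3) ^ 2 + (r.a3 - r.a1) ^ 2) _
        (fun r => by simp only [Row.g]; ring) (fun τ h => h.2.2.2.2.2.2.2.1) ?_
      have h1 := hq 0 1 (-1) 0 0 0; have h2 := hq 0 0 1 0 (-1) 0
      have h3 := hq 0 0 0 (-1) 1 0; have h4 := hq 0 (-1) 0 1 0 0
      simp only [zero_mul, one_mul, add_zero, zero_add, neg_one_mul, ← sub_eq_add_neg] at h1 h2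
      simp only [zero_mul, one_mul, add_zero, zero_add, neg_one_mul, neg_add_eq_sub] at h3 h4
      simp only [Finset.sum_add_distrib, h1, h2, h3, h4]; norm_num
  · intro p hp
    obtain ⟨hD, i, hi, e1, e2⟩ := hmem p hp
    obtain ⟨-, -, -, -, -, -, -, -, -, -, -, -, v1, v2, v3, v4, v5, v6⟩ := valid_D _ hD
    have a1 := hs i hi
    have a2 := hx i hi
    have a3 := hc i hi
    rw [e1] at v3 v4 v5
    rw [e2]
    refine ⟨v1, v2, ?_, by omega⟩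
    rcases le_abs'.1 a2 with h | h <;> omega
  · rw [← l0]
    exact keyZ _ (fun r x => r.a0 * x) (fun r x => rfl) fun τ h x => by
      simp only [h.2.2.2.2.2.2.2.2.1]; ring
  · rw [← l1]
    exact keyZ _ (fun r x => (r.a1 + r.a2 + r.a3 + r.a4) * x) (fun r x => by simp only [Row.g]; ring)
      fun τ h x => by simp only [h.2.2.2.2.2.2.2.2.2.1]; ring
  · rw [← l2]
    exact keyZ _ (fun r x => r.t * x) (fun r x => rfl) fun τ h x => by
      simp only [h.2.2.2.2.2.2.2.2.2.2.1]; ring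
  · rw [key _ (fun r x => 4 * (((r.a0 * r.s ^ 2 : ℤ) : ℚ) / (x : ℚ)) -
      (((r.a1 + r.a2 + r.a3 + r.a4) * r.s ^ 2 : ℤ) : ℚ) / (x : ℚ))
      (fun r x => by simp only [Row.g, Row.s]; push_cast; ring) fun τ h x => by
        simp only [h.2.2.2.2.2.2.2.2.1, h.2.2.2.2.2.2.2.2.2.1, h.2.2.2.2.2.2.2.2.2.2.2.1]
        push_cast; ring]
    rw [Finset.sum_sub_distrib, ← Finset.mul_sum, q0, q1]; ring
  · rw [← q2]
    exact key _ (fun r x => ((r.t * r.s ^ 2 : ℤ) : ℚ) / (x : ℚ))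
      (fun r x => by simp only [Row.g, Row.s]; push_cast; ring) fun τ h x => by
        simp only [h.2.2.2.2.2.2.2.2.2.2.1, h.2.2.2.2.2.2.2.2.2.2.2.1]
        push_cast; ring
  · rw [key _ (fun r x => (((r.a1 + r.a2 + r.a3 + r.a4) * r.s ^ 2 : ℤ) : ℚ) / (x : ℚ))
      (fun r x => by simp only [Row.g, Row.s]; push_cast; ring) fun τ h x => by
        simp only [h.2.2.2.2.2.2.2.2.2.1, h.2.2.2.2.2.2.2.2.2.2.2.1]
        push_cast; ring, q1]
    positivity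

/-- The numerical contradiction in the case of automizer of order `15`. -/
theorem num15 {ι : Type*} (I : Finset ι) (i0 : ι) (hi0 : i0 ∈ I) (a : Fin 5 → ι → ℤ)
    (s t d : ι → ℤ) (π : Equiv.Perm ι) (hπ : ∀ i, i ∈ I ↔ π i ∈ I) (hπ0 : π i0 = i0)
    (ha : ∀ j, ∀ i ∈ I, a (2 * j) (π i) = a j i) (ht : ∀ i ∈ I, t (π i) = t i)
    (hd : ∀ i ∈ I, d (π i) = d i)
    (hsa : ∀ i ∈ I, s i = 5 * t i + 4 * ∑ j, a j i)
    (a0 : ∀ j, a j i0 = if j = 0 then -1 else 0) (t0 : t i0 = 1) (d0 : d i0 = 1)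
    (hs : ∀ i ∈ I, s i ≠ 0) (hK : ∀ i ∈ I, i ≠ i0 → |s i| + 16 ≤ d i)
    (hc : ∀ i ∈ I, (64 : ℤ) ∣ d i + 3 * s i + 60 * t i)
    (g1 : ∀ j k, ∑ i ∈ I, a j i * a k i = if j = k then 5 else 1)
    (g2 : ∀ j, ∑ i ∈ I, a j i * t i = -4) (g3 : ∑ i ∈ I, t i * t i = 16)
    (l1 : ∀ j, ∑ i ∈ I, a j i * d i = 0) (l2 : ∑ i ∈ I, t i * d i = 0) (c : ℚ) (hc0 : 0 < c)
    (q1 : ∀ j, ∑ i ∈ I, ((a j i * s i ^ 2 : ℤ) : ℚ) / (d i : ℚ) = c)
    (q2 : ∑ i ∈ I, ((t i * s i ^ 2 : ℤ) : ℚ) / (d i : ℚ) = 0) : False := by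
  classical
  let ε : ι → ℤ := fun i => if 0 < s i then 1 else -1
  have hε : ∀ i, ε i * ε i = 1 := fun i => by simp only [ε]; split_ifs <;> norm_num
  have hε2 : ∀ i, ε i ^ 2 = 1 := fun i => by rw [sq, hε]
  have hεq : ∀ i, (ε i : ℚ) ≠ 0 := fun i => by simp only [ε]; split_ifs <;> norm_num
  let r : ι → Row := fun i => ⟨ε i * a 0 i, ε i * a 1 i, ε i * a 2 i, ε i * a 3 i, ε i * a 4 i, ε i * t i⟩
  have hrs : ∀ i ∈ I, (r i).s = ε i * s i := fun i hi => by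
    rw [hsa i hi, Fin.sum_univ_five]; simp only [r, Row.s]; ring
  have s0 : s i0 = 1 := by rw [hsa i0 hi0, Fin.sum_univ_five]; simp [a0, t0]
  have hsπ : ∀ i ∈ I, s (π i) = s i := fun i hi => by
    have h0 := ha 0 i hi; have h1 := ha 1 i hi; have h2 := ha 2 i hi; have h3 := ha 3 i hi
    have h4 := ha 4 i hi
    rw [hsa i hi, hsa _ ((hπ i).1 hi), Fin.sum_univ_five, Fin.sum_univ_five, ht i hi, ← h0, ← h1, ← h2,
      ← h3, ← h4]
    show _ = 5 * t i + 4 * (a 0 (π i) + a 2 (π i) + a 4 (π i) + a 1 (π i) + a 3 (π i))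
    ring
  have hεπ : ∀ i ∈ I, ε (π i) = ε i := fun i hi => by simp only [ε, hsπ i hi]
  have er : ∀ {M : Type} [AddCommGroup M] (f : ι → M), ∑ i ∈ I.erase i0, f i = ∑ i ∈ I, f i - f i0 :=
    fun f => Finset.sum_erase_eq_sub hi0
  have mem : ∀ i ∈ I.erase i0, i ∈ I := fun i => Finset.mem_of_mem_erase
  have lin : ∀ f : ι → ℤ, ∑ i ∈ I.erase i0, (ε i * f i) * (ε i * d i) = ∑ i ∈ I, f i * d i - f i0 := by
    intro f
    rw [Finset.sum_congr rfl (g := fun i => f i * d i) fun i _ => by linear_combination (f i * d i) * hε i,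
      er, d0, mul_one]
  have rat : ∀ f : ι → ℤ, ∑ i ∈ I.erase i0, (((ε i * f i) * (r i).s ^ 2 : ℤ) : ℚ) / ((ε i * d i : ℤ) : ℚ)
      = ∑ i ∈ I, ((f i * s i ^ 2 : ℤ) : ℚ) / (d i : ℚ) - f i0 := by
    intro f
    rw [Finset.sum_congr rfl (g := fun i => ((f i * s i ^ 2 : ℤ) : ℚ) / (d i : ℚ)) fun i hi => by
      rw [hrs i (mem i hi), mul_pow, hε2, one_mul, mul_assoc]
      push_cast
      rw [mul_div_mul_left _ _ (hεq i)], er, d0, s0]
    simp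
  refine row_core (I.erase i0) r (fun i => ε i * d i) π (fun i => ?_) (fun i hi => ?_) (fun i hi => ?_)
    (fun i hi => ?_) (fun i hi => ?_) (fun i hi => ?_) (fun u0 u1 u2 u3 u4 w => ?_) ?_ ?_ ?_ c hc0 ?_ ?_ ?_
  · rw [Finset.mem_erase, Finset.mem_erase, ← hπ i]
    refine and_congr_left fun _ => not_congr ⟨fun h => by rw [h, hπ0], fun h => π.injective (h.trans hπ0.symm)⟩
  · have hi := mem i hi
    simp only [r, Row.g, hεπ i hi, ht i hi]
    rw [← ha 0 i hi, ← ha 1 i hi, ← ha 2 i hi, ← ha 3 i hi, ← ha 4 i hi]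
    rfl
  · simp only [hεπ i (mem i hi), hd i (mem i hi)]
  · rw [hrs i (mem i hi)]
    have := hs i (mem i hi)
    simp only [ε]; split_ifs <;> omega
  · rw [hrs i (mem i hi)]
    have := hK i (mem i hi) (Finset.ne_of_mem_erase hi)
    have h1 := le_abs_self (s i)
    have h2 := neg_abs_le (s i)
    simp only [ε]; split_ifs
    · rw [one_mul, one_mul, abs_of_nonneg (by linarith [abs_nonneg (s i)])]; linarith
    · rw [neg_one_mul, neg_one_mul, abs_neg, abs_of_nonneg (by linarith [abs_nonneg (s i)])]; linarith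
  · rw [hrs i (mem i hi)]
    have := (hc i (mem i hi)).mul_left (ε i)
    have e : ε i * d i + 3 * (ε i * s i) + 60 * (r i).t = ε i * (d i + 3 * s i + 60 * t i) := by
      simp only [r]; ring
    rwa [e]
  · rw [Finset.sum_congr rfl (g := fun i => u0 ^ 2 * (a 0 i * a 0 i) + u1 ^ 2 * (a 1 i * a 1 i) +
      u2 ^ 2 * (a 2 i * a 2 i) + u3 ^ 2 * (a 3 i * a 3 i) + u4 ^ 2 * (a 4 i * a 4 i) +
      w ^ 2 * (t i * t i) + 2 * u0 * u1 * (a 0 i * a 1 i) + 2 * u0 * u2 * (a 0 i * a 2 i) +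
      2 * u0 * u3 * (a 0 i * a 3 i) + 2 * u0 * u4 * (a 0 i * a 4 i) + 2 * u1 * u2 * (a 1 i * a 2 i) +
      2 * u1 * u3 * (a 1 i * a 3 i) + 2 * u1 * u4 * (a 1 i * a 4 i) + 2 * u2 * u3 * (a 2 i * a 3 i) +
      2 * u2 * u4 * (a 2 i * a 4 i) + 2 * u3 * u4 * (a 3 i * a 4 i) + 2 * u0 * w * (a 0 i * t i) +
      2 * u1 * w * (a 1 i * t i) + 2 * u2 * w * (a 2 i * t i) + 2 * u3 * w * (a 3 i * t i) +
      2 * u4 * w * (a 4 i * t i)) fun i _ => by
        simp only [r]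
        linear_combination (u0 * a 0 i + u1 * a 1 i + u2 * a 2 i + u3 * a 3 i + u4 * a 4 i + w * t i) ^ 2
          * hε2 i, er]
    simp only [Finset.sum_add_distrib, ← Finset.mul_sum, g1, g2, g3, a0, t0]
    simp only [Fin.isValue, Fin.reduceEq, ↓reduceIte]
    ring
  · simp only [r]; rw [lin, l1, a0]; simp
  · have := lin fun i => a 1 i + a 2 i + a 3 i + a 4 i
    simp only [add_mul, mul_add, Finset.sum_add_distrib, l1, a0] at this
    simp only [r, add_mul, Finset.sum_add_distrib]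
    rw [this]; simp
  · simp only [r]; rw [lin, l2, t0]; simp
  · have := rat (a 0)
    rw [q1, a0] at this
    exact this.trans (by simp)
  · have := rat fun i => a 1 i + a 2 i + a 3 i + a 4 i
    have e : ∑ i ∈ I, (((a 1 i + a 2 i + a 3 i + a 4 i) * s i ^ 2 : ℤ) : ℚ) / (d i : ℚ) = 4 * c := by
      simp only [add_mul, Int.cast_add, add_div, Finset.sum_add_distrib, q1]; ring
    rw [e] at this
    simp only [a0] at this
    simp only [Fin.isValue, Fin.reduceEq, ↓reduceIte, add_zero, Int.cast_zero, sub_zero] at this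
    rw [← this]
    exact Finset.sum_congr rfl fun i _ => by simp only [r, mul_add]
  · have := rat t
    rw [q2, t0] at this
    exact this.trans (by simp)

end H17.Ly
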