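import Mathlib
import Cfsg.Agent.H17.LyKey
import Cfsg.Agent.H17.LyNum
import Cfsg.Agent.H22.U34Model

/-! Lyons' theorem: in a simple group with a Sylow 2-subgroup of type `U₃(4)`, the centralizer of
an involution normalizes the four-group of the Sylow subgroup. -/

set_option autoImplicit false
set_option linter.unusedSectionVars false

open Cfsg H4 Subgroup
open scoped ComplexConjugate

namespace H17.Ly

variable {G : Type*} [Group G] [Finite G]

section Galois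

/-- the Galois action `χ ↦ χ(·^k)` -/
noncomputable def gal {k : ℕ} (hk : k.Coprime (Nat.card G)) : Equiv.Perm (Irr G) :=
  Equiv.ofBijective (fun χ => ⟨fun g => χ.1 (g ^ k), χ.2.pow_arg hk⟩)
    (Finite.injective_iff_bijective.mp fun χ ψ e => Subtype.ext (funext fun g => by
      obtain ⟨g, rfl⟩ := (powCoprime hk.symm).surjective g
      exact congrFun (congrArg Subtype.val e) g))

theorem gal_apply {k : ℕ} (hk : k.Coprime (Nat.card G)) (χ : Irr G) (g : G) :
    (gal hk χ).1 g = χ.1 (g ^ k) := rfl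

theorem gal_mem {p : ℕ} [Fact p.Prime] (M : Ideal AlgInt) [PM p M] {k : ℕ}
    (hk : k.Coprime (Nat.card G)) (χ : Irr G) : χ ∈ B0 G M ↔ gal hk χ ∈ B0 G M := by
  have := Fintype.ofFinite G
  have h1 : ind {χ | gal hk χ ∈ B0 G M} ∈ ZS G M := ind_mem_ZS_of_orth (p := p) fun a ha b hb => by
    rw [← classInner_comp_equiv (powCoprime hk.symm), ← inner_regPart_eq_zero (M := M) (p := p)
      (χ := gal hk a) (ψ := gal hk b) fun hab => hb ((mem_B0 M).2 (SB.trans ((mem_B0 M).1 ha) hab))]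
    congr 1
    ext g
    simp only [regPart, powCoprime_apply, orderOf_pow_of_coprime g hk, gal_apply]
  have h2 : ∀ χ ∈ B0 G M, gal hk χ ∈ B0 G M := fun χ hχ =>
    mem_of_ind_mem_ZS h1 (one_mem_B0 M) ((mem_B0 M).1 hχ)
  exact ⟨h2 χ, fun h => by simpa using Equiv.Perm.perm_symm_on_of_perm_on_finset h2 h⟩

end Galois

theorem int_ten {g : G} (hg : 10 ∣ orderOf g) {θ : G → ℂ} (hθ : IsGeneralizedCharacter G θ)
    (hp : ∀ i, θ (g ^ (2 * i + 1 + 10)) = θ (g ^ (2 * i + 1))) {ζ : ℂ} (hζ : ζ ^ 5 = 1) :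
    ∃ n : ℤ, ∑ i ∈ Finset.range 5, θ (g ^ (2 * i + 1)) * conj (ζ ^ (2 * i + 1)) = 5 * n := by
  have := Fintype.ofFinite (zpowers g)
  have hgen : ∀ x : zpowers g, x ∈ zpowers (⟨g, mem_zpowers g⟩ : zpowers g) := fun ⟨_, k, hk⟩ =>
    ⟨k, Subtype.ext hk⟩
  have lin : ∀ u : ℂ, u ^ 10 = 1 → ∃ η : zpowers g → ℂ, IsGeneralizedCharacter _ η ∧
      ∀ i : ℕ, η ⟨g ^ i, pow_mem (mem_zpowers g) i⟩ = u ^ i := fun u hu => by
    let u' := Units.ofPowEqOne u 10 hu (by norm_num)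
    have h1 : orderOf u' ∣ orderOf (⟨g, mem_zpowers g⟩ : zpowers g) :=
      (orderOf_dvd_of_pow_eq_one (Units.pow_ofPowEqOne _ _)).trans (by rwa [Subgroup.orderOf_mk])
    refine ⟨_, (isIrrCharacter_linear (monoidHomOfForallMemZpowers hgen h1)).isGen, fun i => ?_⟩
    rw [show (⟨g ^ i, _⟩ : zpowers g) = ⟨g, mem_zpowers g⟩ ^ i from rfl, map_pow,
      monoidHomOfForallMemZpowers_apply_gen]
    rfl
  have h10 : ζ ^ 10 = 1 := by rw [show 10 = 5 * 2 from rfl, pow_mul, hζ, one_pow]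
  obtain ⟨η, h1, h2⟩ := lin ζ h10
  obtain ⟨η', h1', h2'⟩ := lin (-ζ) (by rw [neg_pow, h10]; norm_num)
  obtain ⟨n, hn⟩ := (hθ.comp (zpowers g).subtype).inner_int (h1.sub h1')
  obtain ⟨q, hq⟩ := hg
  have h3 := card_mul_classInner (fun x : zpowers g => θ ((zpowers g).subtype x)) (η - η')
  rw [hn, ← (finEquivZPowers (isOfFinOrder_of_finite g)).sum_comp, Nat.card_zpowers] at h3
  simp only [finEquivZPowers_apply, Pi.sub_apply, h2, h2', coe_subtype] at h3
  rw [Fin.sum_univ_eq_sum_range (fun i => θ (g ^ i) * conj (ζ ^ i - (-ζ) ^ i)), hq] at h3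
  set F : ℕ → ℂ := fun i => θ (g ^ i) * conj (ζ ^ i - (-ζ) ^ i) with hF
  have per : ∀ i, F (i + 10) = F i := fun i => by
    simp only [hF, pow_add ζ, pow_add (-ζ), h10, (show Even 10 by decide).neg_pow, mul_one]
    rcases Nat.even_or_odd' i with ⟨k, rfl | rfl⟩
    · simp
    · rw [hp]
  have h4 : ∀ q, ∑ i ∈ Finset.range (10 * q), F i = q * ∑ i ∈ Finset.range 10, F i := fun q => by
    induction q with
    | zero => simp
    | succ q ih =>
      rw [mul_add, mul_one, add_comm, Finset.sum_range_add]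
      simp only [add_comm 10, per, ih]
      push_cast; ring
  have hq0 : (q : ℂ) ≠ 0 := Nat.cast_ne_zero.mpr (by rintro rfl; exact (orderOf_pos g).ne' hq)
  rw [h4] at h3
  refine ⟨n, mul_left_cancel₀ (mul_ne_zero hq0 two_ne_zero) ?_⟩
  simp only [Finset.sum_range_succ, Finset.sum_range_zero, hF, map_sub, map_pow, map_neg] at h3 ⊢
  push_cast at h3
  linear_combination -h3

theorem apply_mul_core' {p : ℕ} [Fact p.Prime] {M : Ideal AlgInt} [PM p M] {u : G} (hu : PElt p u)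
    {y v : centralizer ({u} : Set G)} (hy : ¬ p ∣ orderOf y) (hyv : ¬ p ∣ orderOf (y * v))
    (hv : v ∈ pPrimeCore p (centralizer ({u} : Set G))) {χ : Irr G} (hχ : SB M (irrOne G) χ) :
    χ.1 (u * (y * v)) = χ.1 (u * y) := by
  have := Fintype.ofFinite (centralizer ({u} : Set G))
  have h1 := irr_eq_blockPart_principal (M := M) (h := selfC u * (y * v)) (pp_mul hu
    (by rwa [Subgroup.orderOf_coe]) (mem_centralizer_singleton.mp (y * v).2).symm) hχ
  have h2 := irr_eq_blockPart_principal (M := M) (h := selfC u * y) (pp_mul hu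
    (by rwa [Subgroup.orderOf_coe]) (mem_centralizer_singleton.mp y.2).symm) hχ
  refine h1.trans (Eq.trans ?_ h2.symm)
  rw [blockPart_apply, blockPart_apply]
  refine Finset.sum_congr rfl fun ξ _ => ?_
  by_cases h : ξ ∈ principalBlock M _
  · rw [← mul_assoc (selfC u), SB.pPrimeCore_mul h hv]
  · rw [ind_of_notMem h, zero_mul, zero_mul]

theorem exists_nu (S : Sylow 2 G) (hcent : ∀ v ∈ (S : Subgroup G), v * v = 1 → ∀ x ∈ (S : Subgroup G),
    x * v = v * x) (hc : ∀ {a b c : G}, a ∈ (S : Subgroup G) → b ∈ (S : Subgroup G) →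
      c ∈ (S : Subgroup G) → a * a = 1 → b * b = 1 → c * c = 1 → a ≠ 1 → b ≠ 1 → a ≠ b →
      c = 1 ∨ c = a ∨ c = b ∨ c = a * b) {a b : G} (ha : a ∈ (S : Subgroup G))
    (hb : b ∈ (S : Subgroup G)) (ha2 : a * a = 1) (hb2 : b * b = 1) (hab : a ≠ b) (hcj : IsConj a b) :
    ∃ ν ∈ normalizer ((S : Subgroup G) : Set G), ¬ 2 ∣ orderOf ν ∧
      ∀ v ∈ (S : Subgroup G), v * v = 1 → ν * v * ν⁻¹ = v → v = 1 := by
  obtain ⟨g, rfl⟩ := isConj_iff.mp hcj
  obtain ⟨n, hn, e⟩ := H3.burnside_fusion_elem S (hcent a ha ha2) (hcent _ hb hb2)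
  have h1 : pr 2 n * a * (pr 2 n)⁻¹ ≠ a := fun e1 => hab (by
    rw [← e]
    conv_rhs => rw [← pp_mul_pr (p := 2) n, mul_inv_rev, mul_assoc (pp 2 n), mul_assoc (pp 2 n),
      ← mul_assoc _ _ (pp 2 n)⁻¹, e1, ← mul_assoc,
      hcent a ha ha2 _ (mem_sylow_of_normalizer S (pElt_pp n) (pp_mem hn)), mul_inv_cancel_right])
  refine ⟨pr 2 n, pr_mem hn, reg_pr n, fun v hv hv2 e1 => by_contra fun hv1 => ?_⟩
  have ha1 : a ≠ 1 := fun e => h1 (by simp [e])
  have hva : v ≠ a := fun e => h1 (e ▸ e1)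
  rcases hc hv ha (H22.conj_mem_of_mem_normalizer (pr_mem (p := 2) hn) ha) hv2 ha2
    (by rw [conj_mul_conj, ha2]; simp) hv1 ha1 hva with e | e | e | e
  · exact ha1 (by simpa using e)
  · exact hva ((conj_eq_iff e1).mp e).symm
  · exact h1 e
  · exact h1 (fix_of_sq (reg_pr n) (by rw [e, ← conj_mul_conj, e1, e, ← mul_assoc, hv2, one_mul]))

namespace US

variable {S : Sylow 2 G} (h : US (S : Subgroup G))
  (hfus : ∀ a b : G, orderOf a = 2 → orderOf b = 2 → IsConj a b) {z : G} (hz : z ∈ h.V)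
  (hz1 : z ≠ 1) (M : Ideal AlgInt) [PM 2 M]
include h

theorem mem_nV {g : G} (hg : g ∈ normalizer ((S : Subgroup G) : Set G)) :
    g ∈ normalizer (h.V : Set G) := H22.mem_normalizer_of_conj_mem fun v hv =>
  ⟨H22.conj_mem_of_mem_normalizer hg hv.1, by rw [conj_mul_conj, hv.2]; simp⟩

theorem not_conj {x u : G} (h2 : x * x ≠ 1) (hu : u * u = 1) : ¬ IsConj x u := fun hc => by
  obtain ⟨k, rfl⟩ := isConj_iff.mp hc
  rw [conj_mul_conj] at hu
  exact h2 (by simpa using hu)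

include hz

theorem le_C : (S : Subgroup G) ≤ centralizer {z} := fun _ hx =>
  mem_centralizer_singleton.mpr (h.cent hz.1 hz.2 hx)

theorem usC : US (S.subtype (h.le_C hz) : Subgroup (centralizer ({z} : Set G))) :=
  h.of_equiv (subgroupOfEquivOfLe (h.le_C hz)).symm

theorem mem_normalizer_C {g : centralizer ({z} : Set G)} :
    g ∈ normalizer ((S.subtype (h.le_C hz) : Subgroup (centralizer ({z} : Set G))) : Set _) ↔
      (g : G) ∈ normalizer ((S : Subgroup G) : Set G) := by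
  rw [Sylow.coe_subtype, ← subgroupOf_normalizer_eq (h.le_C hz), mem_subgroupOf]

theorem mem_centralizer_C {g : centralizer ({z} : Set G)} :
    g ∈ centralizer ((S.subtype (h.le_C hz) : Subgroup (centralizer ({z} : Set G))) : Set _) ↔
      (g : G) ∈ centralizer ((S : Subgroup G) : Set G) :=
  ⟨fun hg s hs => congrArg Subtype.val (hg ⟨s, h.le_C hz hs⟩ hs), fun hg s hs => Subtype.ext (hg s hs)⟩

include hz1

theorem coreC : ∀ v ∈ (h.usC hz).V, ∀ g, v * g * v⁻¹ * g⁻¹ ∈ pPrimeCore 2 (centralizer ({z} : Set G)) :=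
  fun v hv g => h.inv_core (h.two hz hz1) v g hv.2

include hfus

theorem case_three (hK : ∀ χ ∈ B0 G M, χ ≠ irrOne G → ∀ s : ℤ, χ.1 z = s → |s| + 16 ≤ deg χ)
    (h3 : ∀ g ∈ normalizer ((S : Subgroup G) : Set G), ¬ 2 ∣ orderOf g →
      (∀ v ∈ h.V, g * v * g⁻¹ = v) → g ∈ centralizer ((S : Subgroup G) : Set G)) : False := by
  classical
  obtain ⟨v, hv, hv1, hzv⟩ := h.exists_other z
  obtain ⟨ν, hν, hodd, hfpf⟩ := exists_nu S (fun _ a b _ c => h.cent a b c) h.cases hz.1 hv.1 hz.2 hv.2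
    hzv (hfus _ _ (h.two hz hz1) (h.two hv hv1))
  obtain ⟨e⟩ := h.nonempty_equiv
  have hR : H22.Rk2 (S : Subgroup G) := (W.u34.of_equiv e.symm).toRk2
  let α : MulAut (S : Subgroup G) := (S : Subgroup G).normalizerMonoidHom ⟨ν, hν⟩
  have hα : ∀ x : (S : Subgroup G), (α x : G) = ν * x * ν⁻¹ := fun _ => rfl
  have hf : ∀ v : (S : Subgroup G), v * v = 1 → α v = v → v = 1 := fun v h1 h2 =>
    Subtype.ext (hfpf v v.2 (congrArg Subtype.val h1) (congrArg Subtype.val h2))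
  have a3 : ∀ x : (S : Subgroup G), (α (α (α x)) : G) = ν ^ 3 * x * (ν ^ 3)⁻¹ := fun x => by
    simp only [hα, pow_three]; group
  have hF : H22.Fpf3 (S : Subgroup G) α := ⟨hR, by
    have := h3 _ (pow_mem hν 3) (fun e => hodd (e.trans (orderOf_pow_dvd 3))) fun v hv =>
      (a3 ⟨v, hv.1⟩).symm.trans (congrArg Subtype.val (hR.cube_fix hf (Subtype.ext hv.2)).1)
    ext x
    change (α (α (α x)) : G) = x
    rw [a3, ← this x x.2, mul_inv_cancel_right], hf⟩
  have orb : ∀ x ∈ (S : Subgroup G), x * x ≠ 1 → ∀ u ∈ h.V, u ≠ 1 → ∃ k ∈ normalizer ((S : Subgroup G) : Set G),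
      k * x * k⁻¹ * x = x * (k * x * k⁻¹) ∧ k * (x * x) * k⁻¹ = u := by
    intro x hx h2 u hu hu1
    have c1 : x * (ν * x * ν⁻¹) = ν * x * ν⁻¹ * x := congrArg Subtype.val (hF.comm ⟨x, hx⟩).eq
    have c2 : ν * (ν * x * ν⁻¹) * ν⁻¹ = (x * (ν * x * ν⁻¹))⁻¹ := congrArg Subtype.val (hF.aa ⟨x, hx⟩)
    have hV2 : x * x ∈ h.V := ⟨mul_mem hx hx, h.sq_sq hx⟩
    have hV3 := H22.conj_mem_of_mem_normalizer (h.mem_nV hν) hV2
    rcases h.cases hV2.1 hV3.1 hu.1 hV2.2 hV3.2 hu.2 h2 (by simpa using h2)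
      (fun e => h2 (hfpf _ hV2.1 hV2.2 e.symm)) with e | e | e | e
    · exact absurd e hu1
    · exact ⟨1, one_mem _, by simp, by simp [e]⟩
    · exact ⟨ν, hν, c1.symm, e.symm⟩
    · refine ⟨ν * ν, mul_mem hν hν, ?_, ?_⟩
      · rw [show ν * ν * x * (ν * ν)⁻¹ = ν * (ν * x * ν⁻¹) * ν⁻¹ by group, c2]
        exact ((Commute.refl x).mul_right c1).inv_right.symm
      · have := congrArg Subtype.val ((hR.cube_fix hf (v := ⟨_, hV2.1⟩) (Subtype.ext hV2.2)).2
          fun e => h2 (congrArg Subtype.val e))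
        rw [e]
        exact Eq.trans (by simp only [hα]; group) this
  have cj1 : ∀ x ∈ (S : Subgroup G), x * x ≠ 1 → ∀ y ∈ (S : Subgroup G), y * y ≠ 1 →
      y * x = x * y → IsConj x y := fun x hx h2 y hy hy2 hc => by
    obtain ⟨k, hk, e1, e2⟩ := orb x hx h2 _ ⟨mul_mem hy hy, h.sq_sq hy⟩ hy2
    have hk' := H22.conj_mem_of_mem_normalizer hk hx
    obtain ⟨s, -, rfl⟩ := h.conj hk' (by rwa [conj_mul_conj, e2]) hy
      (h.sq_ne_of_sq_eq (h.cc hx h2 hy hk' hc e1) (by rw [conj_mul_conj, e2]))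
    exact (H22.isConj_conj _ _).trans (H22.isConj_conj _ _)
  have cj2 : ∀ x ∈ (S : Subgroup G), x * x ≠ 1 → ∀ y ∈ (S : Subgroup G), IsConj x y →
      y * x = x * y := fun x hx h2 y hy hc => by
    obtain ⟨n, hn, rfl⟩ := h.fusion hx h2 hy hc
    have hV2 : x * x ∈ h.V := ⟨mul_mem hx hx, h.sq_sq hx⟩
    obtain ⟨k, hk, e1, e2⟩ := orb x hx h2 _ (H22.conj_mem_of_mem_normalizer (h.mem_nV hn) hV2)
      (by simpa using h2)
    have hm := mul_mem (inv_mem hk) hn
    have hcv := h.cV_of_fix (h.mem_nV hm) hV2 h2 (by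
      calc k⁻¹ * n * (x * x) * (k⁻¹ * n)⁻¹ = k⁻¹ * (n * (x * x) * n⁻¹) * k := by group
        _ = x * x := by rw [← e2]; group)
    have hp := mem_sylow_of_normalizer S (pElt_pp _) (pp_mem hm)
    have hr := h3 _ (pr_mem hm) (reg_pr (p := 2) _) fun v hv => by
      rw [← (commute_pr (mul_inv_eq_iff_eq_mul.mp (hcv v hv)).symm).eq, mul_inv_cancel_right]
    have e3 : k⁻¹ * n * x * (k⁻¹ * n)⁻¹ = pp 2 (k⁻¹ * n) * x * (pp 2 (k⁻¹ * n))⁻¹ := by
      conv_lhs => rw [← pp_mul_pr (p := 2) (k⁻¹ * n), mul_assoc _ _ x, ← hr x hx]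
      group
    have hw := H22.conj_mem_of_mem_normalizer (h.mem_nV hk) (show x⁻¹ * (pp 2 (k⁻¹ * n) * x *
      (pp 2 (k⁻¹ * n))⁻¹) ∈ h.V from ⟨mul_mem (inv_mem hx) (mul_mem (mul_mem hp hx) (inv_mem hp)),
        h.comm hx hp⟩)
    rw [← e3] at hw
    rw [show n * x * n⁻¹ = k * x * k⁻¹ * (k * (x⁻¹ * (k⁻¹ * n * x * (k⁻¹ * n)⁻¹)) * k⁻¹) by group,
      mul_assoc, ← h.cent hw.1 hw.2 hx, ← mul_assoc, e1, mul_assoc]
  obtain ⟨x, hx, hne, hint⟩ := h.int_l
  choose t ht using fun i (χ : Irr G) => h.exists_int (hx i).1 χ.2.isGen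
  choose s hs using fun χ : Irr G => h.exists_int hz.1 χ.2.isGen
  have hI := fun χ : Irr G => hint _ χ.2.isGen fun y hy h2 i e =>
    (χ.2.classFun.apply_of_isConj (cj1 _ (hx i).1 (hx i).2 y hy h2 e)).symm
  have px : ∀ i, pp 2 (x i) = x i := fun i => pp_of_pElt (PElt.of_mem S.isPGroup' (hx i).1)
  have pz : pp 2 z = z := pp_of_pElt (PElt.of_mem S.isPGroup' hz.1)
  have o1 : ∀ j, ∑ χ ∈ B0 G M, χ.1 (x j) * conj (χ.1 z) = 0 := fun j =>
    B0_orth (p := 2) M (by rw [px, pz]; exact h.not_conj (hx j).2 hz.2)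
  obtain ⟨c, -, hc⟩ := h.class_rel hfus hz hz1 M
  have one : ∀ {g : G} {n : ℤ}, (irrOne G).1 g = n → n = 1 := fun e => by
    rw [irrOne_apply] at e; exact_mod_cast e.symm
  refine num3 (B0 G M) _ (one_mem_B0 M) t s (fun χ => deg χ) (fun j => one (ht j _)) (one (hs _))
    (by simp [deg_irrOne]) (fun χ h1 h2 => hK χ h1 h2 _ (hs χ)) (fun j χ _ => ?_) (fun χ _ => ?_)
    (fun χ _ => h.sixteen_dvd hfus hz hz1 χ (hs χ)) (fun j k => ?_) (fun j => ?_) ?_ (fun j => ?_)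
    fun j => ?_
  · obtain ⟨n, hn⟩ := (hI χ).1 j
    simp only [ht] at hn
    exact ⟨n, by exact_mod_cast hn⟩
  · obtain ⟨n, hn⟩ := (hI χ).2 (s χ) fun u hu h1 => by
      rw [← hs, χ.2.classFun.apply_of_isConj (hfus _ _ (h.two hu h1) (h.two hz hz1))]
    simp only [ht, ← deg_eq] at hn
    exact ⟨n, by exact_mod_cast hn⟩
  · refine int_sum M (fun χ _ => ht j χ) (fun χ _ => ht k χ) ?_
    rw [← sum_B0, h.four_sum (hx k).1 (hx k).2, px]
    by_cases e : j = k
    · rw [if_pos e, if_pos (e ▸ IsConj.refl _)]; norm_num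
    · rw [if_neg e, if_neg fun hc => e (hne _ _ (cj2 _ (hx j).1 (hx j).2 _ (hx k).1 hc).symm), Int.cast_zero]
  · exact int_sum M (fun χ _ => ht j χ) (fun χ _ => hs χ) (by rw [o1, Int.cast_zero])
  · refine int_sum M (fun χ _ => hs χ) (fun χ _ => hs χ) ?_
    have := principal_sum (M := M) (PElt.of_mem S.isPGroup' hz.1) (y := 1) (y' := 1) reg_one reg_one
    rw [(h.usC hz).one_sum (h.coreC hz hz1) M fun g hg h2 => (h.mem_centralizer_C hz).2 (h3 _
      ((h.mem_normalizer_C hz).1 hg) (by rwa [Subgroup.orderOf_coe]) (h.cV_of_fix (h.mem_nV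
        ((h.mem_normalizer_C hz).1 hg)) hz hz1 (by
          rw [(mem_centralizer_singleton.mp g.2).eq, mul_inv_cancel_right]))), sum_B0] at this
    simpa using this
  · refine int_sum M (k := 1) (fun χ _ => ht j χ) (fun χ _ => by rw [← deg_eq]; simp) ?_
    rw [B0_orth (p := 2) M (by rw [px, pp_of_pElt PElt.one]; exact h.not_conj (hx j).2 (mul_one 1)),
      Int.cast_zero]
  · have := hc (x j) ((PElt.of_mem S.isPGroup' (hx j).1).dvd_orderOf fun e => (hx j).2 (by simp [e]))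
    rw [B0_orth (p := 2) M (by rw [px, pz]; exact fun e => h.not_conj (hx j).2 hz.2 e.symm),
      mul_zero] at this
    simp only [ht, hs, ← deg_eq, map_intCast] at this
    refine Rat.cast_injective (α := ℂ) ?_
    push_cast
    rw [← this]
    exact Finset.sum_congr rfl fun χ _ => by ring

theorem case_fifteen (hK : ∀ χ ∈ B0 G M, χ ≠ irrOne G → ∀ s : ℤ, χ.1 z = s → |s| + 16 ≤ deg χ)
    {g : G} (h5 : h.Five g) : False := by
  classical
  have hzP := PElt.of_mem S.isPGroup' hz.1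
  have hgz : Commute g z := mul_inv_eq_iff_eq_mul.mp (h5.cV z hz)
  let g' : centralizer ({z} : Set G) := ⟨g, mem_centralizer_singleton.mpr hgz⟩
  have go : ∀ i : ℕ, ¬ 2 ∣ orderOf (g' ^ i) := fun i e =>
    h5.odd (by simpa [g'] using e.trans (orderOf_pow_dvd i))
  have h5' : (h.usC hz).Five g' := ⟨(h.mem_normalizer_C hz).2 h5.norm, by simpa using go 1,
    fun v hv => Subtype.ext (h5.cV v ⟨hv.1, congrArg Subtype.val hv.2⟩),
    (h.mem_centralizer_C hz).2 h5.pow, fun e => h5.notMem ((h.mem_centralizer_C hz).1 e)⟩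
  obtain ⟨x, hx, -⟩ := h.int_q
  obtain ⟨hx, h2⟩ := hx 0
  generalize x 0 = x at hx h2
  have cj : ∀ y ∈ (S : Subgroup G), y * y ≠ 1 → IsConj x y := fun y hy hy2 => by
    have a1 : x * x ∈ h.V := ⟨mul_mem hx hx, h.sq_sq hx⟩
    have a2 : y * y ∈ h.V := ⟨mul_mem hy hy, h.sq_sq hy⟩
    obtain ⟨k, hk⟩ := isConj_iff.mp (hfus _ _ (h.two a1 h2) (h.two a2 hy2))
    obtain ⟨n, hn, e⟩ := H3.burnside_fusion_elem S (g := k) (fun _ c => h.cent a1.1 a1.2 c)
      (by rw [hk]; exact fun _ c => h.cent a2.1 a2.2 c)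
    exact (H22.isConj_conj n x).trans (h5.isConj (H22.conj_mem_of_mem_normalizer hn hx)
      (by rwa [conj_mul_conj, e, hk]) hy (by rw [conj_mul_conj, e, hk]))
  choose t ht using fun χ : Irr G => h.exists_int hx χ.2.isGen
  choose s hs using fun χ : Irr G => h.exists_int hz.1 χ.2.isGen
  have hv : ∀ (χ : Irr G), ∀ u ∈ h.V, u ≠ 1 → χ.1 u = s χ := fun χ u hu h1 => by
    rw [← hs, χ.2.classFun.apply_of_isConj (hfus _ _ (h.two hu h1) (h.two hz hz1))]
  have c64 : ∀ χ : Irr G, (64 : ℤ) ∣ deg χ + 3 * s χ + 60 * t χ := fun χ => by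
    obtain ⟨v, a1, a2, a3⟩ := h.exists_other z
    obtain ⟨n, hn⟩ := h.int_const χ.1 (fun ι _ _ => int_one (χ.2.isGen.comp ι)) hz a1 hz1 a2 a3
      (c := t χ) fun y hy hy2 => by rw [← ht, χ.2.classFun.apply_of_isConj (cj y hy hy2)]
    rw [hs, hv χ v a1 a2, hv χ _ (mul_mem hz a1) (h.mul_ne_one a1 a3), ← deg_eq] at hn
    have : (deg χ : ℂ) + 3 * s χ + 60 * t χ = 64 * n := by linear_combination hn
    exact ⟨n, by exact_mod_cast this⟩
  have hm : ∀ χ : Irr G, s χ - t χ = 4 * ((s χ - t χ) / 4) := fun χ => by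
    have := c64 χ
    have := h.sixteen_dvd hfus hz hz1 χ (hs χ)
    omega
  have per : ∀ χ ∈ B0 G M, ∀ i, χ.1 (z * g ^ (i + 5)) = χ.1 (z * g ^ i) := fun χ hχ i => by
    have := apply_mul_core' hzP (go i) (by rw [← pow_add]; exact go _)
      ((h.usC hz).mem_core (h.coreC hz hz1) (go 5) h5'.pow) ((mem_B0 M).1 hχ)
    rwa [pow_add]
  have per' : ∀ χ ∈ B0 G M, ∀ i, χ.1 (z * g ^ i) = χ.1 (z * g ^ (i % 5)) := fun χ hχ i => by
    conv_lhs => rw [← Nat.mod_add_div i 5]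
    generalize i / 5 = q
    induction q with
    | zero => simp
    | succ q ih => rw [mul_add, mul_one, ← add_assoc, per χ hχ, ih]
  have zpow : ∀ k, Odd k → ∀ i, (z * g ^ i) ^ k = z * g ^ (i * k) := by
    rintro _ ⟨k, rfl⟩ i
    rw [(hgz.symm.pow_right i).mul_pow, pow_succ' z, pow_mul z, sq, hz.2, one_pow, mul_one, ← pow_mul]
  have ppz : ∀ i : ℕ, pp 2 (z * g ^ i) = z := fun i =>
    pp_mul hzP (fun e => h5.odd (e.trans (orderOf_pow_dvd i))) (hgz.symm.pow_right i)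
  obtain ⟨ζ, hζ⟩ : ∃ ζ : ℂ, IsPrimitiveRoot ζ 5 := ⟨_, Complex.isPrimitiveRoot_exp 5 (by norm_num)⟩
  have z5 := hζ.pow_eq_one
  have zc : conj ζ = ζ ^ 4 := by
    have h1 : ‖ζ‖ = 1 := hζ.norm'_eq_one (by norm_num)
    have h2 : ζ * conj ζ = 1 := by rw [Complex.mul_conj, Complex.normSq_eq_norm_sq, h1]; simp
    linear_combination ζ ^ 4 * h2 - conj ζ * z5
  let E : Fin 5 → Fin 5 → ℂ := fun j i => ζ ^ ((i * j : Fin 5) : ℕ)
  have hE : ∀ j i, E j i = (ζ ^ (j : ℕ)) ^ (i : ℕ) := fun j i => by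
    simp only [E, Fin.val_mul, ← pow_mul, mul_comm (j : ℕ)]
    exact (pow_eq_pow_mod _ z5).symm
  have E0 : ∀ j, E j 0 = 1 := fun j => by simp [E]
  have orth : ∀ j k, ∑ i, conj (E j i) * E k i = if j = k then 5 else 0 := fun j k => by
    have e : ∀ i : Fin 5, conj (E j i) * E k i = (ζ ^ (4 * (j : ℕ) + (k : ℕ))) ^ (i : ℕ) := fun i => by
      simp only [hE, map_pow, zc]; ring
    simp only [e]
    rw [Fin.sum_univ_eq_sum_range (fun i => (ζ ^ (4 * (j : ℕ) + (k : ℕ))) ^ i)]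
    split_ifs with e1
    · rw [e1, show 4 * (k : ℕ) + k = 5 * k by ring, pow_mul, z5]; simp
    · exact (hζ.pow_of_coprime _ ((Nat.Prime.coprime_iff_not_dvd Nat.prime_five).mpr
        (by omega)).symm).geom_sum_eq_zero (by norm_num)
  have h10 : 10 ∣ orderOf (z * g) := by
    have a1 : 2 ∣ orderOf (z * g) := by_contra fun e => hz1 (by
      have := ppz 1
      rw [pow_one, pp_of_reg e] at this
      exact this.symm)
    have a2 : (5 : ℤ) ∣ ((orderOf (z * g) * 2 : ℕ) : ℤ) := h5.dvd (by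
      have := pow_orderOf_eq_one (z * g)
      rw [hgz.symm.mul_pow] at this
      rw [zpow_natCast, pow_mul, eq_inv_of_mul_eq_one_right this, inv_pow, ← pow_mul, mul_comm, pow_mul,
        sq, hz.2]
      simp)
    omega
  have hn : ∀ χ ∈ B0 G M, ∀ j, ∃ n : ℤ, ∑ i : Fin 5, χ.1 (z * g ^ (i : ℕ)) * conj (E j i) = 5 * n := by
    intro χ hχ j
    have a1 : ∀ i, (z * g) ^ (2 * i + 1) = z * g ^ (2 * i + 1) := fun i => by
      simpa using zpow _ ⟨i, rfl⟩ 1
    obtain ⟨n, hn⟩ := int_ten h10 χ.2.isGen (fun i => by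
      rw [show 2 * i + 1 + 10 = 2 * (i + 5) + 1 by ring, a1, a1, per' χ hχ, per' χ hχ (2 * i + 1),
        show (2 * (i + 5) + 1) % 5 = (2 * i + 1) % 5 by omega]) (ζ := ζ ^ (j : ℕ)) (by rw [← pow_mul, mul_comm, pow_mul, z5, one_pow])
    refine ⟨n, ?_⟩
    have a2 : ∀ i, (ζ ^ (j : ℕ)) ^ i = (ζ ^ (j : ℕ)) ^ (i % 5) := fun i =>
      pow_eq_pow_mod _ (by rw [← pow_mul, mul_comm, pow_mul, z5, one_pow])
    rw [← hn, Finset.sum_congr (s₁ := Finset.range 5) rfl (g := fun i => χ.1 (z * g ^ ((2 * i + 1) % 5)) *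
      conj ((ζ ^ (j : ℕ)) ^ ((2 * i + 1) % 5))) fun i _ => by rw [a1, per' χ hχ, a2]]
    simp only [hE, Fin.sum_univ_five, Finset.sum_range_succ, Finset.sum_range_zero]
    norm_num
    ring
  choose! n hn using hn
  have gram : ∀ i l : Fin 5, ∑ χ ∈ B0 G M, χ.1 (z * g ^ (i : ℕ)) * conj (χ.1 (z * g ^ (l : ℕ))) =
      if i = l then (if i = 0 then 320 else 20) else 0 := fun i l => by
    rw [← (h.usC hz).five_sum (h.coreC hz hz1) M h5', ← principal_sum hzP (go i) (go l), sum_B0]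
    rfl
  have pair : ∀ (F : Irr G → ℂ) j, 5 * ∑ χ ∈ B0 G M, n χ j * F χ =
      ∑ i : Fin 5, conj (E j i) * ∑ χ ∈ B0 G M, χ.1 (z * g ^ (i : ℕ)) * F χ := fun F j => by
    simp only [Finset.mul_sum]
    rw [Finset.sum_comm]
    refine Finset.sum_congr rfl fun χ hχ => ?_
    rw [← mul_assoc, ← hn χ hχ, Finset.sum_mul]
    exact Finset.sum_congr rfl fun i _ => by ring
  have toZ : ∀ (a b : Irr G → ℤ) (r : ℤ), (5 : ℂ) * ∑ χ ∈ B0 G M, a χ * (b χ : ℂ) = 5 * r →
      ∑ χ ∈ B0 G M, a χ * b χ = r := fun a b r e => by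
    exact_mod_cast mul_left_cancel₀ (by norm_num : (5 : ℂ) ≠ 0) e
  have px : pp 2 x = x := pp_of_pElt (PElt.of_mem S.isPGroup' hx)
  have nt : ∀ j, ∑ χ ∈ B0 G M, n χ j * t χ = 0 := fun j => toZ _ _ _ (by
    have := pair (fun χ => conj (χ.1 x)) j
    simp only [fun i : ℕ => B0_orth (p := 2) M (show ¬ IsConj (pp 2 (z * g ^ i)) (pp 2 x) by
      rw [ppz, px]; exact fun e => h.not_conj h2 hz.2 e.symm)] at this
    simpa [ht] using this)
  have nd : ∀ j, ∑ χ ∈ B0 G M, n χ j * (deg χ : ℤ) = 0 := fun j => toZ _ _ _ (by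
    have := pair (fun χ => conj (χ.1 1)) j
    simp only [fun i : ℕ => B0_orth (p := 2) M (show ¬ IsConj (pp 2 (z * g ^ i)) (pp 2 1) by
      rwa [ppz, pp_of_pElt PElt.one, isConj_one_left])] at this
    simpa [← deg_eq] using this)
  have nf : ∀ j (l : Fin 5), 5 * ∑ χ ∈ B0 G M, n χ j * conj (χ.1 (z * g ^ (l : ℕ))) =
      conj (E j l) * if l = 0 then 320 else 20 := fun j (l : Fin 5) => by
    rw [pair, Finset.sum_eq_single l (fun i _ e => by rw [gram, if_neg e, mul_zero]) (by simp), gram,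
      if_pos rfl]
  have ns : ∀ j, ∑ χ ∈ B0 G M, n χ j * s χ = 64 := fun j => toZ _ _ _ (by
    have := nf j 0
    simp only [Fin.val_zero, pow_zero, mul_one, hs, map_intCast, E0] at this
    rw [this]; norm_num)
  have nn : ∀ j k, ∑ χ ∈ B0 G M, n χ j * n χ k = if j = k then 16 else 12 := fun j k => toZ _ _ _ (by
    have a1 : ∀ χ ∈ B0 G M, (5 : ℂ) * n χ k = ∑ l : Fin 5, E k l * conj (χ.1 (z * g ^ (l : ℕ))) :=
      fun χ hχ => by
        have := congrArg conj (hn χ hχ k)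
        simp only [map_sum, map_mul, Complex.conj_conj, map_intCast, map_ofNat] at this
        rw [← this]; exact Finset.sum_congr rfl fun _ _ => mul_comm _ _
    have a2 : (5 : ℂ) * (5 * ∑ χ ∈ B0 G M, n χ j * (n χ k : ℂ)) =
        ∑ l : Fin 5, E k l * (5 * ∑ χ ∈ B0 G M, n χ j * conj (χ.1 (z * g ^ (l : ℕ)))) := by
      simp only [Finset.mul_sum]
      rw [Finset.sum_comm]
      refine Finset.sum_congr rfl fun χ hχ => ?_
      rw [show (5 : ℂ) * (5 * (n χ j * n χ k)) = 5 * n χ j * (5 * n χ k) by ring, a1 χ hχ, Finset.mul_sum]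
      exact Finset.sum_congr rfl fun i _ => by ring
    have a3 := orth j k
    simp only [nf, Fin.sum_univ_five, E0] at a2 a3
    simp only [Fin.isValue, Fin.reduceEq, ↓reduceIte, map_one] at a2 a3
    split_ifs at a3 ⊢ <;> push_cast <;> linear_combination a2 / 5 + 4 * a3)
  have ss : ∑ χ ∈ B0 G M, s χ * s χ = 320 := int_sum M (fun χ _ => hs χ) (fun χ _ => hs χ)
    (by simpa using gram 0 0)
  have tt : ∑ χ ∈ B0 G M, t χ * t χ = 16 := int_sum M (fun χ _ => ht χ) (fun χ _ => ht χ)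
    (by rw [← sum_B0, h.four_sum hx h2, px, if_pos (IsConj.refl _)]; norm_num)
  have pz : pp 2 z = z := pp_of_pElt hzP
  have o1 : ∑ χ ∈ B0 G M, χ.1 z * conj (χ.1 x) = 0 :=
    B0_orth (p := 2) M (by rw [px, pz]; exact fun e => h.not_conj h2 hz.2 e.symm)
  have st : ∑ χ ∈ B0 G M, s χ * t χ = 0 := int_sum M (fun χ _ => hs χ) (fun χ _ => ht χ)
    (by rw [o1, Int.cast_zero])
  have sd : ∑ χ ∈ B0 G M, s χ * (deg χ : ℤ) = 0 := int_sum M (k := 1) (fun χ _ => hs χ)
    (fun χ _ => by rw [← deg_eq]; simp) (by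
      rw [B0_orth (p := 2) M (by rwa [pz, pp_of_pElt PElt.one, isConj_one_left]), Int.cast_zero])
  have td : ∑ χ ∈ B0 G M, t χ * (deg χ : ℤ) = 0 := int_sum M (k := 1) (fun χ _ => ht χ)
    (fun χ _ => by rw [← deg_eq]; simp) (by
      rw [B0_orth (p := 2) M (by rw [px, pp_of_pElt PElt.one]; exact h.not_conj h2 (mul_one 1)),
        Int.cast_zero])
  have sn : ∀ χ ∈ B0 G M, ∑ j, n χ j = s χ := fun χ hχ => by
    have : (5 : ℂ) * ∑ j, n χ j = 5 * s χ := by
      rw [Int.cast_sum, Finset.mul_sum, Finset.sum_congr rfl fun j _ => (hn χ hχ j).symm, Finset.sum_comm]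
      have a1 : ∀ i : Fin 5, ∑ j, conj (E j i) = if i = 0 then 5 else 0 := fun i => by
        rw [← orth]
        exact Finset.sum_congr rfl fun j _ => by simp only [E, mul_zero, mul_comm i]; simp
      simp only [← Finset.mul_sum, a1]
      simp [hs, mul_comm]
    exact_mod_cast mul_left_cancel₀ (by norm_num : (5 : ℂ) ≠ 0) this
  obtain ⟨c, hc0, hc⟩ := h.class_rel hfus hz hz1 M
  have qt : ∑ χ ∈ B0 G M, ((t χ * s χ ^ 2 : ℤ) : ℚ) / ((deg χ : ℤ) : ℚ) = 0 := by
    have := hc x ((PElt.of_mem S.isPGroup' hx).dvd_orderOf fun e => h2 (by simp [e]))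
    rw [o1, mul_zero] at this
    simp only [ht, hs, ← deg_eq, map_intCast] at this
    refine Rat.cast_injective (α := ℂ) ?_
    push_cast
    rw [← this]
    exact Finset.sum_congr rfl fun χ _ => by ring
  have qf : ∀ l : Fin 5, ∑ χ ∈ B0 G M, χ.1 (z * g ^ (l : ℕ)) * ((s χ : ℂ) ^ 2 / deg χ) =
      if l = 0 then 320 * (c : ℂ) else 0 := fun l => by
    have a1 := congrArg conj (hc (z * g ^ (l : ℕ)) (by_contra fun e => hz1 (by
      rw [← ppz l, pp_of_reg e])))
    have a2 := gram 0 l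
    simp only [Fin.val_zero, pow_zero, mul_one] at a2
    rw [a2] at a1
    simp only [hs, ← deg_eq, map_sum, map_mul, map_div₀, map_intCast, map_natCast, Complex.conj_conj,
      map_ratCast] at a1
    rw [Finset.sum_congr rfl (g := fun χ => (s χ : ℂ) * s χ / deg χ * χ.1 (z * g ^ (l : ℕ)))
      fun χ _ => by ring, a1]
    rcases eq_or_ne l 0 with rfl | e
    · simp only [if_true, map_ofNat, mul_comm]
    · rw [if_neg e, if_neg e.symm]; simp
  have qs : ∑ χ ∈ B0 G M, ((s χ * s χ ^ 2 : ℤ) : ℚ) / ((deg χ : ℤ) : ℚ) = 320 * c := by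
    have := qf 0
    simp only [Fin.val_zero, pow_zero, mul_one, hs, if_true] at this
    refine Rat.cast_injective (α := ℂ) ?_
    push_cast
    rw [← this]
    exact Finset.sum_congr rfl fun χ _ => by ring
  have qn : ∀ j, ∑ χ ∈ B0 G M, ((n χ j * s χ ^ 2 : ℤ) : ℚ) / ((deg χ : ℤ) : ℚ) = 64 * c := fun j => by
    have := pair (fun χ => (s χ : ℂ) ^ 2 / deg χ) j
    simp only [qf, mul_ite, mul_zero, Finset.sum_ite_eq', Finset.mem_univ, if_true, E0] at this
    refine Rat.cast_injective (α := ℂ) ?_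
    push_cast
    simp only [mul_div_assoc]
    rw [map_one] at this
    linear_combination this / 5
  obtain ⟨k, hk1, hk2, hk3⟩ := Nat.forall_exists_prime_gt_and_modEq (Nat.card G + 2) (q := 5) (a := 2)
    (by norm_num) (by norm_num)
  have hk : k.Coprime (Nat.card G) := (Nat.Prime.coprime_iff_not_dvd hk2).mpr fun e =>
    absurd (Nat.le_of_dvd Nat.card_pos e) (by omega)
  have hko : Odd k := hk2.odd_of_ne_two (by omega)
  have gs : ∀ χ, s (gal hk χ) = s χ := fun χ => by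
    have := hs (gal hk χ)
    have e := zpow k hko 0
    simp only [pow_zero, mul_one, zero_mul] at e
    rw [gal_apply, e, hs] at this
    exact_mod_cast this.symm
  have gt : ∀ χ, t (gal hk χ) = t χ := fun χ => by
    have := ht (gal hk χ)
    rw [gal_apply, ← χ.2.classFun.apply_of_isConj (cj _ (pow_mem hx k) fun e => h2 ?_), ht] at this
    · exact_mod_cast this.symm
    obtain ⟨l, rfl⟩ := hko
    rw [← pow_add, show 2 * l + 1 + (2 * l + 1) = 2 * (2 * l) + 2 by ring, pow_add, pow_mul, pow_mul,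
      sq, sq, h.sq_sq hx, one_pow, one_mul] at e
    exact e
  have gn : ∀ j, ∀ χ ∈ B0 G M, n (gal hk χ) (2 * j) = n χ j := fun j χ hχ => by
    have a1 := hn _ ((gal_mem (p := 2) M hk χ).1 hχ) (2 * j)
    have a2 : ∀ i : Fin 5, (gal hk χ).1 (z * g ^ (i : ℕ)) * conj (E (2 * j) i) =
        χ.1 (z * g ^ ((2 * i : Fin 5) : ℕ)) * conj (E j (2 * i)) := fun i => by
      rw [gal_apply, zpow k hko, per' χ hχ, Fin.val_mul, Nat.mul_mod, show k % 5 = 2 % 5 from hk3]
      simp only [E, show ∀ i j : Fin 5, i * (2 * j) = 2 * i * j by decide]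
      congr 4
      simp [mul_comm]
    rw [Finset.sum_congr rfl fun i _ => a2 i, Function.Bijective.sum_comp
      (by decide : Function.Bijective fun i : Fin 5 => 2 * i)
      (fun i => χ.1 (z * g ^ (i : ℕ)) * conj (E j i)), hn χ hχ] at a1
    exact_mod_cast (mul_left_cancel₀ (by norm_num : (5 : ℂ) ≠ 0) a1).symm
  have one : ∀ {g : G} {n : ℤ}, (irrOne G).1 g = n → n = 1 := fun e => by
    rw [irrOne_apply] at e; exact_mod_cast e.symm
  refine num15 (B0 G M) _ (one_mem_B0 M) (fun j χ => (s χ - t χ) / 4 - n χ j) s t (fun χ => deg χ)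
    (gal hk) (gal_mem (p := 2) M hk) rfl (fun j χ hχ => by simp only [gs, gt, gn j χ hχ])
    (fun χ _ => gt χ) (fun χ _ => ?_) (fun χ hχ => ?_) (fun j => ?_) (one (ht _)) (by simp [deg_irrOne])
    (fun χ hχ e => ?_) (fun χ h1 h2 => hK χ h1 h2 _ (hs χ)) (fun χ _ => c64 χ) (fun j k => ?_)
    (fun j => ?_) tt (fun j => ?_) td (16 * c) (by positivity) (fun j => ?_) qt
  · have : (deg (gal hk χ) : ℂ) = deg χ := by rw [deg_eq, deg_eq, gal_apply, one_pow]
    exact_mod_cast this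
  · rw [Finset.sum_sub_distrib, sn χ hχ, Finset.sum_const, Finset.card_univ, Fintype.card_fin]
    have := hm χ
    simp only [nsmul_eq_mul, Nat.cast_ofNat]
    omega
  · have a1 := hn _ (one_mem_B0 M) j
    have a2 := orth j 0
    simp only [irrOne_apply, one_mul] at a1
    simp only [E, mul_zero, Fin.val_zero, pow_zero, mul_one] at a2
    rw [a2] at a1
    rw [one (hs _), one (ht _)]
    split_ifs at a1 ⊢
    · have : n (irrOne G) j = 1 := by
        exact_mod_cast mul_left_cancel₀ (by norm_num : (5 : ℂ) ≠ 0) (a1.symm.trans (mul_one _).symm)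
      simp [this]
    · have : n (irrOne G) j = 0 := by simpa using a1
      simp [this]
  · refine ((mem_B0 M).1 hχ).ne_zero_of_index (not_dvd_index_of_sylow_le S (h.le_C hz)) ?_
    rw [cls_apply, centralChar, hs, e]
    simp
  · have : ∑ χ ∈ B0 G M, 16 * (((s χ - t χ) / 4 - n χ j) * ((s χ - t χ) / 4 - n χ k)) =
        ∑ χ ∈ B0 G M, (s χ * s χ + t χ * t χ - 2 * (s χ * t χ) - 4 * (n χ j * s χ) + 4 * (n χ j * t χ)
          - 4 * (n χ k * s χ) + 4 * (n χ k * t χ) + 16 * (n χ j * n χ k)) :=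
      Finset.sum_congr rfl fun χ _ => by
        linear_combination (4 * n χ j + 4 * n χ k - (s χ - t χ) - 4 * ((s χ - t χ) / 4)) * hm χ
    simp only [Finset.sum_add_distrib, Finset.sum_sub_distrib, ← Finset.mul_sum, ss, tt, st, ns, nt,
      nn] at this
    split_ifs at this ⊢ <;> omega
  · have : ∑ χ ∈ B0 G M, 4 * (((s χ - t χ) / 4 - n χ j) * t χ) =
        ∑ χ ∈ B0 G M, (s χ * t χ - t χ * t χ - 4 * (n χ j * t χ)) :=
      Finset.sum_congr rfl fun χ _ => by linear_combination (-t χ) * hm χ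
    simp only [Finset.sum_sub_distrib, ← Finset.mul_sum, tt, st, nt] at this
    omega
  · have : ∑ χ ∈ B0 G M, 4 * (((s χ - t χ) / 4 - n χ j) * (deg χ : ℤ)) =
        ∑ χ ∈ B0 G M, (s χ * deg χ - t χ * deg χ - 4 * (n χ j * deg χ)) :=
      Finset.sum_congr rfl fun χ _ => by linear_combination (-(deg χ : ℤ)) * hm χ
    simp only [Finset.sum_sub_distrib, ← Finset.mul_sum, sd, td, nd] at this
    omega
  · have : ∑ χ ∈ B0 G M, 4 * (((((s χ - t χ) / 4 - n χ j) * s χ ^ 2 : ℤ) : ℚ) / ((deg χ : ℤ) : ℚ)) =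
        ∑ χ ∈ B0 G M, (((s χ * s χ ^ 2 : ℤ) : ℚ) / ((deg χ : ℤ) : ℚ) -
          ((t χ * s χ ^ 2 : ℤ) : ℚ) / ((deg χ : ℤ) : ℚ) -
          4 * (((n χ j * s χ ^ 2 : ℤ) : ℚ) / ((deg χ : ℤ) : ℚ))) :=
      Finset.sum_congr rfl fun χ _ => by
        have : ((s χ - t χ : ℤ) : ℚ) = (4 * ((s χ - t χ) / 4) : ℤ) := by rw [← hm]
        generalize (s χ - t χ) / 4 = m at *
        push_cast at this ⊢
        linear_combination (-(s χ : ℚ) ^ 2 / deg χ) * this
    simp only [Finset.sum_sub_distrib, ← Finset.mul_sum, qs, qt, qn] at this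
    linarith

omit [PM 2 M] in
theorem centralizer_le_normalizer [IsSimpleGroup G] :
    centralizer ({z} : Set G) ≤ normalizer (h.V : Set G) := by
  obtain ⟨M, hM⟩ := exists_PM 2
  have key : ∀ y ∈ pPrimeCore 2 (centralizer ({z} : Set G)), ∀ v ∈ h.V, Commute v y := by
    intro y hy v hv
    by_contra hvy
    have hK := fun χ a b s c => h.deg_bound hz hz1 M hv hy hvy (χ := χ) a b (s := s) c
    refine h.case_three hfus hz hz1 M hK fun g a b c => by_contra fun d => ?_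
    obtain ⟨k, hk⟩ := h.exists_five a b c d
    exact h.case_fifteen hfus hz hz1 M hK hk
  intro g hg
  obtain ⟨o, ho, hn⟩ := (h.usC hz).frattini (h.coreC hz hz1) ⟨g, hg⟩
  have h1 := h.mem_nV ((h.mem_normalizer_C hz).1 hn)
  have h2 : (o : G) ∈ normalizer (h.V : Set G) :=
    Subgroup.centralizer_le_normalizer _ fun v hv => (key o ho v hv).eq
  simpa using mul_mem (inv_mem h2) h1

end US

end H17.Ly

namespace H17

/-- Lyons' theorem (core form). -/
theorem lyons {G : Type*} [Group G] [Finite G] [IsSimpleGroup G] (S : Sylow 2 G) (A : Subgroup G)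
    (hA : IsKleinFour A) (hAS : A ≤ S) (hc : (S : Subgroup G) ≤ centralizer (A : Set G))
    (hΩ : ∀ x ∈ (S : Subgroup G), x * x = 1 → x ∈ A) (hna : ¬ IsMulCommutative S)
    (hfus : ∀ a b : G, orderOf a = 2 → orderOf b = 2 → IsConj a b) {a : G} (ha : a ∈ A)
    (h1 : a ≠ 1) : centralizer ({a} : Set G) ≤ normalizer (A : Set G) := by
  have hsq : ∀ x ∈ A, x * x = 1 := fun x hx => H22.kleinFour_mul_self hA hx
  have hcent : ∀ v ∈ (S : Subgroup G), v * v = 1 → ∀ x ∈ (S : Subgroup G), x * v = v * x :=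
    fun v hv h2 x hx => (hc hx v (hΩ v hv h2)).symm
  have hR : H22.Rk2 (S : Subgroup G) := ⟨S.isPGroup', fun x hx g =>
    Subtype.ext (hcent x x.2 (congrArg Subtype.val hx) g g.2), by
      rw [← hA.card_four]
      exact Nat.card_congr ⟨fun x => ⟨x.1, hΩ _ x.1.2 (congrArg Subtype.val x.2)⟩,
        fun x => ⟨⟨x, hAS x.2⟩, Subtype.ext (hsq x x.2)⟩, fun _ => rfl, fun _ => rfl⟩⟩
  obtain ⟨b, hb, hb1, hab⟩ : ∃ b ∈ A, b ≠ 1 ∧ a ≠ b := by
    by_contra hcon
    push Not at hcon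
    have : Nat.card A ≤ ({1, a} : Set G).ncard :=
      Set.ncard_le_ncard (s := (A : Set G)) (fun v hv => (em _).imp id fun e => (hcon v hv e).symm)
        (Set.toFinite _)
    have h2 := Set.ncard_insert_le (1 : G) {a}
    rw [hA.card_four] at this
    rw [Set.ncard_singleton] at h2
    omega
  obtain ⟨ν, hν, -, hf⟩ := Ly.exists_nu S hcent (fun {a b c} ha hb hc a2 b2 c2 a1 b1 ab => by
    simpa only [Subtype.ext_iff, OneMemClass.coe_one, MulMemClass.coe_mul] using hR.cases (a := ⟨a, ha⟩) (b := ⟨b, hb⟩) (c := ⟨c, hc⟩)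
      (Subtype.ext a2) (Subtype.ext b2) (Subtype.ext c2) (fun e => a1 (congrArg Subtype.val e))
      (fun e => b1 (congrArg Subtype.val e)) fun e => ab (congrArg Subtype.val e))
    (hAS ha) (hAS hb) (hsq a ha) (hsq b hb) hab (hfus _ _ (H22.orderOf_eq_two_of_mul_self (hsq a ha) h1)
      (H22.orderOf_eq_two_of_mul_self (hsq b hb) hb1))
  let α : MulAut (S : Subgroup G) := (S : Subgroup G).normalizerMonoidHom ⟨ν, hν⟩
  have hf' : ∀ v : (S : Subgroup G), v * v = 1 → α v = v → v = 1 := fun v h1 h2 =>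
    Subtype.ext (hf v v.2 (congrArg Subtype.val h1) (congrArg Subtype.val h2))
  rcases hR.homocyclic_or_u34 α fun s t s2 s1 t2 t1 => by
    rcases hR.cases s2 (by rw [← map_mul, s2, map_one]) t2 s1 (by simpa using s1)
      (fun e => s1 (hf' s s2 e.symm)) with e | e | e | e
    · exact absurd e t1
    · exact ⟨0, e.symm⟩
    · exact ⟨1, e.symm⟩
    · exact ⟨2, by rw [e, ← (hR.cube_fix hf' s2).2 s1]; rfl⟩ with ⟨n, -, ⟨e⟩⟩ | ⟨β, hβ⟩
  · exact absurd ⟨⟨fun x y => e.injective (by rw [map_mul, map_mul, mul_comm])⟩⟩ hna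
  have h := Ly.us_of_u34 hβ
  have hV : h.V = A := le_antisymm (fun v hv => hΩ v hv.1 hv.2) fun v hv => ⟨hAS hv, hsq v hv⟩
  exact hV ▸ h.centralizer_le_normalizer hfus (hV ▸ ha) h1

end H17
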