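import Mathlib

/-! Arithmetic for the twisted Janko–Thompson–Ward argument. -/

set_option autoImplicit false

namespace H17.JB

/-- the polynomial of case D -/
def PD (q j : ℤ) : ℤ :=
  (j * (q ^ 2 + 2 * q - 1 - j) - q ^ 2 * (2 * q - 7)) *
    (q ^ 2 * (q + 1 + j) + j * (j - q + 1) * (q ^ 2 - 1 - j)) -
    4 * q ^ 2 * (j * (j - q + 1) * (q ^ 2 - 1 - j))

theorem PD_a {e f : ℤ} (he : 0 ≤ e) (hf : 0 ≤ f) : 0 < -PD (27 + f) (1 - e) := by
  unfold PD; ring_nf; positivity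
theorem PD_b {e f : ℤ} (he : 0 ≤ e) (hf : 0 ≤ f) : 0 < PD (5 + e + f) (2 + e) := by
  unfold PD; ring_nf; positivity
theorem PD_c {e f : ℤ} (he : 0 ≤ e) (hf : 0 ≤ f) : 0 < -PD (e + f + 14) (2 * e + f + 12) := by
  unfold PD; ring_nf; positivity
theorem PD_c' {e f : ℤ} (he : 0 ≤ e) (hf : 0 ≤ f) : 0 < -PD (e + f + 14) (2 * e + f + 24) := by
  unfold PD; ring_nf; positivity
theorem PD_e {f : ℤ} (hf : 0 ≤ f) : 0 < PD (27 + f) ((27 + f) ^ 2) := by
  unfold PD; ring_nf; positivity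
theorem PD_e' {f : ℤ} (hf : 0 ≤ f) : 0 < PD (27 + f) ((27 + f) ^ 2 + 1) := by
  unfold PD; ring_nf; positivity
theorem PD_e'' {e f : ℤ} (he : 0 ≤ e) (hf : 0 ≤ f) : 0 < PD (27 + f) ((27 + f) ^ 2 + 2 + e) := by
  unfold PD; ring_nf; positivity

theorem PD_d {q j : ℤ} (hq : 27 ≤ q) (h1 : 2 * q - 3 ≤ j) (h2 : j ≤ q ^ 2 - 1) : 0 < PD q j := by
  have e : PD q j = (2 * (2 * q - 3) + (j - (2 * q - 3)) * (3 + (q ^ 2 - 1 - j))) *
      (q ^ 2 * (q + 1 + j) + j * (j - q + 1) * (q ^ 2 - 1 - j)) + 4 * q ^ 4 * (q + 1 + j) := by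
    unfold PD; ring
  have a1 : 0 ≤ j - (2 * q - 3) := by omega
  have a2 : 0 ≤ q ^ 2 - 1 - j := by omega
  have a3 : 0 ≤ 2 * q - 3 := by omega
  have a4 : 0 < q + 1 + j := by omega
  have a5 : 0 ≤ j := by omega
  have a6 : 0 ≤ j - q + 1 := by omega
  have a7 : 0 < q := by omega
  rw [e]; positivity

theorem PD_ne {q : ℤ} (hq : 27 ≤ q) (j : ℤ) : PD q j ≠ 0 := by
  intro h
  by_cases h1 : j ≤ 1
  · have := PD_a (e := 1 - j) (f := q - 27) (by omega) (by omega)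
    rw [show 27 + (q - 27) = q by ring, show 1 - (1 - j) = j by ring, h] at this
    simp at this
  by_cases h2 : j ≤ q - 3
  · have := PD_b (e := j - 2) (f := q - 3 - j) (by omega) (by omega)
    rw [show 5 + (j - 2) + (q - 3 - j) = q by ring, show 2 + (j - 2) = j by ring, h] at this
    simp at this
  by_cases h3 : j ≤ 2 * q - 16
  · have := PD_c (e := j - q + 2) (f := 2 * q - 16 - j) (by omega) (by omega)
    rw [show j - q + 2 + (2 * q - 16 - j) + 14 = q by ring,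
      show 2 * (j - q + 2) + (2 * q - 16 - j) + 12 = j by ring, h] at this
    simp at this
  by_cases h4 : j ≤ 2 * q - 4
  · have := PD_c' (e := j - q - 10) (f := 2 * q - 4 - j) (by omega) (by omega)
    rw [show j - q - 10 + (2 * q - 4 - j) + 14 = q by ring,
      show 2 * (j - q - 10) + (2 * q - 4 - j) + 24 = j by ring, h] at this
    simp at this
  by_cases h5 : j ≤ q ^ 2 - 1
  · exact (PD_d hq (by omega) h5).ne' h
  obtain ⟨f, rfl⟩ : ∃ f, q = 27 + f := ⟨q - 27, by ring⟩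
  have hf : 0 ≤ f := by omega
  by_cases h6 : j = (27 + f) ^ 2
  · exact (PD_e hf).ne' (h6 ▸ h)
  by_cases h7 : j = (27 + f) ^ 2 + 1
  · exact (PD_e' hf).ne' (h7 ▸ h)
  have := PD_e'' (e := j - (27 + f) ^ 2 - 2) (f := f) (by omega) hf
  rw [show (27 + f) ^ 2 + 2 + (j - (27 + f) ^ 2 - 2) = j by ring, h] at this
  simp at this

theorem caseA {q M x y : ℤ} (hM : M = q ^ 2 - q + 1) (hq : 27 ≤ q) (h8 : q % 8 = 3)
    (hx : x ≠ 0) (hy : y ≠ 0) (x1 : x ≠ 1) (x8 : (8 : ℤ) ∣ x - 1) (E : x + y = (q + 1) * M)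
    (F : 1 / (x : ℂ) + (q : ℂ) ^ 2 / y = (q + 1) / q) : False := by
  have hq0 : (q : ℂ) ≠ 0 := by exact_mod_cast (by omega : q ≠ 0)
  have hx0 : (x : ℂ) ≠ 0 := by exact_mod_cast hx
  have hy0 : (y : ℂ) ≠ 0 := by exact_mod_cast hy
  field_simp at F
  have F' : q * (y + x * q ^ 2) = x * y * (q + 1) := by exact_mod_cast F
  have hy' : y = (q + 1) * M - x := by omega
  have : (q + 1) * ((x - 1) * (x - q * M)) = 0 := by
    rw [hy', hM] at F'; rw [hM]; linear_combination F'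
  rcases mul_eq_zero.mp this with k | k
  · omega
  rcases mul_eq_zero.mp k with k | k
  · omega
  obtain ⟨c, rfl⟩ : ∃ c, q = 8 * c + 3 := ⟨q / 8, by omega⟩
  have : x - 1 = 8 * (64 * c ^ 3 + 64 * c ^ 2 + 22 * c + 2) + 4 := by
    rw [sub_eq_zero.mp k, hM]; ring
  omega

theorem caseB {q M c x y : ℤ} (hM : M = q ^ 2 - q + 1) (hq : 27 ≤ q) (h8 : q % 8 = 3)
    (hc : 2 * c = q + 1) (hx : x ≠ 0) (hy : y ≠ 0) (E : x + y = (q + 1) * M)
    (F : (c : ℂ) ^ 2 / x + (c : ℂ) ^ 2 / y = (q + 1) / q) : False := by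
  have hq0 : (q : ℂ) ≠ 0 := by exact_mod_cast (by omega : q ≠ 0)
  have hx0 : (x : ℂ) ≠ 0 := by exact_mod_cast hx
  have hy0 : (y : ℂ) ≠ 0 := by exact_mod_cast hy
  field_simp at F
  have F' : c ^ 2 * (y + x) * q = x * y * (q + 1) := by exact_mod_cast F
  have h1 : x * y = c ^ 2 * M * q := by
    apply mul_left_cancel₀ (by omega : q + 1 ≠ 0)
    linear_combination -F' + c ^ 2 * q * E
  have h2 : (x - y) ^ 2 = (q ^ 2 - 1) ^ 2 * M := by
    have : (x - y) ^ 2 = (x + y) ^ 2 - 4 * (x * y) := by ring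
    rw [this, E, h1]
    have : 4 * (c ^ 2 * M * q) = (q + 1) ^ 2 * M * q := by rw [← hc]; ring
    rw [this, hM]; ring
  obtain ⟨e, he⟩ : q ^ 2 - 1 ∣ x - y :=
    (Int.pow_dvd_pow_iff two_ne_zero).mp (h2 ▸ dvd_mul_right _ _)
  have h0 : q ^ 2 - 1 ≠ 0 := by nlinarith
  have h3 : e ^ 2 = M := by
    apply mul_left_cancel₀ (pow_ne_zero 2 h0)
    rw [← h2, he]; ring
  obtain ⟨k, rfl⟩ : ∃ k, q = 8 * k + 3 := ⟨q / 8, by omega⟩
  have h4 : e ^ 2 = 4 * (16 * k ^ 2 + 10 * k + 1) + 3 := by rw [h3, hM]; ring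
  rcases Int.even_or_odd' e with ⟨m, rfl | rfl⟩
  · have : (2 * m) ^ 2 = 4 * m ^ 2 := by ring
    omega
  · have : (2 * m + 1) ^ 2 = 4 * (m ^ 2 + m) + 1 := by ring
    omega

theorem inv_le_ninth {z : ℤ} (z1 : z ≠ 1) (z8 : (8 : ℤ) ∣ z - 1) : 1 / (z : ℝ) ≤ 1 / 9 := by
  rcases (by omega : 9 ≤ z ∨ z ≤ -7) with h | h
  · exact one_div_le_one_div_of_le (by norm_num) (by exact_mod_cast h)
  · have : (z : ℝ) < 0 := by exact_mod_cast (by omega : z < 0)
    exact (one_div_neg.mpr this).le.trans (by norm_num)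

theorem dvd_of_sq_aux {b z M w : ℤ} (hb : b ≠ 0) (hbM : IsCoprime b M)
    (h : ∀ d b' z' : ℤ, d ≠ 0 → b = d * b' → z = d * z' → b' ∣ z' ^ 2 * M) (_ : w = w) : b ∣ z := by
  obtain ⟨d, b', z', hd, hc, rfl, rfl⟩ := Int.exists_gcd_one' (Int.gcd_pos_of_ne_zero_left z hb)
  have h1 := h d b' z' (by exact_mod_cast hd.ne') (mul_comm _ _) (mul_comm _ _)
  have hc' : IsCoprime b' z' := Int.isCoprime_iff_gcd_eq_one.mpr hc
  have hu : IsUnit b' := isUnit_of_dvd_one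
    ((hc'.pow_right.mul_right hbM.of_mul_left_left).dvd_of_dvd_mul_right (by simpa using h1))
  exact mul_dvd_mul hu.dvd dvd_rfl

theorem three_core {n : ℕ} {y z c e : ℤ} (hy : 0 < y) (hz : 0 < z) (hy' : y < 3 ^ n)
    (hz' : z < 3 ^ n) (hc : ¬ (3 : ℤ) ∣ c) (h : c * (y * z) = 3 ^ n * e * (y + z)) : False := by
  obtain ⟨d, y', z', hd, hg, rfl, rfl⟩ := Int.exists_gcd_one' (Int.gcd_pos_of_ne_zero_left z hy.ne')
  have hd0 : (d : ℤ) ≠ 0 := by exact_mod_cast hd.ne'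
  have h1 : c * (y' * z' * d) = 3 ^ n * e * (y' + z') := by
    apply mul_left_cancel₀ hd0; linear_combination h
  have p3 : Prime (3 : ℤ) := Int.prime_three
  have co : ∀ a : ℤ, ¬ (3 : ℤ) ∣ a → IsCoprime ((3 : ℤ) ^ n) a := fun a ha =>
    ((p3.coprime_iff_not_dvd).mpr ha).pow_left
  have h2 : (3 : ℤ) ^ n ∣ y' * z' * d := (co c hc).dvd_of_dvd_mul_left
    (by rw [h1, mul_assoc]; exact dvd_mul_right _ _)
  by_cases k : (3 : ℤ) ∣ y'
  · have k' : ¬ (3 : ℤ) ∣ z' := fun k' => by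
      have := Int.dvd_coe_gcd k k'
      rw [hg] at this; norm_num at this
    have := (co z' k').dvd_of_dvd_mul_left (by rwa [show y' * z' * d = z' * (y' * d) by ring] at h2)
    exact absurd (Int.le_of_dvd hy this) (not_le.mpr hy')
  · have := (co y' k).dvd_of_dvd_mul_left (by rwa [mul_assoc] at h2)
    exact absurd (Int.le_of_dvd hz this) (not_le.mpr hz')

theorem caseC {n : ℕ} {q b M z x w y₄ z₄ : ℤ} (hn : q = 3 ^ n) (hb : q = 2 * b + 1)
    (hM : M = q ^ 2 - q + 1) (hq : 27 ≤ q) (hz : z ≠ 0) (hx : x ≠ 0) (hw : w ≠ 0) (hy₄ : y₄ ≠ 0)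
    (hz₄ : z₄ ≠ 0) (z1 : z ≠ 1) (x1 : x ≠ 1) (z8 : (8 : ℤ) ∣ z - 1) (x8 : (8 : ℤ) ∣ x - 1)
    (E₂ : z + x + b * M + w = 0) (E₄ : z + x + y₄ + z₄ = 0)
    (F₂ : 1 / (z : ℂ) + 1 / x + (b : ℂ) ^ 2 / w = b * (4 * b - 5) / M)
    (F₄ : 1 / (z : ℂ) + 1 / x + (q : ℂ) ^ 2 / y₄ + (q : ℂ) ^ 2 / z₄ =
      4 * b ^ 2 * (q + 1) / (q * M)) : False := by
  have hb0 : 13 ≤ b := by omega
  have hM' : M = 4 * b ^ 2 + 2 * b + 1 := by rw [hM, hb]; ring
  have hMp : 0 < M := by rw [hM']; positivity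
  have R₂ : 1 / (z : ℝ) + 1 / x + (b : ℝ) ^ 2 / w = b * (4 * b - 5) / M := by exact_mod_cast F₂
  have R₄ : 1 / (z : ℝ) + 1 / x + (q : ℝ) ^ 2 / y₄ + (q : ℝ) ^ 2 / z₄ =
      4 * b ^ 2 * (q + 1) / (q * M) := by exact_mod_cast F₄
  have hz0 : (z : ℝ) ≠ 0 := by exact_mod_cast hz
  have hx0 : (x : ℝ) ≠ 0 := by exact_mod_cast hx
  have hw0 : (w : ℝ) ≠ 0 := by exact_mod_cast hw
  have hy0 : (y₄ : ℝ) ≠ 0 := by exact_mod_cast hy₄
  have hz40 : (z₄ : ℝ) ≠ 0 := by exact_mod_cast hz₄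
  have hM0 : (0 : ℝ) < M := by exact_mod_cast hMp
  have hq0 : (0 : ℝ) < q := by exact_mod_cast (by omega : 0 < q)
  have hbR : (13 : ℝ) ≤ b := by exact_mod_cast hb0
  have I₂ : (x + z) * w * M = z * x * b * ((4 * b - 5) * w - b * M) := by
    have := R₂
    field_simp at this
    have : ((x + z) * w * M : ℝ) = z * x * b * ((4 * b - 5) * w - b * M) := by
      linear_combination this
    exact_mod_cast this
  obtain ⟨k, rfl⟩ : b ∣ w := by
    refine dvd_of_sq_aux (M := M) (w := 0) (by omega) ⟨-(4 * b + 2), 1, by rw [hM']; ring⟩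
      (fun d b' z' hd e1 e2 => ?_) rfl
    have e3 : x + z = -(d * (b' * M + z')) := by rw [e1, e2] at E₂; linear_combination E₂
    rw [e3, e2] at I₂
    have : z' ^ 2 * M = b' * (-(M * z' * M) - z * x * ((4 * b - 5) * z' - b' * M)) := by
      apply mul_left_cancel₀ (mul_ne_zero hd hd)
      rw [e1] at I₂ ⊢
      linear_combination -I₂
    exact ⟨_, this⟩
  have hb' : (b : ℝ) ≠ 0 := by positivity
  have hk0 : (k : ℝ) ≠ 0 := fun e => hw0 (by simp [e])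
  have hbk : 1 / 2 < (b : ℝ) / k := by
    have h1 := inv_le_ninth z1 z8
    have h2 := inv_le_ninth x1 x8
    have h3 : (13 : ℝ) / 18 < b * (4 * b - 5) / M := by
      rw [lt_div_iff₀ hM0, hM']; push_cast; nlinarith
    have h4 : (b : ℝ) ^ 2 / ((b * k : ℤ) : ℝ) = b / k := by push_cast; field_simp
    rw [h4] at R₂
    linarith
  have hkp : (0 : ℝ) < k := by
    by_contra h
    have : (b : ℝ) / k ≤ 0 := div_nonpos_of_nonneg_of_nonpos (by linarith) (not_lt.mp h)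
    linarith
  have hk : 0 < k := by exact_mod_cast hkp
  have hkq : k < q := by
    rw [lt_div_iff₀ hkp] at hbk
    have : (k : ℝ) < 2 * b := by linarith
    have : k < 2 * b := by exact_mod_cast this
    omega
  have S : y₄ + z₄ = b * (M + k) := by linear_combination E₄ - E₂
  have I₄ : y₄ * z₄ * (q * M + (7 * q - 2) * k) = q ^ 3 * M * k * (M + k) := by
    have h1 : (q : ℝ) ^ 2 / y₄ + (q : ℝ) ^ 2 / z₄ =
        4 * b ^ 2 * (q + 1) / (q * M) - b * (4 * b - 5) / M + b / k := by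
      have h4 : (b : ℝ) ^ 2 / ((b * k : ℤ) : ℝ) = b / k := by push_cast; field_simp
      rw [h4] at R₂
      linarith
    have S' : (y₄ + z₄ : ℝ) = b * (M + k) := by exact_mod_cast S
    have hb2 : (q : ℝ) = 2 * b + 1 := by exact_mod_cast hb
    field_simp at h1
    have : (y₄ * z₄ * (q * M + (7 * q - 2) * k) : ℝ) = q ^ 3 * M * k * (M + k) := by
      apply mul_left_cancel₀ hb'
      linear_combination -h1 + (q : ℝ) ^ 3 * M * k * S' + (2 * y₄ * z₄ * b * k) * hb2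
    exact_mod_cast this
  have hP : 0 < y₄ * z₄ := by
    have h1 : 0 < q * M + (7 * q - 2) * k := by
      have : 0 < 7 * q - 2 := by omega
      have : 0 < q := by omega
      positivity
    have h2 : 0 < q ^ 3 * M * k * (M + k) := by
      have : 0 < q := by omega
      positivity
    rw [← I₄] at h2
    exact (pos_iff_pos_of_mul_pos h2).mpr h1
  have hS : 0 < y₄ + z₄ := by rw [S]; positivity
  have hS' : y₄ + z₄ < q ^ 3 := by
    rw [S, hM', hb]; nlinarith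
  have hy : 0 < y₄ := by nlinarith
  have hz' : 0 < z₄ := by nlinarith
  obtain ⟨j, k', hk', e⟩ := Nat.exists_eq_pow_mul_and_not_dvd (n := k.toNat) (by omega) 3 (by norm_num)
  have e' : k = 3 ^ j * k' := by
    have : (k.toNat : ℤ) = k := Int.toNat_of_nonneg hk.le
    rw [← this, e]; push_cast; ring
  have hj : j < n := by
    have hk1 : 1 ≤ k' := Nat.pos_of_ne_zero (by rintro rfl; simp at hk')
    have h1 : (3 : ℤ) ^ j ≤ k := by
      rw [e']; exact le_mul_of_one_le_right (by positivity) (by exact_mod_cast hk1)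
    exact (pow_lt_pow_iff_right₀ (by norm_num : (1 : ℤ) < 3)).mp (by omega)
  obtain ⟨i, rfl⟩ := Nat.exists_eq_add_of_lt hj
  have hq3 : q = 3 * (3 ^ j * 3 ^ i) := by rw [hn]; ring
  have k3 : ¬ (3 : ℤ) ∣ k' := by exact_mod_cast hk'
  refine three_core (n := 3 * (j + i + 1)) (c := b * (3 ^ (i + 1) * M + (7 * q - 2) * k'))
    (e := M * k') hy hz' (by rw [mul_comm, pow_mul, ← hn]; omega)
    (by rw [mul_comm, pow_mul, ← hn]; omega) ?_ ?_
  · intro h3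
    rcases Int.prime_three.dvd_or_dvd h3 with h3 | h3
    · omega
    · have : (7 * q - 2) * k' = 3 * (7 * (3 ^ j * 3 ^ i) * k' - k') + k' := by rw [hq3]; ring
      rw [this, pow_succ] at h3
      refine k3 ?_
      have h4 : (3 : ℤ) ∣ 3 ^ i * 3 * M + 3 * (7 * (3 ^ j * 3 ^ i) * k' - k') :=
        dvd_add ((dvd_mul_left _ _).mul_right _) (dvd_mul_right _ _)
      have := dvd_sub h3 h4
      simpa using this
  · rw [mul_comm 3, pow_mul, ← hn, S]
    apply mul_left_cancel₀ (by positivity : (3 : ℤ) ^ j ≠ 0)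
    have : 3 ^ j * 3 ^ (i + 1) = q := by rw [hn]; ring
    rw [e'] at I₄
    rw [e']
    linear_combination b * I₄ + b * y₄ * z₄ * M * this

theorem caseD {q b c M N z x α y : ℤ} (hb : q = 2 * b + 1) (hc : c = b + 1)
    (hM : M = q ^ 2 - q + 1) (hN : N = q ^ 2 * M) (hq : 27 ≤ q) (hz : z ≠ 0) (hx : x ≠ 0)
    (hα : α ≠ 0) (hy : y ≠ 0) (i₁ : z ∣ N) (i₂ : α ∣ N * c)
    (E₂ : z + x + α + b * M = 0) (E₄ : z + α + α + y = 0)
    (F₂ : 1 / (z : ℂ) + (2 * b : ℂ) ^ 2 / x + (c : ℂ) ^ 2 / α = b * (4 * b - 5) / M)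
    (F₄ : 1 / (z : ℂ) + (c : ℂ) ^ 2 / α + (c : ℂ) ^ 2 / α + (q : ℂ) ^ 2 / y =
      4 * b ^ 2 * (q + 1) / (q * M)) : False := by
  obtain ⟨ζ, hζ⟩ := i₁
  obtain ⟨τ, hτ⟩ := i₂
  have hMp : 0 < M := by rw [hM]; nlinarith
  have hN0 : N ≠ 0 := by
    have : 0 < q := by omega
    rw [hN]; positivity
  have hζ0 : ζ ≠ 0 := by rintro rfl; simp [hN0] at hζ
  have hτ0 : τ ≠ 0 := by
    rintro rfl
    simp only [mul_zero, mul_eq_zero, hN0, false_or] at hτ
    omega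
  have z0 : (z : ℂ) ≠ 0 := by exact_mod_cast hz
  have x0 : (x : ℂ) ≠ 0 := by exact_mod_cast hx
  have α0 : (α : ℂ) ≠ 0 := by exact_mod_cast hα
  have y0 : (y : ℂ) ≠ 0 := by exact_mod_cast hy
  have q0 : (q : ℂ) ≠ 0 := by exact_mod_cast (by omega : q ≠ 0)
  have M0 : (M : ℂ) ≠ 0 := by exact_mod_cast hMp.ne'
  have N0 : (N : ℂ) ≠ 0 := by exact_mod_cast hN0
  have e1 : 1 / (z : ℂ) = ζ / N := by
    rw [div_eq_div_iff z0 N0, hζ]; push_cast; ring
  have e2 : (c : ℂ) ^ 2 / α = c * τ / N := by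
    rw [div_eq_div_iff α0 N0]
    have : (N * c : ℂ) = α * τ := by exact_mod_cast hτ
    linear_combination c * this
  have hNc : (N : ℂ) = q ^ 2 * M := by exact_mod_cast hN
  rw [e1, e2, hNc] at F₂ F₄
  field_simp at F₂ F₄
  have G₂ : (ζ + c * τ - q ^ 2 * b * (4 * b - 5)) * x + 4 * b ^ 2 * N = 0 := by
    have : ((ζ + c * τ - q ^ 2 * b * (4 * b - 5)) * x + 4 * b ^ 2 * N : ℂ) = 0 := by
      rw [hNc]; linear_combination F₂
    exact_mod_cast this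
  have G₄ : (ζ + 2 * c * τ - 4 * b ^ 2 * q * (q + 1)) * y + q ^ 2 * N = 0 := by
    have : ((ζ + 2 * c * τ - 4 * b ^ 2 * q * (q + 1)) * y + q ^ 2 * N : ℂ) = 0 := by
      rw [hNc]; linear_combination F₄
    exact_mod_cast this
  have Y : y * (ζ * τ) = -N * (τ + 2 * c * ζ) := by
    linear_combination (ζ * τ) * E₄ + τ * hζ + 2 * ζ * hτ
  have X : x * (ζ * τ * q ^ 2) = -N * (q ^ 2 * (τ + c * ζ) + b * ζ * τ) := by
    linear_combination (ζ * τ * q ^ 2) * E₂ + q ^ 2 * τ * hζ + q ^ 2 * ζ * hτ + b * ζ * τ * hN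
  have H₄ : (ζ + τ) ^ 2 = q * (q - 1) ^ 2 * (τ + (q + 1) * ζ) := by
    have h1 : (ζ + 2 * c * τ - 4 * b ^ 2 * q * (q + 1)) * (τ + 2 * c * ζ) = q ^ 2 * (ζ * τ) := by
      apply mul_left_cancel₀ hN0
      linear_combination -(ζ * τ) * G₄ + (ζ + 2 * c * τ - 4 * b ^ 2 * q * (q + 1)) * Y
    apply mul_left_cancel₀ (by omega : q + 1 ≠ 0)
    rw [hc, hb] at h1
    rw [hb]
    linear_combination h1
  have H₂ : (ζ + c * τ - q ^ 2 * b * (4 * b - 5)) * (q ^ 2 * (τ + c * ζ) + b * ζ * τ) =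
      4 * b ^ 2 * q ^ 2 * (ζ * τ) := by
    apply mul_left_cancel₀ hN0
    linear_combination -(ζ * τ * q ^ 2) * G₂ + (ζ + c * τ - q ^ 2 * b * (4 * b - 5)) * X
  obtain ⟨κ, hκ⟩ : q - 1 ∣ ζ + τ := (Int.pow_dvd_pow_iff two_ne_zero).mp
    ⟨q * (τ + (q + 1) * ζ), by rw [H₄]; ring⟩
  have K : κ ^ 2 = q * ((q - 1) * κ + q * ζ) := by
    apply mul_left_cancel₀ (pow_ne_zero 2 (by omega : q - 1 ≠ 0))
    have : τ = (q - 1) * κ - ζ := by linear_combination hκ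
    rw [this] at H₄
    linear_combination H₄
  obtain ⟨j, rfl⟩ : q ∣ κ := by
    have h1 : q ∣ 2 * κ - q * (q - 1) := (Int.pow_dvd_pow_iff two_ne_zero).mp
      ⟨(q - 1) ^ 2 + 4 * ζ, by linear_combination 4 * K⟩
    have h2 : q ∣ 2 * κ := by simpa using dvd_add h1 (dvd_mul_right q (q - 1))
    exact (show IsCoprime q 2 from ⟨1, -b, by rw [hb]; ring⟩).dvd_of_dvd_mul_left h2
  have Z : ζ = j * (j - q + 1) := by
    apply mul_left_cancel₀ (pow_ne_zero 2 (by omega : q ≠ 0))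
    linear_combination -K
  have T : τ = j * (q ^ 2 - 1 - j) := by linear_combination hκ - Z
  have j0 : j ≠ 0 := by rintro rfl; simp [hζ0] at Z
  refine PD_ne hq j ?_
  apply mul_left_cancel₀ (mul_ne_zero j0 (pow_ne_zero 2 (by omega : b ≠ 0)))
  rw [Z, T, hc, hb] at H₂
  rw [hb, PD]
  linear_combination H₂

end H17.JB
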