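import Mathlib
import Cfsg.Agent.H27.JTAbs
import Cfsg.Agent.H17.JB1

/-! The Janko–Thompson–Ward character argument for abstract `Θ₂, Θ₃, Θ₄`. -/

set_option autoImplicit false
open Cfsg H4 H5 H17 H24 Subgroup H27.JT
open scoped ComplexConjugate

namespace H17.JB

section Gen
variable {G : Type*} [Group G] [Fintype G]

theorem cases4 {X η : G → ℂ} (hX : SIrr X) (hη : IsGeneralizedCharacter G η)
    (h4 : classInner η η = 4) (h1 : η 1 = 0) :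
    classInner X η = 0 ∨ classInner X η = 1 ∨ classInner X η = -1 := by
  obtain ⟨m, hm⟩ := hX.gen.inner_int hη
  have hm' : classInner η X = m := (hX.inner_comm hη).symm.trans hm
  have e : classInner (η - (m : ℂ) • X) (η - (m : ℂ) • X) = 4 - m ^ 2 := by
    simp only [classInner_sub_left, classInner_sub_right, classInner_smul_left,
      classInner_smul_right, h4, hm, hm', hX.norm, map_intCast]
    ring
  obtain ⟨k, hk⟩ := (hη.sub (hX.gen.intCast_smul m)).inner_self_nat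
  have h2 : (4 : ℤ) - m ^ 2 = k := by exact_mod_cast e.symm.trans hk
  have h3 : m ^ 2 ≠ 4 := fun k4 => by
    have : (m : ℂ) ^ 2 = 4 := by exact_mod_cast k4
    rw [this, sub_self, classInner_self_eq_zero, sub_eq_zero] at e
    rw [e, Pi.smul_apply, smul_eq_mul, mul_eq_zero] at h1
    rcases h1 with h1 | h1
    · rw [h1] at this; norm_num at this
    · exact hX.apply_one_ne_zero h1
  have h5 : m = 0 ∨ m = 1 ∨ m = -1 := by
    have : -3 < m := by nlinarith [Int.natCast_nonneg k]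
    have : m < 3 := by nlinarith [Int.natCast_nonneg k]
    have : m ≠ 2 := by rintro rfl; simp at h3
    have : m ≠ -2 := by rintro rfl; simp at h3
    omega
  rcases h5 with rfl | rfl | rfl <;> simp [hm]

theorem exists4 {η : G → ℂ} (hη : IsGeneralizedCharacter G η) (h4 : classInner η η = 4)
    (h1 : η 1 = 0) : ∃ X, SIrr X ∧ classInner X η = 1 := by
  obtain ⟨χ, hχ⟩ : ∃ χ : Irr G, classInner χ.1 η ≠ 0 := by
    by_contra k
    push Not at k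
    rw [hη.classFun.inner_eq_sum, Finset.sum_eq_zero] at h4
    · norm_num at h4
    · intro χ _
      rw [conj_classInner, k χ, mul_zero]
  rcases cases4 (sirr_of_irr χ.2) hη h4 h1 with k | k | k
  · exact absurd k hχ
  · exact ⟨_, sirr_of_irr χ.2, k⟩
  · exact ⟨_, (sirr_of_irr χ.2).neg, by rw [classInner_neg_left, k, neg_neg]⟩

theorem eq_of_four {W Z A B C Θ : G → ℂ} (hW : SIrr W) (hZ : SIrr Z) (hA : SIrr A) (hB : SIrr B)
    (hC : SIrr C) (e : Θ = Z + A + B + C) (h1 : classInner W Θ = 1) (z : classInner Z Θ = 1)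
    (a : classInner A Θ = 1) (b : classInner B Θ = 1) (c : classInner C Θ = 1) :
    W = Z ∨ W = A ∨ W = B ∨ W = C := by
  by_contra k
  push Not at k
  have hz : classInner W Z = 0 := by_contra fun x => k.1 (sirr_eq_of_inner hW hZ h1 z x)
  have ha : classInner W A = 0 := by_contra fun x => k.2.1 (sirr_eq_of_inner hW hA h1 a x)
  have hb : classInner W B = 0 := by_contra fun x => k.2.2.1 (sirr_eq_of_inner hW hB h1 b x)
  have hc : classInner W C = 0 := by_contra fun x => k.2.2.2 (sirr_eq_of_inner hW hC h1 c x)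
  rw [e] at h1
  simp [classInner_add_right, hz, ha, hb, hc] at h1

theorem gramZ {Θ₂ Θ₃ Θ₄ Z : G → ℂ} (g₂ : IsGeneralizedCharacter G Θ₂)
    (g₃ : IsGeneralizedCharacter G Θ₃) (g₄ : IsGeneralizedCharacter G Θ₄)
    (n₂ : classInner Θ₂ Θ₂ = 4) (n₃ : classInner Θ₃ Θ₃ = 4) (n₄ : classInner Θ₄ Θ₄ = 4)
    (n₂₃ : classInner Θ₂ Θ₃ = 2) (n₂₄ : classInner Θ₂ Θ₄ = 2) (n₃₄ : classInner Θ₃ Θ₄ = 2)
    (p₂ : classInner (o G) Θ₂ = 0) (p₃ : classInner (o G) Θ₃ = 0) (p₄ : classInner (o G) Θ₄ = 0)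
    (d₂ : Θ₂ 1 = 0) (d₃ : Θ₃ 1 = 0) (d₄ : Θ₄ 1 = 0) (rZ : Row Θ₂ Θ₃ Θ₄ Z 1 1 1) :
    (∃ X Y₂ Z₂ Y₄ Z₄, Θ₂ = Z + X + Y₂ + Z₂ ∧ Θ₄ = Z + X + Y₄ + Z₄ ∧ Row Θ₂ Θ₃ Θ₄ X 1 1 1 ∧
      Row Θ₂ Θ₃ Θ₄ Y₂ 1 0 0 ∧ Row Θ₂ Θ₃ Θ₄ Z₂ 1 0 0 ∧
      Row Θ₂ Θ₃ Θ₄ Y₄ 0 0 1 ∧ Row Θ₂ Θ₃ Θ₄ Z₄ 0 0 1) ∨
    (∃ X A B Y₂ Y₃ Y₄, Θ₂ = Z + X + A + Y₂ ∧ Θ₃ = Z + X + B + Y₃ ∧
      Θ₄ = Z + A + B + Y₄ ∧ Row Θ₂ Θ₃ Θ₄ X 1 1 0 ∧ Row Θ₂ Θ₃ Θ₄ A 1 0 1 ∧
      Row Θ₂ Θ₃ Θ₄ B 0 1 1 ∧ Row Θ₂ Θ₃ Θ₄ Y₂ 1 0 0 ∧ Row Θ₂ Θ₃ Θ₄ Y₃ 0 1 0 ∧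
      Row Θ₂ Θ₃ Θ₄ Y₄ 0 0 1) := by
  have go : IsGeneralizedCharacter G Z := rZ.s.gen
  have o₂' : classInner Z Θ₂ = 1 := by simpa using rZ.c₂
  have o₃' : classInner Z Θ₃ = 1 := by simpa using rZ.c₃
  have o₄' : classInner Z Θ₄ = 1 := by simpa using rZ.c₄
  have o₂ := (g₂.inner_comm go).trans o₂'
  have o₃ := (g₃.inner_comm go).trans o₃'
  have o₄ := (g₄.inner_comm go).trans o₄'
  have oo : classInner Z Z = 1 := rZ.s.norm
  have mo : ∀ {W : G → ℂ} {c₂ c₃ c₄ : ℤ}, SIrr W → classInner W Θ₂ = c₂ → classInner W Θ₃ = c₃ →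
      classInner W Θ₄ = c₄ → (c₂ = 1 ∨ c₃ = 1 ∨ c₄ = 1) → Row Θ₂ Θ₃ Θ₄ W c₂ c₃ c₄ := by
    intro W c₂ c₃ c₄ hW w₂ w₃ w₄ hc
    refine ⟨hW, classInner_comm_of_eq_zero ?_, w₂, w₃, w₄⟩
    rcases hc with rfl | rfl | rfl
    · exact sirr_inner_ne sirr_one hW p₂ (by simp [w₂])
    · exact sirr_inner_ne sirr_one hW p₃ (by simp [w₃])
    · exact sirr_inner_ne sirr_one hW p₄ (by simp [w₄])
  have sZ := rZ.s
  clear rZ p₂ p₃ p₄
  obtain ⟨η₂, rfl⟩ : ∃ η, Θ₂ = Z + η := ⟨Θ₂ - Z, by abel⟩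
  obtain ⟨η₃, rfl⟩ : ∃ η, Θ₃ = Z + η := ⟨Θ₃ - Z, by abel⟩
  obtain ⟨η₄, rfl⟩ : ∃ η, Θ₄ = Z + η := ⟨Θ₄ - Z, by abel⟩
  replace g₂ : IsGeneralizedCharacter G η₂ := by simpa using g₂.sub go
  replace g₃ : IsGeneralizedCharacter G η₃ := by simpa using g₃.sub go
  replace g₄ : IsGeneralizedCharacter G η₄ := by simpa using g₄.sub go
  simp only [classInner_add_left, classInner_add_right, oo, add_eq_left] at o₂ o₃ o₄ o₂' o₃' o₄'
  simp only [classInner_add_left, classInner_add_right, oo, o₂, o₃, o₄, o₂', o₃', o₄', add_zero,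
    zero_add] at n₂ n₃ n₄ n₂₃ n₂₄ n₃₄
  replace n₂ : classInner η₂ η₂ = 3 := by linear_combination n₂
  replace n₃ : classInner η₃ η₃ = 3 := by linear_combination n₃
  replace n₄ : classInner η₄ η₄ = 3 := by linear_combination n₄
  simp only [Pi.add_apply] at d₂ d₃ d₄
  obtain ⟨X, hX, x₂, x₃, hx⟩ := common g₂ n₂ g₃ n₃ (by linear_combination n₂₃)
    (by linear_combination d₂ - d₃)
  obtain ⟨A, hA, a₂, a₄, ha⟩ := common g₂ n₂ g₄ n₄ (by linear_combination n₂₄)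
    (by linear_combination d₂ - d₄)
  obtain ⟨B, hB, b₃, b₄, hb⟩ := common g₃ n₃ g₄ n₄ (by linear_combination n₃₄)
    (by linear_combination d₃ - d₄)
  have mk : ∀ {W : G → ℂ} {c₂ c₃ c₄ : ℤ}, SIrr W → classInner W η₂ = c₂ → classInner W η₃ = c₃ →
      classInner W η₄ = c₄ → (c₂ = 1 ∨ c₃ = 1 ∨ c₄ = 1) →
      Row (Z + η₂) (Z + η₃) (Z + η₄) W c₂ c₃ c₄ := by
    intro W c₂ c₃ c₄ hW w₂ w₃ w₄ hc
    have : classInner W Z = 0 := by
      apply classInner_comm_of_eq_zero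
      rcases hc with rfl | rfl | rfl
      · exact sirr_inner_ne sZ hW o₂' (by simp [w₂])
      · exact sirr_inner_ne sZ hW o₃' (by simp [w₃])
      · exact sirr_inner_ne sZ hW o₄' (by simp [w₄])
    exact mo hW (by simp [classInner_add_right, this, w₂])
      (by simp [classInner_add_right, this, w₃]) (by simp [classInner_add_right, this, w₄]) hc
  have l : ∀ {x y : ℂ}, x = 0 ∨ y = 0 → x = 1 → y = (0 : ℤ) := fun k e => by
    simpa using k.resolve_left (by simp [e])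
  have r : ∀ {x y : ℂ}, x = 0 ∨ y = 0 → y = 1 → x = (0 : ℤ) := fun k e => l k.symm e
  have c1 : ∀ {x : ℂ}, x = 1 → x = (1 : ℤ) := fun k => by simpa using k
  by_cases x₄ : classInner X η₄ = 0
  · right
    have hXA := sirr_inner_ne hX hA x₄ (by simp [a₄])
    have hXB := sirr_inner_ne hX hB x₄ (by simp [b₄])
    have a₃ := l (hx A hA (classInner_comm_of_eq_zero hXA)) a₂
    have b₂ := r (hx B hB (classInner_comm_of_eq_zero hXB)) b₃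
    have hAB := sirr_inner_ne hA hB (by simpa using a₃) (by simp [b₃])
    obtain ⟨Y₂, hY₂, e₂, y₂, y₂X, y₂A⟩ := split_two g₂ n₂ hX hA x₂ a₂ hXA
    obtain ⟨Y₃, hY₃, e₃, y₃, y₃X, y₃B⟩ := split_two g₃ n₃ hX hB x₃ b₃ hXB
    obtain ⟨Y₄, hY₄, e₄, y₄, y₄A, y₄B⟩ := split_two g₄ n₄ hA hB a₄ b₄ hAB
    refine ⟨X, A, B, Y₂, Y₃, Y₄, by rw [e₂]; abel, by rw [e₃]; abel, by rw [e₄]; abel,
      mk hX (c1 x₂) (c1 x₃) (by simpa using x₄) (by simp), mk hA (c1 a₂) a₃ (c1 a₄) (by simp),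
      mk hB b₂ (c1 b₃) (c1 b₄) (by simp),
      mk hY₂ (c1 y₂) (l (hx _ hY₂ y₂X) y₂) (l (ha _ hY₂ y₂A) y₂) (by simp),
      mk hY₃ (r (hx _ hY₃ y₃X) y₃) (c1 y₃) (l (hb _ hY₃ y₃B) y₃) (by simp),
      mk hY₄ (r (ha _ hY₄ y₄A) y₄) (r (hb _ hY₄ y₄B) y₄) (c1 y₄) (by simp)⟩
  · left
    obtain rfl : X = A := sirr_eq_of_inner hX hA x₂ a₂ fun k =>
      x₄ ((ha X hX k).resolve_left (by simp [x₂]))
    obtain rfl : X = B := sirr_eq_of_inner hX hB x₃ b₃ fun k =>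
      x₄ ((hb X hX k).resolve_left (by simp [x₃]))
    obtain ⟨Y₂, Z₂, hY₂, hZ₂, e₂, y₂, z₂, y₂X, z₂X, -⟩ := split_one g₂ n₂ hX x₂
    obtain ⟨Y₄, Z₄, hY₄, hZ₄, e₄, y₄, z₄, y₄X, z₄X, -⟩ := split_one g₄ n₄ hX a₄
    refine ⟨X, Y₂, Z₂, Y₄, Z₄, by rw [e₂]; abel, by rw [e₄]; abel,
      mk hX (c1 x₂) (c1 x₃) (c1 a₄) (by simp),
      mk hY₂ (c1 y₂) (l (hx _ hY₂ y₂X) y₂) (l (ha _ hY₂ y₂X) y₂) (by simp),
      mk hZ₂ (c1 z₂) (l (hx _ hZ₂ z₂X) z₂) (l (ha _ hZ₂ z₂X) z₂) (by simp),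
      mk hY₄ (r (ha _ hY₄ y₄X) y₄) (r (hb _ hY₄ y₄X) y₄) (c1 y₄) (by simp),
      mk hZ₄ (r (ha _ hZ₄ z₄X) z₄) (r (hb _ hZ₄ z₄X) z₄) (c1 z₄) (by simp)⟩

end Gen

/-- abstract data on the section of `t` -/
structure AS {G : Type*} [Group G] [Fintype G] (t : G) (Θ₂ Θ₃ Θ₄ : G → ℂ)
    (St : (G → ℂ) → Prop) (Q ρ : ℤ) : Prop where
  g₂ : IsGeneralizedCharacter G Θ₂
  g₃ : IsGeneralizedCharacter G Θ₃
  g₄ : IsGeneralizedCharacter G Θ₄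
  n₂ : classInner Θ₂ Θ₂ = 4
  n₃ : classInner Θ₃ Θ₃ = 4
  n₄ : classInner Θ₄ Θ₄ = 4
  n₂₃ : classInner Θ₂ Θ₃ = 2
  n₂₄ : classInner Θ₂ Θ₄ = 2
  n₃₄ : classInner Θ₃ Θ₄ = 2
  odd : ∀ g, ¬ 2 ∣ orderOf g → Θ₂ g = 0 ∧ Θ₃ g = 0 ∧ Θ₄ g = 0
  t₂ : Θ₂ t = 2 * (1 + ρ)
  t₃ : Θ₃ t = 2 * (1 + ρ)
  t₄ : Θ₄ t = 2 * (1 - Q)
  Phi₂ : Phi t Θ₂ = 4 * ρ * (ρ + 1) * Q ^ 2 / ((C{t}).index : ℤ)
  Phi₃ : Phi t Θ₃ = 4 * ρ * (ρ + 1) * Q ^ 2 / ((C{t}).index : ℤ)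
  Phi₄ : Phi t Θ₄ = 4 * ρ ^ 2 * Q * (Q - 1) / ((C{t}).index : ℤ)
  dich : ∀ W, SIrr W →
    (classInner W Θ₂ = 0 ∧ classInner W Θ₃ = 0 ∧ classInner W Θ₄ = 0) ∨ St W
  val : ∀ W, St W → W t = ρ * (classInner W Θ₂ + classInner W Θ₃) - Q * classInner W Θ₄
  Qρ : Q = 2 * ρ - 1
  odd_ρ : Odd ρ
  cnj : ∀ u : G, orderOf u = 2 → IsConj t u
  E8 : ∃ P : Subgroup G, Nat.card P = 8 ∧ ∀ g ∈ P, g * g = 1
  lin : ∀ χ : G → ℂ, IsIrrCharacter G χ → χ 1 = 1 → χ = o G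

/-- abstract data of the characters induced from the trivial intersection set -/
structure BA {G : Type*} [Group G] [Fintype G] (t : G) (Θ₂ Θ₃ Θ₄ : G → ℂ)
    (St : (G → ℂ) → Prop) (β₁ β : G → ℂ) : Prop where
  g₁ : IsGeneralizedCharacter G β₁
  g : IsGeneralizedCharacter G β
  n₁ : classInner β₁ β₁ = 7
  n : classInner β β = 3
  orth : classInner β₁ β = 0
  o : classInner β (o G) = 0
  d₁ : β₁ 1 = 0
  d : β 1 = 0
  t₁ : β₁ t = 0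
  t₀ : β t = 0
  phi : Phi t β = 0
  kap : ∃ κ₂ κ₃ : ℂ, κ₂ + κ₃ = -2 ∧ ∀ W, SIrr W → St W →
    classInner W (β₁ - β) = -(classInner W Θ₂ * κ₂ + classInner W Θ₃ * κ₃ + classInner W Θ₄)
  disj : ∀ W, SIrr W → classInner W β₁ = 0 ∨ classInner W β = 0

namespace AS
variable {G : Type*} [Group G] [Fintype G] {t : G} {Θ₂ Θ₃ Θ₄ : G → ℂ} {St : (G → ℂ) → Prop}
  {Q ρ : ℤ} (h : AS t Θ₂ Θ₃ Θ₄ St Q ρ)
include h

theorem ρ_ne : ρ ≠ 0 := by have := h.odd_ρ; rintro rfl; simp at this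
theorem Q_ne : Q ≠ 0 := by have := h.Qρ; omega
theorem n₃₂ : classInner Θ₃ Θ₂ = 2 := (h.g₃.inner_comm h.g₂).trans h.n₂₃
theorem n₄₂ : classInner Θ₄ Θ₂ = 2 := (h.g₄.inner_comm h.g₂).trans h.n₂₄
theorem n₄₃ : classInner Θ₄ Θ₃ = 2 := (h.g₄.inner_comm h.g₃).trans h.n₃₄
theorem d₂ : Θ₂ 1 = 0 := (h.odd 1 (by simp)).1
theorem d₃ : Θ₃ 1 = 0 := (h.odd 1 (by simp)).2.1
theorem d₄ : Θ₄ 1 = 0 := (h.odd 1 (by simp)).2.2

theorem star_row {W : G → ℂ} {c₂ c₃ c₄ : ℤ} (hW : Row Θ₂ Θ₃ Θ₄ W c₂ c₃ c₄)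
    (hc : ¬ (c₂ = 0 ∧ c₃ = 0 ∧ c₄ = 0)) : St W := by
  refine (h.dich W hW.s).resolve_left ?_
  rw [hW.c₂, hW.c₃, hW.c₄]
  exact_mod_cast hc

theorem orth_of_star {Γ : G → ℂ} (hΓ : IsClassFunction G Γ)
    (h0 : ∀ W, SIrr W → St W → classInner Γ W = 0) :
    classInner Γ Θ₂ = 0 ∧ classInner Γ Θ₃ = 0 ∧ classInner Γ Θ₄ = 0 := by
  refine ⟨?_, ?_, ?_⟩ <;> rw [hΓ.inner_eq_sum] <;> refine Finset.sum_eq_zero fun χ _ => ?_ <;>
    rcases h.dich _ (sirr_of_irr χ.2) with k | k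
  · rw [conj_classInner, k.1, mul_zero]
  · rw [h0 _ (sirr_of_irr χ.2) k, zero_mul]
  · rw [conj_classInner, k.2.1, mul_zero]
  · rw [h0 _ (sirr_of_irr χ.2) k, zero_mul]
  · rw [conj_classInner, k.2.2, mul_zero]
  · rw [h0 _ (sirr_of_irr χ.2) k, zero_mul]

theorem row_t {W : G → ℂ} {c₂ c₃ c₄ : ℤ} (hW : Row Θ₂ Θ₃ Θ₄ W c₂ c₃ c₄)
    (hc : ¬ (c₂ = 0 ∧ c₃ = 0 ∧ c₄ = 0)) : W t = (ρ * (c₂ + c₃) - Q * c₄ : ℤ) := by
  rw [h.val W (h.star_row hW hc), hW.c₂, hW.c₃, hW.c₄]; push_cast; ring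

theorem irr_data {χ : G → ℂ} (hχ : IsIrrCharacter G χ) (ho : classInner χ (o G) = 0) {v : ℤ}
    (hv : χ t = v) : ∃ w : ℤ, χ 1 = w ∧ 1 < w ∧ 8 ∣ w - v ∧ w ∣ ((C{t}).index : ℤ) * v := by
  obtain ⟨P, hP, hP2⟩ := h.E8
  have h8 := card_dvd_deg_sub P (χ := ⟨χ, hχ⟩) (c := v) fun g hg h1 => by
    rw [← hv]; exact (hχ.classFun.apply_of_isConj (h.cnj g (orderOf_eq_two h1 (hP2 g hg)))).symm
  have hd := deg_eq (⟨χ, hχ⟩ : Irr G)
  have h0 := deg_ne_zero (⟨χ, hχ⟩ : Irr G)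
  generalize deg (⟨χ, hχ⟩ : Irr G) = n at *
  simp only at hd
  rw [hP] at h8
  refine ⟨n, by simp [hd], ?_, h8, ?_⟩
  · have : n ≠ 1 := by
      rintro rfl
      rw [h.lin χ hχ (by simpa using hd.symm), classInner_one_one] at ho
      exact one_ne_zero ho
    omega
  · refine int_dvd_of_isIntegral_div (by exact_mod_cast h0) ?_
    have := hχ.isIntegral_centralChar t
    rw [hv, ← hd] at this
    simpa using this

theorem row_data {W : G → ℂ} {c₂ c₃ c₄ : ℤ} (hW : Row Θ₂ Θ₃ Θ₄ W c₂ c₃ c₄)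
    (hc : ¬ (c₂ = 0 ∧ c₃ = 0 ∧ c₄ = 0)) {v : ℤ} (hv : v = ρ * (c₂ + c₃) - Q * c₄) :
    ∃ w : ℤ, W 1 = w ∧ W t = v ∧ Phi t W = v ^ 2 / w ∧ w ≠ 0 ∧ w ≠ 1 ∧ w ≠ -1 ∧ 8 ∣ w - v ∧
      w ∣ ((C{t}).index : ℤ) * v := by
  have ht := h.row_t hW hc
  rw [← hv] at ht
  rcases hW.s.irr_or with k | k
  · obtain ⟨w, h1, h2, h3, h4⟩ := h.irr_data k hW.o ht
    exact ⟨w, h1, ht, by rw [Phi_sirr t hW.s, ht, h1], by omega, by omega, by omega, h3, h4⟩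
  · obtain ⟨w, h1, h2, h3, h4⟩ := h.irr_data k hW.neg.o (v := -v) (by simp [ht])
    have h1' : W 1 = (-w : ℤ) := by simp only [Pi.neg_apply] at h1; push_cast; linear_combination -h1
    refine ⟨-w, h1', ht, by rw [Phi_sirr t hW.s, ht, h1'], by omega, by omega, by omega,
      by omega, ?_⟩
    rw [neg_dvd, ← dvd_neg]; simpa using h4

omit h in
theorem eqs {Θ Z A B C : G → ℂ} (d : Θ 1 = 0) (k : Θ = Z + A + B + C) {w x y z : ℤ} (hw : Z 1 = w)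
    (hx : A 1 = x) (hy : B 1 = y) (hz : C 1 = z) :
    w + x + y + z = 0 ∧ Phi t Z + Phi t A + Phi t B + Phi t C = Phi t Θ := by
  constructor
  · rw [k] at d
    simp only [Pi.add_apply, hw, hx, hy, hz] at d
    exact_mod_cast d
  · rw [k, Phi_add, Phi_add, Phi_add]

theorem D_star {β₁ β : G → ℂ} (hβ : BA t Θ₂ Θ₃ Θ₄ St β₁ β) {W : G → ℂ} (hW : SIrr W)
    (hs : St W) : classInner W (β₁ - β - (Θ₂ + Θ₃ - Θ₄)) = 0 := by
  obtain ⟨κ₂, κ₃, hκ, hk⟩ := hβ.kap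
  have gD := hβ.g₁.sub hβ.g
  obtain ⟨k, rfl⟩ : ∃ k : ℤ, κ₂ = -k := by
    obtain ⟨Y, sY, hY⟩ := exists4 (h.g₂.sub h.g₃) (by
      simp only [classInner_sub_left, classInner_sub_right, h.n₂, h.n₃, h.n₂₃, h.n₃₂]; norm_num)
      (by simp [h.d₂, h.d₃])
    rw [classInner_sub_right] at hY
    obtain ⟨m, hm⟩ := sY.gen.inner_int gD
    obtain ⟨c₃, e₃⟩ := sY.gen.inner_int h.g₃
    obtain ⟨c₄, e₄⟩ := sY.gen.inner_int h.g₄
    have e := hk Y sY ((h.dich Y sY).resolve_left fun k => by simp [k.1, k.2.1] at hY)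
    rw [hm, sub_eq_iff_eq_add.mp hY, e₃, e₄] at e
    exact ⟨m - 2 * c₃ + c₄, by push_cast; linear_combination e - c₃ * hκ⟩
  obtain rfl : κ₃ = k - 2 := by linear_combination hκ
  have nD : classInner (β₁ - β) (β₁ - β) = 10 := by
    rw [classInner_sub_left, classInner_sub_right, classInner_sub_right, hβ.n₁, hβ.n, hβ.orth,
      classInner_comm_of_eq_zero hβ.orth]
    norm_num
  generalize β₁ - β = D at *
  suffices hk1 : k = 1 by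
    subst hk1
    rw [classInner_sub_right, classInner_sub_right, classInner_add_right, hk W hW hs]
    push_cast; ring
  have gE : IsGeneralizedCharacter G ((k : ℂ) • Θ₂ + ((2 - k : ℤ) : ℂ) • Θ₃ - Θ₄) :=
    ((h.g₂.intCast_smul k).add (h.g₃.intCast_smul _)).sub h.g₄
  obtain ⟨o₂, o₃, o₄⟩ := h.orth_of_star (gD.sub gE).classFun fun W hW hs => by
    apply classInner_comm_of_eq_zero
    simp only [classInner_sub_right, classInner_add_right, classInner_smul_right, hk W hW hs,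
      map_intCast]
    push_cast; ring
  obtain ⟨m, hm⟩ := (gD.sub gE).inner_self_nat
  simp only [classInner_sub_left, classInner_add_left, classInner_smul_left, h.n₂, h.n₃, h.n₄,
    h.n₂₃, h.n₂₄, h.n₃₄, h.n₃₂, h.n₄₂, h.n₄₃] at o₂ o₃ o₄
  simp only [classInner_sub_left, classInner_add_left, classInner_smul_left, classInner_sub_right,
    classInner_add_right, classInner_smul_right, h.n₂, h.n₃, h.n₄, h.n₂₃, h.n₂₄, h.n₃₄, h.n₃₂,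
    h.n₄₂, h.n₄₃, map_intCast, h.g₂.inner_comm gD, h.g₃.inner_comm gD, h.g₄.inner_comm gD, nD,
    sub_eq_zero.mp o₂, sub_eq_zero.mp o₃, sub_eq_zero.mp o₄] at hm
  have : (2 : ℤ) - 4 * (k - 1) ^ 2 = m := by
    have : (2 : ℂ) - 4 * (k - 1) ^ 2 = m := by push_cast at hm; linear_combination hm
    exact_mod_cast this
  nlinarith [sq_nonneg (k - 1), Int.natCast_nonneg m]

theorem D_T {β₁ β : G → ℂ} (hβ : BA t Θ₂ Θ₃ Θ₄ St β₁ β) :
    classInner (β₁ - β) Θ₂ = 4 ∧ classInner (β₁ - β) Θ₃ = 4 ∧ classInner (β₁ - β) Θ₄ = 0 := by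
  obtain ⟨o₂, o₃, o₄⟩ := h.orth_of_star ((hβ.g₁.sub hβ.g).sub ((h.g₂.add h.g₃).sub h.g₄)).classFun
    fun W hW hs => classInner_comm_of_eq_zero (h.D_star hβ hW hs)
  generalize β₁ - β = D at *
  simp only [classInner_sub_left, classInner_add_left, h.n₂, h.n₃, h.n₄,
    h.n₂₃, h.n₂₄, h.n₃₄, h.n₃₂, h.n₄₂, h.n₄₃] at o₂ o₃ o₄
  exact ⟨by linear_combination o₂, by linear_combination o₃, by linear_combination o₄⟩

theorem β_T {β₁ β β' β'' : G → ℂ} (hβ : BA t Θ₂ Θ₃ Θ₄ St β₁ β) (hβ' : BA t Θ₂ Θ₃ Θ₄ St β₁ β')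
    (hβ'' : BA t Θ₂ Θ₃ Θ₄ St β₁ β'') (hs : ∀ g, 2 ∣ orderOf g → (β₁ + β + β' + β'') g = 0) :
    classInner β Θ₂ = -1 ∧ classInner β Θ₃ = -1 ∧ classInner β Θ₄ = 0 := by
  have k : ∀ Θ : G → ℂ, (∀ g, ¬ 2 ∣ orderOf g → Θ g = 0) →
      classInner (β₁ + β + β' + β'') Θ = 0 := fun Θ hΘ =>
    inner_eq_zero_of_supp fun g => by
      by_cases hg : 2 ∣ orderOf g
      · exact Or.inl (hs g hg)
      · exact Or.inr (hΘ g hg)
  obtain ⟨a₂, a₃, a₄⟩ := h.D_T hβ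
  obtain ⟨b₂, b₃, b₄⟩ := h.D_T hβ'
  obtain ⟨c₂, c₃, c₄⟩ := h.D_T hβ''
  have k₂ := k Θ₂ fun g hg => (h.odd g hg).1
  have k₃ := k Θ₃ fun g hg => (h.odd g hg).2.1
  have k₄ := k Θ₄ fun g hg => (h.odd g hg).2.2
  simp only [classInner_sub_left, classInner_add_left] at *
  exact ⟨by linear_combination (k₂ - 3 * a₂ + b₂ + c₂) / 4,
    by linear_combination (k₃ - 3 * a₃ + b₃ + c₃) / 4,
    by linear_combination (k₄ - 3 * a₄ + b₄ + c₄) / 4⟩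

theorem ti_abs {β₁ β : G → ℂ} (hβ : BA t Θ₂ Θ₃ Θ₄ St β₁ β)
    (hT : classInner β Θ₂ = -1 ∧ classInner β Θ₃ = -1 ∧ classInner β Θ₄ = 0)
    (hphi : Phi t β₁ = 8 * (ρ - 1) ^ 2 * ρ * Q / (C{t}).index) :
    ∃ (W₁ W₂ : G → ℂ) (u : ℤ), Row Θ₂ Θ₃ Θ₄ W₁ 1 u u ∧ Row Θ₂ Θ₃ Θ₄ W₂ 0 (1 - u) (-u) ∧
      W₁ 1 * Q ^ 2 = -W₁ t * (C{t}).index ∧ W₂ 1 * Q ^ 2 = -W₂ t * (C{t}).index := by
  obtain ⟨b₂, b₃, b₄⟩ := hT
  obtain ⟨a₂, a₃, a₄⟩ := h.D_T hβ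
  have gD := hβ.g₁.sub hβ.g
  have gΓ := gD.sub ((h.g₂.add h.g₃).sub h.g₄)
  have hst := fun W => h.D_star hβ (W := W)
  have nD : classInner (β₁ - β) (β₁ - β) = 10 := by
    rw [classInner_sub_left, classInner_sub_right, classInner_sub_right, hβ.n₁, hβ.n, hβ.orth,
      classInner_comm_of_eq_zero hβ.orth]
    norm_num
  have βD : classInner β (β₁ - β) = -3 := by
    rw [classInner_sub_right, hβ.n, classInner_comm_of_eq_zero hβ.orth]; norm_num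
  obtain ⟨Γ, hΓ⟩ : ∃ Γ, Γ = β₁ - β - (Θ₂ + Θ₃ - Θ₄) := ⟨_, rfl⟩
  have nΓ : classInner Γ Γ = 2 := by
    rw [hΓ]
    generalize β₁ - β = D at *
    simp only [classInner_sub_left, classInner_add_left, classInner_sub_right,
      classInner_add_right, h.n₂, h.n₃, h.n₄, h.n₂₃, h.n₂₄, h.n₃₄, h.n₃₂,
      h.n₄₂, h.n₄₃, h.g₂.inner_comm gD, h.g₃.inner_comm gD, h.g₄.inner_comm gD, nD, a₂, a₃, a₄]
    norm_num
  have βΓ : classInner β Γ = -1 := by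
    rw [hΓ, classInner_sub_right, βD, classInner_sub_right, classInner_add_right, b₂, b₃, b₄]
    norm_num
  have Γ1 : Γ 1 = 0 := by simp [hΓ, hβ.d₁, hβ.d, h.d₂, h.d₃, h.d₄]
  have Γt : Γ t = -8 * ρ := by
    have : (Q : ℂ) = 2 * ρ - 1 := by exact_mod_cast h.Qρ
    simp only [hΓ, Pi.sub_apply, Pi.add_apply, hβ.t₁, hβ.t₀, h.t₂, h.t₃, h.t₄, this]
    ring
  have hN := index_ne_zero' C{t}
  have ΓP : Phi t Γ = -16 * ρ * Q ^ 2 / (C{t}).index := by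
    have e1 : (Q : ℂ) = 2 * ρ - 1 := by exact_mod_cast h.Qρ
    rw [hΓ, Phi_sub, Phi_sub, Phi_sub, Phi_add, hphi, hβ.phi, h.Phi₂, h.Phi₃, h.Phi₄, e1]
    push_cast
    field_simp
    ring
  rw [← hΓ] at gΓ hst
  obtain ⟨γ₁, γ₂, s₁, s₂, eΓ, o₁₂, β1, β2⟩ : ∃ γ₁ γ₂, SIrr γ₁ ∧ SIrr γ₂ ∧ Γ = γ₁ + γ₂ ∧
      classInner γ₁ γ₂ = 0 ∧ classInner β γ₁ = -1 ∧ classInner β γ₂ = 0 := by
    obtain ⟨X, hX, x1⟩ := exists_sirr_inner_eq_one gΓ (n := 1) (by norm_num) (by rw [nΓ]; norm_num)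
    have hY := sirr_sub_of_norm_two hX gΓ nΓ x1
    have hYX := hX.inner_sub x1
    have hs : classInner β X + classInner β (Γ - X) = -1 := by
      rw [classInner_sub_right, βΓ]; ring
    rcases hX.inner_cases hβ.g (n := 3) le_rfl (by rw [hβ.n]; norm_num) with k | k | k <;>
      rcases hY.inner_cases hβ.g (n := 3) le_rfl (by rw [hβ.n]; norm_num) with k' | k' | k' <;>
      rw [k, k'] at hs <;> norm_num at hs
    · exact ⟨_, _, hY, hX, by abel, hYX, k', k⟩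
    · exact ⟨_, _, hX, hY, by abel, classInner_comm_of_eq_zero hYX, k, k'⟩
  have γΓ : classInner γ₁ Γ = 1 := by rw [eΓ, classInner_add_right, s₁.norm, o₁₂, add_zero]
  obtain ⟨z₂, z₃, z₄⟩ := (h.dich _ s₁).resolve_right fun k => by simpa [γΓ] using hst γ₁ s₁ k
  obtain ⟨W, W', sW, sW', eβ, w1, w1', wγ, wγ', ww⟩ := split_one hβ.g.neg
    (by rw [classInner_neg_left, classInner_neg_right, hβ.n]; ring) s₁
    (by rw [classInner_neg_right, s₁.inner_comm hβ.g, β1]; ring)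
  have oβ : classInner (o G) (-β) = 0 := by
    rw [classInner_neg_right, classInner_comm_of_eq_zero hβ.o, neg_zero]
  have cD : ∀ W, SIrr W → classInner W (-β) = 1 → St W →
      classInner W Θ₂ + classInner W Θ₃ - classInner W Θ₄ = 1 := by
    intro W sW w1 hs
    have k := hst W sW hs
    have k1 : classInner W β = -1 := by rw [classInner_neg_right] at w1; linear_combination -w1
    have k2 := (hβ.disj W sW).resolve_right (by simp [k1])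
    rw [hΓ] at k
    simp only [classInner_sub_right, classInner_add_right, k1, k2] at k
    linear_combination -k
  have key : ∀ W W', SIrr W → SIrr W' → -β = γ₁ + W + W' → classInner W (-β) = 1 →
      classInner W' (-β) = 1 → classInner W Θ₂ = 1 →
      ∃ (W₁ W₂ : G → ℂ) (u : ℤ), Row Θ₂ Θ₃ Θ₄ W₁ 1 u u ∧ Row Θ₂ Θ₃ Θ₄ W₂ 0 (1 - u) (-u) ∧
      W₁ 1 * Q ^ 2 = -W₁ t * (C{t}).index ∧ W₂ 1 * Q ^ 2 = -W₂ t * (C{t}).index := by
    intro W W' sW sW' eβ w1 w1' c₂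
    have wo := classInner_comm_of_eq_zero (sirr_inner_ne sirr_one sW oβ (by simp [w1]))
    have wo' := classInner_comm_of_eq_zero (sirr_inner_ne sirr_one sW' oβ (by simp [w1']))
    obtain ⟨u, c₃⟩ := sW.gen.inner_int h.g₃
    have hs : St W := (h.dich W sW).resolve_left fun k => by simp [c₂] at k
    have c₄ : classInner W Θ₄ = u := by
      have k := cD W sW w1 hs
      rw [c₂, c₃] at k
      linear_combination -k
    have f : ∀ Θ, classInner γ₁ Θ + classInner W Θ + classInner W' Θ = -classInner β Θ :=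
      fun Θ => by rw [← classInner_neg_left, eβ, classInner_add_left, classInner_add_left]
    have r₁ : Row Θ₂ Θ₃ Θ₄ W 1 u u := ⟨sW, wo, by simp [c₂], c₃, c₄⟩
    have r₂ : Row Θ₂ Θ₃ Θ₄ W' 0 (1 - u) (-u) := by
      refine ⟨sW', wo', ?_, ?_, ?_⟩
      · have := f Θ₂; rw [z₂, c₂, b₂] at this; push_cast; linear_combination this
      · have := f Θ₃; rw [z₃, c₃, b₃] at this; push_cast; linear_combination this
      · have := f Θ₄; rw [z₄, c₄, b₄] at this; push_cast; linear_combination this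
    have v₁ := h.row_t r₁ (by simp)
    have v₂ := h.row_t r₂ (by omega)
    have et : γ₁ t + W t + W' t = 0 := by
      have := congrFun eβ t; simp only [Pi.neg_apply, Pi.add_apply, hβ.t₀] at this
      linear_combination -this
    have e1 : γ₁ 1 + W 1 + W' 1 = 0 := by
      have := congrFun eβ 1; simp only [Pi.neg_apply, Pi.add_apply, hβ.d] at this
      linear_combination -this
    have eP : γ₁ t ^ 2 / γ₁ 1 + W t ^ 2 / W 1 + W' t ^ 2 / W' 1 = 0 := by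
      rw [← Phi_sirr t s₁, ← Phi_sirr t sW, ← Phi_sirr t sW', ← Phi_add, ← Phi_add, ← eβ, Phi_neg,
        hβ.phi, neg_zero]
    have γt : γ₁ t = -2 * ρ := by push_cast at v₁ v₂; linear_combination et - v₁ - v₂
    have γt' : γ₂ t = -6 * ρ := by
      rw [eΓ, Pi.add_apply] at Γt; linear_combination Γt - γt
    have γ1' : γ₂ 1 = -γ₁ 1 := by rw [eΓ, Pi.add_apply] at Γ1; linear_combination Γ1
    have n₁ := s₁.apply_one_ne_zero
    have hρ : (ρ : ℂ) ≠ 0 := by exact_mod_cast h.ρ_ne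
    have γ1 : γ₁ 1 * Q ^ 2 = 2 * ρ * (C{t}).index := by
      rw [eΓ, Phi_add, Phi_sirr t s₁, Phi_sirr t s₂, γt, γt', γ1'] at ΓP
      field_simp at ΓP
      linear_combination (1 / 16 : ℂ) * ΓP
    have p₁ := prop3 n₁ sW.apply_one_ne_zero sW'.apply_one_ne_zero e1 et eP
    have p₂ := prop3 (v₁ := γ₁ t) (v₂ := W' t) (v₃ := W t) n₁ sW'.apply_one_ne_zero
      sW.apply_one_ne_zero (by linear_combination e1)
      (by linear_combination et) (by linear_combination eP)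
    rw [γt] at p₁ p₂
    refine ⟨W, W', u, r₁, r₂, mul_left_cancel₀ (mul_ne_zero two_ne_zero hρ) ?_,
      mul_left_cancel₀ (mul_ne_zero two_ne_zero hρ) ?_⟩
    · linear_combination -(Q : ℂ) ^ 2 * p₁ - W t * γ1
    · linear_combination -(Q : ℂ) ^ 2 * p₂ - W' t * γ1
  have k := cases4 sW h.g₂ h.n₂ h.d₂
  have k' := cases4 sW' h.g₂ h.n₂ h.d₂
  have hs : classInner W Θ₂ + classInner W' Θ₂ = 1 := by
    have := congrArg (fun f => classInner f Θ₂) eβ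
    simp only [classInner_neg_left, classInner_add_left, b₂, z₂] at this
    linear_combination -this
  rcases k with k | k | k <;> rcases k' with k' | k' | k' <;> rw [k, k'] at hs <;> norm_num at hs
  · exact key W' W sW' sW (by rw [eβ]; abel) w1' w1 k'
  · exact key W W' sW sW' eβ w1 w1' k

end AS

end H17.JB
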