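import Mathlib
import Cfsg.Agent.H17.JB2

/-! The end of the abstract argument: the untwisted and the twisted case. -/

set_option autoImplicit false
open Cfsg H4 H5 H17 H24 Subgroup H27.JT
open scoped ComplexConjugate

namespace H17.JB.AS
variable {G : Type*} [Group G] [Fintype G] {t : G} {Θ₂ Θ₃ Θ₄ : G → ℂ} {St : (G → ℂ) → Prop}
  {Q ρ : ℤ} (h : AS t Θ₂ Θ₃ Θ₄ St Q ρ)
include h

theorem finI (hq : 27 ≤ |Q|) {X Y₂ Z₂ Y₄ Z₄ : G → ℂ} (k₂ : Θ₂ = o G + X + Y₂ + Z₂)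
    (k₄ : Θ₄ = o G + X + Y₄ + Z₄) (rX : Row Θ₂ Θ₃ Θ₄ X 1 1 1) (rY₂ : Row Θ₂ Θ₃ Θ₄ Y₂ 1 0 0)
    (rZ₂ : Row Θ₂ Θ₃ Θ₄ Z₂ 1 0 0) (rY₄ : Row Θ₂ Θ₃ Θ₄ Y₄ 0 0 1) (rZ₄ : Row Θ₂ Θ₃ Θ₄ Z₄ 0 0 1)
    (dX : X 1 * Q ^ 2 = -X t * (C{t}).index) (dZ : Z₄ 1 * Q ^ 2 = -Z₄ t * (C{t}).index) :
    ((C{t}).index : ℤ) = Q ^ 2 * (Q ^ 2 + Q + 1) ∧
      ∃ m k : ℤ, k ≠ 0 ∧ 3 * m ^ 2 = -Q * k ^ 2 := by
  have hQρ := h.Qρ
  have hQ0 := h.Q_ne
  obtain ⟨x, x1, xt, xP, x0, -⟩ := h.row_data rX (by simp) (v := 1) (by rw [hQρ]; ring)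
  obtain ⟨y, y1, -, yP, y0, -⟩ := h.row_data rY₂ (by simp) (v := ρ) (by ring)
  obtain ⟨z, z1, -, zP, z0, -⟩ := h.row_data rZ₂ (by simp) (v := ρ) (by ring)
  obtain ⟨y₄, y41, -, y4P, y40, -⟩ := h.row_data rY₄ (by simp) (v := -Q) (by ring)
  obtain ⟨z₄, z41, z4t, z4P, z40, -⟩ := h.row_data rZ₄ (by simp) (v := -Q) (by ring)
  obtain ⟨E₂, F₂⟩ := eqs (t := t) h.d₂ k₂ (w := 1) (by simp) x1 y1 z1
  obtain ⟨E₄, F₄⟩ := eqs (t := t) h.d₄ k₄ (w := 1) (by simp) x1 y41 z41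
  rw [Phi_o, xP, yP, zP, h.Phi₂] at F₂
  rw [Phi_o, xP, y4P, z4P, h.Phi₄] at F₄
  rw [x1, xt] at dX
  rw [z41, z4t] at dZ
  have dX' : x * Q ^ 2 = -1 * ((C{t}).index : ℤ) := by exact_mod_cast dX
  have dZ' : z₄ * Q ^ 2 = - -Q * ((C{t}).index : ℤ) := by exact_mod_cast dZ
  have hz₄ : z₄ = -Q * x := mul_right_cancel₀ (pow_ne_zero 2 hQ0)
    (by linear_combination dZ' + Q * dX')
  obtain ⟨hN, hsq⟩ := caseI (N := (C{t}).index) hQρ (by rcases abs_cases Q with k | k <;> omega)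
    x0 y40 y0 z0 (by linear_combination dX') hz₄ E₄ E₂
    (by push_cast at F₄ ⊢; linear_combination F₄) (by push_cast at F₂ ⊢; linear_combination F₂)
  exact ⟨hN, _, _, mul_ne_zero (mul_ne_zero two_ne_zero h.ρ_ne) (by
    rcases abs_cases Q with k | k <;> omega), hsq⟩

theorem finII (hq : 27 ≤ |Q|) {X Y₂ Z₂ Y₄ Z₄ : G → ℂ} (k₂ : Θ₂ = o G + X + Y₂ + Z₂)
    (k₄ : Θ₄ = o G + X + Y₄ + Z₄) (rX : Row Θ₂ Θ₃ Θ₄ X 1 1 1) (rY₂ : Row Θ₂ Θ₃ Θ₄ Y₂ 1 0 0)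
    (rZ₂ : Row Θ₂ Θ₃ Θ₄ Z₂ 1 0 0) (rY₄ : Row Θ₂ Θ₃ Θ₄ Y₄ 0 0 1) (rZ₄ : Row Θ₂ Θ₃ Θ₄ Z₄ 0 0 1)
    (dY : Y₂ 1 * Q ^ 2 = -Y₂ t * (C{t}).index) : False := by
  have hQρ := h.Qρ
  obtain ⟨x, x1, xt, xP, x0, xn, -, x8, xi⟩ := h.row_data rX (by simp) (v := 1) (by rw [hQρ]; ring)
  obtain ⟨y, y1, yt, yP, y0, -, -, y8, -⟩ := h.row_data rY₂ (by simp) (v := ρ) (by ring)
  obtain ⟨z, z1, -, zP, z0, -, -, -, zi⟩ := h.row_data rZ₂ (by simp) (v := ρ) (by ring)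
  obtain ⟨y₄, y41, -, y4P, y40, -, -, -, y4i⟩ := h.row_data rY₄ (by simp) (v := -Q) (by ring)
  obtain ⟨z₄, z41, -, z4P, z40, -, -, -, z4i⟩ := h.row_data rZ₄ (by simp) (v := -Q) (by ring)
  obtain ⟨E₂, F₂⟩ := eqs (t := t) h.d₂ k₂ (w := 1) (by simp) x1 y1 z1
  obtain ⟨E₄, F₄⟩ := eqs (t := t) h.d₄ k₄ (w := 1) (by simp) x1 y41 z41
  rw [Phi_o, xP, yP, zP, h.Phi₂] at F₂
  rw [Phi_o, xP, y4P, z4P, h.Phi₄] at F₄
  rw [y1, yt] at dY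
  have dY' : y * Q ^ 2 = -ρ * ((C{t}).index : ℤ) := by exact_mod_cast dY
  exact caseII (N := (C{t}).index) hQρ h.odd_ρ hq
    (by exact_mod_cast Nat.pos_of_ne_zero (C{t}).index_ne_zero_of_finite) x0 y0 z0 y40 z40
    (by linear_combination dY') E₂ x8 y8 xn (by simpa using xi) zi (by simpa using y4i)
    (by simpa using z4i) (by push_cast at F₄ ⊢; linear_combination F₄)
    (by push_cast at F₂ ⊢; linear_combination F₂)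

theorem final_one (hq : 27 ≤ |Q|) (o₂ : classInner Θ₂ (o G) = 1) (o₃ : classInner Θ₃ (o G) = 1)
    (o₄ : classInner Θ₄ (o G) = 1) {W₁ W₂ : G → ℂ} {u : ℤ} (r₁ : Row Θ₂ Θ₃ Θ₄ W₁ 1 u u)
    (r₂ : Row Θ₂ Θ₃ Θ₄ W₂ 0 (1 - u) (-u))
    (d₁ : W₁ 1 * Q ^ 2 = -W₁ t * (C{t}).index) (d₂ : W₂ 1 * Q ^ 2 = -W₂ t * (C{t}).index) :
    ((C{t}).index : ℤ) = Q ^ 2 * (Q ^ 2 + Q + 1) ∧
      ∃ m k : ℤ, k ≠ 0 ∧ 3 * m ^ 2 = -Q * k ^ 2 := by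
  rcases gram_cases h.g₂ h.g₃ h.g₄ h.n₂ h.n₃ h.n₄ h.n₂₃ h.n₂₄ h.n₃₄ o₂ o₃ o₄ h.d₂ h.d₃ h.d₄ with
    ⟨X, Y₂, Z₂, Y₃, Z₃, Y₄, Z₄, k₂, k₃, k₄, rX, rY₂, rZ₂, -, -, rY₄, rZ₄⟩ |
    ⟨X, A, B, Y₂, Y₃, Y₄, k₂, k₃, k₄, rX, rA, rB, rY₂, rY₃, rY₄⟩
  · rcases eq_of_inner_one r₁.s rX.s rY₂.s rZ₂.s k₂ r₁.o (by simpa using r₁.c₂)
      (by simpa using rX.c₂) (by simpa using rY₂.c₂) (by simpa using rZ₂.c₂) with rfl | rfl | rfl
    · obtain rfl : u = 1 := (r₁.eq rX).2.1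
      have d₂' : (-W₂) 1 * Q ^ 2 = -(-W₂) t * (C{t}).index := by
        simp only [Pi.neg_apply]; linear_combination -d₂
      rcases eq_of_inner_one r₂.neg.s rX.s rY₄.s rZ₄.s k₄ r₂.neg.o (by simpa using r₂.neg.c₄)
        (by simpa using rX.c₄) (by simpa using rY₄.c₄) (by simpa using rZ₄.c₄) with k | k | k
      · have := (r₂.neg.eq (k ▸ rX)).1; simp at this
      · exact h.finI hq k₂ (by rw [k₄]; abel) rX rY₂ rZ₂ rZ₄ rY₄ d₁ (k ▸ d₂')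
      · exact h.finI hq k₂ k₄ rX rY₂ rZ₂ rY₄ rZ₄ d₁ (k ▸ d₂')
    · exact (h.finII hq k₂ k₄ rX rY₂ rZ₂ rY₄ rZ₄ d₁).elim
    · exact (h.finII hq (by rw [k₂]; abel) k₄ rX rZ₂ rY₂ rY₄ rZ₄ d₁).elim
  · exfalso
    rcases eq_of_inner_one r₁.s rX.s rA.s rY₂.s k₂ r₁.o (by simpa using r₁.c₂)
      (by simpa using rX.c₂) (by simpa using rA.c₂) (by simpa using rY₂.c₂) with rfl | rfl | rfl
    · have := r₁.eq rX; omega
    · have := r₁.eq rA; omega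
    obtain rfl : u = 0 := (r₁.eq rY₂).2.1
    rcases eq_of_inner_one r₂.s rX.s rB.s rY₃.s k₃ r₂.o (by simpa using r₂.c₃)
      (by simpa using rX.c₃) (by simpa using rB.c₃) (by simpa using rY₃.c₃) with rfl | rfl | rfl
    · have := r₂.eq rX; omega
    · have := r₂.eq rB; omega
    have hQρ := h.Qρ
    obtain ⟨x, x1, -, xP, x0, -⟩ := h.row_data rX (by simp) (v := 2 * ρ) (by ring)
    obtain ⟨d, d1, -, dP, d0, -⟩ := h.row_data rA (by simp) (v := 1 - ρ) (by rw [hQρ]; ring)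
    obtain ⟨d', d1', -, dP', d0', -⟩ := h.row_data rB (by simp) (v := 1 - ρ) (by rw [hQρ]; ring)
    obtain ⟨y, y1, yt, yP, y0, -⟩ := h.row_data rY₂ (by simp) (v := ρ) (by ring)
    obtain ⟨y', y1', yt', yP', y0', -⟩ := h.row_data rY₃ (by simp) (v := ρ) (by ring)
    obtain ⟨z, z1, -, zP, z0, -⟩ := h.row_data rY₄ (by simp) (v := -Q) (by ring)
    obtain ⟨E₂, F₂⟩ := eqs (t := t) h.d₂ k₂ (w := 1) (by simp) x1 d1 y1
    obtain ⟨E₃, -⟩ := eqs (t := t) h.d₃ k₃ (w := 1) (by simp) x1 d1' y1'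
    obtain ⟨E₄, F₄⟩ := eqs (t := t) h.d₄ k₄ (w := 1) (by simp) d1 d1' z1
    rw [Phi_o, xP, dP, yP, h.Phi₂] at F₂
    rw [Phi_o, dP, dP', zP, h.Phi₄] at F₄
    rw [y1, yt] at d₁
    rw [y1', yt'] at d₂
    have d₁' : y * Q ^ 2 = -ρ * ((C{t}).index : ℤ) := by exact_mod_cast d₁
    have d₂' : y' * Q ^ 2 = -ρ * ((C{t}).index : ℤ) := by exact_mod_cast d₂
    obtain rfl : y = y' := mul_right_cancel₀ (pow_ne_zero 2 h.Q_ne) (d₁'.trans d₂'.symm)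
    obtain rfl : d = d' := by omega
    exact case43 (N := (C{t}).index) hQρ (by rcases abs_cases Q with k | k <;> omega)
      (by exact_mod_cast (C{t}).index_ne_zero_of_finite) x0 d0 y0 z0 (by linear_combination d₁')
      E₂ E₄ (by push_cast at F₂ ⊢; linear_combination F₂)
      (by push_cast at F₄ ⊢; linear_combination F₄)

theorem exists_Z (p₂ : classInner (o G) Θ₂ = 0) {W : G → ℂ} (r : Row Θ₂ Θ₃ Θ₄ W 1 0 0) :
    ∃ Z, Row Θ₂ Θ₃ Θ₄ Z 1 1 1 := by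
  have c₂ : classInner Θ₂ W = 1 := by rw [h.g₂.inner_comm r.s.gen]; simpa using r.c₂
  have g := h.g₂.sub r.s.gen
  have n : classInner (Θ₂ - W) (Θ₂ - W) = 3 := by rw [r.s.norm_sub h.g₂ c₂, h.n₂]; norm_num
  obtain ⟨A, hA, a1⟩ := exists_sirr_inner_eq_one g (n := 2) le_rfl (by rw [n]; norm_num)
  rw [← hA.inner_comm g] at a1
  obtain ⟨B, C, hB, hC, e, b1, c1, -⟩ := split_one g n hA a1
  have mk : ∀ X, SIrr X → classInner X (Θ₂ - W) = 1 → classInner X Θ₃ = 1 → classInner X Θ₄ = 1 →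
      Row Θ₂ Θ₃ Θ₄ X 1 1 1 := by
    intro X hX x1 x3 x4
    have hW : classInner X W = 0 := classInner_comm_of_eq_zero
      (sirr_inner_ne r.s hX (η := Θ₃) (by simpa using r.c₃) (by simp [x3]))
    rw [classInner_sub_right, hW, sub_zero] at x1
    exact ⟨hX, classInner_comm_of_eq_zero (sirr_inner_ne sirr_one hX p₂ (by simp [x1])),
      by simp [x1], by simp [x3], by simp [x4]⟩
  have s₃ : classInner A Θ₃ + classInner B Θ₃ + classInner C Θ₃ = 2 := by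
    rw [← classInner_add_left, ← classInner_add_left, ← e, classInner_sub_left, h.n₂₃, r.c₃]; simp
  have s₄ : classInner A Θ₄ + classInner B Θ₄ + classInner C Θ₄ = 2 := by
    rw [← classInner_add_left, ← classInner_add_left, ← e, classInner_sub_left, h.n₂₄, r.c₄]; simp
  have two : ∀ {Θ : G → ℂ}, IsGeneralizedCharacter G Θ → classInner Θ Θ = 4 → Θ 1 = 0 →
      classInner A Θ + classInner B Θ + classInner C Θ = 2 →
      (classInner A Θ = 1 ∧ classInner B Θ = 1) ∨ (classInner A Θ = 1 ∧ classInner C Θ = 1) ∨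
        (classInner B Θ = 1 ∧ classInner C Θ = 1) := by
    intro Θ g n d s
    rcases cases4 hA g n d with a | a | a <;> rcases cases4 hB g n d with b | b | b <;>
      rcases cases4 hC g n d with c | c | c <;> rw [a, b, c] at s <;> norm_num at s <;>
      simp [a, b, c]
  rcases two h.g₃ h.n₃ h.d₃ s₃ with ⟨x, y⟩ | ⟨x, y⟩ | ⟨x, y⟩ <;>
    rcases two h.g₄ h.n₄ h.d₄ s₄ with ⟨x', y'⟩ | ⟨x', y'⟩ | ⟨x', y'⟩
  exacts [⟨A, mk A hA a1 x x'⟩, ⟨A, mk A hA a1 x x'⟩, ⟨B, mk B hB b1 y x'⟩, ⟨A, mk A hA a1 x x'⟩,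
    ⟨A, mk A hA a1 x x'⟩, ⟨C, mk C hC c1 y y'⟩, ⟨B, mk B hB b1 x y'⟩, ⟨C, mk C hC c1 y y'⟩,
    ⟨B, mk B hB b1 x x'⟩]

theorem final_zero {q : ℤ} {n : ℕ} (hn : q = 3 ^ n) (hodd : Odd n) (hq : 27 ≤ q) (hQ : Q = -q)
    (hN : ((C{t}).index : ℤ) = Q ^ 2 * (Q ^ 2 + Q + 1)) (p₂ : classInner (o G) Θ₂ = 0)
    (p₃ : classInner (o G) Θ₃ = 0) (p₄ : classInner (o G) Θ₄ = 0) {W₁ W₂ : G → ℂ} {u : ℤ}
    (r₁ : Row Θ₂ Θ₃ Θ₄ W₁ 1 u u) (r₂ : Row Θ₂ Θ₃ Θ₄ W₂ 0 (1 - u) (-u))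
    (d₁ : W₁ 1 * Q ^ 2 = -W₁ t * (C{t}).index) (d₂ : W₂ 1 * Q ^ 2 = -W₂ t * (C{t}).index) :
    False := by
  have hQρ := h.Qρ
  obtain ⟨b, hb⟩ : ∃ b, b = -ρ := ⟨_, rfl⟩
  obtain ⟨M, hM⟩ : ∃ M, M = q ^ 2 - q + 1 := ⟨_, rfl⟩
  have hqb : q = 2 * b + 1 := by omega
  have hρ : ρ = -b := by omega
  have hN' : ((C{t}).index : ℤ) = q ^ 2 * M := by rw [hN, hQ, hM]; ring
  have h8 : q % 8 = 3 := by
    obtain ⟨m, rfl⟩ := hodd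
    have : (9 : ℤ) ^ m % 8 = 1 := by
      simpa [Int.ModEq] using (show (9 : ℤ) ≡ 1 [ZMOD 8] by decide).pow m
    rw [hn, pow_succ, pow_mul]; norm_num; omega
  have q0 : (q : ℂ) ≠ 0 := by exact_mod_cast (by omega : q ≠ 0)
  have M0 : (M : ℂ) ≠ 0 := by exact_mod_cast (by rw [hM]; nlinarith : M ≠ 0)
  have qb : (q : ℂ) = 2 * b + 1 := by exact_mod_cast hqb
  have Mq : (M : ℂ) = q ^ 2 - q + 1 := by exact_mod_cast hM
  have P₂ : Phi t Θ₂ = 4 * b * (b - 1) / M := by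
    rw [h.Phi₂, hN', hQ, hρ]; push_cast; field_simp; ring
  have P₄ : Phi t Θ₄ = 4 * b ^ 2 * (q + 1) / (q * M) := by
    rw [h.Phi₄, hN', hQ, hρ]; push_cast; field_simp; ring
  have dg : ∀ {W : G → ℂ} {w v : ℤ}, W 1 * Q ^ 2 = -W t * (C{t}).index → W 1 = w → W t = v →
      w = -v * M := by
    intro W w v d e1 e2
    rw [e1, e2] at d
    have d' : w * Q ^ 2 = -v * ((C{t}).index : ℤ) := by exact_mod_cast d
    rw [hN', hQ] at d'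
    exact mul_right_cancel₀ (pow_ne_zero 2 (by omega : q ≠ 0)) (by linear_combination d')
  have hu : u = 0 ∨ u = 1 := by
    have k1 := cases4 r₁.s h.g₃ h.n₃ h.d₃
    have k2 := cases4 r₂.s h.g₃ h.n₃ h.d₃
    rw [r₁.c₃] at k1
    rw [r₂.c₃] at k2
    norm_cast at k1 k2
    omega
  have one : ∀ {x : ℂ}, x = (1 : ℤ) → x = 1 := fun k => by simpa using k
  rcases hu with rfl | rfl
  · obtain ⟨Z, rZ⟩ := h.exists_Z p₂ r₁
    obtain ⟨z, z1, -, zP, z0, zn, -, z8, zi⟩ := h.row_data rZ (by simp) (v := 1)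
      (by rw [hQρ]; ring)
    rcases gramZ h.g₂ h.g₃ h.g₄ h.n₂ h.n₃ h.n₄ h.n₂₃ h.n₂₄ h.n₃₄ p₂ p₃ p₄ h.d₂ h.d₃ h.d₄ rZ with
      ⟨X, Y₂, Z₂, Y₄, Z₄, k₂, k₄, rX, rY₂, rZ₂, rY₄, rZ₄⟩ |
      ⟨X, A, B, Y₂, Y₃, Y₄, k₂, k₃, k₄, rX, rA, rB, rY₂, rY₃, rY₄⟩
    · have key : ∀ Y₂ Z₂, Θ₂ = Z + X + Y₂ + Z₂ → Row Θ₂ Θ₃ Θ₄ Y₂ 1 0 0 → Row Θ₂ Θ₃ Θ₄ Z₂ 1 0 0 →
          Y₂ 1 * Q ^ 2 = -Y₂ t * (C{t}).index → False := by
        intro Y₂ Z₂ k₂ rY₂ rZ₂ d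
        obtain ⟨x, x1, -, xP, x0, xn, -, x8, -⟩ := h.row_data rX (by simp) (v := 1)
          (by rw [hQρ]; ring)
        obtain ⟨y, y1, yt, yP, -⟩ := h.row_data rY₂ (by simp) (v := -b) (by rw [hρ]; ring)
        obtain ⟨w, w1, -, wP, w0, -⟩ := h.row_data rZ₂ (by simp) (v := -b) (by rw [hρ]; ring)
        obtain ⟨y₄, y41, -, y4P, y40, -⟩ := h.row_data rY₄ (by simp) (v := q) (by rw [hQ]; ring)
        obtain ⟨z₄, z41, -, z4P, z40, -⟩ := h.row_data rZ₄ (by simp) (v := q) (by rw [hQ]; ring)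
        obtain ⟨E₂, F₂⟩ := eqs (t := t) h.d₂ k₂ z1 x1 y1 w1
        obtain ⟨E₄, F₄⟩ := eqs (t := t) h.d₄ k₄ z1 x1 y41 z41
        obtain rfl := dg d y1 yt
        rw [zP, xP, yP, wP, P₂] at F₂
        rw [zP, xP, y4P, z4P, P₄] at F₄
        have b0 : (b : ℂ) ≠ 0 := by exact_mod_cast (by omega : b ≠ 0)
        have e : ((-b : ℤ) : ℂ) ^ 2 / ((- -b * M : ℤ) : ℂ) = b / M := by
          push_cast; field_simp
        rw [e] at F₂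
        exact caseC hn hqb hM hq z0 x0 w0 y40 z40 zn xn z8 x8 (by linear_combination E₂) E₄
          (by push_cast at F₂ ⊢; linear_combination F₂)
          (by push_cast at F₄ ⊢; linear_combination F₄)
      rcases eq_of_four r₁.s rZ.s rX.s rY₂.s rZ₂.s k₂ (one r₁.c₂) (one rZ.c₂) (one rX.c₂)
        (one rY₂.c₂) (one rZ₂.c₂) with rfl | rfl | rfl | rfl
      · have := r₁.eq rZ; omega
      · have := r₁.eq rX; omega
      · exact key _ _ k₂ rY₂ rZ₂ d₁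
      · exact key _ _ (by rw [k₂]; abel) rZ₂ rY₂ d₁
    · rcases eq_of_four r₁.s rZ.s rX.s rA.s rY₂.s k₂ (one r₁.c₂) (one rZ.c₂) (one rX.c₂)
        (one rA.c₂) (one rY₂.c₂) with rfl | rfl | rfl | rfl
      · have := r₁.eq rZ; omega
      · have := r₁.eq rX; omega
      · have := r₁.eq rA; omega
      rcases eq_of_four r₂.s rZ.s rX.s rB.s rY₃.s k₃ (one r₂.c₃) (one rZ.c₃) (one rX.c₃)
        (one rB.c₃) (one rY₃.c₃) with rfl | rfl | rfl | rfl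
      · have := r₂.eq rZ; omega
      · have := r₂.eq rX; omega
      · have := r₂.eq rB; omega
      obtain ⟨x, x1, -, xP, x0, -⟩ := h.row_data rX (by simp) (v := -(2 * b)) (by rw [hρ]; ring)
      obtain ⟨d, d1, -, dP, d0, -, -, -, di⟩ := h.row_data rA (by simp) (v := b + 1)
        (by rw [hQρ, hρ]; ring)
      obtain ⟨d', d1', -, dP', -⟩ := h.row_data rB (by simp) (v := b + 1) (by rw [hQρ, hρ]; ring)
      obtain ⟨y, y1, yt, yP, -⟩ := h.row_data rY₂ (by simp) (v := -b) (by rw [hρ]; ring)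
      obtain ⟨y', y1', yt', -⟩ := h.row_data rY₃ (by simp) (v := -b) (by rw [hρ]; ring)
      obtain ⟨y₄, y41, -, y4P, y40, -⟩ := h.row_data rY₄ (by simp) (v := q) (by rw [hQ]; ring)
      obtain ⟨E₂, F₂⟩ := eqs (t := t) h.d₂ k₂ z1 x1 d1 y1
      obtain ⟨E₃, -⟩ := eqs (t := t) h.d₃ k₃ z1 x1 d1' y1'
      obtain ⟨E₄, F₄⟩ := eqs (t := t) h.d₄ k₄ z1 d1 d1' y41
      obtain rfl := dg d₁ y1 yt
      obtain rfl := dg d₂ y1' yt'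
      obtain rfl : d = d' := by omega
      rw [zP, xP, dP, yP, P₂] at F₂
      rw [zP, dP, dP', y4P, P₄] at F₄
      have b0 : (b : ℂ) ≠ 0 := by exact_mod_cast (by omega : b ≠ 0)
      have e : ((-b : ℤ) : ℂ) ^ 2 / ((- -b * M : ℤ) : ℂ) = b / M := by
        push_cast; field_simp
      rw [e] at F₂
      exact caseD hqb rfl hM hN' hq z0 x0 d0 y40 (by simpa using zi) di
        (by linear_combination E₂) E₄ (by push_cast at F₂ ⊢; linear_combination F₂)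
        (by push_cast at F₄ ⊢; linear_combination F₄)
  · have d₂' : (-W₂) 1 * Q ^ 2 = -(-W₂) t * (C{t}).index := by
      simp only [Pi.neg_apply]; linear_combination -d₂
    have r₂' : Row Θ₂ Θ₃ Θ₄ (-W₂) 0 0 1 := by simpa using r₂.neg
    generalize -W₂ = W at *
    obtain ⟨z, z1, zt, zP, -⟩ := h.row_data r₁ (by simp) (v := 1) (by rw [hQρ]; ring)
    obtain ⟨w, w1, wt, wP, -⟩ := h.row_data r₂' (by simp) (v := q) (by rw [hQ]; ring)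
    obtain rfl := dg d₁ z1 zt
    obtain rfl := dg d₂' w1 wt
    have e : ((1 : ℤ) : ℂ) ^ 2 / ((-1 * M : ℤ) : ℂ) + (q : ℂ) ^ 2 / ((-q * M : ℤ) : ℂ) =
        4 * b ^ 2 * (q + 1) / (q * M) - (q + 1) / q := by
      push_cast; field_simp; rw [Mq, qb]; ring
    rcases gramZ h.g₂ h.g₃ h.g₄ h.n₂ h.n₃ h.n₄ h.n₂₃ h.n₂₄ h.n₃₄ p₂ p₃ p₄ h.d₂ h.d₃ h.d₄ r₁ with
      ⟨X, Y₂, Z₂, Y₄, Z₄, -, k₄, rX, -, -, rY₄, rZ₄⟩ |
      ⟨X, A, B, Y₂, Y₃, Y₄, -, -, k₄, -, rA, rB, -, -, rY₄⟩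
    · have key : ∀ Y₄, Θ₄ = W₁ + X + Y₄ + W → Row Θ₂ Θ₃ Θ₄ Y₄ 0 0 1 → False := by
        intro Y₄ k₄ rY₄
        obtain ⟨x, x1, -, xP, x0, xn, -, x8, -⟩ := h.row_data rX (by simp) (v := 1)
          (by rw [hQρ]; ring)
        obtain ⟨y₄, y41, -, y4P, y40, -⟩ := h.row_data rY₄ (by simp) (v := q) (by rw [hQ]; ring)
        obtain ⟨E₄, F₄⟩ := eqs (t := t) h.d₄ k₄ z1 x1 y41 w1
        rw [zP, xP, y4P, wP, P₄] at F₄
        exact caseA hM hq h8 x0 y40 xn x8 (by linear_combination E₄)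
          (by push_cast at F₄ e ⊢; linear_combination F₄ - e)
      rcases eq_of_four r₂'.s r₁.s rX.s rY₄.s rZ₄.s k₄ (one r₂'.c₄) (one r₁.c₄) (one rX.c₄)
        (one rY₄.c₄) (one rZ₄.c₄) with rfl | rfl | rfl | rfl
      · have := r₁.eq r₂'; omega
      · have := r₂'.eq rX; omega
      · exact key _ (by rw [k₄]; abel) rZ₄
      · exact key _ k₄ rY₄
    · rcases eq_of_four r₂'.s r₁.s rA.s rB.s rY₄.s k₄ (one r₂'.c₄) (one r₁.c₄) (one rA.c₄)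
        (one rB.c₄) (one rY₄.c₄) with rfl | rfl | rfl | rfl
      · have := r₁.eq r₂'; omega
      · have := r₂'.eq rA; omega
      · have := r₂'.eq rB; omega
      obtain ⟨d, d1, -, dP, d0, -⟩ := h.row_data rA (by simp) (v := b + 1) (by rw [hQρ, hρ]; ring)
      obtain ⟨d', d1', -, dP', d0', -⟩ := h.row_data rB (by simp) (v := b + 1)
        (by rw [hQρ, hρ]; ring)
      obtain ⟨E₄, F₄⟩ := eqs (t := t) h.d₄ k₄ z1 d1 d1' w1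
      rw [zP, dP, dP', wP, P₄] at F₄
      exact caseB (c := b + 1) hM hq h8 (by omega) d0 d0' (by linear_combination E₄)
        (by push_cast at F₄ e ⊢; linear_combination F₄ - e)

end H17.JB.AS
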