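import Mathlib
import Cfsg.Agent.H27.JTTI

/-! Brauer's second and third main theorems twisted by a linear character that is constant on the
classes of the big group. -/

set_option autoImplicit false
open Cfsg H4 H5 H17 H24 Subgroup H27.JT
open scoped ComplexConjugate

namespace H17.JB

theorem conj_unit {z : ℂˣ} {n : ℕ} (hn : n ≠ 0) (h : z ^ n = 1) : conj (z : ℂ) = (z⁻¹ : ℂˣ) := by
  have h1 : (z : ℂ) ^ n = 1 := by rw [← Units.val_pow_eq_pow_val, h, Units.val_one]
  rw [Units.val_inv_eq_inv_val, Complex.inv_eq_conj (Complex.norm_eq_one_of_pow_eq_one h1 hn)]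

section
variable {H : Type*} [Group H] [Finite H]

theorem lin_pow (lam : H →* ℂˣ) (h : H) : lam h ^ Nat.card H = 1 := by
  rw [← map_pow, pow_card_eq_one', map_one]

theorem conj_ch (lam : H →* ℂˣ) (h : H) : conj (ch lam h) = ch lam⁻¹ h :=
  conj_unit Nat.card_pos.ne' (lin_pow lam h)

omit [Finite H] in
theorem ch_mul_inv (lam : H →* ℂˣ) (h : H) : ch lam h * ch lam⁻¹ h = 1 := by simp [ch]

/-- multiplication by a linear character -/
def tw (lam : H →* ℂˣ) : Irr H ≃ Irr H where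
  toFun ξ := ⟨ξ.1 * ch lam, ξ.2.mul_linear (ch_irr lam).isCharacter (ch_apply_one lam)⟩
  invFun ξ := ⟨ξ.1 * ch lam⁻¹, ξ.2.mul_linear (ch_irr _).isCharacter (ch_apply_one _)⟩
  left_inv ξ := Subtype.ext (funext fun h => by simp [ch])
  right_inv ξ := Subtype.ext (funext fun h => by simp [ch])

theorem tw_apply (lam : H →* ℂˣ) (ξ : Irr H) (h : H) : (tw lam ξ).1 h = ξ.1 h * ch lam h := rfl

theorem blockPart_tw (lam : H →* ℂˣ) (A : Set (Irr H)) (f : H → ℂ) (h : H) :
    blockPart (tw lam '' A) f h = ch lam h * blockPart A (fun k => ch lam⁻¹ k * f k) h := by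
  have := Fintype.ofFinite H
  rw [blockPart_apply, blockPart_apply, ← (tw lam).sum_comp, Finset.mul_sum]
  refine Finset.sum_congr rfl fun ξ _ => ?_
  have e1 : ind (tw lam '' A) (tw lam ξ) = ind A ξ := by
    classical
    rw [ind_apply, ind_apply]
    exact if_congr ((tw lam).injective.mem_set_image) rfl rfl
  have e2 : classInner f (tw lam ξ).1 = classInner (fun k => ch lam⁻¹ k * f k) ξ.1 := by
    rw [classInner_def, classInner_def]
    congr 1
    refine Finset.sum_congr rfl fun k _ => ?_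
    rw [tw_apply, map_mul, conj_ch]; ring
  rw [e1, e2, tw_apply]; ring

end

variable {G H : Type*} [Group G] [Finite G] [Group H] [Finite H] {φ : H →* G} {lam : H →* ℂˣ}

theorem res_cls_tw (hlam : ∀ a b, IsConj (φ a) (φ b) → lam a = lam b) (g : G) :
    ∃ c : ℂˣ, c ^ Nat.card H = 1 ∧ ∀ ξ, res φ (cls g) (tw lam ξ) = c * res φ (cls g) ξ := by
  classical
  have := Fintype.ofFinite H
  obtain ⟨c, h1, h2⟩ : ∃ c : ℂˣ, c ^ Nat.card H = 1 ∧ ∀ h, IsConj g (φ h) → lam h = c := by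
    by_cases k : ∃ h, IsConj g (φ h)
    · obtain ⟨h, k⟩ := k
      exact ⟨lam h, lin_pow lam h, fun h' k' => hlam _ _ (k'.symm.trans k)⟩
    · exact ⟨1, one_pow _, fun h k' => absurd ⟨h, k'⟩ k⟩
  refine ⟨c, h1, fun ξ => ?_⟩
  rw [res_apply, hat_apply, hat_apply, tw_apply, ch_apply_one, mul_one, mul_div_assoc',
    Finset.mul_sum]
  congr 1
  refine Finset.sum_congr rfl fun h _ => ?_
  rw [co_cls, tw_apply]
  split_ifs with k
  · rw [ch, h2 h k]; ring
  · simp

variable {p : ℕ} [hp : Fact p.Prime] {M : Ideal AlgInt} [PM p M]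

theorem indSet_tw (hφ : Function.Injective φ) (hall : ∀ ξ : Irr H, ∃ χ, IndRel M φ ξ χ)
    (hlam : ∀ a b, IsConj (φ a) (φ b) → lam a = lam b) {χ₀ : Irr G}
    (h0 : IndRel M φ (tw lam (irrOne H)) χ₀) :
    indSet M φ (blockOf M χ₀.1) = tw lam '' principalBlock M H := by
  have hp1 : ∀ ζ : Irr H, ζ ∈ principalBlock M H ↔ IndRel M φ ζ (irrOne G) := fun ζ => by
    rw [← indSet_principal hφ hall, principalBlock_eq]
    exact ⟨fun ⟨χ, h1, h2⟩ => h2.congr (SB.refl _) (SB.symm (mem_blockOf.mp h1)),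
      fun k => ⟨irrOne G, self_mem_blockOf (irrOne G), k⟩⟩
  have h1 := (hp1 (irrOne H)).mp (by rw [principalBlock_eq]; exact self_mem_blockOf (irrOne H))
  ext ξ
  obtain ⟨ζ, rfl⟩ := (tw lam).surjective ξ
  rw [(tw lam).injective.mem_set_image, hp1]
  have e : tw lam ζ ∈ indSet M φ (blockOf M χ₀.1) ↔ IndRel M φ (tw lam ζ) χ₀ :=
    ⟨fun ⟨χ, h1, h2⟩ => h2.congr (SB.refl _) (SB.symm h1), fun k => ⟨_, self_mem_blockOf _, k⟩⟩
  rw [e, indRel_iff_cls, indRel_iff_cls]
  rw [indRel_iff_cls] at h0 h1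
  refine forall_congr' fun g => ?_
  obtain ⟨c, hc, k⟩ := res_cls_tw hlam g
  have h2 := h0 g
  have h3 := h1 g
  rw [k] at h2 ⊢
  have s1 : (c : ℂ) ∈ S M := S_of_pow_eq_one Nat.card_pos.ne'
    (by rw [← Units.val_pow_eq_pow_val, hc, Units.val_one])
  have s2 : ((c⁻¹ : ℂˣ) : ℂ) ∈ S M := S_of_pow_eq_one Nat.card_pos.ne'
    (by rw [← Units.val_pow_eq_pow_val, inv_pow, hc, inv_one, Units.val_one])
  constructor
  · intro h4
    have := Pm_mul_left s2 (sub_mem_Pm_trans h4 (sub_mem_Pm_symm h2))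
    rw [← mul_sub, ← mul_assoc, Units.inv_mul, one_mul] at this
    exact sub_mem_Pm_trans this h3
  · intro h4
    have := Pm_mul_left s1 (sub_mem_Pm_trans h4 (sub_mem_Pm_symm h3))
    rw [mul_sub] at this
    exact sub_mem_Pm_trans this h2

/-- the twisted dichotomy -/
theorem tw_dich (hφ : Function.Injective φ) (hall : ∀ ξ : Irr H, ∃ χ, IndRel M φ ξ χ)
    (hlam : ∀ a b, IsConj (φ a) (φ b) → lam a = lam b) (χ : Irr G) :
    ∃ c : ℂ, (c = 0 ∨ c = 1) ∧ ∀ h, centralizer {pp p (φ h)} ≤ φ.range →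
      blockPart (principalBlock M H) (fun k => ch lam⁻¹ k * χ.1 (φ k)) h =
        c * (ch lam⁻¹ h * χ.1 (φ h)) := by
  classical
  obtain ⟨χ₀, h0⟩ := hall (tw lam (irrOne H))
  refine ⟨ind (blockOf M χ₀.1) χ, by rw [ind_apply]; split_ifs <;> simp, fun h hC => ?_⟩
  have e := second_main hφ hall hC (fb_mem_ZS (M := M) χ₀) χ.2.classFun
  rw [indSet_tw hφ hall hlam h0, blockPart_tw, blockPart_irr] at e
  simp only [Pi.smul_apply, smul_eq_mul] at e
  linear_combination -ch lam⁻¹ h * e -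
    blockPart (principalBlock M H) (fun k => ch lam⁻¹ k * χ.1 (φ k)) h * ch_mul_inv lam h

end H17.JB
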