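import Mathlib
import Cfsg.Agent.H17.JB3
import Cfsg.Agent.H17.JB4
import Cfsg.Agent.H27.JTTI2

/-! The twisted generalized characters on the section of `t`. -/

set_option autoImplicit false
open Cfsg H4 H5 H17 H24 Subgroup H27.JT
open scoped ComplexConjugate

namespace H17.JB

/-- a class function of odd order which is multiplicative on `C(t)` -/
structure TwU {G : Type*} [Group G] (t : G) (U : G → ℂˣ) (n : ℕ) : Prop where
  odd : Odd n
  pow : ∀ g, U g ^ n = 1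
  cf : ∀ a b, IsConj a b → U a = U b
  inv : ∀ g, U g⁻¹ = (U g)⁻¹
  mul : ∀ a ∈ C{t}, ∀ b ∈ C{t}, U (a * b) = U a * U b

/-- the twisting function -/
def uu {G : Type*} (U : G → ℂˣ) : G → ℂ := fun g => U g
/-- its inverse -/
def ub {G : Type*} (U : G → ℂˣ) : G → ℂ := fun g => ((U g)⁻¹ : ℂˣ)

theorem twU_one {G : Type*} [Group G] (t : G) : TwU t (fun _ => 1) 1 :=
  ⟨odd_one, fun _ => one_pow _, fun _ _ _ => rfl, fun _ => inv_one.symm,
    fun _ _ _ _ => (one_mul _).symm⟩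

namespace TwU
variable {G : Type*} [Group G] {t : G} {U : G → ℂˣ} {n : ℕ} (h : TwU t U n)
include h

theorem real {g : G} (hg : IsConj g g⁻¹) : U g = 1 := by
  have h1 : U g ^ 2 = 1 := by
    rw [pow_two]; nth_rewrite 1 [h.cf _ _ hg]; rw [h.inv, inv_mul_cancel]
  rw [← pow_odd_of_sq h.odd h1, h.pow]

theorem of_sq {g : G} (hg : g * g = 1) : U g = 1 :=
  h.real (by rw [inv_eq_of_mul_eq_one_right hg])

theorem one : U 1 = 1 := h.of_sq (one_mul 1)

/-- the restriction to a subgroup of `C(t)` -/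
def lam {H : Type*} [Group H] (φ : H →* G) (hφ : ∀ k, φ k ∈ C{t}) : H →* ℂˣ :=
  MonoidHom.mk' (fun k => U (φ k)) fun a b => by rw [map_mul, h.mul _ (hφ a) _ (hφ b)]

theorem lam_apply {H : Type*} [Group H] (φ : H →* G) (hφ : ∀ k, φ k ∈ C{t}) (k : H) :
    h.lam φ hφ k = U (φ k) := rfl

theorem uu_cf : IsClassFunction G (uu U) := fun _ k =>
  congrArg Units.val (h.cf _ _ (isConj_iff.mpr ⟨k, rfl⟩)).symm
theorem ub_cf : IsClassFunction G (ub U) := fun g k => by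
  simp only [ub, ← h.cf _ _ (isConj_iff.mpr ⟨k, rfl⟩ : IsConj g _)]
theorem conj_uu (g : G) : conj (uu U g) = ub U g := conj_unit h.odd.pos.ne' (h.pow g)
omit h [Group G] in
theorem uu_ub (g : G) : uu U g * ub U g = 1 := by simp [uu, ub]
theorem mul_uu {g : G} (hg : g * g = 1) (f : G → ℂ) : (f * uu U) g = f g := by
  simp [uu, h.of_sq hg]
theorem mul_ub {g : G} (hg : g * g = 1) (f : G → ℂ) : (f * ub U) g = f g := by
  simp [ub, h.of_sq hg]

variable [Fintype G]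

theorem inner_uu (W f : G → ℂ) : classInner W (f * uu U) = classInner (W * ub U) f := by
  rw [classInner_def, classInner_def]
  congr 1
  refine Finset.sum_congr rfl fun g _ => ?_
  rw [Pi.mul_apply, Pi.mul_apply, map_mul, h.conj_uu]; ring

theorem inner_uu_uu (f f' : G → ℂ) : classInner (f * uu U) (f' * uu U) = classInner f f' := by
  rw [h.inner_uu]
  congr 1
  ext g
  simp only [Pi.mul_apply, mul_assoc, uu_ub, mul_one]

theorem gen_ind {H : Subgroup G} (hH : H ≤ C{t}) {θ : H → ℂ} (hθ : IsGeneralizedCharacter H θ) :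
    IsGeneralizedCharacter G (indFun H θ * uu U) := by
  rw [← indFun_mul_restrict H θ h.uu_cf]
  exact (hθ.mul (ch_irr (h.lam H.subtype fun k => hH k.2)).isGen).indFun

theorem Phi_uu (ht : orderOf t = 2) (hG : ∀ u : G, orderOf u = 2 → IsConj t u) (f : G → ℂ) :
    Phi t (f * uu U) = Phi t f := by
  rw [H27.JT.Phi, H27.JT.Phi, inner_congr_left (φ' := f)]
  intro g hg
  rw [gam_eq_card ht hG] at hg
  obtain ⟨u, h1, h2⟩ : ∃ u : G, orderOf u = 2 ∧ orderOf (u * g) = 2 := by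
    by_contra k
    have : IsEmpty {u : G // orderOf u = 2 ∧ orderOf (u * g) = 2} := ⟨fun u => k ⟨u.1, u.2⟩⟩
    simp at hg
  simp [uu, h.real (isConj_iff.mpr ⟨u, inverts_of_two h1 (sq_of_two h2)⟩)]

end TwU

/-- the hypotheses on `C(t) = ⟨t⟩ × E` -/
structure SE {G E : Type*} [Group G] [Fintype G] [Group E] [Fintype E] {t : G} (ι : E →* G)
    (π : C{t} →* E) (M : Ideal AlgInt) (Q ρ : ℤ) (e₂ e₃ e₄ : E → ℂ) : Prop where
  jh : JH t ι π
  lb : LB M e₂ e₃ e₄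
  d₂ : e₂ 1 = -ρ
  d₃ : e₃ 1 = -ρ
  d₄ : e₄ 1 = Q
  Qρ : Q = 2 * ρ - 1
  odd_ρ : Odd ρ
  big : 27 ≤ |Q|
  cnj : ∀ u : G, orderOf u = 2 → IsConj t u
  E8 : ∃ P : Subgroup G, Nat.card P = 8 ∧ ∀ g ∈ P, g * g = 1
  lin : ∀ χ : G → ℂ, IsIrrCharacter G χ → χ 1 = 1 → χ = o G
  inv : ∃ s : E, orderOf s = 2 ∧ (∀ u : E, orderOf u = 2 → IsConj s u) ∧
    ((cl s).card : ℤ) ^ 2 = ρ ^ 2 * Q ^ 2

namespace SE
variable {G E : Type*} [Group G] [Fintype G] [Group E] [Fintype E] {t : G} {ι : E →* G}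
  {π : C{t} →* E} {M : Ideal AlgInt} {Q ρ : ℤ} {e₂ e₃ e₄ : E → ℂ} (h : SE ι π M Q ρ e₂ e₃ e₄)
include h

theorem van₂ (y : E) (hy : 2 ∣ orderOf y) : (o E - e₂) y = 0 := by simp [(h.lb.ev y hy).1]
theorem van₃ (y : E) (hy : 2 ∣ orderOf y) : (o E - e₃) y = 0 := by simp [(h.lb.ev y hy).2.1]
theorem van₄ (y : E) (hy : 2 ∣ orderOf y) : (o E - e₄) y = 0 := by simp [(h.lb.ev y hy).2.2]

theorem T_T {e e' : E → ℂ} (he' : SIrr e') (h0 : ∀ y, 2 ∣ orderOf y → (o E - e) y = 0)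
    (h0' : ∀ y, 2 ∣ orderOf y → (o E - e') y = 0) (k : classInner e (o E) = 0)
    (k' : classInner (o E) e' = 0) :
    classInner (TT ι π e) (TT ι π e') = 2 + 2 * classInner e e' := by
  rw [TT, TT, h.jh.Th_Th h0 (sirr_one.gen.sub he'.gen).classFun h0', classInner_sub_left,
    classInner_sub_right, classInner_sub_right, k, k', classInner_one_one]
  ring

theorem T_t {e : E → ℂ} (he : SIrr e) (h0 : ∀ y, 2 ∣ orderOf y → (o E - e) y = 0) :
    TT ι π e t = 2 * (1 - e 1) := by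
  have := h.jh.Th_apply (sirr_one.gen.sub he.gen).classFun h0 (y := 1) (by simp)
  simpa [TT] using this

theorem Phi_T {e : E → ℂ} (he : SIrr e) (h0 : ∀ y, 2 ∣ orderOf y → (o E - e) y = 0) :
    Phi t (TT ι π e) = 4 * ρ ^ 2 * Q ^ 2 * (1 - 1 / e 1) / (C{t}).index := by
  obtain ⟨s, hs, hc, hcl⟩ := h.inv
  have h1 : e s = 1 := by have := h0 s (hs ▸ dvd_rfl); simp at this; linear_combination -this
  have hcl' : ((cl s).card : ℂ) ^ 2 = ρ ^ 2 * Q ^ 2 := by exact_mod_cast hcl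
  rw [H27.JT.Phi, TT, h.jh.Th_inner _ (gam_classFun t t), inner_congr_right (ψ' := (2 : ℂ) • gam s s),
    classInner_smul_right, classInner_sub_left, sirr_one.inner_gam, he.inner_gam, h1,
    ← (C{t}).index_mul_card, h.jh.card_C, map_ofNat]
  · have := index_ne_zero' C{t}
    have := H4.card_ne_zero E
    push_cast
    field_simp
    linear_combination (4 - 4 / e 1) * hcl'
  · intro y hy
    exact h.jh.gam_tι h.cnj hs hc fun k => hy (h0 y k)

variable {U : G → ℂˣ} {n : ℕ} (w : TwU t U n)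
include w

open Classical in
theorem inner_o {e : E → ℂ} (he : SIrr e) (h1 : e 1 ≠ 1) (h2 : e 1 ≠ -1) :
    classInner (o G) (TT ι π e * uu U) = if ∀ y, U (ι y) = 1 then 1 else 0 := by
  rw [w.inner_uu, TT, h.jh.inner_Th _ ((isClassFunction_const 1).mul w.ub_cf)]
  have e1 : (fun y => (o G * ub U) (t * ι y)) = ch (w.lam ι h.jh.mem)⁻¹ := by
    ext y
    simp [ub, ch, w.lam_apply, w.mul _ (selfC t).2 _ (h.jh.mem y), w.of_sq h.jh.sq]
  have e2 : classInner (ch (w.lam ι h.jh.mem)⁻¹) e = 0 := by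
    by_contra k
    rcases (sirr_of_irr (ch_irr _)).eq_or_eq_neg he k with k | k
    · exact h1 (by rw [← k, ch_apply_one])
    · have := congrFun k 1
      rw [ch_apply_one, Pi.neg_apply] at this
      exact h2 (by linear_combination this)
  rw [e1, classInner_sub_right, e2, sub_zero, ← ch_one, inner_ch]
  refine if_congr ⟨fun k y => ?_, fun k => ?_⟩ rfl rfl
  · simpa [w.lam_apply] using DFunLike.congr_fun k y
  · ext y; simp [w.lam_apply, k y]

open Classical in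
theorem inner_o' : classInner (o G) (TT ι π e₂ * uu U) = (if ∀ y, U (ι y) = 1 then 1 else 0) ∧
    classInner (o G) (TT ι π e₃ * uu U) = (if ∀ y, U (ι y) = 1 then 1 else 0) ∧
    classInner (o G) (TT ι π e₄ * uu U) = if ∀ y, U (ι y) = 1 then 1 else 0 := by
  have h1 := h.big
  have h2 := h.Qρ
  refine ⟨h.inner_o w h.lb.s₂ ?_ ?_, h.inner_o w h.lb.s₃ ?_ ?_, h.inner_o w h.lb.s₄ ?_ ?_⟩ <;>
    simp only [h.d₂, h.d₃, h.d₄] <;> norm_cast <;> rcases abs_cases Q with k | k <;> omega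

variable [PM 2 M]

omit w in
theorem blockPart_eq {ϑ : G → ℂ} (hϑ : IsClassFunction G ϑ) {y : E} (hy : ¬ 2 ∣ orderOf y) :
    blockPart (principalBlock M G) ϑ (t * ι y) = -(classInner ϑ (TT ι π e₂) * e₂ y +
      classInner ϑ (TT ι π e₃) * e₃ y + classInner ϑ (TT ι π e₄) * e₄ y) := by
  rw [h.jh.blockPart_tι M hϑ hy, h.lb.blk]
  simp only [TT, h.jh.inner_Th _ hϑ, classInner_sub_right]
  linear_combination (classInner (fun y => ϑ (t * ι y)) (o E)) * h.lb.od y hy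

theorem dich_irr {χ : G → ℂ} (hχ : IsIrrCharacter G χ) :
    (classInner (χ * ub U) (TT ι π e₂) = 0 ∧ classInner (χ * ub U) (TT ι π e₃) = 0 ∧
      classInner (χ * ub U) (TT ι π e₄) = 0) ∨ Star ι π e₂ e₃ e₄ (χ * ub U) := by
  have hϑ := hχ.classFun.mul w.ub_cf
  obtain ⟨c, hc, k⟩ := tw_dich (M := M) (lam := w.lam (C{t}).subtype fun k => k.2)
    (C{t}).subtype_injective (exists_indRel_centralizer M (PElt.of_two h.jh.ord))
    (fun a b e => w.cf _ _ e) ⟨χ, hχ⟩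
  have key : ∀ y, ¬ 2 ∣ orderOf y → c * (χ * ub U) (t * ι y) =
      -(classInner (χ * ub U) (TT ι π e₂) * e₂ y + classInner (χ * ub U) (TT ι π e₃) * e₃ y +
        classInner (χ * ub U) (TT ι π e₄) * e₄ y) := by
    intro y hy
    have e := second_main_principal (M := M) (h := ⟨t * ι y, h.jh.tmem y⟩) (h.jh.pp_tι hy) hϑ
    have e' := k ⟨t * ι y, h.jh.tmem y⟩ (centralizer_pp_le (h.jh.pp_tι hy))
    rw [← h.blockPart_eq hϑ hy, e]
    simp only [Pi.mul_apply, mul_comm (χ _)]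
    exact e'.symm
  rcases hc with rfl | rfl
  · left
    exact h.lb.indep fun y hy => by linear_combination key y hy
  · right
    intro y hy
    rw [← key y hy, one_mul]

theorem as : AS t (TT ι π e₂ * uu U) (TT ι π e₃ * uu U) (TT ι π e₄ * uu U)
    (fun W => Star ι π e₂ e₃ e₄ (W * ub U)) Q ρ := by
  have hρ : (ρ : ℂ) ≠ 0 := by
    have := h.odd_ρ
    exact_mod_cast (by rintro rfl; simp at this : ρ ≠ 0)
  have hQ : (Q : ℂ) ≠ 0 := by exact_mod_cast (by have := h.Qρ; omega : Q ≠ 0)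
  have g : ∀ {e : E → ℂ}, SIrr e → IsGeneralizedCharacter G (TT ι π e * uu U) := fun he =>
    w.gen_ind le_rfl (h.jh.Ps_gen (sirr_one.gen.sub he.gen))
  refine ⟨g h.lb.s₂, g h.lb.s₃, g h.lb.s₄, ?_, ?_, ?_, ?_, ?_, ?_, fun g hg => ?_, ?_, ?_, ?_, ?_,
    ?_, ?_, fun W hW => ?_, fun W hW => ?_, h.Qρ, h.odd_ρ, h.cnj, h.E8, h.lin⟩
  · rw [w.inner_uu_uu, h.T_T h.lb.s₂ h.van₂ h.van₂ h.lb.o₂' h.lb.o₂, h.lb.s₂.norm]; norm_num
  · rw [w.inner_uu_uu, h.T_T h.lb.s₃ h.van₃ h.van₃ h.lb.o₃' h.lb.o₃, h.lb.s₃.norm]; norm_num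
  · rw [w.inner_uu_uu, h.T_T h.lb.s₄ h.van₄ h.van₄ h.lb.o₄' h.lb.o₄, h.lb.s₄.norm]; norm_num
  · rw [w.inner_uu_uu, h.T_T h.lb.s₃ h.van₂ h.van₃ h.lb.o₂' h.lb.o₃, h.lb.o₂₃]; norm_num
  · rw [w.inner_uu_uu, h.T_T h.lb.s₄ h.van₂ h.van₄ h.lb.o₂' h.lb.o₄, h.lb.o₂₄]; norm_num
  · rw [w.inner_uu_uu, h.T_T h.lb.s₄ h.van₃ h.van₄ h.lb.o₃' h.lb.o₄, h.lb.o₃₄]; norm_num
  · simp only [Pi.mul_apply, TT, h.jh.Th_odd _ hg, zero_mul, and_self]
  · rw [w.mul_uu h.jh.sq, h.T_t h.lb.s₂ h.van₂, h.d₂]; ring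
  · rw [w.mul_uu h.jh.sq, h.T_t h.lb.s₃ h.van₃, h.d₃]; ring
  · rw [w.mul_uu h.jh.sq, h.T_t h.lb.s₄ h.van₄, h.d₄]
  · rw [w.Phi_uu h.jh.ord h.cnj, h.Phi_T h.lb.s₂ h.van₂, h.d₂]; push_cast; field_simp; ring
  · rw [w.Phi_uu h.jh.ord h.cnj, h.Phi_T h.lb.s₃ h.van₃, h.d₃]; push_cast; field_simp; ring
  · rw [w.Phi_uu h.jh.ord h.cnj, h.Phi_T h.lb.s₄ h.van₄, h.d₄]; push_cast; field_simp
  · simp only [w.inner_uu]
    rcases hW.irr_or with k | k
    · exact h.dich_irr w k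
    · rcases h.dich_irr w k with k | k
      · left; simpa only [neg_mul, classInner_neg_left, neg_eq_zero] using k
      · right
        intro y hy
        have := k y hy
        simp only [neg_mul, classInner_neg_left, Pi.neg_apply] at this
        linear_combination -this
  · have := hW 1 (by simp)
    rw [map_one, mul_one, w.mul_ub h.jh.sq, h.d₂, h.d₃, h.d₄] at this
    simp only [w.inner_uu]
    rw [this]; ring

end SE

end H17.JB
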