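import Mathlib
import Cfsg.Agent.H17.JB5
import Cfsg.Agent.H27.JTG

/-! The trivial intersection set in `B = C(y)`, where `B` need not be abelian. -/

set_option autoImplicit false
open Cfsg H4 H5 H17 H24 Subgroup H27.JT
open scoped ComplexConjugate

namespace H17.JB

theorem exists_lin {B : Type*} [Group B] [Finite B] {p : ℕ} [hp : Fact p.Prime]
    (hab : ∀ u v : B, PElt p u → PElt p v → u * v = v * u) {y : B} (hy : orderOf y = p)
    (hc : ∀ g, g * y = y * g) : ∃ lam : B →* ℂˣ, ∃ e : ℕ, lam ^ p ^ e = 1 ∧ lam y ≠ 1 := by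
  have hyp : PElt p y := ⟨1, by rw [hy, pow_one]⟩
  obtain ⟨P, hP⟩ := hyp.isPGroup_zpowers.exists_le_sylow
  have yP : y ∈ P := hP (mem_zpowers y)
  obtain ⟨ϕ, -, hϕ⟩ := exists_hom_pow (A := P) (fun a b => Subtype.ext
    (hab _ _ (PElt.of_mem P.2 a.2) (PElt.of_mem P.2 b.2))) 0 (g := ⟨y, yP⟩) fun u e => by
      have : (1 : B) = y := by simpa using congrArg Subtype.val e
      rw [← this, orderOf_one] at hy
      exact hp.out.one_lt.ne hy
  have ho : orderOf (ϕ ⟨y, yP⟩) = p := orderOf_eq_prime (by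
    rw [← map_pow, show (⟨y, yP⟩ : P) ^ p = 1 from Subtype.ext (by
      simp [← hy, pow_orderOf_eq_one]), map_one]) hϕ
  have e := MonoidHom.transfer_eq_pow ϕ y fun k g _ => by
    rw [mul_assoc, ← (Commute.pow_right (hc g) k).eq, inv_mul_cancel_left]
  obtain ⟨k, m, hm, hk⟩ := Nat.exists_eq_pow_mul_and_not_dvd (Nat.card_pos (α := B)).ne' p
    hp.out.ne_one
  refine ⟨MonoidHom.transfer ϕ ^ m, k, MonoidHom.ext fun g => ?_, fun h => ?_⟩
  · rw [MonoidHom.pow_apply, MonoidHom.pow_apply, ← pow_mul, mul_comm, ← hk, lin_pow]; rfl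
  · have e' : (⟨y ^ (P : Subgroup B).index, pow_mem yP _⟩ : P) = ⟨y, yP⟩ ^ (P : Subgroup B).index :=
      rfl
    rw [MonoidHom.pow_apply, e, e', map_pow, ← pow_mul, ← orderOf_dvd_iff_pow_eq_one, ho] at h
    exact (hp.out.dvd_mul.mp h).elim P.not_dvd_index hm

/-- the local configuration -/
structure TB {G : Type*} [Group G] (t : G) (V T : Subgroup G) (r y : G) : Prop where
  klein : IsKleinFour V
  ordt : orderOf t = 2
  tV : t ∉ V
  tC : t ∈ C[V]
  ordr : orderOf r = 3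
  rt : r * t = t * r
  rN : r ∈ N[V]
  rC : r ∉ C[V]
  ab : ∀ P : Subgroup G, IsPGroup 2 P → ∀ g ∈ P, ∀ k ∈ P, g * k = k * g
  prime : (orderOf y).Prime
  seven : 7 ≤ orderOf y
  BC : C{y} ≤ C[V]
  yC : y ∈ C[V]
  CV : ∀ c ∈ C[V], c ∈ C{y} ∨ c * t ∈ C{y}
  two : ∀ g ∈ C{y}, PElt 2 g → g ∈ V
  uniq : ∀ u ∈ C[V], orderOf u = orderOf y → u ∈ zpowers y
  labl : ∀ u ∈ C{y}, ∀ v ∈ C{y}, PElt (orderOf y) u → PElt (orderOf y) v → u * v = v * u
  TC : T ≤ C{y}
  yT : y ∈ T
  VT : V ≤ T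
  Tinv : ∀ c ∈ T, t * c * t⁻¹ = c⁻¹
  real : ∀ u ∈ C{y}, IsConj u u⁻¹ → u ∈ T

namespace TB
variable {G : Type*} [Group G] {t : G} {V T : Subgroup G} {r y : G} (h : TB t V T r y)
include h

theorem Vsq {v : G} (hv : v ∈ V) : v * v = 1 := kl_sq h.klein hv
theorem tt : t * t = 1 := sq_of_two h.ordt
theorem V_T {v : G} (hv : v ∈ V) : v ∈ C{y} := mem_centralizer_singleton_iff.mpr (h.yC v hv)
theorem Vt {v : G} (hv : v ∈ V) : v * t = t * v := h.tC v hv
theorem rr : r * r = r⁻¹ := eq_inv_of_mul_eq_one_left (by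
  have := pow_orderOf_eq_one r; rw [h.ordr] at this; rw [← this, pow_three'])
theorem odd_l : Odd (orderOf y) := h.prime.odd_of_ne_two (by have := h.seven; omega)
theorem y_ne : y ≠ 1 := by rintro rfl; have := h.seven; simp at this
omit h in
theorem conj_mem {n v : G} (hn : n ∈ N[V]) (hv : v ∈ V) : n * v * n⁻¹ ∈ V :=
  (mem_normalizer_iff.mp hn v).mp hv
theorem mem_V {g : G} (hg : g ∈ C{y}) (h2 : g * g = 1) : g ∈ V :=
  h.two g hg (PElt.iff_pow.mpr ⟨1, by rw [pow_one, pow_two, h2]⟩)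
theorem t_notMem : t ∉ C{y} := fun k => h.tV (h.mem_V k h.tt)
theorem sq_ne {u : G} (hl : orderOf y ∣ orderOf u) : u * u ≠ 1 := fun k => by
  have := Nat.le_of_dvd two_pos (hl.trans (orderOf_dvd_of_pow_eq_one (by rw [pow_two, k])))
  have := h.seven
  omega
theorem Tcomm {a b : G} (ha : a ∈ T) (hb : b ∈ T) : a * b = b * a := by
  have := h.Tinv _ (mul_mem ha hb)
  rw [show t * (a * b) * t⁻¹ = t * a * t⁻¹ * (t * b * t⁻¹) by group, h.Tinv a ha, h.Tinv b hb,
    ← mul_inv_rev, inv_inj] at this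
  exact this.symm

theorem conj_y {n : G} (hn : n ∈ N[V]) : n * y * n⁻¹ ∈ zpowers y := by
  refine h.uniq _ (fun v hv => ?_) (H17.orderOf_conj n y)
  have := h.yC _ (conj_mem (inv_mem hn) hv)
  calc v * (n * y * n⁻¹) = n * (n⁻¹ * v * n⁻¹⁻¹ * y) * n⁻¹ := by group
    _ = n * y * n⁻¹ * v := by rw [this]; group

theorem conjT {n u : G} (hn : n ∈ N[V]) (hu : u ∈ C{y}) : n * u * n⁻¹ ∈ C{y} := by
  have := mem_centralizer_singleton_iff.mp
    (C1_le_C1_of_mem_zpowers (h.conj_y (inv_mem hn)) hu)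
  rw [mem_centralizer_singleton_iff]
  calc n * u * n⁻¹ * y = n * (u * (n⁻¹ * y * n⁻¹⁻¹)) * n⁻¹ := by group
    _ = y * (n * u * n⁻¹) := by rw [this]; group

theorem w_mem (i : ℕ) : (t * r) ^ i ∈ N[V] :=
  pow_mem (mul_mem (centralizer_le_normalizer _ h.tC) h.rN) i
theorem w_two : (t * r) ^ 2 = r⁻¹ := by
  rw [Commute.mul_pow h.rt.symm, pow_two, pow_two, h.tt, h.rr, one_mul]
theorem w_three : (t * r) ^ 3 = t := by
  rw [pow_succ', h.w_two]; group
theorem w_four : (t * r) ^ 4 = r := by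
  rw [show 4 = 2 * 2 from rfl, pow_mul, h.w_two, pow_two, ← mul_inv_rev, h.rr, inv_inv]
theorem w_five : (t * r) ^ 5 = t * r⁻¹ := by
  rw [show 5 = 3 + 2 from rfl, pow_add, h.w_two, h.w_three]

theorem w_notMem {i : ℕ} (h0 : 0 < i) (h6 : i < 6) : (t * r) ^ i ∉ C{y} := by
  have h4 : (t * r) ^ 4 ∉ C{y} := by rw [h.w_four]; exact fun k => h.rC (h.BC k)
  intro k
  interval_cases i
  · exact h4 (by simpa using pow_mem k 4)
  · exact h4 (by simpa [← pow_mul] using pow_mem k 2)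
  · exact h.t_notMem (h.w_three ▸ k)
  · exact h4 k
  · rw [h.w_five] at k
    have := mul_mem k k
    rw [mul_assoc, ← mul_assoc r⁻¹, (Commute.inv_left h.rt).eq, ← mul_assoc, ← mul_assoc, h.tt,
      one_mul, ← mul_inv_rev, h.rr, inv_inv] at this
    exact h.rC (h.BC this)

/-- conjugation by `(t r) ^ i` on `C(y)` -/
def cw (i : ℕ) : C{y} →* C{y} where
  toFun u := ⟨(t * r) ^ i * u * ((t * r) ^ i)⁻¹, h.conjT (h.w_mem i) u.2⟩
  map_one' := by ext; simp
  map_mul' u v := by ext; simp only [Subgroup.coe_mul]; group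

theorem cw_coe (i : ℕ) (u : C{y}) : (h.cw i u : G) = (t * r) ^ i * u * ((t * r) ^ i)⁻¹ := rfl
theorem cw_surj (i : ℕ) : Function.Surjective (h.cw i) := fun u =>
  ⟨⟨_, h.conjT (inv_mem (h.w_mem i)) u.2⟩, Subtype.ext (by rw [cw_coe]; simp only; group)⟩
theorem comp_cw_zero (φ : C{y} →* ℂˣ) : φ.comp (h.cw 0) = φ :=
  MonoidHom.ext fun u => congrArg φ (Subtype.ext (by simp [cw_coe]))

variable [Finite G]

theorem fpf {v : G} (hv : v ∈ V) (e : r * v * r⁻¹ = v) : v = 1 :=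
  by_contra fun v1 => h.rC (kl_fix' h.klein h.ab h.rN hv v1 e)

theorem NV {n : G} (hn : n ∈ N[V]) : ∃ c ∈ C[V], n = c ∨ n = c * r ∨ n = c * r⁻¹ := by
  have hV := h.klein
  have rN' := h.rN
  have rC' := h.rC
  obtain ⟨v, hv, -, -, v1, -⟩ := kl_two hV
  have c := fun n (hn : n ∈ N[V]) w hw => (mem_normalizer_iff.mp hn w).mp hw
  have f := fun n hn w hw w1 e => kl_fix' hV h.ab (n := n) (v := w) hn hw w1 e
  by_cases e1 : n * v * n⁻¹ = v
  · exact ⟨n, f n hn v hv v1 e1, Or.inl rfl⟩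
  by_cases e2 : n * v * n⁻¹ = r * v * r⁻¹
  · exact ⟨n * r⁻¹, f _ (mul_mem hn (inv_mem rN')) _ (c _ rN' v hv) (by simpa using v1)
      (Eq.trans (by group) e2), Or.inr (Or.inl (by group))⟩
  have n1 : v ≠ r * v * r⁻¹ := fun k => rC' (f _ rN' v hv v1 k.symm)
  have e3 := kl_third hV hv (c _ rN' v hv) (c _ hn v hv) v1 (by simpa using v1) n1
    (by simpa using v1) e1 e2
  have hr' := h.rr
  have n2 : r⁻¹ * v * r⁻¹⁻¹ ≠ 1 := fun k => v1 (conj_eq_one_iff.mp k)
  have e4 := kl_third hV hv (c _ rN' v hv) (c _ (inv_mem rN') v hv) v1 (by simpa using v1) n1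
    n2 (fun k => rC' (by simpa using inv_mem (f _ (inv_mem rN') v hv v1 k)))
    fun k => rC' (by
      have := f _ (mul_mem rN' rN') v hv v1 (by
        calc r * r * v * (r * r)⁻¹ = r * (r * v * r⁻¹) * r⁻¹ := by group
          _ = v := by rw [← k]; group)
      rw [hr'] at this
      simpa using inv_mem this)
  exact ⟨n * r, f _ (mul_mem hn rN') _ (c _ (inv_mem rN') v hv) n2
    (Eq.trans (by group) (e3.trans e4.symm)), Or.inr (Or.inr (by group))⟩

theorem N_dec {g : G} (hg : g ∈ N[V]) : ∃ c ∈ C{y}, ∃ i < 6, g = c * (t * r) ^ i := by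
  obtain ⟨c, hc, e⟩ := h.NV hg
  have htt : ∀ u : G, c * u = c * t * (t * u) := fun u => by
    rw [mul_assoc, ← mul_assoc t, h.tt, one_mul]
  rcases h.CV c hc with k | k <;> rcases e with e | e | e
  · exact ⟨c, k, 0, by omega, by simpa using e⟩
  · exact ⟨c, k, 4, by omega, by rw [h.w_four, e]⟩
  · exact ⟨c, k, 2, by omega, by rw [h.w_two, e]⟩
  · exact ⟨_, k, 3, by omega, by rw [h.w_three, e, mul_assoc, h.tt, mul_one]⟩
  · exact ⟨_, k, 1, by omega, by rw [pow_one, e, htt]⟩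
  · exact ⟨_, k, 5, by omega, by rw [h.w_five, e, htt]⟩

theorem zpowers_eq {u : G} (hu : u ∈ C{y}) (ho : orderOf u = orderOf y) :
    zpowers u = zpowers y :=
  eq_of_le_of_card_ge (zpowers_le.mpr (h.uniq u (h.BC hu) ho)) (by
    rw [Nat.card_zpowers, Nat.card_zpowers, ho])

theorem y_mem {u : G} (hu : u ∈ C{y}) (hl : orderOf y ∣ orderOf u) : y ∈ zpowers u := by
  have : Fact (orderOf y).Prime := ⟨h.prime⟩
  obtain ⟨u', h1, h2⟩ := exists_orderOf_eq (H := zpowers u) h.prime (by rwa [Nat.card_zpowers])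
  refine zpowers_le.mpr h1 ?_
  rw [h.zpowers_eq (zpowers_le.mpr hu h1) h2]
  exact mem_zpowers y

theorem TI {u g : G} (hu : u ∈ C{y}) (hl : orderOf y ∣ orderOf u) (hg : g * u * g⁻¹ ∈ C{y}) :
    g ∈ N[V] := by
  obtain ⟨k, hk⟩ := h.y_mem hu hl
  have h1 : g * y * g⁻¹ ∈ C{y} := by
    have := zpow_mem hg k
    simp only at hk
    rwa [conj_zpow, hk] at this
  have h2 : y ∈ zpowers (g * y * g⁻¹) := h.y_mem h1 (by rw [H17.orderOf_conj])
  refine mem_normalizer_fintype fun v hv => h.mem_V (C1_le_C1_of_mem_zpowers h2 ?_) ?_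
  · rw [mem_centralizer_singleton_iff]
    calc g * v * g⁻¹ * (g * y * g⁻¹) = g * (v * y) * g⁻¹ := by group
      _ = g * y * g⁻¹ * (g * v * g⁻¹) := by rw [h.yC v hv]; group
  · calc g * v * g⁻¹ * (g * v * g⁻¹) = g * (v * v) * g⁻¹ := by group
      _ = 1 := by rw [h.Vsq hv]; group

end TB

namespace TB
variable {G : Type*} [Group G] [Fintype G] {t : G} {V T : Subgroup G} {r y : G}
  (h : TB t V T r y)
include h

theorem ind_apply {θ : C{y} → ℂ} (hθ : IsClassFunction C{y} θ) {u : C{y}}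
    (hl : orderOf y ∣ orderOf (u : G)) :
    indFun C{y} θ u = ∑ i ∈ Finset.range 6, θ (h.cw i u) := by
  classical
  have := Fintype.ofFinite C{y}
  let e : C{y} × Fin 6 → G := fun x => x.1 * (t * r) ^ (x.2 : ℕ)
  have key : ∀ (c d : C{y}) (i j : ℕ), i ≤ j → j < 6 → c * (t * r) ^ i = d * (t * r) ^ j →
      i = j := by
    intro c d i j hij hj k
    obtain ⟨m, rfl⟩ := Nat.exists_eq_add_of_le' hij
    rw [pow_add, ← mul_assoc, mul_left_inj] at k
    by_contra hm
    refine h.w_notMem (i := m) (by omega) (by omega) ?_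
    rw [show (t * r) ^ m = (d : G)⁻¹ * c by rw [k]; group]
    exact mul_mem (inv_mem d.2) c.2
  have he : Function.Injective e := by
    rintro ⟨c, i⟩ ⟨d, j⟩ k
    obtain rfl : i = j := Fin.ext ((le_total (i : ℕ) j).elim (fun l => key c d i j l j.2 k)
      fun l => (key d c j i l i.2 k.symm).symm)
    rw [Subtype.ext (mul_right_cancel k : (c : G) = d)]
  rw [H4.indFun_apply', ← Fintype.sum_of_injective e he (fun x => θ (h.cw x.2 u)),
    Fintype.sum_prod_type]
  · simp only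
    rw [Finset.sum_const, Finset.card_univ, ← Nat.card_eq_fintype_card,
      nsmul_eq_mul, ← mul_assoc, inv_mul_cancel₀ (H4.card_ne_zero _), one_mul, Finset.sum_range]
  · intro g hg
    rw [extendByZero_eq_dite, dif_neg]
    intro k
    obtain ⟨c, hc, i, hi, rfl⟩ := h.N_dec (h.TI u.2 hl k)
    exact hg ⟨(⟨c, hc⟩, ⟨i, hi⟩), rfl⟩
  · rintro ⟨c, i⟩
    rw [← hθ _ c, ← extendByZero_coe C{y} θ]
    congr 1
    simp only [e, Subgroup.coe_mul, cw_coe, Subgroup.coe_inv]
    group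

open Classical in
theorem gam_eq {s : G} (hs : orderOf s = 2) (hG : ∀ u : G, orderOf u = 2 → IsConj s u) {u : G}
    (hu : u ∈ C{y}) (hl : orderOf y ∣ orderOf u) :
    gam s s u = if u ∈ T then (♯T : ℂ) else 0 := by
  rw [gam_eq_card hs hG]
  split_ifs with huT
  swap
  · have : IsEmpty {s : G // orderOf s = 2 ∧ orderOf (s * u) = 2} := ⟨fun ⟨s, h1, h2⟩ =>
      huT (h.real u hu (isConj_iff.mpr ⟨s, inverts_of_two h1 (sq_of_two h2)⟩))⟩
    simp
  have key : ∀ s, s * t ∈ T → orderOf s = 2 := by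
    intro s hs
    refine orderOf_eq_two ?_ ?_
    · rintro rfl
      exact h.t_notMem (h.TC (by simpa using hs))
    · have := h.Tinv _ hs
      rw [mul_inv_rev, inv_of_two h.ordt, ← mul_assoc, mul_assoc _ t t, h.tt, mul_one,
        mul_right_inj] at this
      exact mul_eq_one_iff_eq_inv.mpr this
  have hiff : ∀ s : G, (orderOf s = 2 ∧ orderOf (s * u) = 2) ↔ s * t ∈ T := by
    intro s
    constructor
    · rintro ⟨h1, h2⟩
      have hi := inverts_of_two h1 (sq_of_two h2)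
      have hN := h.TI hu hl (hi ▸ inv_mem hu)
      have hs := sq_of_two h1
      have hC : s ∈ C[V] := by
        have hn : ∀ n c, n ∈ N[V] → c ∈ C[V] → c * n * (c * n) = 1 → n * n ∈ C[V] := by
          intro n c hn hc e
          have : n * c * n⁻¹ ∈ C[V] := fun v hv => by
            have := hc _ (conj_mem (inv_mem hn) hv)
            calc v * (n * c * n⁻¹) = n * (n⁻¹ * v * n⁻¹⁻¹ * c) * n⁻¹ := by group
              _ = n * c * n⁻¹ * v := by rw [this]; group
          have e' : n * n = (c * (n * c * n⁻¹))⁻¹ * (c * n * (c * n)) := by group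
          rw [e', e, mul_one]
          exact inv_mem (mul_mem hc this)
        obtain ⟨c, hc, rfl | rfl | rfl⟩ := h.NV hN
        · exact hc
        · have := hn _ _ h.rN hc hs
          rw [h.rr] at this
          exact absurd (by simpa using inv_mem this) h.rC
        · have := hn _ _ (inv_mem h.rN) hc hs
          rw [← mul_inv_rev, h.rr, inv_inv] at this
          exact absurd this h.rC
      have hB : s * t ∈ C{y} := by
        refine (h.CV s hC).resolve_left fun k => h.sq_ne hl ?_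
        rw [h.BC hu s (h.mem_V k hs), mul_inv_cancel_right] at hi
        exact mul_eq_one_iff_eq_inv.mpr hi
      refine h.real _ hB (isConj_iff.mpr ⟨t, ?_⟩)
      rw [mul_inv_rev, inv_of_two h1, inv_of_two h.ordt, ← mul_assoc, mul_assoc _ t t, h.tt,
        mul_one]
    · intro hs
      refine ⟨key s hs, key _ ?_⟩
      have := mul_mem hs (inv_mem huT)
      rwa [← h.Tinv u huT, inv_of_two h.ordt, ← mul_assoc, ← mul_assoc, mul_assoc s, h.tt,
        mul_one] at this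
  rw [Nat.card_congr (Equiv.subtypeEquivRight hiff)]
  congr 1
  exact Nat.card_congr ((Equiv.mulRight t).subtypeEquiv fun s => Iff.rfl)

end TB

end H17.JB
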