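import Mathlib
import Cfsg.Agent.H17.JB6

/-! The characters induced from the trivial intersection set and the abstract contradiction. -/

set_option autoImplicit false
open Cfsg H4 H5 H17 H24 Subgroup H27.JT
open scoped ComplexConjugate

namespace H17.JB.TB
section Chars
variable {G : Type*} [Group G] {t : G} {V T : Subgroup G} {r y : G} (h : TB t V T r y)
include h

theorem lam_supp {lam : C{y} →* ℂˣ} {e : ℕ} (hl : lam ^ orderOf y ^ e = 1) {u : C{y}}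
    (hu : lam u ≠ 1) : orderOf y ∣ orderOf (u : G) := by
  have h1 : orderOf (lam u) ∣ orderOf y ^ e := orderOf_dvd_of_pow_eq_one (DFunLike.congr_fun hl u)
  obtain ⟨k, -, e⟩ := (Nat.dvd_prime_pow h.prime).mp h1
  rcases k with _ | k
  · exact absurd (orderOf_eq_one_iff.mp e) hu
  · rw [Subgroup.orderOf_coe]
    exact (e ▸ dvd_pow_self _ k.succ_ne_zero).trans (orderOf_map_dvd lam u)

theorem lam_ne {lam : C{y} →* ℂˣ} (hx : lam (selfC y) ≠ 1) {i : ℕ} (h0 : 0 < i) (h6 : i < 6) :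
    lam ≠ lam.comp (h.cw i) := by
  intro e
  obtain ⟨k, hk⟩ := h.conj_y (h.w_mem i)
  simp only at hk
  have e1 := DFunLike.congr_fun e (selfC y)
  have e2 : h.cw i (selfC y) = selfC y ^ k := Subtype.ext hk.symm
  rw [MonoidHom.comp_apply, e2, map_zpow] at e1
  have h1 : orderOf (lam (selfC y)) = orderOf y :=
    ((Nat.dvd_prime h.prime).mp ((orderOf_map_dvd lam _).trans
      (Subgroup.orderOf_coe (selfC y)).symm.dvd)).resolve_left
      fun e => hx (orderOf_eq_one_iff.mp e)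
  have h2 : (orderOf y : ℤ) ∣ k - 1 := by
    rw [← h1, orderOf_dvd_iff_zpow_eq_one, zpow_sub, ← e1, zpow_one, mul_inv_cancel]
  rw [orderOf_dvd_iff_zpow_eq_one, zpow_sub, zpow_one, mul_inv_eq_one] at h2
  exact h.w_notMem h0 h6 (mem_centralizer_singleton_iff.mpr
    (mul_inv_eq_iff_eq_mul.mp (hk.symm.trans h2)))

theorem mu_comp_sq {μ : C{y} →* ℂˣ} (hμ : μ ^ 2 = 1) (i : ℕ) : μ.comp (h.cw i) ^ 2 = 1 := by
  rw [← pow_comp', hμ, MonoidHom.one_comp]

theorem comp_ne_one {φ : C{y} →* ℂˣ} (h1 : φ ≠ 1) (i : ℕ) : φ.comp (h.cw i) ≠ 1 := fun e =>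
  h1 (MonoidHom.ext fun u => by
    obtain ⟨w, rfl⟩ := h.cw_surj i u
    exact DFunLike.congr_fun e w)

variable [Finite G]

theorem ppV {u : G} (hu : u ∈ C{y}) : pp 2 u ∈ V := h.two _ (pp_mem hu) (pElt_pp u)

theorem mu_apply {μ : C{y} →* ℂˣ} {e : ℕ} (hμ : μ ^ 2 ^ e = 1) (u : C{y}) :
    μ u = μ ⟨pp 2 u, h.V_T (h.ppV u.2)⟩ := by
  have e1 : (⟨pp 2 u, h.V_T (h.ppV u.2)⟩ : C{y}) = pp 2 u := Subtype.ext (pp_coe _ u)
  rw [e1]
  nth_rewrite 1 [← pp_mul_pr (p := 2) u]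
  rw [map_mul, eq_one_of_PElt_of_reg (p := 2) (x := μ (pr 2 u))
    (PElt.iff_pow.mpr ⟨e, DFunLike.congr_fun hμ _⟩) (reg_map (reg_pr u) μ), mul_one]

theorem mu_ext {μ μ' : C{y} →* ℂˣ} (hμ : μ ^ 2 = 1) (hμ' : μ' ^ 2 = 1)
    (e : ∀ v (hv : v ∈ V), μ ⟨v, h.V_T hv⟩ = μ' ⟨v, h.V_T hv⟩) : μ = μ' := by
  ext1 u
  rw [h.mu_apply (e := 1) hμ, h.mu_apply (e := 1) hμ', e _ (h.ppV u.2)]

theorem mu_three {μ : C{y} →* ℂˣ} (hμ : μ ^ 2 = 1) : μ = μ.comp (h.cw 3) :=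
  h.mu_ext hμ (h.mu_comp_sq hμ 3) fun v hv => congrArg μ (Subtype.ext (by
    simp only [cw_coe, h.w_three]; rw [← h.Vt hv, mul_inv_cancel_right]))

theorem fpf_w {i : ℕ} (hi : ¬ 3 ∣ i) {v : G} (hv : v ∈ V)
    (e : (t * r) ^ i * v * ((t * r) ^ i)⁻¹ = v) : v = 1 := by
  have h1 : (t * r) ^ i ∈ C{v} := mem_centralizer_singleton_iff.mpr (mul_inv_eq_iff_eq_mul.mp e)
  have h3 : (t * r) ^ 3 ∈ C{v} := by
    rw [h.w_three]; exact mem_centralizer_singleton_iff.mpr (h.Vt hv).symm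
  have h4 : (t * r) ^ 4 ∈ C{v} := by
    rw [← Nat.div_add_mod i 3, pow_add, pow_mul] at h1
    have h2 := (mul_mem_cancel_left (pow_mem h3 _)).mp h1
    have : i % 3 = 1 ∨ i % 3 = 2 := by omega
    rcases this with k | k <;> rw [k] at h2
    · simpa using pow_mem h2 4
    · simpa [← pow_mul] using pow_mem h2 2
  rw [h.w_four, mem_centralizer_singleton_iff] at h4
  exact h.fpf hv (mul_inv_eq_iff_eq_mul.mpr h4)

theorem mu_ne {μ : C{y} →* ℂˣ} (hμ : μ ^ 2 = 1) (h1 : μ ≠ 1) {i : ℕ} (hi : ¬ 3 ∣ i) :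
    μ ≠ μ.comp (h.cw i) := by
  intro e
  refine h1 (h.mu_ext hμ (hone_pow 2) fun v hv => ?_)
  by_cases v1 : v = 1
  · subst v1; exact map_one μ
  have hn := h.w_mem i
  have hv' := conj_mem hn hv
  have hv'' := conj_mem hn hv'
  have e1 : ∀ w (hw : w ∈ V), μ ⟨_, h.V_T (conj_mem hn hw)⟩ = μ ⟨w, h.V_T hw⟩ := fun w hw =>
    (DFunLike.congr_fun e ⟨w, h.V_T hw⟩).symm
  have n1 : (t * r) ^ i * v * ((t * r) ^ i)⁻¹ ≠ 1 := by simpa using v1
  have e2 := kl_third h.klein hv hv' hv'' v1 n1 (fun k => v1 (h.fpf_w hi hv k.symm))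
    (by simpa using v1) (fun k => v1 (h.fpf_w (i := i * 2) (by omega) hv (by
      rw [pow_mul, pow_two]; nth_rewrite 2 [← k]; group))) fun k => n1 (h.fpf_w hi hv' k)
  have e3 := e1 _ hv'
  have e4 : (⟨_, h.V_T hv''⟩ : C{y}) = ⟨v, h.V_T hv⟩ * ⟨_, h.V_T hv'⟩ := Subtype.ext e2
  rw [e4, map_mul, e1 v hv] at e3
  simpa using e3

theorem exists_lam : ∃ lam : C{y} →* ℂˣ, ∃ e : ℕ, lam ^ orderOf y ^ e = 1 ∧ lam (selfC y) ≠ 1 := by
  have : Fact (orderOf y).Prime := ⟨h.prime⟩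
  exact exists_lin (fun u v hu hv => Subtype.ext
    (h.labl _ u.2 _ v.2 (hu.map (C{y}).subtype) (hv.map (C{y}).subtype)))
    (Subgroup.orderOf_coe (selfC y)).symm fun g => Subtype.ext (mem_centralizer_singleton_iff.mp g.2)

theorem exists_mu : ∃ μ μ' : C{y} →* ℂˣ, μ ^ 2 = 1 ∧ μ' ^ 2 = 1 ∧ μ ≠ 1 ∧ μ' ≠ 1 ∧
    μ * μ' ≠ 1 ∧ ∀ u : C{y}, 2 ∣ orderOf (u : G) → (1 + ch μ u) * (1 + ch μ' u) = 0 := by
  obtain ⟨v, hv, -, -, v1, -⟩ := kl_two h.klein
  obtain ⟨μ, e, hμe, hμv⟩ := exists_lin (p := 2) (y := (⟨v, h.V_T hv⟩ : C{y})) (fun a b ha hb =>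
    Subtype.ext (kl_comm h.klein (h.two _ a.2 (ha.map (C{y}).subtype))
      (h.two _ b.2 (hb.map (C{y}).subtype))))
    (by rw [← Subgroup.orderOf_coe]; exact orderOf_eq_two v1 (h.Vsq hv))
    fun g => Subtype.ext (h.BC g.2 v hv).symm
  have hμ : μ ^ 2 = 1 := MonoidHom.ext fun u => by
    rw [MonoidHom.pow_apply, h.mu_apply hμe, ← map_pow, pow_two]
    exact (congrArg μ (Subtype.ext (h.Vsq (h.ppV u.2)))).trans (map_one μ)
  have h1 : μ ≠ 1 := fun e => hμv (by rw [e]; rfl)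
  have hμ' := h.mu_comp_sq hμ 1
  have h1' := h.comp_ne_one h1 1
  have hne := h.mu_ne hμ h1 (i := 1) (by omega)
  generalize μ.comp (h.cw 1) = μ' at *
  have val : ∀ {φ : C{y} →* ℂˣ}, φ ^ 2 = 1 → ∀ u, φ u = 1 ∨ φ u = -1 := fun {φ} hφ u =>
    by
      have e : φ u ^ 2 = 1 := DFunLike.congr_fun hφ u
      have e' : (φ u : ℂ) ^ 2 = 1 := by rw [← Units.val_pow_eq_pow_val, e, Units.val_one]
      rcases sq_eq_one_iff.mp e' with k | k
      · exact Or.inl (Units.ext k)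
      · exact Or.inr (Units.ext k)
  refine ⟨μ, μ', hμ, hμ', h1, h1', fun e => hne ?_, ?_⟩
  · rw [hpow_two] at hμ
    exact mul_left_cancel (hμ.trans e.symm)
  · intro u h2
    obtain ⟨w, hw, w1, e1, e2⟩ : ∃ w, ∃ hw : w ∈ V, w ≠ 1 ∧ μ u = μ ⟨w, h.V_T hw⟩ ∧
        μ' u = μ' ⟨w, h.V_T hw⟩ := ⟨_, h.ppV u.2, fun k => pp_eq_one_iff.mp k h2,
      h.mu_apply (e := 1) hμ u, h.mu_apply (e := 1) hμ' u⟩
    rw [ch, ch, e1, e2]
    rcases val hμ ⟨w, h.V_T hw⟩ with k | k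
    swap
    · simp [k]
    rcases val hμ' ⟨w, h.V_T hw⟩ with k' | k'
    swap
    · simp [k']
    exfalso
    have key : ∀ {φ : C{y} →* ℂˣ}, φ ^ 2 = 1 → φ ≠ 1 → φ ⟨w, h.V_T hw⟩ = 1 →
        ∀ u (hu : u ∈ V), u ≠ 1 → u ≠ w → φ ⟨u, h.V_T hu⟩ = -1 := by
      intro φ hφ φ1 φw u hu u1 uw
      refine (val hφ _).resolve_left fun φu => φ1 (h.mu_ext hφ (hone_pow 2) fun s hs => ?_)
      by_cases s1 : s = 1
      · subst s1; exact map_one φ
      by_cases sw : s = w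
      · subst sw; exact φw
      by_cases su : s = u
      · subst su; exact φu
      have : (⟨s, h.V_T hs⟩ : C{y}) = ⟨w, h.V_T hw⟩ * ⟨u, h.V_T hu⟩ :=
        Subtype.ext (kl_third h.klein hw hu hs w1 u1 uw.symm s1 sw su)
      rw [this, map_mul, φw, φu]; simp
    refine hne (h.mu_ext hμ hμ' fun s hs => ?_)
    by_cases s1 : s = 1
    · subst s1; exact (map_one μ).trans (map_one μ').symm
    by_cases sw : s = w
    · subst sw; rw [k, k']
    rw [key hμ h1 k s hs s1 sw, key hμ' h1' k' s hs s1 sw]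

omit [Finite G]

open Classical in
/-- the number of conjugates of `ψ` equal to `φ` -/
noncomputable def dl (φ ψ : C{y} →* ℂˣ) : ℂ :=
  ∑ i ∈ Finset.range 6, if φ = ψ.comp (h.cw i) then 1 else 0

theorem dl_zero {φ ψ : C{y} →* ℂˣ} (e : ∀ i, φ ≠ ψ.comp (h.cw i)) : h.dl φ ψ = 0 :=
  Finset.sum_eq_zero fun i _ => if_neg (e i)

theorem dl_one_one : h.dl 1 1 = 6 := by simp [dl]

theorem dl_self {φ : C{y} →* ℂˣ} (e : ∀ i, 0 < i → i < 6 → φ ≠ φ.comp (h.cw i)) :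
    h.dl φ φ = 1 := by
  simp only [dl, Finset.sum_range_succ, h.comp_cw_zero, if_neg (e 1 (by omega) (by omega)),
    if_neg (e 2 (by omega) (by omega)), if_neg (e 3 (by omega) (by omega)),
    if_neg (e 4 (by omega) (by omega)), if_neg (e 5 (by omega) (by omega))]
  norm_num

theorem dl_mu [Finite G] {μ : C{y} →* ℂˣ} (hμ : μ ^ 2 = 1) (h1 : μ ≠ 1) : h.dl μ μ = 2 := by
  simp only [dl, Finset.sum_range_succ, h.comp_cw_zero, ← h.mu_three hμ,
    if_neg (h.mu_ne hμ h1 (i := 1) (by omega)), if_neg (h.mu_ne hμ h1 (i := 2) (by omega)),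
    if_neg (h.mu_ne hμ h1 (i := 4) (by omega)), if_neg (h.mu_ne hμ h1 (i := 5) (by omega))]
  norm_num

end Chars

variable {G : Type*} [Group G] [Fintype G] {t : G} {V T : Subgroup G} {r y : G}
  (h : TB t V T r y)
include h

theorem inner_ind {φ₁ φ₂ : C{y} →* ℂˣ} (φ₃ φ₄ : C{y} →* ℂˣ)
    (hs : ∀ u, (ch φ₁ - ch φ₂) u ≠ 0 → orderOf y ∣ orderOf (u : G)) :
    classInner (indFun C{y} (ch φ₁ - ch φ₂)) (indFun C{y} (ch φ₃ - ch φ₄)) =
      h.dl φ₁ φ₃ - h.dl φ₁ φ₄ - h.dl φ₂ φ₃ + h.dl φ₂ φ₄ := by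
  have := Fintype.ofFinite C{y}
  rw [H4.classInner_indFun_left _ _ (indFun_classFun _ _), inner_congr_right
    (ψ' := ∑ i ∈ Finset.range 6, (ch (φ₃.comp (h.cw i)) - ch (φ₄.comp (h.cw i)))),
    classInner_sum_right]
  · simp only [classInner_sub_left, classInner_sub_right, inner_ch, dl, Finset.sum_sub_distrib]
    ring_nf
  · intro u hu
    rw [h.ind_apply ((ch_irr φ₃).classFun.sub (ch_irr φ₄).classFun) (hs u hu), Finset.sum_apply]
    rfl

open Classical in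
theorem Phi_ind [Fintype T] {s : G} (hs2 : orderOf s = 2)
    (hG : ∀ u : G, orderOf u = 2 → IsConj s u)
    {φ₁ φ₂ : C{y} →* ℂˣ} (hs : ∀ u, (ch φ₁ - ch φ₂) u ≠ 0 → orderOf y ∣ orderOf (u : G)) :
    Phi s (indFun C{y} (ch φ₁ - ch φ₂)) =
      classInner (ch (φ₁.comp (inclusion h.TC)) - ch (φ₂.comp (inclusion h.TC))) (o T) *
      ((♯T : ℂ) ^ 2 / ♯C{y} * (Nat.card G / ((C{s}).index : ℂ) ^ 2)) := by
  have := Fintype.ofFinite C{y}
  rw [H27.JT.Phi, H4.classInner_indFun_left _ _ (gam_classFun s s), inner_congr_right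
    (ψ' := fun u : C{y} => if (u : G) ∈ T then (♯T : ℂ) else 0)
    fun u hu => h.gam_eq hs2 hG u.2 (hs u hu), classInner_def, classInner_def,
    ← Fintype.sum_of_injective (inclusion h.TC) (inclusion_injective _)
      (fun k => (♯T : ℂ) * ((ch (φ₁.comp (inclusion h.TC)) - ch (φ₂.comp (inclusion h.TC))) k *
        conj (o T k))), ← Finset.mul_sum]
  · have := H4.card_ne_zero T
    field_simp
  · intro u hu
    rw [if_neg fun k => hu ⟨⟨u, k⟩, rfl⟩]; simp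
  · intro k
    rw [if_pos (by exact k.2)]
    simp [ch, mul_comm]

theorem ind_t {s : G} (hs2 : orderOf s = 2) {ψ : C{y} → ℂ}
    (hs : ∀ u, ψ u ≠ 0 → orderOf y ∣ orderOf (u : G)) : indFun C{y} ψ s = 0 := by
  refine indFun_eq_zero _ _ fun u hu => by_contra fun k => h.sq_ne (hs u k) ?_
  exact sq_of_two (by rw [← orderOf_eq_of_isConj hu, hs2])

theorem disj {s : G} {U : G → ℂˣ} {n : ℕ} (w : TwU s U n) (hB : C{y} ≤ C{s})
    {lam μ : C{y} →* ℂˣ} {e : ℕ} (hl : lam ^ orderOf y ^ e = 1) (hμ : μ ^ 2 = 1) (h1 : μ ≠ 1)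
    {χ : G → ℂ} (hχ : IsIrrCharacter G χ) :
    classInner χ (indFun C{y} (ch 1 - ch lam) * uu U) = 0 ∨
      classInner χ (indFun C{y} (ch μ - ch (μ * lam)) * uu U) = 0 := by
  have := Fintype.ofFinite C{y}
  have : Fact (orderOf y).Prime := ⟨h.prime⟩
  obtain ⟨M, hM⟩ := exists_PM (orderOf y)
  have hodd := h.odd_l.pow (n := e)
  have hϑ := hχ.classFun.mul w.ub_cf
  rw [w.inner_uu, w.inner_uu, H4.classInner_indFun_right _ _ hϑ,
    H4.classInner_indFun_right _ _ hϑ]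
  have hy : PElt (orderOf y) y := ⟨1, (pow_one _).symm⟩
  obtain ⟨c, hc, k⟩ := tw_dich (M := M) (lam := w.lam (C{y}).subtype fun k => hB k.2)
    (C{y}).subtype_injective (exists_indRel_centralizer M hy) (fun a b e => w.cf _ _ e) ⟨χ, hχ⟩
  have key : ∀ u : C{y}, orderOf y ∣ orderOf (u : G) →
      blockPart (principalBlock M C{y}) (fun k => (χ * ub U) k) u = c * (χ * ub U) u := by
    intro u hu
    simp only [Pi.mul_apply, mul_comm (χ _)]
    refine k u ?_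
    rw [Subgroup.range_subtype, Subgroup.coe_subtype]
    exact C1_le_C1_of_mem_zpowers (h.y_mem (pp_mem u.2)
      ((pElt_pp _).dvd_orderOf fun k => pp_eq_one_iff.mp k hu))
  generalize χ * ub U = f at *
  have ib := fun φ : C{y} →* ℂˣ =>
    inner_blockPart (principalBlock M C{y}) (fun k => f k) ⟨ch φ, ch_irr φ⟩
  simp only at ib
  rcases hc with rfl | rfl
  · left
    have yb : ∀ φ : C{y} →* ℂˣ, φ ^ orderOf y ^ e = 1 →
        (⟨ch φ, ch_irr φ⟩ : Irr C{y}) ∈ principalBlock M C{y} := by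
      intro φ hφ
      rw [principalBlock_eq, mem_blockOf]
      refine sb_of_ker (N := φ.ker) (fun g hg => ?_) fun n hn => by
        simp [ch, MonoidHom.mem_ker.mp hn]
      by_contra k
      exact hg (by rw [← Subgroup.orderOf_coe]; exact h.lam_supp hφ k)
    have e : classInner (fun k : C{y} => f k) (ch 1 - ch lam) =
        classInner (blockPart (principalBlock M C{y}) fun k => f k) (ch 1 - ch lam) := by
      rw [classInner_sub_right, classInner_sub_right, ib, ib, ind_of_mem (yb _ (hone_pow _)),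
        ind_of_mem (yb _ hl), one_mul, one_mul]
    rw [e]
    refine inner_eq_zero_of_supp fun u => ?_
    by_cases hu : lam u = 1
    · right; simp [ch, hu]
    · left; rw [key u (h.lam_supp hl hu), zero_mul]
  · right
    have hV : (V.subgroupOf C{y}).Normal := ⟨fun a ha b => by
      have : b * a = a * b := Subtype.ext (h.BC b.2 a ha).symm
      rwa [this, mul_inv_cancel_right]⟩
    have hcard : ¬ orderOf y ∣ Nat.card (V.subgroupOf C{y}) := by
      have := h.klein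
      rw [Nat.card_congr (subgroupOfEquivOfLe fun v hv => h.V_T hv).toEquiv, IsKleinFour.card_four]
      intro k
      have := Nat.le_of_dvd (by norm_num) k
      have := h.seven
      omega
    have nb : ∀ φ : C{y} →* ℂˣ, φ ^ orderOf y ^ e = μ →
        (⟨ch φ, ch_irr φ⟩ : Irr C{y}) ∉ principalBlock M C{y} := by
      intro φ hφ hb
      rw [principalBlock_eq, mem_blockOf] at hb
      have := hb.ker hcard fun _ _ => rfl
      refine h1 (h.mu_ext hμ (hone_pow 2) fun v hv => ?_)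
      have e := this ⟨v, h.V_T hv⟩ hv
      simp only [ch, map_one] at e
      rw [← hφ, MonoidHom.pow_apply, Units.ext e, one_pow]; rfl
    rw [inner_congr_left (φ' := blockPart (principalBlock M C{y}) fun k => f k),
      classInner_sub_right, ib, ib, ind_of_notMem (nb _ (pow_odd_of_sq hodd hμ)),
      ind_of_notMem (nb _ (by rw [hmul_pow, hl, hmul_one, hpow_odd hodd hμ]))]
    · simp
    · intro u hu
      rw [key u (h.lam_supp hl fun e => hu (by simp [ch, e])), one_mul]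

theorem bp {E : Type*} [Group E] [Fintype E] {s : G} {ι : E →* G} {π : C{s} →* E}
    {M : Ideal AlgInt} {Q ρ : ℤ} {e₂ e₃ e₄ : E → ℂ} (S : SE ι π M Q ρ e₂ e₃ e₄)
    (hst : ∀ Y z : E, ¬ 2 ∣ orderOf Y → orderOf y ∣ orderOf Y → orderOf z = 2 → Y * z = z * Y →
      e₄ Y = 1) {U : G → ℂˣ} {n : ℕ} (w : TwU s U n) (hB : C{y} ≤ C{s})
    {lam μ : C{y} →* ℂˣ} {e : ℕ} (hl : lam ^ orderOf y ^ e = 1) (hx : lam (selfC y) ≠ 1)
    (hμ : μ ^ 2 = 1) (h1 : μ ≠ 1) :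
    BA s (TT ι π e₂ * uu U) (TT ι π e₃ * uu U) (TT ι π e₄ * uu U)
      (fun W => Star ι π e₂ e₃ e₄ (W * ub U)) (indFun C{y} (ch 1 - ch lam) * uu U)
      (indFun C{y} (ch μ - ch (μ * lam)) * uu U) := by
  have := Fintype.ofFinite C{y}
  have hodd := h.odd_l.pow (n := e)
  have l1 : lam ≠ 1 := fun e => hx (by rw [e]; rfl)
  have l2 := hsq_ne hodd hl l1
  have s1 : ∀ u : C{y}, (ch (1 : C{y} →* ℂˣ) - ch lam) u ≠ 0 → orderOf y ∣ orderOf (u : G) :=
    fun u hu => h.lam_supp hl fun e => hu (by simp [ch, e])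
  have s2 : ∀ u : C{y}, (ch μ - ch (μ * lam)) u ≠ 0 → orderOf y ∣ orderOf (u : G) := fun u hu =>
    h.lam_supp hl fun e => hu (by simp [ch, e])
  have sq : (μ * lam) ^ 2 = lam ^ 2 := by rw [hmul_pow, hμ, hone_mul]
  have pl : (μ * lam) ^ orderOf y ^ e = μ := by rw [hmul_pow, hl, hmul_one, hpow_odd hodd hμ]
  have ml1 : μ * lam ≠ 1 := fun e => h1 (by rw [← pl, e, hone_pow])
  have d1 : ∀ {φ}, φ ≠ 1 → h.dl 1 φ = 0 := fun k => h.dl_zero fun i => (h.comp_ne_one k i).symm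
  have dsq : ∀ {φ ψ}, φ ^ 2 = 1 → ψ ^ 2 ≠ 1 → h.dl φ ψ = 0 ∧ h.dl ψ φ = 0 := fun {φ ψ} k k' =>
    ⟨h.dl_zero fun i e => h.comp_ne_one k' i (by rw [pow_comp', ← e, k]),
      h.dl_zero fun i e => k' (by rw [e, h.mu_comp_sq k])⟩
  have g1 : IsGeneralizedCharacter C{y} (ch 1 - ch lam) := (ch_irr _).isGen.sub (ch_irr _).isGen
  have g2 : IsGeneralizedCharacter C{y} (ch μ - ch (μ * lam)) :=
    (ch_irr _).isGen.sub (ch_irr _).isGen
  have o2 : classInner (ch μ - ch (μ * lam)) (o C{y}) = 0 := by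
    rw [← ch_one, classInner_sub_left, inner_ch, inner_ch, if_neg h1, if_neg ml1, sub_zero]
  have onV : ∀ φ : C{y} →* ℂˣ, φ ^ orderOf y ^ e = μ → ∃ v, ∃ hv : v ∈ V, φ ⟨v, h.V_T hv⟩ ≠ 1 := by
    intro φ hφ
    by_contra k
    push Not at k
    exact h1 (h.mu_ext hμ (hone_pow 2) fun v hv => by
      rw [← hφ, MonoidHom.pow_apply, k v hv, one_pow]; rfl)
  have hs2 := S.jh.ord
  refine ⟨w.gen_ind hB g1, w.gen_ind hB g2, ?_, ?_, ?_, ?_, ?_, ?_, ?_, ?_, ?_, ?_, ?_⟩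
  · rw [w.inner_uu_uu, h.inner_ind _ _ s1, h.dl_one_one, d1 l1, (dsq (hone_pow 2) l2).2,
      h.dl_self fun i h0 h6 => h.lam_ne hx h0 h6]
    norm_num
  · rw [w.inner_uu_uu, h.inner_ind _ _ s2, h.dl_mu hμ h1, (dsq hμ (sq ▸ l2)).1,
      (dsq hμ (sq ▸ l2)).2, h.dl_self]
    · norm_num
    · intro i h0 h6 e
      refine h.lam_ne hx h0 h6 (heq_of_sq hodd hl ?_ ?_)
      · rw [← pow_comp', hl, MonoidHom.one_comp]
      · rw [← pow_comp', ← sq, pow_comp', ← e]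
  · rw [w.inner_uu_uu, h.inner_ind _ _ s1, d1 h1, d1 ml1, (dsq hμ l2).2, h.dl_zero]
    · norm_num
    · intro i e
      exact h.comp_ne_one h1 i (by rw [← pl, pow_comp', ← e, hl])
  · apply classInner_comm_of_eq_zero
    have e1 : (fun k : C{y} => (o G * ub U) k) = ch (w.lam (C{y}).subtype fun k => hB k.2)⁻¹ := by
      ext k; simp [ub, ch, w.lam_apply]
    have ne : ∀ φ : C{y} →* ℂˣ, φ ^ orderOf y ^ e = μ →
        (w.lam (C{y}).subtype fun k => hB k.2)⁻¹ ≠ φ := by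
      intro φ hφ k
      obtain ⟨v, hv, e⟩ := onV φ hφ
      exact e (by rw [← k]; simp [w.lam_apply, w.of_sq (h.Vsq hv)])
    rw [w.inner_uu, H4.classInner_indFun_right _ _ ((isClassFunction_const 1).mul w.ub_cf), e1,
      classInner_sub_right, inner_ch, inner_ch, if_neg (ne _ (pow_odd_of_sq hodd hμ)),
      if_neg (ne _ pl), sub_zero]
  · rw [w.mul_uu (one_mul 1), indFun_apply_one]; simp [ch]
  · rw [w.mul_uu (one_mul 1), indFun_apply_one]; simp [ch]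
  · rw [w.mul_uu S.jh.sq, h.ind_t hs2 s1]
  · rw [w.mul_uu S.jh.sq, h.ind_t hs2 s2]
  · have ne : ∀ φ : C{y} →* ℂˣ, φ ^ orderOf y ^ e = μ → φ.comp (inclusion h.TC) ≠ 1 := by
      intro φ hφ k
      obtain ⟨v, hv, e⟩ := onV φ hφ
      exact e (DFunLike.congr_fun k ⟨v, h.VT hv⟩)
    have := Fintype.ofFinite T
    rw [w.Phi_uu hs2 S.cnj, h.Phi_ind hs2 S.cnj s2, ← ch_one, classInner_sub_left, inner_ch,
      inner_ch, if_neg (ne _ pl), if_neg (ne _ (pow_odd_of_sq hodd hμ)), sub_zero, zero_mul]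
  · have hY : ∀ u : C{y}, ∃ Y : E, (ch (1 : C{y} →* ℂˣ) - ch lam - (ch μ - ch (μ * lam))) u ≠ 0 →
        ¬ 2 ∣ orderOf Y ∧ IsConj (u : G) (s * ι Y) ∧ e₄ Y = 1 := by
      intro u
      by_cases k : (ch (1 : C{y} →* ℂˣ) - ch lam - (ch μ - ch (μ * lam))) u = 0
      · exact ⟨1, fun k' => absurd k k'⟩
      have hw := h.ppV u.2
      have w1 : pp 2 (u : G) ≠ 1 := by
        intro e
        refine k ?_
        have : μ u = 1 := (h.mu_apply (e := 1) hμ u).trans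
          ((congrArg μ (Subtype.ext e)).trans (map_one μ))
        simp only [Pi.sub_apply, ch, MonoidHom.mul_apply, this]
        simp
      have hlu : orderOf y ∣ orderOf (u : G) := by
        refine h.lam_supp hl fun this => k ?_
        simp only [Pi.sub_apply, ch, MonoidHom.mul_apply, this]
        simp
      have z1 : pr 2 (u : G) ≠ 1 := fun e => h.sq_ne hlu (h.Vsq (h.two _ u.2 (pr_eq_one_iff.mp e)))
      have hz := h.BC (pr_mem (p := 2) u.2)
      have hw' := conj_mem h.rN hw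
      obtain ⟨Y, y1, y2, -, s', y4, y5⟩ := S.jh.exists_y S.cnj (orderOf_eq_two w1 (h.Vsq hw))
        (orderOf_eq_two (by simpa using w1) (h.Vsq hw')) (fun e => w1 (h.fpf hw e))
        (kl_comm h.klein hw' hw) (hz _ hw).symm (hz _ hw').symm (reg_pr _) z1
      rw [pp_mul_pr] at y2
      refine ⟨Y, fun _ => ⟨y1, y2, hst Y s' y1 ?_ y4 y5⟩⟩
      rw [orderOf_eq_of_isConj y2] at hlu
      have := hlu.trans (Commute.orderOf_mul_dvd_mul_orderOf (S.jh.comm Y).symm)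
      rw [hs2, S.jh.orderOf_ι] at this
      exact (Nat.coprime_two_right.mpr h.odd_l).dvd_of_dvd_mul_left this
    choose Y hY using hY
    have o1 : classInner (o C{y}) (ch 1 - ch lam - (ch μ - ch (μ * lam))) = 1 := by
      rw [classInner_sub_right, classInner_comm_of_eq_zero o2, ← ch_one, classInner_sub_right,
        inner_ch, inner_ch, if_pos rfl, if_neg l1.symm]
      simp
    rw [← sub_mul, ← H4.indFun_sub]
    generalize ch 1 - ch lam - (ch μ - ch (μ * lam)) = ψ at *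
    refine ⟨classInner (fun u => e₂ (Y u)) ψ, classInner (fun u => e₃ (Y u)) ψ, ?_, ?_⟩
    · rw [← classInner_add_left, inner_congr_left (φ' := (-2 : ℂ) • o C{y}), classInner_smul_left,
        o1, mul_one]
      intro u hu
      obtain ⟨y1, -, y3⟩ := hY u hu
      have := S.lb.od _ y1
      simp only [Pi.add_apply, Pi.smul_apply, smul_eq_mul]
      linear_combination this - y3
    · intro W hW hs
      have hϑ := hW.classFun.mul w.ub_cf
      simp only [w.inner_uu]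
      generalize W * ub U = W' at *
      rw [H4.classInner_indFun_right _ _ hϑ, inner_congr_left
        (φ' := -(classInner W' (TT ι π e₂) • (fun u => e₂ (Y u)) +
          classInner W' (TT ι π e₃) • (fun u => e₃ (Y u)) + classInner W' (TT ι π e₄) • o C{y})),
        classInner_neg_left, classInner_add_left, classInner_add_left, classInner_smul_left,
        classInner_smul_left, classInner_smul_left, o1, mul_one]
      intro u hu
      obtain ⟨y1, y2, y3⟩ := hY u hu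
      rw [hϑ.apply_of_isConj y2, hs _ y1, y3]
      simp
  · intro W hW
    rcases hW.irr_or with k | k
    · exact h.disj w hB hl hμ h1 k
    · simpa only [classInner_neg_left, neg_eq_zero] using h.disj w hB hl hμ h1 k

theorem rows {E : Type*} [Group E] [Fintype E] {s : G} {ι : E →* G} {π : C{s} →* E}
    {M : Ideal AlgInt} [PM 2 M] {Q ρ : ℤ} {e₂ e₃ e₄ : E → ℂ} (S : SE ι π M Q ρ e₂ e₃ e₄)
    (hst : ∀ Y z : E, ¬ 2 ∣ orderOf Y → orderOf y ∣ orderOf Y → orderOf z = 2 → Y * z = z * Y →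
      e₄ Y = 1) {U : G → ℂˣ} {n : ℕ} (w : TwU s U n) (hB : C{y} ≤ C{s})
    (hc : (♯T : ℤ) ^ 2 * ♯C{s} = 8 * (ρ - 1) ^ 2 * ρ * Q * ♯C{y}) :
    ∃ (W₁ W₂ : G → ℂ) (u : ℤ),
      Row (TT ι π e₂ * uu U) (TT ι π e₃ * uu U) (TT ι π e₄ * uu U) W₁ 1 u u ∧
      Row (TT ι π e₂ * uu U) (TT ι π e₃ * uu U) (TT ι π e₄ * uu U) W₂ 0 (1 - u) (-u) ∧
      W₁ 1 * Q ^ 2 = -W₁ s * (C{s}).index ∧ W₂ 1 * Q ^ 2 = -W₂ s * (C{s}).index := by
  have := Fintype.ofFinite C{y}
  obtain ⟨lam, e, hl, hx⟩ := h.exists_lam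
  obtain ⟨μ, μ', hμ, hμ', m1, m1', mm, hsum⟩ := h.exists_mu
  have b₁ := h.bp S hst w hB hl hx hμ m1
  have b₂ := h.bp S hst w hB hl hx hμ' m1'
  have b₃ := h.bp S hst w hB hl hx (μ := μ * μ') (by rw [hmul_pow, hμ, hμ', hmul_one]) mm
  have hT := (S.as w).β_T b₁ b₂ b₃ fun g hg => by
    rw [← add_mul, ← add_mul, ← add_mul, ← H4.indFun_add, ← H4.indFun_add, ← H4.indFun_add,
      Pi.mul_apply, indFun_eq_zero _ _ fun u hu => ?_, zero_mul]
    have := hsum u (by rwa [← orderOf_eq_of_isConj hu])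
    simp only [Pi.add_apply, Pi.sub_apply, ch_mul, ch_one]
    linear_combination (1 - ch lam u) * this
  refine (S.as w).ti_abs b₁ hT ?_
  have := Fintype.ofFinite T
  rw [w.Phi_uu S.jh.ord S.cnj, h.Phi_ind S.jh.ord S.cnj
    (fun u hu => h.lam_supp hl fun e => hu (by simp [ch, e])), ← ch_one, classInner_sub_left,
    inner_ch, inner_ch, if_pos (MonoidHom.one_comp _),
    if_neg fun k => hx (DFunLike.congr_fun k ⟨y, h.yT⟩), ← (C{s}).index_mul_card]
  have := index_ne_zero' C{s}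
  have := H4.card_ne_zero C{y}
  have hc' : (♯T : ℂ) ^ 2 * ♯C{s} = 8 * (ρ - 1) ^ 2 * ρ * Q * ♯C{y} := by exact_mod_cast hc
  push_cast
  field_simp
  linear_combination hc'

theorem core {E : Type*} [Group E] [Fintype E] {s : G} {ι : E →* G} {π : C{s} →* E}
    {M : Ideal AlgInt} [PM 2 M] {Q ρ : ℤ} {e₂ e₃ e₄ : E → ℂ} (S : SE ι π M Q ρ e₂ e₃ e₄)
    (hst : ∀ Y z : E, ¬ 2 ∣ orderOf Y → orderOf y ∣ orderOf Y → orderOf z = 2 → Y * z = z * Y →
      e₄ Y = 1) {U : G → ℂˣ} {n : ℕ} (w : TwU s U n) (hB : C{y} ≤ C{s})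
    (hc : (♯T : ℤ) ^ 2 * ♯C{s} = 8 * (ρ - 1) ^ 2 * ρ * Q * ♯C{y}) {p k : ℕ} (hp : p.Prime)
    (hQ : |Q| = (p ^ k : ℕ)) (Y : E) : U (ι Y) = 1 := by
  by_contra hU
  obtain ⟨W₁, W₂, u, r₁, r₂, d₁, d₂⟩ := h.rows S hst (twU_one s) hB hc
  have A := S.as (twU_one s)
  obtain ⟨o₂, o₃, o₄⟩ := S.inner_o' (twU_one s)
  rw [if_pos fun _ => rfl] at o₂ o₃ o₄
  obtain ⟨hN, m, c, hc0, hm⟩ := A.final_one S.big ((A.g₂.inner_comm sirr_one.gen).trans o₂)
    ((A.g₃.inner_comm sirr_one.gen).trans o₃) ((A.g₄.inner_comm sirr_one.gen).trans o₄) r₁ r₂ d₁ d₂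
  have hbig := S.big
  have hneg : |Q| = -Q := abs_of_nonpos (by
    by_contra k
    have : 0 < Q * c ^ 2 := by have := not_le.mp k; positivity
    nlinarith [sq_nonneg m])
  obtain ⟨rfl, hk⟩ := three_pow_of_sq (n := k) hp hc0 (m := m) (by rw [← hQ, hneg, hm])
  obtain ⟨W₁, W₂, u, r₁, r₂, d₁, d₂⟩ := h.rows S hst w hB hc
  obtain ⟨o₂, o₃, o₄⟩ := S.inner_o' w
  rw [if_neg fun k => hU (k Y)] at o₂ o₃ o₄
  exact (S.as w).final_zero (q := -Q) (n := k) (by rw [← hneg, hQ]; simp) hk (hneg ▸ hbig)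
    (neg_neg Q).symm hN o₂ o₃ o₄ r₁ r₂ d₁ d₂

end H17.JB.TB
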