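import Mathlib
import Cfsg.Agent.H17.JB5

/-! The principal `2`-block of an odd extension of `PSL₂(q)` acting on the projective line. -/

set_option autoImplicit false
open Cfsg H4 H5 H17 H24 Subgroup H27.JT
open scoped ComplexConjugate

namespace H17.JB

theorem card_fix {L : Type*} [Group L] [Finite L] {p q a b : ℕ} {ε : ℤ} (h : LH L p q a b ε)
    (Ω : Type*) [MulAction L Ω] [Finite Ω] [MulAction.IsPretransitive L Ω]
    (hΩ : Nat.card Ω = q + 1)
    (h3 : ∀ (g : L) (x y z : Ω), x ≠ y → x ≠ z → y ≠ z → g • x = x → g • y = y → g • z = z → g = 1)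
    {g s : L} (hg : g ≠ 1) (hs : orderOf s = 2) (hgs : g * s = s * g) :
    (Nat.card (MulAction.fixedBy Ω g) : ℤ) = 1 + ε := by
  classical
  have hq3 := h.three_le
  have hB : ∀ x : Ω, ♯(MulAction.stabilizer L x) * (q + 1) = 4 * a * b * q := fun x => by
    rw [← hΩ, ← MulAction.index_stabilizer_of_transitive L x, card_mul_index, h.card]
  have hle : ∀ g : L, g ≠ 1 → Nat.card (MulAction.fixedBy Ω g) ≤ 2 := by
    intro g hg
    by_contra hc
    have := Fintype.ofFinite (MulAction.fixedBy Ω g)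
    rw [Nat.card_eq_fintype_card] at hc
    obtain ⟨x, y, z, hxy, hxz, hyz⟩ := Fintype.two_lt_card_iff.mp (not_le.mp hc)
    exact hg (h3 g x y z (fun e => hxy (Subtype.ext e)) (fun e => hxz (Subtype.ext e))
      (fun e => hyz (Subtype.ext e)) x.2 y.2 z.2)
  have hq := h.hq
  have hb := h.hb
  rcases h.eps with e | e
  · subst e
    have hB' : ∀ x : Ω, ♯(MulAction.stabilizer L x) = 2 * a * q := fun x => by
      have e1 : q + 1 = 2 * b := by omega
      have := hB x
      rw [e1] at this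
      exact Nat.eq_of_mul_eq_mul_right (show 0 < 2 * b by omega) (by rw [this]; ring)
    have hinv : ∀ s : L, orderOf s = 2 → Nat.card (MulAction.fixedBy Ω s) = 2 := by
      intro s hs
      have hne : Nonempty Ω := (Nat.card_pos_iff.mp (by omega : 0 < Nat.card Ω)).1
      obtain ⟨x⟩ := hne
      obtain ⟨u, hu, huo⟩ := exists_orderOf_eq (H := MulAction.stabilizer L x) Nat.prime_two
        (by rw [hB', mul_assoc]; exact dvd_mul_right _ _)
      obtain ⟨c, rfl⟩ := isConj_iff.mp (h.conj u s huo hs)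
      have h1 : 0 < Nat.card (MulAction.fixedBy Ω (c * u * c⁻¹)) := by
        have : Nonempty (MulAction.fixedBy Ω (c * u * c⁻¹)) := ⟨⟨c • x, by
          rw [MulAction.mem_fixedBy, mul_smul, mul_smul, inv_smul_smul,
            MulAction.mem_stabilizer_iff.mp hu]⟩⟩
        exact Nat.card_pos
      have h4 := hle _ (ne_one_of_two hs)
      have hp : IsPGroup 2 (zpowers (c * u * c⁻¹)) :=
        IsPGroup.of_card (n := 1) (by rw [card_zpowers', hs, pow_one])
      have h5 := hp.card_modEq_card_fixedPoints Ω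
      have e2 : MulAction.fixedPoints (zpowers (c * u * c⁻¹)) Ω =
          MulAction.fixedBy Ω (c * u * c⁻¹) := by
        ext y
        constructor
        · intro hy; exact hy ⟨_, mem_zpowers _⟩
        · intro hy k
          exact MulAction.mem_stabilizer_iff.mp
            ((zpowers_le.mpr (MulAction.mem_stabilizer_iff.mpr hy) :
              zpowers _ ≤ MulAction.stabilizer L y) k.2)
      rw [e2, hΩ] at h5
      unfold Nat.ModEq at h5
      omega
    have : Nat.card (MulAction.fixedBy Ω g) = 2 := by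
      by_cases hgg : g * g = 1
      · exact hinv g (orderOf_eq_two hg hgg)
      refine le_antisymm (hle g hg) ?_
      rw [← hinv s hs]
      refine Nat.card_mono (Set.toFinite _) fun y hy => ?_
      obtain ⟨-, x, hx, hxa, hx2⟩ := h.exists_cyc hs
      rcases hx2 g (mem_C1.mpr hgs) with hgx | ⟨-, hgx, -⟩
      swap
      · exact absurd hgx hgg
      have hy' : s • y = y := hy
      have ha' : g ^ a ∈ MulAction.stabilizer L y := by
        obtain ⟨k, rfl⟩ := hgx
        simp only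
        rw [← zpow_natCast, ← zpow_mul, mul_comm, zpow_mul, zpow_natCast, hxa]
        exact zpow_mem (MulAction.mem_stabilizer_iff.mpr hy') k
      have h2' : g ^ 2 ∈ MulAction.stabilizer L y := by
        have hf : ∀ w : Ω, s • w = w → s • g • w = g • w := fun w hw => by
          rw [← mul_smul, ← hgs, mul_smul, hw]
        rw [MulAction.mem_stabilizer_iff, pow_two, mul_smul]
        by_contra hc
        by_cases h1 : g • y = y
        · exact hc (by rw [h1, h1])
        exact ne_one_of_two hs (h3 s y (g • y) (g • g • y) (Ne.symm h1) (Ne.symm hc)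
          (fun e => h1 (smul_left_cancel g e).symm) hy' (hf y hy') (hf _ (hf y hy')))
      obtain ⟨m, hm⟩ := h.odd_a
      have : g ∈ MulAction.stabilizer L y := by
        have e3 : g = g ^ a * ((g ^ 2) ^ m)⁻¹ := by rw [hm]; group
        rw [e3]
        exact mul_mem ha' (inv_mem (pow_mem h2' m))
      exact this
    simp only [this]; norm_num
  · subst e
    have hB' : ∀ x : Ω, ♯(MulAction.stabilizer L x) = b * q := fun x => by
      have e1 : q + 1 = 4 * a := by omega
      have := hB x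
      rw [e1] at this
      exact Nat.eq_of_mul_eq_mul_right (show 0 < 4 * a by omega) (by rw [this]; ring)
    have : IsEmpty (MulAction.fixedBy Ω g) := ⟨fun ⟨y, hy⟩ => hg (by
      have h1 := orderOf_dvd_card' (MulAction.mem_stabilizer_iff.mpr hy)
      have h4 := orderOf_dvd_card' (mem_C1.mpr hgs)
      rw [hB'] at h1
      rw [h.card_C hs] at h4
      have hc : (4 * a).Coprime (b * q) :=
        (Nat.Coprime.pow_left 2 (Nat.coprime_two_left.mpr (h.odd_b.mul h.odd_q))).mul_left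
          (h.cop_ab.mul_right h.cop_aq)
      exact orderOf_eq_one_iff.mp (Nat.eq_one_of_dvd_coprimes hc h4 h1))⟩
    simp

theorem fixedBy_eq {E Ω : Type*} [Group E] [MulAction E Ω] {g z : E} (hz : z ∈ zpowers g) {m : ℕ}
    (hm : Odd m) (hg : g ^ m ∈ zpowers z)
    (h3 : ∀ x y w : Ω, x ≠ y → x ≠ w → y ≠ w → z • x = x → z • y = y → z • w = w → False) :
    MulAction.fixedBy Ω g = MulAction.fixedBy Ω z := by
  have st : ∀ {a b : E} {x : Ω}, a ∈ zpowers b → b • x = x → a • x = x := fun {a b x} k e =>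
    MulAction.mem_stabilizer_iff.mp ((zpowers_le.mpr (MulAction.mem_stabilizer_iff.mpr e) :
      zpowers _ ≤ MulAction.stabilizer E x) k)
  refine Set.ext fun x => ⟨fun e => st hz e, fun e => ?_⟩
  have e' : z • x = x := e
  have hgz : z * g = g * z := by
    obtain ⟨k, rfl⟩ := hz
    exact (Commute.zpow_self g k).eq
  have hf : ∀ w : Ω, z • w = w → z • g • w = g • w := fun w hw => by
    rw [← mul_smul, hgz, mul_smul, hw]
  have h2 : g ^ 2 ∈ MulAction.stabilizer E x := by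
    rw [MulAction.mem_stabilizer_iff, pow_two, mul_smul]
    by_contra hc
    by_cases h1 : g • x = x
    · exact hc (by rw [h1, h1])
    exact h3 x (g • x) (g • g • x) (Ne.symm h1) (Ne.symm hc)
      (fun e => h1 (smul_left_cancel g e).symm) e' (hf x e') (hf _ (hf x e'))
  obtain ⟨k, rfl⟩ := hm
  have h4 : g ^ (2 * k + 1) ∈ MulAction.stabilizer E x := st hg e'
  rw [pow_succ, pow_mul] at h4
  exact (mul_mem_cancel_left (pow_mem h2 k)).mp h4

/-- an odd extension `E` of `L` acting on the projective line -/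
structure EX {L E : Type*} [Group L] [Group E] (j : L →* E) (Ω : Type*) [MulAction L Ω]
    [MulAction E Ω] (p q a b : ℕ) (ε : ℤ) (n : ℕ) : Prop where
  lh : LH L p q a b ε
  st : HasSt L q ε
  inj : Function.Injective j
  odd : Odd n
  card : Nat.card E = Nat.card L * n
  two : ∀ u : E, PElt 2 u → u ∈ j.range
  smul : ∀ (y : L) (x : Ω), j y • x = y • x
  cardΩ : Nat.card Ω = q + 1
  tr : MulAction.IsPretransitive L Ω
  tr2 : MulAction.IsMultiplyPretransitive L Ω 2
  h3 : ∀ (g : L) (x y z : Ω), x ≠ y → x ≠ z → y ≠ z → g • x = x → g • y = y → g • z = z → g = 1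

namespace EX
variable {L E : Type*} [Group L] [Group E] {j : L →* E} {Ω : Type*} [MulAction L Ω]
  [MulAction E Ω] {p q a b : ℕ} {ε : ℤ} {n : ℕ} (h : EX j Ω p q a b ε n)
include h

theorem ord (y : L) : orderOf (j y) = orderOf y := orderOf_injective j h.inj y

theorem inv {u : E} (hu : orderOf u = 2) : ∃ s, orderOf s = 2 ∧ u = j s := by
  obtain ⟨s, rfl⟩ := h.two u (PElt.of_two hu)
  exact ⟨s, by rwa [h.ord] at hu, rfl⟩

theorem cnj (u v : E) (hu : orderOf u = 2) (hv : orderOf v = 2) : IsConj u v := by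
  obtain ⟨s, hs, rfl⟩ := h.inv hu
  obtain ⟨s', hs', rfl⟩ := h.inv hv
  exact j.map_isConj (h.lh.conj s s' hs hs')

variable [Fintype L] [Fintype E]

omit [Fintype L] in
theorem klein (P : Sylow 2 E) : IsKleinFour (P : Subgroup E) := by
  have ho := ((h.lh.odd_a.mul h.lh.odd_b).mul h.lh.odd_q).mul h.odd
  have hc : Nat.card P = 4 := by
    rw [P.card_eq_multiplicity, h.card, h.lh.card,
      show 4 * a * b * q * n = 2 ^ 2 * (a * b * q * n) by ring,
      Nat.factorization_mul (by norm_num) ho.pos.ne', Nat.factorization_pow]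
    simp [Nat.prime_two.factorization_self, Nat.factorization_eq_zero_of_not_dvd ho.not_two_dvd_nat]
  have : Nontrivial P := Finite.one_lt_card_iff_nontrivial.mp (by omega)
  refine ⟨hc, (Monoid.exponent_eq_prime_iff Nat.prime_two).mpr fun g hg => ?_⟩
  have h2 := PElt.of_mem P.2 g.2
  obtain ⟨y, e⟩ := h.two g h2
  obtain ⟨k, hk⟩ := PElt.iff_pow.mp ((e ▸ h2).of_injective h.inj)
  refine orderOf_eq_two hg (Subtype.ext ?_)
  rw [Subgroup.coe_mul, ← e, ← map_mul, h.lh.sq_of_pow_four hk, map_one, Subgroup.coe_one]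

theorem card_cl {s : L} (hs : orderOf s = 2) : (cl (j s)).card = b * q := by
  classical
  rw [← h.lh.card_cl_two hs, ← Finset.card_image_of_injective _ h.inj]
  congr 1
  ext u
  simp only [mem_cl, Finset.mem_image]
  constructor
  · intro k
    obtain ⟨s', hs', rfl⟩ := h.inv (u := u) (by rw [← orderOf_eq_of_isConj k, h.ord, hs])
    exact ⟨s', h.lh.conj _ _ hs hs', rfl⟩
  · rintro ⟨s', k, rfl⟩
    exact j.map_isConj k

theorem inner_gam {s : L} (hs : orderOf s = 2) (f : E → ℂ) :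
    (Nat.card E : ℂ) * classInner f (gam (j s) (j s)) =
      Nat.card L * classInner (fun y => f (j y)) (gam s s) := by
  have hs' : orderOf (j s) = 2 := by rw [h.ord, hs]
  rw [card_mul_classInner, card_mul_classInner]
  symm
  refine Fintype.sum_of_injective j h.inj _ _ (fun g hg => ?_) fun y => ?_
  · rw [gam_eq_card hs' fun u hu => h.cnj _ _ hs' hu]
    have : IsEmpty {u : E // orderOf u = 2 ∧ orderOf (u * g) = 2} := ⟨fun ⟨u, h1, h2⟩ => hg (by
      have := mul_mem (inv_mem (h.two _ (PElt.of_two h1))) (h.two _ (PElt.of_two h2))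
      rwa [inv_mul_cancel_left] at this)⟩
    simp
  · rw [gam_eq_card hs' fun u hu => h.cnj _ _ hs' hu, gam_eq_card hs fun u hu =>
      h.lh.conj _ _ hs hu]
    congr 3
    refine Nat.card_eq_of_bijective (fun u => ⟨j u.1, by rw [h.ord, u.2.1],
      by rw [← map_mul, h.ord, u.2.2]⟩) ⟨fun u v e => Subtype.ext (h.inj (congrArg Subtype.val e)),
      fun ⟨u, h1, h2⟩ => ?_⟩
    obtain ⟨s', hs', rfl⟩ := h.inv h1
    exact ⟨⟨s', hs', by rwa [← map_mul, h.ord] at h2⟩, rfl⟩

theorem degs {M : Ideal AlgInt} [PM 2 M] {e₂ e₃ e₄ : E → ℂ} (hB : LB M e₂ e₃ e₄)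
    (d₄ : e₄ 1 = (ε * q : ℤ)) : e₂ 1 = -(ε * b : ℤ) ∧ e₃ 1 = -(ε * b : ℤ) := by
  obtain ⟨f₂, f₃, f₄, hf⟩ := h.lh.exists_LC h.st M
  obtain ⟨s, hs⟩ := h.lh.exists_inv
  obtain ⟨v₂, v₃, v₄⟩ := hB.ev (j s) (by rw [h.ord, hs])
  obtain ⟨w₂, w₃, w₄⟩ := hf.ev s (by rw [hs])
  have e := h.inner_gam hs (o E + e₂ + e₃ + e₄)
  have e1 : (fun y => (o E + e₂ + e₃ + e₄) (j y)) = o L + f₂ + f₃ + f₄ := by
    ext y
    by_cases k : 2 ∣ orderOf y
    · obtain ⟨a₂, a₃, a₄⟩ := hB.ev (j y) (by rwa [h.ord])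
      obtain ⟨b₂, b₃, b₄⟩ := hf.ev y k
      simp [a₂, a₃, a₄, b₂, b₃, b₄]
    · rw [hB.sum_od (by rwa [h.ord]), hf.toLB.sum_od k]
  rw [e1] at e
  simp only [classInner_add_left, sirr_one.inner_gam, hB.s₂.inner_gam, hB.s₃.inner_gam,
    hB.s₄.inner_gam, hf.s₂.inner_gam, hf.s₃.inner_gam, hf.s₄.inner_gam, v₂, v₃, v₄, w₂, w₃, w₄,
    h.card_cl hs, h.lh.card_cl_two hs, d₄, hf.d₂, hf.d₃, hf.d₄] at e
  have h2 := hB.od 1 (by simp)
  have hQ : ((ε * q : ℤ) : ℂ) = 2 * (ε * b : ℤ) - 1 := by exact_mod_cast h.lh.hQ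
  have hb := h.lh.b_pos
  have hq := h.lh.three_le
  have ρ0 : ((ε * b : ℤ) : ℂ) ≠ 0 := by
    rcases h.lh.eps with k | k <;> rw [k] <;> norm_cast <;> omega
  have bq : ((b * q : ℕ) : ℂ) ≠ 0 := by norm_cast; positivity
  rw [d₄, hQ] at h2
  generalize ((ε * b : ℤ) : ℂ) = ρ at *
  generalize ((ε * q : ℤ) : ℂ) = Q at *
  generalize ((b * q : ℕ) : ℂ) = c at *
  have n₂ := hB.s₂.apply_one_ne_zero
  have n₃ := hB.s₃.apply_one_ne_zero
  have := H4.card_ne_zero E
  have := H4.card_ne_zero L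
  have e2 : 1 / e₂ 1 + 1 / e₃ 1 = -2 / ρ := by
    apply mul_left_cancel₀ (mul_ne_zero bq bq)
    have e3 : ∀ (N x : ℂ), N ≠ 0 → N * (c * c / N * x) = c * c * x := fun N x k => by field_simp
    simp only [mul_add, e3 _ _ (H4.card_ne_zero E), e3 _ _ (H4.card_ne_zero L)] at e
    linear_combination e
  field_simp at e2
  have hp : e₂ 1 * e₃ 1 = ρ ^ 2 := by linear_combination e2 / 2 - ρ / 2 * h2
  constructor
  · have : (e₂ 1 + ρ) ^ 2 = 0 := by linear_combination (e₂ 1) * h2 - hp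
    linear_combination pow_eq_zero_iff two_ne_zero |>.mp this
  · have : (e₃ 1 + ρ) ^ 2 = 0 := by linear_combination (e₃ 1) * h2 - hp
    linear_combination pow_eq_zero_iff two_ne_zero |>.mp this

theorem exists_LB [Finite Ω] (M : Ideal AlgInt) [PM 2 M] : ∃ e₂ e₃ e₄ : E → ℂ, LB M e₂ e₃ e₄ ∧
    e₂ 1 = -(ε * b : ℤ) ∧ e₃ 1 = -(ε * b : ℤ) ∧ e₄ 1 = (ε * q : ℤ) ∧
    ∀ (Y : E) (z s : L), ¬ 2 ∣ orderOf Y → j z ∈ zpowers Y → z ≠ 1 → orderOf s = 2 →
      z * s = s * z → e₄ Y = 1 := by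
  classical
  obtain ⟨P⟩ : Nonempty (Sylow 2 E) := inferInstance
  obtain ⟨e₂, e₃, e₄, hB⟩ := H27.JT.exists_LB M P (h.klein P) h.cnj
  have h3q := h.lh.three_le
  have hΩ := h.cardΩ
  have tr := h.tr
  have tr2 : MulAction.IsMultiplyPretransitive E Ω 2 := by
    have := h.tr2
    rw [MulAction.is_two_pretransitive_iff] at this ⊢
    intro a b c d k k'
    obtain ⟨g, h1, h2⟩ := this k k'
    exact ⟨j g, by rw [h.smul, h1], by rw [h.smul, h2]⟩
  have trE : MulAction.IsPretransitive E Ω := ⟨fun x y => by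
    obtain ⟨g, k⟩ := MulAction.exists_smul_eq L x y
    exact ⟨j g, by rw [h.smul, k]⟩⟩
  have he := (Cfsg.Agent.S0157.result (G := E) Ω (by omega)).mpr tr2
  have hee : (ε : ℂ) * ε = 1 := by exact_mod_cast h.lh.ee
  obtain ⟨e, he', he1⟩ : ∃ e : E → ℂ, (e = fun g => (Nat.card (MulAction.fixedBy Ω g) : ℂ) - 1) ∧
    e 1 = q := ⟨_, rfl, by
      simp only [MulAction.fixedBy_one_eq_univ, Nat.card_univ, hΩ]; push_cast; ring⟩
  have key : ∀ (Y : E) (z s : L) (m : ℕ), Odd m → Y ^ m ∈ zpowers (j z) → j z ∈ zpowers Y → z ≠ 1 →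
      orderOf s = 2 → z * s = s * z → ((ε : ℂ) • e) Y = 1 := by
    intro Y z s m hm h1 h2 z1 hs c
    have e1 := fixedBy_eq (Ω := Ω) h2 hm h1 fun x y w a b c k1 k2 k3 =>
      z1 (h.h3 z x y w a b c (h.smul z x ▸ k1) (h.smul z y ▸ k2) (h.smul z w ▸ k3))
    have e2 : MulAction.fixedBy Ω (j z) = MulAction.fixedBy Ω z :=
      Set.ext fun x => by simp only [MulAction.mem_fixedBy, h.smul]
    have e3 : (Nat.card (MulAction.fixedBy Ω z) : ℂ) = 1 + ε := by
      exact_mod_cast card_fix h.lh Ω hΩ h.h3 z1 hs c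
    simp only [he', Pi.smul_apply, e1, e2, e3, smul_eq_mul]
    linear_combination hee
  rw [← he'] at he
  have hs : SIrr ((ε : ℂ) • e) := by
    rcases h.lh.eps with rfl | rfl
    · simpa using sirr_of_irr he
    · simpa using (sirr_of_irr he).neg
  have d₄ : ((ε : ℂ) • e) 1 = (ε * q : ℤ) := by simp [he1]
  have st : ∀ (Y : E) (z s : L), ¬ 2 ∣ orderOf Y → j z ∈ zpowers Y → z ≠ 1 → orderOf s = 2 →
      z * s = s * z → ((ε : ℂ) • e) Y = 1 := fun Y z s hY h1 z1 hs c =>
    key Y z s (orderOf Y) (Nat.odd_iff.mpr (by omega))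
      (by rw [pow_orderOf_eq_one]; exact one_mem _) h1 z1 hs c
  have hev' : ∀ g : E, 2 ∣ orderOf g → ((ε : ℂ) • e) g = 1 := fun g hg => by
    obtain ⟨z, e⟩ := h.two _ (pElt_pp (p := 2) g)
    have z1 : z ≠ 1 := by rintro rfl; exact pp_eq_one_iff.mp (e.symm.trans (map_one j)) hg
    obtain ⟨k, hk⟩ := PElt.iff_pow.mp ((e ▸ pElt_pp (p := 2) g).of_injective h.inj)
    refine key g z z (orderOf (pr 2 g)) (Nat.odd_iff.mpr (by have := reg_pr (p := 2) g; omega)) ?_
      (e ▸ pp_mem_zpowers g) z1 (orderOf_eq_two z1 (h.lh.sq_of_pow_four hk)) rfl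
    nth_rewrite 1 [← pp_mul_pr (p := 2) g]
    rw [(commute_pp_pr g).mul_pow, pow_orderOf_eq_one, mul_one, e]
    exact pow_mem (mem_zpowers _) _
  generalize (ε : ℂ) • e = S at *
  have h0 : classInner (o E - S) (o E + e₂ + e₃ + e₄) = 0 := by
    refine inner_eq_zero_of_supp fun g => ?_
    by_cases hg : 2 ∣ orderOf g
    · left; simp [hev' g hg]
    · right; exact hB.sum_od hg
  have h1 : classInner S (o E) = 0 := by
    by_contra k
    rcases hs.eq_or_eq_neg sirr_one k with k | k <;> rw [k] at d₄ <;>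
      simp only [Pi.neg_apply] at d₄ <;> norm_cast at d₄ <;> rcases h.lh.eps with e | e <;>
      rw [e] at d₄ <;> omega
  simp only [classInner_sub_left, classInner_add_right, hB.o₂, hB.o₃, hB.o₄, h1,
    classInner_one_one] at h0
  obtain ⟨s, hs2⟩ := h.lh.exists_inv
  obtain ⟨v₂, v₃, v₄⟩ := hB.ev (j s) (by rw [h.ord, hs2])
  have v := hev' (j s) (by rw [h.ord, hs2])
  by_cases k₂ : classInner S e₂ = 0
  · by_cases k₃ : classInner S e₃ = 0
    · have k₄ : classInner S e₄ ≠ 0 := fun k => by simp [k₂, k₃, k] at h0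
      obtain rfl := sirr_eq_of_apply hs hB.s₄ k₄ (v.trans v₄.symm) (by simp [v])
      exact ⟨_, _, _, hB, (h.degs hB d₄).1, (h.degs hB d₄).2, d₄, st⟩
    · obtain rfl := sirr_eq_of_apply hs hB.s₃ k₃ (v.trans v₃.symm) (by simp [v])
      exact ⟨_, _, _, hB.swap₃₄, (h.degs hB.swap₃₄ d₄).1, (h.degs hB.swap₃₄ d₄).2, d₄, st⟩
  · obtain rfl := sirr_eq_of_apply hs hB.s₂ k₂ (v.trans v₂.symm) (by simp [v])
    exact ⟨_, _, _, hB.swap₂₃.swap₃₄, (h.degs hB.swap₂₃.swap₃₄ d₄).1,
      (h.degs hB.swap₂₃.swap₃₄ d₄).2, d₄, st⟩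

end EX

end H17.JB
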