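import Mathlib
import Cfsg.Agent.H17.JB7
import Cfsg.Agent.H17.JB8
import Cfsg.Agent.H1.JRQuot

/-! The character-theoretic data attached to `C(t) = ⟨t⟩ × L⟨φ⟩`. -/

set_option autoImplicit false
open Cfsg H4 H5 H17 H24 Subgroup H27.JT H16 H1 H26.Gold
open scoped MatrixGroups

namespace H17.JB

theorem psl_map_smul {F : Type*} [Field F] [DecidableEq F] (f : F →+* F) (y : PSL(2, F))
    (x : OnePoint F) : OnePoint.map f (y • x) = pslMap f y • OnePoint.map f x := by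
  induction y using QuotientGroup.induction_on with | H g =>
  rw [pslMap_mk, psl_mk_smul, psl_mk_smul, OnePoint.map_smul]
  congr 1
  ext i j
  rfl

section
variable {G : Type*} [Group G] {F : Type*} [Field F] [Fintype F] {t : G} {ι : PSL(2, F) →* G}
  {φ : G} {σ : F ≃+* F} (h : JR t ι φ σ)

/-- the inclusion of `L` in `L⟨φ⟩` -/
def jj (ι : PSL(2, F) →* G) (φ : G) : PSL(2, F) →* (ι.range ⊔ zpowers φ : Subgroup G) :=
  ι.codRestrict _ fun y => mem_sup_left ⟨y, rfl⟩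

include h
variable [Finite G]

theorem exists_dec (g : (ι.range ⊔ zpowers φ : Subgroup G)) :
    ∃ (y : PSL(2, F)) (k : ℕ), (g : G) = ι y * φ ^ k := by
  obtain ⟨_, ⟨y, rfl⟩, b, hb, e⟩ := (mem_sup_of_norm h.Φ_norm).1 g.2
  obtain ⟨k, rfl⟩ := h.exists_pow hb
  exact ⟨y, k, e⟩

theorem exists_act [DecidableEq F] :
    ∃ _ : MulAction (ι.range ⊔ zpowers φ : Subgroup G) (OnePoint F),
      ∀ (y : PSL(2, F)) (x : OnePoint F), jj ι φ y • x = y • x := by
  choose y k e using exists_dec h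
  have key : ∀ (g : (ι.range ⊔ zpowers φ : Subgroup G)) z m, (g : G) = ι z * φ ^ m → ∀ x : OnePoint F,
      y g • OnePoint.map (σ ^ k g : F ≃+* F) x = z • OnePoint.map (σ ^ m : F ≃+* F) x := by
    intro g z m hg x
    obtain ⟨h1, h2⟩ := mul_eq_mul_of_inf h.L_inf ⟨y g, rfl⟩ ⟨z, rfl⟩ (pow_mem (mem_zpowers φ) _)
      (pow_mem (mem_zpowers φ) _) ((e g).symm.trans hg)
    rw [h.inj h1, pow_eq_pow_iff_modEq.2 (h.oφ ▸ pow_eq_pow_iff_modEq.1 h2)]
  refine ⟨{ smul := fun g x => y g • OnePoint.map (σ ^ k g : F ≃+* F) x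
            one_smul := ?_, mul_smul := ?_ }, fun z x => ?_⟩
  · intro a b x
    refine (key (a * b) (y a * pslMap ((σ ^ k a : F ≃+* F) : F →+* F) (y b)) (k a + k b) (by
      rw [Subgroup.coe_mul, e a, e b, map_mul, ← h.act_pow, pow_add]; group) x).trans ?_
    change _ = y a • OnePoint.map ((σ ^ k a : F ≃+* F) : F →+* F) (y b • _)
    rw [psl_map_smul, mul_smul, pow_add]
    cases x <;> rfl
  · intro x
    refine (key 1 1 0 (by simp) x).trans ?_
    cases x <;> simp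
  · refine (key (jj ι φ z) z 0 (by simp [jj]) x).trans ?_
    cases x <;> simp

theorem mem_KK_of_pow {g : G} (hg : g ∈ C{t}) {m : ℕ} (hm : m.Coprime (orderOf φ))
    (e : g ^ m ∈ KK t ι) : g ∈ KK t ι := by
  obtain ⟨Λ, h1, -⟩ := h.exists_Λ'
  have h2 : ∀ x : C{t}, (x : G) ∈ KK t ι ↔ Λ x = 1 := fun x => ⟨fun k => mem_bot.1
    (h.sd.inf ▸ ⟨by simpa using mul_mem (inv_mem (h1 x).2) k, (h1 x).1⟩), fun k => by
      simpa [k] using (h1 x).2⟩
  refine (h2 ⟨g, hg⟩).2 (orderOf_eq_one_iff.1 (Nat.eq_one_of_dvd_coprimes hm ?_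
    (orderOf_dvd_of_mem_zpowers (h1 _).1)))
  rw [orderOf_dvd_iff_pow_eq_one, ← map_pow]
  exact (h2 _).1 e

theorem mem_L_of_pow {g : G} (hg : g ∈ C{t}) {m : ℕ} (hm : m.Coprime (orderOf φ)) (ho : Odd m)
    (e : g ^ m = 1) : ∃ y, ι y = g :=
  h.mem_L_of_odd (mem_KK_of_pow h hg hm (e ▸ one_mem _))
    (oddE_iff.2 (ho.of_dvd_nat (orderOf_dvd_of_pow_eq_one e)))

theorem exists_U (hφ : φ ≠ 1) : ∃ U : G → ℂˣ, TwU t U (orderOf φ) ∧ U φ ≠ 1 := by
  classical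
  obtain ⟨Λ, h1, h2⟩ := h.exists_Λ'
  obtain ⟨χ, -, hχ⟩ := exists_hom_pow (A := zpowers φ)
    (fun a b => Subtype.ext ((abl_zpowers φ).comm a.2 b.2)) 0 (g := ⟨φ, mem_zpowers φ⟩)
    fun u e => hφ (by simpa using congrArg Subtype.val e.symm)
  let μ : C{t} →* ℂˣ := χ.comp (Λ.codRestrict _ fun x => (h1 x).1)
  have hμ : ∀ x x' : C{t}, IsConj (x : G) x' → μ x = μ x' := fun x x' k =>
    congrArg χ (Subtype.ext (h2 x x' k))
  let U : G → ℂˣ := fun g => if k : ∃ x : C{t}, IsConj (x : G) g then μ k.choose else 1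
  have hU : ∀ (x : C{t}) g, IsConj (x : G) g → U g = μ x := fun x g k => by
    have k' : ∃ x : C{t}, IsConj (x : G) g := ⟨x, k⟩
    simp only [U, dif_pos k']
    exact hμ _ _ (k'.choose_spec.trans k.symm)
  have hU' : ∀ g, (¬ ∃ x : C{t}, IsConj (x : G) g) → U g = 1 := fun g k => dif_neg k
  refine ⟨U, ⟨h.odd_φ, fun g => ?_, fun a b hab => ?_, fun g => ?_, fun a ha b hb => ?_⟩, ?_⟩
  · by_cases k : ∃ x : C{t}, IsConj (x : G) g
    · obtain ⟨x, hx⟩ := k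
      rw [hU x g hx, ← Nat.card_zpowers]
      exact (map_pow χ _ _).symm.trans (by rw [pow_card_eq_one', map_one])
    · rw [hU' g k, one_pow]
  · by_cases k : ∃ x : C{t}, IsConj (x : G) a
    · obtain ⟨x, hx⟩ := k
      rw [hU x a hx, hU x b (hx.trans hab)]
    · rw [hU' a k, hU' b fun ⟨x, hx⟩ => k ⟨x, hx.trans hab.symm⟩]
  · have ci : ∀ a b : G, IsConj a b → IsConj a⁻¹ b⁻¹ := fun a b k => by
      obtain ⟨c, rfl⟩ := isConj_iff.1 k
      exact isConj_iff.2 ⟨c, by group⟩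
    by_cases k : ∃ x : C{t}, IsConj (x : G) g
    · obtain ⟨x, hx⟩ := k
      rw [hU x g hx, hU x⁻¹ g⁻¹ (ci _ _ hx), map_inv]
    · rw [hU' g k, hU' g⁻¹ fun ⟨x, hx⟩ => k ⟨x⁻¹, by simpa using ci _ _ hx⟩, inv_one]
  · rw [hU ⟨a, ha⟩ a (IsConj.refl _), hU ⟨b, hb⟩ b (IsConj.refl _),
      hU (⟨a, ha⟩ * ⟨b, hb⟩) (a * b) (IsConj.refl _), map_mul]
  · rw [hU ⟨φ, h.φt⟩ φ (IsConj.refl _)]
    have : Λ ⟨φ, h.φt⟩ = φ := ((mul_eq_mul_of_inf h.sd.inf (h1 ⟨φ, h.φt⟩).2 (one_mem _) (h1 _).1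
      (mem_zpowers φ) (by simp)).2)
    exact fun e => hχ ((congrArg χ (Subtype.ext this)).symm.trans e)

theorem ex [DecidableEq F] [MulAction (ι.range ⊔ zpowers φ : Subgroup G) (OnePoint F)]
    (hs : ∀ (y : PSL(2, F)) (x : OnePoint F), jj ι φ y • x = y • x) {p a b : ℕ} {ε : ℤ}
    (hL : LH PSL(2, F) p (Fintype.card F) a b ε) (hSt : HasSt PSL(2, F) (Fintype.card F) ε) :
    EX (jj ι φ) (OnePoint F) p (Fintype.card F) a b ε (orderOf φ) := by
  obtain ⟨π, J⟩ := h.exists_JH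
  refine ⟨hL, hSt, fun y z e => h.inj (congrArg Subtype.val e), h.odd_φ, ?_, fun u hu => ?_, hs,
    by rw [← Nat.card_eq_fintype_card]; exact Finite.card_option, inferInstance, psl2_two_trans,
    fun g x y z hxy hxz hyz hx hy hz => Matrix.ProjectiveSpecialLinearGroup.toPGL_injective (by
      rw [map_one]; exact pgl2_eq_one_of_three _ hxy hxz hyz hx hy hz)⟩
  · have := J.card_C
    rw [h.card_C, mul_assoc] at this
    exact (Nat.eq_of_mul_eq_mul_left two_pos this).symm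
  · obtain ⟨k, hk⟩ := hu
    have h1 : (u : G) ^ 2 ^ k = 1 := by
      rw [← hk, ← Subgroup.coe_pow, pow_orderOf_eq_one, Subgroup.coe_one]
    obtain ⟨y, e | e⟩ := h.mem_KK.1 (mem_KK_of_pow h (J.mem u)
      (Nat.Coprime.pow_left k (Nat.coprime_two_left.2 h.odd_φ)) (h1 ▸ one_mem _))
    · exact ⟨y, Subtype.ext e.symm⟩
    · refine (J.ne (u * (jj ι φ y)⁻¹) ?_).elim
      rw [map_mul, e]; simp [jj]

end

theorem jr_core {G : Type*} [Group G] [Finite G] [IsSimpleGroup G] {F : Type*} [Field F] [Fintype F]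
    {s : G} {ι : PSL(2, F) →* G} {φ : G} {σ : F ≃+* F} (h : JR s ι φ σ) {p a b : ℕ} {ε : ℤ}
    (hL : LH PSL(2, F) p (Fintype.card F) a b ε) (hSt : HasSt PSL(2, F) (Fintype.card F) ε)
    (hq : 27 ≤ Fintype.card F) {t : G} {V T : Subgroup G} {r y : G} (B : TB t V T r y)
    (hB : C{y} ≤ C{s}) (hT : ♯T = 4 * a) (hC : ♯C{y} = 4 * a * orderOf φ)
    (hl : (orderOf y).Coprime (orderOf φ)) : φ = 1 := by
  classical
  by_contra hφ
  have := Fintype.ofFinite G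
  have := Fintype.ofFinite PSL(2, F)
  obtain ⟨π, J⟩ := h.exists_JH
  obtain ⟨act, hs⟩ := exists_act h
  have X := ex h hs hL hSt
  obtain ⟨M, hM⟩ := exists_PM 2
  obtain ⟨e₂, e₃, e₄, lb, d₂, d₃, d₄, st⟩ := X.exists_LB M
  obtain ⟨U, w, hU⟩ := exists_U h hφ
  have hQ : |ε * (Fintype.card F : ℤ)| = Fintype.card F := by
    rcases hL.eps with e | e <;> simp [e]
  have ee := hL.ee
  have S : SE (ι.range ⊔ zpowers φ).subtype π M (ε * Fintype.card F) (ε * b) e₂ e₃ e₄ := by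
    refine ⟨J, lb, d₂, d₃, d₄, hL.hQ, ?_, by rw [hQ]; exact_mod_cast hq, h.cnj, ?_,
      fun χ hχ h1 => ?_, ?_⟩
    · have := hL.odd_b.natCast (R := ℤ)
      rcases hL.eps with e | e <;> simpa [e]
    · obtain ⟨S, hS, ht, -⟩ := h.exists_S
      exact ⟨S, h.card_S hS ht, fun g hg => h.S_sq hS ht hg⟩
    · obtain ⟨lam, rfl⟩ := hχ.isCharacter.exists_linear h1
      have : lam.ker = ⊤ := by
        refine (IsSimpleGroup.eq_bot_or_eq_top_of_normal lam.ker inferInstance).resolve_left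
          fun k => ?_
        obtain ⟨u, hu⟩ := hL.exists_inv
        obtain ⟨g, hg⟩ := hL.not_central hu
        refine hg (h.inj ((MonoidHom.ker_eq_bot_iff lam).1 k ?_))
        simp only [map_mul, mul_comm]
      ext g
      have : lam g = 1 := MonoidHom.mem_ker.mp (this ▸ mem_top g)
      simp [this]
    · obtain ⟨u, hu⟩ := hL.exists_inv
      refine ⟨jj ι φ u, by rw [X.ord, hu], fun v hv => X.cnj _ _ (by rw [X.ord, hu]) hv, ?_⟩
      rw [X.card_cl hu]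
      push_cast
      linear_combination (-(b : ℤ) ^ 2 * (Fintype.card F : ℤ) ^ 2 * (ε * ε + 1)) * ee
  obtain ⟨k, hk⟩ := hL.pow
  refine hU (B.core S (fun Y z h1 h2 h3 h4 => ?_) w hB ?_ hL.prime (k := k) (by rw [hQ, hk])
    ⟨φ, mem_sup_right (mem_zpowers φ)⟩)
  · obtain ⟨u, hu, ho⟩ := exists_orderOf_eq (H := zpowers Y) B.prime (by rwa [card_zpowers'])
    obtain ⟨c, hc⟩ := mem_L_of_pow h (J.mem u) hl B.odd_l (by
      rw [← ho, Subgroup.coe_subtype, ← Subgroup.coe_pow, pow_orderOf_eq_one, Subgroup.coe_one])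
    obtain rfl : jj ι φ c = u := Subtype.ext hc
    obtain ⟨z, hz, rfl⟩ := X.inv h3
    refine st Y c z h1 hu ?_ hz (X.inj ?_)
    · rintro rfl
      rw [map_one, orderOf_one] at ho
      exact B.prime.one_lt.ne ho
    · rw [map_mul, map_mul]
      exact mem_C1.1 (zpowers_le.2 (mem_C1.2 h4) hu)
  · rw [hT, hC, h.card_C, hL.card, show ε * b - 1 = 2 * a * ε by rw [hL.hb]; linear_combination ee]
    push_cast
    linear_combination (-128 * (a : ℤ) ^ 3 * b * Fintype.card F * orderOf φ * (ε * ε + 1)) * ee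

end H17.JB
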