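import Mathlib
import Cfsg.Agent.H17.JB9

/-! Lifting the local configuration from `C(φ)/⟨φ⟩`. -/

set_option autoImplicit false
open Cfsg H4 H5 H17 H24 Subgroup H27.JT H16 H1 H26 H26.Gold
open scoped MatrixGroups

namespace H17.JB

theorem lift_eq {G : Type*} [Group G] {ψ a b : G} (e : N[zpowers ψ] = C{ψ}) (ha : a ∈ C{ψ})
    (hb : b ∈ C{ψ}) {m : ℕ} (hm : m.Coprime (orderOf ψ)) (h1 : a ^ m = 1) (h2 : b ^ m = 1)
    (h : cs (zpowers ψ) a = cs (zpowers ψ) b) : a = b := by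
  have h3 := (cs_eq_cs (e ▸ ha) (e ▸ hb)).1 h
  have c : Commute a (a⁻¹ * b) := (mem_C1.1 (zpowers_le.2 (mem_C1_comm.1 ha) h3)).symm
  have h4 := c.mul_pow m
  rw [mul_inv_cancel_left, h1, h2, one_mul] at h4
  rw [← inv_mul_eq_one, ← orderOf_eq_one_iff]
  exact Nat.eq_one_of_dvd_coprimes hm (orderOf_dvd_of_pow_eq_one h4.symm)
    (orderOf_dvd_of_mem_zpowers h3)

/-- the configuration inside `C(φ)` -/
structure LD {G : Type*} [Group G] (t φ : G) (V : Subgroup G) (r y : G) : Prop where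
  klein : IsKleinFour V
  Vφ : V ≤ C{φ}
  tC : t ∈ C[V]
  tV : t ∉ V
  ordr : orderOf r = 3
  rt : r * t = t * r
  rN : r ∈ N[V]
  rC : r ∉ C[V]
  prime : (orderOf y).Prime
  seven : 7 ≤ orderOf y
  cop : (orderOf y).Coprime (orderOf φ)
  yφ : y ∈ C{φ}
  yC : y ∈ C[V]
  ty : t * y * t⁻¹ = y⁻¹
  ry : r * y ≠ y * r

variable {G : Type*} [Group G] [Finite G] {F : Type*} [Field F] [Fintype F] {t : G}
  {ι : PSL(2, F) →* G} {φ : G} {σ : F ≃+* F} (h : JR t ι φ σ)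
include h

theorem exists_cfg (hφ : φ = 1) : ∃ p a b ε V x r, LH PSL(2, F) p (Fintype.card F) a b ε ∧
    Cfg t V x r a := by
  obtain ⟨p, a, b, ε, hL, -⟩ := h.lh
  obtain ⟨π, J⟩ := h.exists_JH
  have hb : Function.Bijective (jj ι φ) := ⟨fun y z e => h.inj (congrArg Subtype.val e),
    fun g => by
      obtain ⟨y, k, e⟩ := exists_dec h g
      exact ⟨y, Subtype.ext (by rw [e, hφ, one_pow, mul_one]; rfl)⟩⟩
  obtain ⟨V, x, r, c⟩ := J.exists_Cfg (hL.of_equiv (MulEquiv.ofBijective _ hb)) h.ab h.cnj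
  exact ⟨p, a, b, ε, V, x, r, hL, c⟩

theorem exists_LD (hq : 5 < Nat.card (fixF σ))
    (hl : ∀ l : ℕ, l.Prime → 7 ≤ l → l ∣ orderOf φ → ¬ l ∣ Nat.card (fixF σ) ^ 2 - 1) :
    ∃ V r y, LD t φ V r y := by
  have := Fintype.ofFinite (fixF (σ ^ 1))
  obtain ⟨ι', e, h'⟩ := h.quot 1
  have m1 := h.ι_fix 1
  have eN := h.N_eq (pow_mem (mem_zpowers φ) 1)
  rw [← pow_one σ, Nat.card_eq_fintype_card] at hq hl
  generalize hψ : φ ^ 1 = ψ at ι' e h' m1 eN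
  rw [pow_one] at hψ
  subst hψ
  have φ1 : cs (zpowers φ) φ = 1 := cs_of_mem (mem_zpowers φ)
  obtain ⟨p, a, b, ε, W, x, r, hL, c⟩ := exists_cfg h' φ1
  have ha : a ≠ 1 := by
    rintro rfl
    have := hL.hq
    rcases hL.eps with k | k <;> omega
  obtain ⟨z, hz, hp, h7, hC⟩ := c.local ha
  have hcop : (orderOf z).Coprime (orderOf φ) := (Nat.Prime.coprime_iff_not_dvd hp).2 fun k =>
    hl _ hp h7 k (((c.ordx ▸ orderOf_dvd_of_mem_zpowers hz : orderOf z ∣ a)).trans (by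
      have h1 : 1 ≤ Fintype.card (fixF (σ ^ 1)) ^ 2 := Nat.one_le_pow _ _ (by omega)
      have ee := hL.ee
      rw [← Int.natCast_dvd_natCast, Nat.cast_sub h1]
      exact ⟨16 * a + 8 * ε, by push_cast; rw [hL.hq]; linear_combination ee⟩))
  have mt : t ∈ C{φ} := mem_C1_comm.1 h.φt
  obtain ⟨V, hV⟩ := Sylow_exists Nat.prime_two (coq _ W)
  have hW := hV.quo (coq_le_N W)
  have kW := c.klein
  rw [quo_coq] at hW
  have eW := hW.eq_self (isPi_of_card (n := 2) Nat.prime_two IsKleinFour.card_four)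
  have VN : V ≤ N[zpowers φ] := hV.le.trans (coq_le_N W)
  have eq := quoEquiv VN (h.odd_Φ.inf_eq_bot' hV.pi)
  rw [eW] at eq
  have kV : IsKleinFour V := ⟨by rw [Nat.card_congr eq.toEquiv, IsKleinFour.card_four],
    by rw [Monoid.exponent_eq_of_mulEquiv eq, IsKleinFour.exponent_two]⟩
  have c2 : Nat.Coprime 2 (orderOf φ) := Nat.coprime_two_left.2 h.odd_φ
  have cj : ∀ {g a b : G} {m : ℕ}, g ∈ C{φ} → a ∈ C{φ} → b ∈ C{φ} → m.Coprime (orderOf φ) →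
      a ^ m = 1 → b ^ m = 1 →
      cs (zpowers φ) g * cs (zpowers φ) a * (cs (zpowers φ) g)⁻¹ = cs (zpowers φ) b →
      g * a * g⁻¹ = b := fun hg ha hb hm h1 h2 k =>
    lift_eq eN (mul_mem (mul_mem hg ha) (inv_mem hg)) hb hm (by rw [conj_pow, h1]; simp) h2
      (by rw [← k]; exact ap_conj _ (eN ▸ hg) (eN ▸ ha))
  have V2 : ∀ v ∈ V, v ^ 2 = 1 := fun v hv => by rw [pow_two, kl_sq kV hv]
  have VW : ∀ v ∈ V, cs (zpowers φ) v ∈ W := fun v hv => eW ▸ cs_mem_quo hv (VN hv)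
  have cC : ∀ g ∈ C{φ}, cs (zpowers φ) g ∈ C[W] → g ∈ C[V] := fun g hg k v hv =>
    (mul_inv_eq_iff_eq_mul.1 (cj hg (eN ▸ VN hv) (eN ▸ VN hv) c2 (V2 v hv) (V2 v hv)
      (by rw [← k _ (VW v hv), mul_inv_cancel_right]))).symm
  obtain ⟨r₀, rfl⟩ := mem_L_of_pow h' (mem_C1.2 c.rt) (m := 3) (by rw [φ1]; simp) (by decide)
    (H18.JT.r3 c)
  obtain ⟨y₁, hy₁, rfl⟩ := exists_cs z
  obtain ⟨m, hm⟩ := exists_pow_eq_self_of_coprime hcop.symm
  have ey : cs (zpowers φ) ((y₁ ^ orderOf φ) ^ m) = cs (zpowers φ) y₁ := by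
    rw [← hm]; unfold cs; rw [ap_pow _ (pow_mem hy₁ _), ap_pow _ hy₁]
  have yl : ((y₁ ^ orderOf φ) ^ m) ^ orderOf (cs (zpowers φ) y₁) = 1 := by
    have : y₁ ^ orderOf (cs (zpowers φ) y₁) ∈ zpowers φ := (cs_eq_one (pow_mem hy₁ _)).1 (by
      unfold cs; rw [ap_pow _ hy₁, pow_orderOf_eq_one])
    rw [pow_right_comm, pow_right_comm y₁, orderOf_dvd_iff_pow_eq_one.1
      (orderOf_dvd_of_mem_zpowers this), one_pow]
  have yφ : (y₁ ^ orderOf φ) ^ m ∈ C{φ} := eN ▸ pow_mem (pow_mem hy₁ _) _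
  generalize (y₁ ^ orderOf φ) ^ m = y at ey yl yφ
  rw [← ey] at hz hp h7 hC hcop yl
  have oy : orderOf y = orderOf (cs (zpowers φ) y) := orderOf_eq_prime (hp := ⟨hp⟩) yl (by
    rintro rfl
    rw [cs, ap_one, orderOf_one] at h7
    omega)
  have cr := c.rC
  have crN := c.rN
  rw [e] at cr crN
  refine ⟨V, ι (pslMap (fixF (σ ^ 1)).subtype r₀), y, kV, eN ▸ VN, cC t mt (H18.JT.tC c),
    fun k => c.tV (VW t k), ?_, h.ιt _, mem_N_of_finite fun v hv => ?_,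
    fun k => cr (eW ▸ ap_mem_C _ k (eN ▸ m1 r₀)), oy ▸ hp, oy ▸ h7, oy ▸ hcop, yφ,
    cC y yφ (H18.JT.AC c hz), cj mt yφ (inv_mem yφ) hcop yl (by rw [inv_pow, yl, inv_one]) ?_,
    fun k => cr ?_⟩
  · rw [orderOf_injective ι h.inj, orderOf_injective _ (pslMap_injective _),
      ← orderOf_injective ι' h'.inj, c.ordr]
  · obtain ⟨w, hw, -, k⟩ := mem_quo.1 (eW ▸ H24.conj_mem crN (VW v hv))
    rw [cj (m1 r₀) (eN ▸ VN hv) (eN ▸ VN hw) c2 (V2 v hv) (V2 w hw) k.symm]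
    exact hw
  · rw [H18.JT.invA c hz]; exact (ap_inv _ (eN ▸ yφ)).symm
  · obtain ⟨w, hw, u, hu, k'⟩ := hC (cs (zpowers φ) (ι (pslMap (fixF (σ ^ 1)).subtype r₀))) (by
      unfold cs; rw [← ap_mul _ (eN ▸ m1 r₀) (eN ▸ yφ), ← ap_mul _ (eN ▸ yφ) (eN ▸ m1 r₀), k])
    rw [k']
    exact mul_mem (fun v hv => kl_comm kW hv hw) (H18.JT.AC c hu)

end H17.JB
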