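import Mathlib
import Cfsg.Agent.H17.JB10

/-! A nontrivial field automorphism of order prime to the small torus is impossible. -/

set_option autoImplicit false
open Cfsg H4 H5 H17 H24 Subgroup H27.JT H16 H1 H26 H26.Gold
open scoped MatrixGroups

namespace H17.JB

variable {G : Type*} [Group G] {F : Type*} [Field F] [Fintype F] {t : G}
  {ι : PSL(2, F) →* G} {φ : G} {σ : F ≃+* F} (h : JR t ι φ σ)
include h

theorem jr_conj {m : G} (hm : m ∈ C{φ}) :
    JR (m * t * m⁻¹) ((MulAut.conj m).toMonoidHom.comp ι) φ σ := by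
  have e : ∀ y, ((MulAut.conj m).toMonoidHom.comp ι) y = m * ι y * m⁻¹ := fun _ => rfl
  have hC : ∀ g, g ∈ C{t} → m * g * m⁻¹ ∈ C{m * t * m⁻¹} := fun g hg => mem_C1.2 (by
    rw [conj_mul, conj_mul, mem_C1.1 hg])
  have hφ : m * φ * m⁻¹ = φ := mem_C1_iff_conj.1 hm
  refine ⟨h.ab, fun u hu => (isConj_iff.2 ⟨m, rfl⟩).symm.trans (h.cnj u hu), h.q8,
    by rw [H17.orderOf_conj, h.ord], (MulAut.conj m).injective.comp h.inj,
    fun y => hC _ (h.mem y), fun y k => h.ne y (by simpa [e] using k), hφ ▸ hC _ h.φt,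
    fun y => ?_, h.oφ, fun g hg => ?_⟩
  · rw [e, e, ← h.act]
    nth_rewrite 1 2 [← hφ]
    group
  · obtain ⟨y, k, e'⟩ := h.dec (m⁻¹ * g * m) (mem_C1.2 (by
      calc m⁻¹ * g * m * t = m⁻¹ * (g * (m * t * m⁻¹)) * m := by group
        _ = _ := by rw [mem_C1.1 hg]; group))
    refine ⟨y, k, ?_⟩
    rw [e, ← hφ, conj_pow, conj_mul, conj_mul, conj_mul]
    exact e'.imp (fun k => by rw [← k]; group) fun k => by rw [← k]; group

variable [Finite G]

theorem jr_of_mem {v : G} (hv : v ∈ C{φ}) (v1 : v ≠ 1) (h2 : v * v = 1) : ∃ ι', JR v ι' φ σ := by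
  obtain ⟨c, hc, rfl⟩ := h.conj_in_C (mem_zpowers φ) hv (twoE_of_sq h2) v1
  exact ⟨_, jr_conj h hc⟩

theorem exists_tor {p a b : ℕ} {ε : ℤ} (hL : LH PSL(2, F) p (Fintype.card F) a b ε)
    {V : Subgroup G} (hV : IsKleinFour V) (ht : t ∈ V) {y : G} (yC : y ∈ C[V])
    (y1 : y ≠ 1) (ho : Odd (orderOf y)) (hc : (orderOf y).Coprime (orderOf φ)) :
    ∃ x s z : PSL(2, F), orderOf x = 2 * a ∧ orderOf s = 2 ∧ s ∈ zpowers x ∧ ι z = y ∧
      z ∈ zpowers x ∧ (∀ c, c * z = z * c ↔ c ∈ zpowers x) ∧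
      (∀ g ∈ C{t}, g ∈ C[V] ↔ g ∈ C{ι s}) ∧
      ∀ c, c * s = s * c → c ∈ zpowers x ∨ (c * c = 1 ∧ ∀ u ∈ zpowers x, c * u * c⁻¹ = u⁻¹) := by
  have := Fintype.ofFinite PSL(2, F)
  have t1 := h.t_ne
  obtain ⟨u, hu, u1, ut⟩ : ∃ u ∈ V, u ≠ 1 ∧ u ≠ t := by
    obtain ⟨u, hu, v, hv, u1, v1, uv⟩ := kl_two hV
    by_cases k : u = t
    · exact ⟨v, hv, v1, k ▸ uv.symm⟩
    · exact ⟨u, hu, u1, k⟩
  obtain ⟨s, es⟩ := h.mem_KK.1 (h.two_mem_KK (twoE_of_sq (kl_sq hV hu))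
    (mem_C1.2 (kl_comm hV hu ht)))
  have hsV : ι s ∈ V := by
    rcases es with e | e
    · exact e ▸ hu
    · exact (mul_mem_cancel_left ht).mp (e ▸ hu)
  have s1 : s ≠ 1 := by
    rintro rfl
    simp [u1, ut] at es
  have hs : orderOf s = 2 := orderOf_eq_two s1 (h.inj (by rw [map_mul, kl_sq hV hsV, map_one]))
  have hC : ∀ g ∈ C{t}, g ∈ C[V] ↔ g ∈ C{ι s} := fun g hg => ⟨fun k => mem_C1.2 (k _ hsV).symm,
    fun k v hv => by
      by_cases v1 : v = 1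
      · simp [v1]
      by_cases vt : v = t
      · rw [vt, mem_C1.1 hg]
      by_cases vs : v = ι s
      · rw [vs, mem_C1.1 k]
      rw [kl_third hV ht hsV hv t1 (by simpa [map_eq_one_iff _ h.inj] using s1) (h.ne s).symm v1 vt vs,
        mul_assoc, ← mem_C1.1 k, ← mul_assoc, ← mem_C1.1 hg, mul_assoc]⟩
  obtain ⟨-, x, hx, hxa, hcase⟩ := hL.exists_cyc hs
  have yt : y ∈ C{t} := mem_C1.2 (yC t ht).symm
  obtain ⟨z, rfl⟩ := mem_L_of_pow h yt hc ho (pow_orderOf_eq_one y)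
  have zz : z * z ≠ 1 := fun k => y1 (eq_one_of_odd_sq (oddE_iff.2 ho)
    (by rw [← map_mul, k, map_one]))
  have hcase' : ∀ c, c * s = s * c →
      c ∈ zpowers x ∨ (c * c = 1 ∧ ∀ u ∈ zpowers x, c * u * c⁻¹ = u⁻¹) := fun c k =>
    (hcase c (mem_C1.2 k)).imp_right fun k => ⟨k.2.1, by
      rintro _ ⟨i, rfl⟩
      simp only
      rw [← conj_zpow, k.2.2, inv_zpow]⟩
  have zx : z ∈ zpowers x := (hcase' z (h.inj (by
    rw [map_mul, map_mul]; exact (yC _ hsV).symm))).resolve_right fun k => zz k.1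
  have sx : s ∈ zpowers x := hxa ▸ pow_mem (mem_zpowers x) a
  refine ⟨x, s, z, hx, hs, sx, rfl, zx, fun c => ⟨fun k => ?_, fun k => (abl_zpowers x).comm k zx⟩,
    hC, hcase'⟩
  refine (hcase' c (hL.comm z _ _ zz k ((abl_zpowers x).comm sx zx))).resolve_right fun k' => zz ?_
  have := k'.2 z zx
  rw [k, mul_inv_cancel_right] at this
  exact mul_eq_one_iff_eq_inv.2 this

theorem inf_le_CV {V : Subgroup G} (hV : IsKleinFour V) (ht : t ∈ V) {y : G} (yC : y ∈ C[V])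
    (y1 : y ≠ 1) (ho : Odd (orderOf y)) (hc : (orderOf y).Coprime (orderOf φ)) {g : G}
    (h1 : g ∈ C{t}) (h2 : g ∈ C{y}) : g ∈ C[V] := by
  have := Fintype.ofFinite PSL(2, F)
  obtain ⟨p, a, b, ε, hL, -⟩ := h.lh
  obtain ⟨x, s, z, -, hs, sx, rfl, zx, hz, hC, -⟩ := exists_tor h hL hV ht yC y1 ho hc
  obtain ⟨u, hu⟩ := H24.conj_mem (h.L_norm h1) ⟨s, rfl⟩
  have ou : orderOf u = 2 := by
    rw [← orderOf_injective ι h.inj, hu, H17.orderOf_conj, orderOf_injective ι h.inj, hs]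
  have ux : u ∈ zpowers x := (hz u).1 (h.inj (by
    rw [map_mul, map_mul, hu, ← mem_C1_iff_conj.1 h2, conj_mul, conj_mul, ← map_mul, ← map_mul,
      (hz s).2 sx]))
  have := (mem_zpowers_two (sq_of_two hs)).1 (H18.JT.mem_zpowers_of_pow sx ux
    (by rw [hs.trans ou.symm, pow_orderOf_eq_one]))
  rw [this.resolve_left (ne_one_of_two ou)] at hu
  exact (hC g h1).2 (mem_C1_iff_conj.2 hu.symm)

omit h in
theorem NV' {V : Subgroup G} (hV : IsKleinFour V)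
    (ab : ∀ P : Subgroup G, IsPGroup 2 P → ∀ g ∈ P, ∀ k ∈ P, g * k = k * g) {r : G}
    (hr' : r * r = r⁻¹) (rN' : r ∈ N[V]) (rC' : r ∉ C[V]) {n : G} (hn : n ∈ N[V]) :
    ∃ c ∈ C[V], n = c ∨ n = c * r ∨ n = c * r⁻¹ := by
  obtain ⟨v, hv, -, -, v1, -⟩ := kl_two hV
  have c := fun n (hn : n ∈ N[V]) w hw => (mem_normalizer_iff.mp hn w).mp hw
  have f := fun n hn w hw w1 e => kl_fix' hV ab (n := n) (v := w) hn hw w1 e
  by_cases e1 : n * v * n⁻¹ = v
  · exact ⟨n, f n hn v hv v1 e1, Or.inl rfl⟩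
  by_cases e2 : n * v * n⁻¹ = r * v * r⁻¹
  · exact ⟨n * r⁻¹, f _ (mul_mem hn (inv_mem rN')) _ (c _ rN' v hv) (by simpa using v1)
      (Eq.trans (by group) e2), Or.inr (Or.inl (by group))⟩
  have n1 : v ≠ r * v * r⁻¹ := fun k => rC' (f _ rN' v hv v1 k.symm)
  have e3 := kl_third hV hv (c _ rN' v hv) (c _ hn v hv) v1 (by simpa using v1) n1
    (by simpa using v1) e1 e2
  have n2 : r⁻¹ * v * r⁻¹⁻¹ ≠ 1 := fun k => v1 (conj_eq_one_iff.mp k)
  have e4 := kl_third hV hv (c _ rN' v hv) (c _ (inv_mem rN') v hv) v1 (by simpa using v1) n1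
    n2 (fun k => rC' (by simpa using inv_mem (f _ (inv_mem rN') v hv v1 k)))
    fun k => rC' (by
      have := f _ (mul_mem rN' rN') v hv v1 (by
        calc r * r * v * (r * r)⁻¹ = r * (r * v * r⁻¹) * r⁻¹ := by group
          _ = v := by rw [← k]; group)
      rw [hr'] at this
      simpa using inv_mem this)
  exact ⟨n * r, f _ (mul_mem hn rN') _ (c _ (inv_mem rN') v hv) n2
    (Eq.trans (by group) (e3.trans e4.symm)), Or.inr (Or.inr (by group))⟩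

theorem exists_TB {V : Subgroup G} {r y : G} (D : LD t φ V r y) {p a b : ℕ} {ε : ℤ}
    (hL : LH PSL(2, F) p (Fintype.card F) a b ε) : ∃ v ι' T, JR v ι' φ σ ∧ TB t V T r y ∧
      C{y} ≤ C{v} ∧ ♯T = 4 * a ∧ ♯C{y} = 4 * a * orderOf φ := by
  have := Fintype.ofFinite PSL(2, F)
  have hV := D.klein
  have ho : Odd (orderOf y) := D.prime.odd_of_ne_two (by have := D.seven; omega)
  have y1 := ne_one_of_orderOf_prime D.prime
  have hJ : ∀ v ∈ V, v ≠ 1 → ∃ ι', JR v ι' φ σ := fun v hv v1 =>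
    jr_of_mem h (D.Vφ hv) v1 (kl_sq hV hv)
  obtain ⟨v, hv, -, -, v1, -⟩ := kl_two hV
  obtain ⟨κ, J⟩ := hJ v hv v1
  obtain ⟨x, s, z, hx, hs, sx, rfl, zx, hz, hC, hcase⟩ := exists_tor J hL hV hv D.yC y1 ho D.cop
  have CVv : C[V] ≤ C{v} := C_le_C1 hv
  have vC : v ∈ C[V] := fun w hw => kl_comm hV hw hv
  have φV : φ ∈ C[V] := mem_C_iff_le_C1.2 D.Vφ
  have φy : φ ∈ C{κ z} := mem_C1_comm.1 D.yφ
  have Vy : V ≤ C{κ z} := mem_C_iff_le_C1.1 D.yC
  have yy : κ z * κ z ≠ 1 := fun k => y1 (eq_one_of_odd_sq (oddE_iff.2 ho) k)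
  have hs' : ∀ c, κ c ∈ C[V] → c * s = s * c := fun c k => J.inj (by
    rw [map_mul, map_mul]; exact mem_C1.1 ((hC _ (J.mem c)).1 k))
  have hz' : ∀ c, κ c ∈ C{κ z} ↔ c ∈ zpowers x := fun c => by
    rw [← hz, mem_C1, ← map_mul, ← map_mul, J.inj.eq_iff]
  have pm : ∀ c, κ c ∈ C[V] → κ c ∈ C{κ z} ∨ κ c * t ∈ C{κ z} := fun c k =>
    (hcase c (hs' c k)).imp (hz' c).2 fun k' => mem_C1_iff_conj.2 (by
      calc κ c * t * κ z * (κ c * t)⁻¹ = (κ c * (t * κ z * t⁻¹)⁻¹ * (κ c)⁻¹)⁻¹ := by group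
        _ = _ := by rw [D.ty, inv_inv, ← map_inv, ← map_mul, ← map_mul, k'.2 z zx, map_inv, inv_inv])
  have tφ : Commute φ t := mem_C1.1 h.φt
  have CV : ∀ c ∈ C[V], c ∈ C{κ z} ∨ c * t ∈ C{κ z} := fun c hc => by
    obtain ⟨d, k, rfl | rfl⟩ := J.dec c (CVv hc)
    · refine (pm d ((mul_mem_cancel_right (pow_mem φV k)).1 hc)).imp
        (fun e => mul_mem e (pow_mem φy k)) fun e => ?_
      rw [mul_assoc, (tφ.pow_left k).eq, ← mul_assoc]
      exact mul_mem e (pow_mem φy k)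
    · refine (pm d ((mul_mem_cancel_left vC).1
        ((mul_mem_cancel_right (pow_mem φV k)).1 hc))).imp
        (fun e => mul_mem (mul_mem (Vy hv) e) (pow_mem φy k)) fun e => ?_
      rw [mul_assoc, (tφ.pow_left k).eq, ← mul_assoc, mul_assoc v]
      exact mul_mem (mul_mem (Vy hv) e) (pow_mem φy k)
  have V2 : TwoG V := isPi_of_card (n := 2) Nat.prime_two IsKleinFour.card_four
  have hS : Syl 2 C{κ z} V := Syl.mk' Nat.prime_two Vy V2 fun k => by
    obtain ⟨c, -, hc⟩ := J.conj_of_eight (J.mem z) ho (by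
      rw [← card_mul_relIndex Vy, IsKleinFour.card_four (G := V)]
      exact Nat.mul_dvd_mul_left 4 k)
    have := orderOf_dvd_of_mem_zpowers hc
    rw [← inv_inv c, inv_inv c⁻¹, H17.orderOf_conj] at this
    exact D.prime.one_lt.ne' (Nat.eq_one_of_dvd_coprimes D.cop dvd_rfl this)
  have rr : r * r = r⁻¹ := eq_inv_of_mul_eq_one_left (by
    rw [← pow_three', ← D.ordr, pow_orderOf_eq_one])
  have ry : r ∉ C{κ z} := fun k => D.ry (mem_C1.1 k)
  have hr : ∀ c ∈ C[V], ∀ u, u * t = t * u → u * u ∉ C{κ z} → c * u ∉ C{κ z} := by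
    intro c hc u hu h1 h2
    rcases CV c hc with k | k
    · have := (mul_mem_cancel_left k).1 h2
      exact h1 (mul_mem this this)
    · have : t * u ∈ C{κ z} := by
        have := mul_mem (inv_mem k) h2
        rwa [mul_inv_rev, mul_assoc, inv_mul_cancel_left, inv_of_two h.ord] at this
      have := mul_mem this this
      rw [mul_assoc, ← mul_assoc u, hu, ← mul_assoc, ← mul_assoc, h.tt, one_mul] at this
      exact h1 this
  have hO := Burnside_normal_complement Nat.prime_two hS fun g hg => by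
    obtain ⟨c, hc, rfl | rfl | rfl⟩ := NV' hV h.ab rr D.rN D.rC hg.2
    · exact hc
    · exact (hr c hc r D.rt (by rw [rr, inv_mem_iff]; exact ry) hg.1).elim
    · exact (hr c hc r⁻¹ (Commute.inv_left D.rt) (by rw [← mul_inv_rev, rr, inv_inv]; exact ry)
        hg.1).elim
  have aV : Abl V := abl_iff.2 fun u hu w hw => kl_comm hV hw hu
  have BC : C{κ z} ≤ C[V] := by
    rw [← hO.sup]
    refine sup_le (coprime_abelian_gen_cent1 aV (fun k => ?_) hO.norm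
      (cop (pcore_pi _ _) V2) fun w hw w1 g hg => ?_) aV.le_C
    · have : IsCyclic V := k
      have := IsCyclic.exponent_eq_card (α := V)
      rw [IsKleinFour.exponent_two, IsKleinFour.card_four] at this
      omega
    · obtain ⟨ι', J'⟩ := hJ w hw w1
      exact inf_le_CV J' hV hw D.yC y1 ho D.cop hg.2 (pcore_le _ _ hg.1)
  have eT : KK v κ ⊓ C{κ z} = zpowers v ⊔ (zpowers x).map κ := by
    refine le_antisymm (fun g hg => ?_) (sup_le (zpowers_le.2 ⟨JR.t_mem, Vy hv⟩) ?_)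
    · obtain ⟨d, rfl | rfl⟩ := J.mem_KK.1 hg.1
      · exact mem_sup_right ⟨d, (hz' d).1 hg.2, rfl⟩
      · exact mul_mem_sup (mem_zpowers v) ⟨d, (hz' d).1 ((mul_mem_cancel_left (Vy hv)).1 hg.2), rfl⟩
    · rintro _ ⟨d, hd, rfl⟩
      exact ⟨JR.ι_mem d, (hz' d).2 hd⟩
  have cT : ♯(KK v κ ⊓ C{κ z}) = 4 * a := by rw [eT, J.card_tsup, card_zpowers', hx]; ring
  have hl : ∀ u ∈ C[V], PElt (orderOf (κ z)) u → ∃ d ∈ zpowers x, κ d = u := by
    rintro u hu ⟨k, hk⟩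
    obtain ⟨d, rfl⟩ := mem_L_of_pow J (CVv hu) (m := orderOf (κ z) ^ k) (D.cop.pow_left k) ho.pow
      (hk ▸ pow_orderOf_eq_one u)
    refine ⟨d, (hcase d (hs' d hu)).elim id fun k' => ?_, rfl⟩
    have := eq_one_of_odd_sq (oddE_iff.2 (hk ▸ ho.pow)) (by rw [← map_mul, k'.1, map_one])
    rw [(map_eq_one_iff _ J.inj).1 this]
    exact one_mem _
  refine ⟨v, κ, KK v κ ⊓ C{κ z}, J, ⟨hV, h.ord, D.tV, D.tC, D.ordr, D.rt, D.rN, D.rC, h.ab, D.prime,
    D.seven, BC, D.yC, CV, fun g hg h2 => ?_, fun u hu h2 => ?_, fun u hu w hw h1 h2 => ?_,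
    inf_le_right, ⟨JR.ι_mem z, self_mem_C1 _⟩, le_inf (J.two_le_KK V2 (aV.le_C.trans CVv)) Vy,
    fun c hc => ?_, fun u hu h2 => ⟨?_, hu⟩⟩, BC.trans CVv, cT, ?_⟩
  · exact hS.mem_of_nml (BC.trans (C_le_N V))
      (zpowers_le.1 (le_refl _) |> (isPi_of_isPGroup Nat.prime_two h2.isPGroup_zpowers).piElt) hg
  · obtain ⟨d, hd, rfl⟩ := hl u hu ⟨1, by rw [h2, pow_one]⟩
    rw [← MonoidHom.map_zpowers]
    refine ⟨d, H18.JT.mem_zpowers_of_pow zx hd ?_, rfl⟩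
    rw [← orderOf_injective κ J.inj z, ← h2, orderOf_injective κ J.inj, pow_orderOf_eq_one]
  · obtain ⟨d, hd, rfl⟩ := hl u (BC hu) h1
    obtain ⟨d', hd', rfl⟩ := hl w (BC hw) h2
    rw [← map_mul, ← map_mul, (abl_zpowers x).comm hd hd']
  · have tv : t * v = v * t := (D.tC v hv).symm
    have key : ∀ d, (t = κ d ∨ t = v * κ d) → ∀ u ∈ zpowers x, t * κ u * t⁻¹ = (κ u)⁻¹ := by
      intro d e
      have e1 : ∀ u, t * κ u * t⁻¹ = κ (d * u * d⁻¹) := fun u => by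
        rcases e with e | e
        · rw [e, map_mul, map_mul, map_inv]
        · calc t * κ u * t⁻¹ = v * κ (d * u * d⁻¹) * v⁻¹ := by
                rw [e, map_mul, map_mul, map_inv]; group
            _ = _ := by rw [← J.ιt, mul_inv_cancel_right]
      have e2 : κ d ∈ C[V] := by
        rcases e with e | e
        · exact e ▸ D.tC
        · exact (mul_mem_cancel_left vC).1 (e ▸ D.tC)
      rcases hcase d (hs' d e2) with k | k
      · refine absurd ?_ yy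
        have := D.ty
        rw [e1, (hz d).2 k, mul_inv_cancel_right] at this
        exact mul_eq_one_iff_eq_inv.2 this
      · intro u hu
        rw [e1, k.2 u hu, map_inv]
    obtain ⟨d, e⟩ := J.mem_KK.1 (J.two_mem_KK (twoE_of_sq h.tt) (mem_C1.2 tv))
    obtain ⟨u, rfl | rfl⟩ := J.mem_KK.1 hc.1
    · exact key d e u ((hz' u).1 hc.2)
    · rw [← conj_mul, key d e u ((hz' u).1 ((mul_mem_cancel_left (Vy hv)).1 hc.2)), tv,
        mul_inv_cancel_right, ← J.ιt, mul_inv_rev, inv_of_two J.ord]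
  · have hu' := BC.trans CVv hu
    refine mem_KK_of_pow J hu' (Nat.coprime_two_left.2 J.odd_φ) ?_
    have := inv_mem (J.conj_coset hu' (inv_mem hu') h2)
    rwa [mul_inv_rev, inv_inv, ← pow_two] at this
  · rw [(J.sd.modr (zpowers_le.2 φy) (BC.trans CVv)).card, cT, card_zpowers']

end H17.JB

namespace H1

theorem JR.beta {G : Type*} [Group G] [Finite G] [IsSimpleGroup G] {F : Type*} [Field F] [Fintype F]
    {t : G} {ι : PSL(2, F) →* G} {φ : G} {σ : F ≃+* F} (h : JR t ι φ σ) (hφ : φ ≠ 1)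
    (hq : 5 < Nat.card (fixF σ))
    (hl : ∀ l : ℕ, l.Prime → 7 ≤ l → l ∣ orderOf φ → ¬ l ∣ Nat.card (fixF σ) ^ 2 - 1) : False := by
  obtain ⟨V, r, y, D⟩ := H17.JB.exists_LD h hq hl
  obtain ⟨p, a, b, ε, hL, hSt⟩ := h.lh
  obtain ⟨v, ι', T, J, B, h1, h2, h3⟩ := H17.JB.exists_TB h D hL
  refine hφ (H17.JB.jr_core J hL hSt ?_ B h1 h2 h3 D.cop)
  have h4 : 2 ≤ orderOf φ := by
    have := orderOf_pos φ
    have := orderOf_eq_one_iff.not.2 hφ
    omega
  rw [← h.card_fix]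
  calc 27 ≤ 6 ^ 2 := by norm_num
    _ ≤ _ := (Nat.pow_le_pow_left hq 2).trans (Nat.pow_le_pow_right (by omega) h4)

end H1
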