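import Mathlib
import Cfsg.Agent.H17.NA1
import Cfsg.Agent.H12.NGA2
import Cfsg.Agent.H12.NGA6

/-! The `M₁₂` configuration in coordinates. -/

set_option autoImplicit false
set_option linter.unusedSectionVars false
set_option maxRecDepth 100000

namespace H12.NG

open Subgroup Cfsg H24 H11.ZN H3.NG H17.NG H17.NA
open H17.NG.TG (val)

universe u

variable {G : Type u} [Group G] [Finite G] {S V : Subgroup G} {z u d f g a b k s v y : G}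

theorem inj_of₇ {K : Type*} [Group K] (φ : K →* G) (P : K → Prop) (hP : ∀ s, P s → φ s ≠ 1)
    (h : ∀ s, s ≠ 1 → ∃ g g', P s ∨ P (g * s * g⁻¹ * s⁻¹) ∨
      P (g' * (g * s * g⁻¹ * s⁻¹) * g'⁻¹ * (g * s * g⁻¹ * s⁻¹)⁻¹)) : Function.Injective φ :=
  (injective_iff_map_eq_one φ).2 fun s hs => by
    by_contra h1
    obtain ⟨g, g', e | e | e⟩ := h s h1 <;> exact hP _ e (by simp [hs])

theorem swap₇ {c : G} (ha : a * a = 1) (hb : b * b = 1) (hc : c * c = 1) (h : a * b * a⁻¹ * b⁻¹ = c) :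
    b * a = a * (b * c) ∧ a * b = b * (a * c) := by
  rw [inv_sq ha, inv_sq hb] at h
  have e : b * a = a * (b * c) := by
    rw [← inv_inj, mul_inv_rev, mul_inv_rev, mul_inv_rev, inv_sq ha, inv_sq hb, inv_sq hc, ← h]
    simp [mul_assoc, mml ha, mml hb, ha]
  exact ⟨e, by rw [← mul_assoc, e]; simp [mul_assoc, hc]⟩

/-- the element with code `n` -/
abbrev w₇ (n : ℕ) : W0 := TG.mk n

structure Wm (z u d : G) (φ : W0 →* G) : Prop where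
  inj : Function.Injective φ
  e1 : φ (w₇ 1) = u
  e2 : φ (w₇ 2) = d * u * d⁻¹
  e4 : φ (w₇ 4) = d * d * u * (d * d)⁻¹
  e8 : φ (w₇ 8) = z
  e16 : φ (w₇ 16) = d * z * d⁻¹
  e24 : φ (w₇ 24) = d * d * z * (d * d)⁻¹

namespace M12c

variable (h : M12c S V z u d f)
include h

theorem ddd (x : G) : d * (d * d * x * (d * d)⁻¹) * d⁻¹ = x := by
  have : d * (d * d) = 1 := by rw [← h.d3, pow_three]
  calc _ = d * (d * d) * x * (d * (d * d))⁻¹ := by group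
    _ = x := by simp [this]

theorem d_ne (hv : v ∈ V) (h1 : v ≠ 1) : d * v * d⁻¹ ≠ v := fun e =>
  h1 (mem_bot.1 (h.dV ▸ mem_inf.2 ⟨hv, mem_C1_comm.1 (mem_C1_iff_conj.2 e)⟩))

theorem v2_mem : d * z * d⁻¹ ∈ V := conj_mem h.dN.1 h.z_mem

theorem v3_eq : d * d * z * (d * d)⁻¹ = z * (d * z * d⁻¹) := by
  have e : d * (d * z * d⁻¹) * d⁻¹ = d * d * z * (d * d)⁻¹ := by group
  have h3 := conj_mem (mul_mem h.dN.1 h.dN.1) h.z_mem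
  rcases four_cases h.ea h.card h.z_mem h.v2_mem h.z1 (cjne d h.z1) (h.d_ne h.z_mem h.z1).symm h3
    with e1 | e1 | e1 | e1
  · exact absurd e1 (cjne _ h.z1)
  · exact absurd (by simpa only [e1] using h.ddd z) (h.d_ne h.z_mem h.z1)
  · exact absurd (e.trans e1) (h.d_ne h.v2_mem (cjne d h.z1))
  · exact e1

theorem exists_Wm : ∃ φ, Wm z u d φ := by
  have c1 := h.uC
  have c2 := conj_mem (N_le_NC V h.dN.1) c1
  have c3 := conj_mem (N_le_NC V (mul_mem h.dN.1 h.dN.1)) c1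
  have sq : ∀ g : G, g * u * g⁻¹ * (g * u * g⁻¹) = 1 := fun g => by rw [← cjm, h.u2]; simp
  have zs := ea_sq h.ea h.z_mem
  have vs := ea_sq h.ea h.v2_mem
  have e1 := swap₇ h.u2 (sq d) (ea_sq h.ea (mul_mem h.z_mem h.v2_mem)) (h.uu.trans h.v3_eq)
  have u2 : d * u * d⁻¹ * (d * d * u * (d * d)⁻¹) * (d * u * d⁻¹)⁻¹ * (d * d * u * (d * d)⁻¹)⁻¹ = z := by
    rw [← h.ddd z, ← h.uu]; group
  have e2 := swap₇ (sq d) (sq _) zs u2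
  have e3 := swap₇ (sq (d * d)) h.u2 vs (by rw [← u2]; nth_rw 2 4 [← h.ddd u]; group)
  obtain ⟨φ, hφ⟩ := homW (e := ([u, d * u * d⁻¹, d * d * u * (d * d)⁻¹, z, d * z * d⁻¹].getD · 1)) (by
    simp only [Ok, LW, List.forall_mem_cons, List.getD_cons_zero, List.getD_cons_succ, ev, mul_one]
    exact ⟨h.u2, sq _, sq _, zs, vs, e1.1, e3.2, e2.1, c1 _ h.z_mem, c2 _ h.z_mem, c3 _ h.z_mem,
      c1 _ h.v2_mem, c2 _ h.v2_mem, c3 _ h.v2_mem, ea_comm h.ea h.v2_mem h.z_mem, by simp⟩)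
  have e8 : φ (w₇ 8) = z := hφ 3 (by decide)
  have e16 : φ (w₇ 16) = d * z * d⁻¹ := hφ 4 (by decide)
  have e24 : φ (w₇ 24) = d * d * z * (d * d)⁻¹ := by
    rw [h.v3_eq, ← e16, ← e8, ← map_mul]; exact congrArg φ (by decide +kernel)
  refine ⟨φ, inj_of₇ φ (fun s => s = w₇ 8 ∨ s = w₇ 16 ∨ s = w₇ 24) ?_ (by decide +kernel),
    hφ 0 (by decide), hφ 1 (by decide), hφ 2 (by decide), e8, e16, e24⟩
  rintro _ (rfl | rfl | rfl)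
  exacts [e8 ▸ h.z1, e16 ▸ cjne _ h.z1, e24 ▸ cjne _ h.z1]

theorem mem_U (hy : y ∈ Uz V z) (h1 : y ∉ V) : ∃ v ∈ V, y = u * v := by
  rw [h.Ueq, mem_sup_of_norm (zpowers_le.2 (C_le_N V h.uC))] at hy
  obtain ⟨v, hv, b, hb, rfl⟩ := hy
  rcases (mem_zp2 h.u2).1 hb with rfl | rfl
  · exact absurd (by simpa using hv) h1
  · exact ⟨v, hv, h.uC v hv⟩

theorem u_mem : u ∈ Uz V z := h.Ueq ▸ mem_sup_right (mem_zpowers u)

theorem cj_u (ha : a ∈ N[V]) (hb : b ∈ N[V]) (hg : g ∈ N[V])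
    (e : g * (a * z * a⁻¹) * g⁻¹ = b * z * b⁻¹) : ∃ v ∈ V, g * (a * u * a⁻¹) * g⁻¹ = b * u * b⁻¹ * v := by
  have h1 : b⁻¹ * g * a ∈ C{z} := mem_C1_iff_conj.2 (by
    rw [show b⁻¹ * g * a * z * (b⁻¹ * g * a)⁻¹ = b⁻¹ * (g * (a * z * a⁻¹) * g⁻¹) * b by group, e]; group)
  obtain ⟨v, hv, e1⟩ := h.mem_U (h.U_nml.conj_mem h1 h.u_mem)
    (mt (conj_mem_iff (mul_mem (mul_mem (inv_mem hb) hg) ha)).1 h.uV)
  exact ⟨_, conj_mem hb hv, by rw [← cjm, ← e1]; group⟩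

theorem mem_N (hk : k ∈ C{z}) (e : k * (d * z * d⁻¹) * k⁻¹ ∈ V) : k ∈ N[V] := mem_N_of_finite fun x hx => by
  rcases four_cases h.ea h.card h.z_mem h.v2_mem h.z1 (cjne d h.z1) (h.d_ne h.z_mem h.z1).symm hx
    with rfl | rfl | rfl | rfl
  · simp
  · rwa [mem_C1_iff_conj.1 hk]
  · exact e
  · rw [cjm, mem_C1_iff_conj.1 hk]; exact mul_mem h.z_mem e

theorem fU (hk : k ∈ C{z}) (hn : k ∉ N[V]) : ∃ v ∈ V, k * (d * z * d⁻¹) * k⁻¹ = u * v :=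
  h.mem_U (h.U_nml.conj_mem hk (h.V_le_U h.v2_mem)) fun e => hn (h.mem_N hk e)

/-- an element of `Q` centralises a line -/
theorem line₇ (hs : s ∈ Qz z) : ∃ k ∈ C{z}, k * s * k⁻¹ ∈ C[V] := by
  have sz := (CA.Q_nml₁ z).le hs
  have key : ∀ k ∈ C{z}, s * (k⁻¹ * (d * z * d⁻¹) * k) * s⁻¹ = k⁻¹ * (d * z * d⁻¹) * k →
      ∃ k ∈ C{z}, k * s * k⁻¹ ∈ C[V] := fun k hk e => ⟨k, hk, four_cent h.ea h.card h.z_mem h.v2_mem h.z1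
    (cjne d h.z1) (h.d_ne h.z_mem h.z1).symm (mem_C1.1 (mul_mem (mul_mem hk sz) (inv_mem hk))) (ccj (by
      rw [show ∀ w, k * s * k⁻¹ * w * (k * s * k⁻¹)⁻¹ = k * (s * (k⁻¹ * w * k) * s⁻¹) * k⁻¹ from
        fun w => by group, e]; group))⟩
  have cm : ∀ k ∈ C{z}, s * (k⁻¹ * (d * z * d⁻¹) * k) * s⁻¹ = k⁻¹ * (d * z * d⁻¹) * k ∨
      s * (k⁻¹ * (d * z * d⁻¹) * k) * s⁻¹ = z * (k⁻¹ * (d * z * d⁻¹) * k) := fun k hk => by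
    simpa only [mem_zp2 h.z_sq, mul_inv_eq_iff_eq_mul, one_mul] using
      cm_symm (h.comm_mem₂ (conj_mem' (h.U_nml.norm hk) (h.V_le_U h.v2_mem)) hs)
  rcases cm f h.fC with e1 | e1
  · exact key f h.fC e1
  rcases cm f⁻¹ (inv_mem h.fC) with e2 | e2
  · exact key _ (inv_mem h.fC) e2
  obtain ⟨v, hv, a1⟩ := h.fU h.fC h.fV
  obtain ⟨v', hv', a2⟩ := h.fU (inv_mem h.fC) (mt inv_mem_iff.1 h.fV)
  rw [inv_inv] at a2 e2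
  have h2 : f⁻¹ * (d * z * d⁻¹) * f * (f * (d * z * d⁻¹) * f⁻¹) = v' * v := by
    rw [a1, a2, ← h.uC v' hv', mul_assoc, mml h.u2]
  have h3 : v' * v ∉ zpowers z := fun e => h.uV (by
    have f2 : f * f = f⁻¹ := eq_inv_of_mul_eq_one_left (by rw [← pow_three', h.f3])
    have e3 := h.z_le_V₂ (conj_mem (CA.zp_norm₁ z h.fC) e)
    rw [← h2, show ∀ w, f * (f⁻¹ * w * f * (f * w * f⁻¹)) * f⁻¹ = w * (f * f * w * (f * f)⁻¹) from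
      fun w => by group, f2, inv_inv, a2, mul_mem_cancel_left h.v2_mem] at e3
    exact (mul_mem_cancel_right hv').1 e3)
  refine ⟨1, one_mem _, four_cent h.ea h.card h.z_mem (mul_mem hv' hv) h.z1 (fun e => h3 (e ▸ one_mem _))
    (fun e => h3 (e ▸ mem_zpowers z)) (by simpa using mem_C1.1 sz) (ccj ?_)⟩
  rw [one_mul, inv_one, mul_one, ← h2, cjm, e1, e2, a2, ← mem_C1.1 (h.CV_le₁ (mul_mem h.uC
    (Abl.le_C h.ea.1 hv'))), mul_assoc, mml h.z_sq]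

theorem idx_Q : (Qz z).relIndex S = 2 := by
  have h1 := relIndex_mul_relIndex _ _ _ h.Q_le_S h.S_le_C
  have h2 := Syl.not_dvd two_prime (h.syl.of_le h.S_le_C le_top)
  have h3 : (Qz z).relIndex S ∣ ♯S := Dvd.intro_left _ (card_mul_relIndex h.Q_le_S)
  rw [h.idxC] at h1
  generalize (Qz z).relIndex S = m, S.relIndex C{z} = n at *
  have := Nat.le_of_dvd (by decide) (Dvd.intro _ h1)
  rcases h.cardS with e | e <;> rw [e] at h3 <;> interval_cases m <;> omega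

theorem card_R : ♯C[V] * 2 = ♯S := by
  rw [← card_mul_relIndex h.CV, ← h.idx_R, inf_eq_right.2 h.CV]

variable {φ : W0 →* G} (m : Wm z u d φ)
include m

theorem mem_V : v ∈ V ↔ ∃ s, val s % 8 = 0 ∧ φ s = v := by
  refine ⟨fun hv => ?_, ?_⟩
  · rcases four_cases h.ea h.card h.z_mem h.v2_mem h.z1 (cjne d h.z1) (h.d_ne h.z_mem h.z1).symm hv
      with rfl | rfl | rfl | rfl
    exacts [⟨1, rfl, map_one φ⟩, ⟨_, rfl, m.e8⟩, ⟨_, rfl, m.e16⟩, ⟨_, rfl, m.e24.trans h.v3_eq⟩]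
  · rintro ⟨s, hs, rfl⟩
    rcases (by decide +kernel : ∀ s : W0, val s % 8 = 0 → s = 1 ∨ s = w₇ 8 ∨ s = w₇ 16 ∨ s = w₇ 24) s hs
      with rfl | rfl | rfl | rfl
    exacts [map_one φ ▸ one_mem V, m.e8 ▸ h.z_mem, m.e16 ▸ h.v2_mem,
      m.e24 ▸ conj_mem (mul_mem h.dN.1 h.dN.1) h.z_mem]

theorem range_le {X : Subgroup G} (h0 : V ≤ X) (h1 : u ∈ X) (h2 : d ∈ N[X]) : φ.range ≤ X := by
  rintro _ ⟨s, rfl⟩
  obtain ⟨a, b, c, t, ht, rfl⟩ := (by decide +kernel : ∀ s : W0, ∃ a b c : Fin 2, ∃ t, val t % 8 = 0 ∧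
    s = w₇ 1 ^ a.1 * w₇ 2 ^ b.1 * w₇ 4 ^ c.1 * t) s
  simp only [map_mul, map_pow, m.e1, m.e2, m.e4]
  exact mul_mem (mul_mem (mul_mem (pow_mem h1 _) (pow_mem (conj_mem h2 h1) _))
    (pow_mem (conj_mem (mul_mem h2 h2) h1) _)) (h0 ((h.mem_V m).2 ⟨t, ht, rfl⟩))

theorem mem_C (s : W0) : φ s ∈ C[V] := h.range_le m (Abl.le_C h.ea.1) h.uC (N_le_NC V h.dN.1) ⟨s, rfl⟩

theorem act₇ (hg : g ∈ N[V]) (hz : g ∈ C{z}) : ∃ s1 s2 s3, g * φ (w₇ 1) * g⁻¹ = φ s1 ∧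
    g * φ (w₇ 2) * g⁻¹ = φ s2 ∧ g * φ (w₇ 4) * g⁻¹ = φ s3 ∧ val s1 % 8 = 1 ∧
    (g ∈ C[V] ∧ val s2 % 8 = 2 ∧ val s3 % 8 = 4 ∨
      g * φ (w₇ 24) * g⁻¹ = φ (w₇ 16) ∧ val s2 % 8 = 4 ∧ val s3 % 8 = 2) := by
  have d1 := h.dN.1
  have d2 := mul_mem d1 d1
  have f : ∀ t : W0, val t % 8 = 0 → val (w₇ 1 * t) % 8 = 1 ∧ val (w₇ 2 * t) % 8 = 2 ∧
    val (w₇ 4 * t) % 8 = 4 := by decide +kernel
  obtain ⟨_, h1, e1⟩ := h.cj_u (one_mem _) (one_mem _) hg (by simpa using mem_C1_iff_conj.1 hz)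
  obtain ⟨t1, a1, rfl⟩ := (h.mem_V m).1 h1
  simp only [one_mul, inv_one, mul_one] at e1
  by_cases hc : g ∈ C[V]
  · obtain ⟨_, h2, e2⟩ := h.cj_u d1 d1 hg (conj_eq_of_mem_C hc (conj_mem d1 h.z_mem))
    obtain ⟨_, h3, e3⟩ := h.cj_u d2 d2 hg (conj_eq_of_mem_C hc (conj_mem d2 h.z_mem))
    obtain ⟨t2, a2, rfl⟩ := (h.mem_V m).1 h2
    obtain ⟨t3, a3, rfl⟩ := (h.mem_V m).1 h3
    exact ⟨_, _, _, by rw [map_mul, m.e1, e1], by rw [map_mul, m.e2, e2], by rw [map_mul, m.e4, e3],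
      (f _ a1).1, Or.inl ⟨hc, (f _ a2).2.1, (f _ a3).2.2⟩⟩
  · have b2 := (four_mv h.ea h.card h.z_mem h.v2_mem h.z1 (cjne d h.z1) (h.d_ne h.z_mem h.z1).symm hg hz
      hc).trans h.v3_eq.symm
    have b3 : g * (d * d * z * (d * d)⁻¹) * g⁻¹ = d * z * d⁻¹ := by
      rw [h.v3_eq, cjm, b2, h.v3_eq, mem_C1_iff_conj.1 hz, mml h.z_sq]
    obtain ⟨_, h2, e2⟩ := h.cj_u d1 d2 hg b2
    obtain ⟨_, h3, e3⟩ := h.cj_u d2 d1 hg b3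
    obtain ⟨t2, a2, rfl⟩ := (h.mem_V m).1 h2
    obtain ⟨t3, a3, rfl⟩ := (h.mem_V m).1 h3
    exact ⟨_, _, _, by rw [map_mul, m.e1, e1], by rw [map_mul, m.e2, m.e4, e2],
      by rw [map_mul, m.e4, m.e2, e3], (f _ a1).1, Or.inr ⟨by rw [m.e24, m.e16, b3], (f _ a2).2.2, (f _ a3).2.1⟩⟩

theorem cm_r (hg : g ∈ S) : g * φ (w₇ 23) * g⁻¹ * (φ (w₇ 23))⁻¹ ∈ V := by
  obtain ⟨s1, s2, s3, e1, e2, e3, a1, a2⟩ := h.act₇ m (h.nml.norm hg) (h.S_le_C hg)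
  obtain ⟨s4, a4, e4⟩ := (h.mem_V m).1 (h.nml.conj_mem hg (m.e16 ▸ h.v2_mem))
  refine (h.mem_V m).2 ⟨s1 * s2 * s3 * s4 * (w₇ 23)⁻¹, (by decide +kernel : ∀ s1 : W0, val s1 % 8 = 1 →
    ∀ s4 : W0, val s4 % 8 = 0 → ∀ s2 s3 : W0, val s2 % 8 = 2 ∧ val s3 % 8 = 4 ∨ val s2 % 8 = 4 ∧
      val s3 % 8 = 2 → val (s1 * s2 * s3 * s4 * (w₇ 23)⁻¹) % 8 = 0) s1 a1 s4 a4 s2 s3
      (a2.imp And.right And.right), ?_⟩
  nth_rw 2 [show w₇ 23 = w₇ 1 * w₇ 2 * w₇ 4 * w₇ 16 by decide +kernel]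
  simp only [map_mul, map_inv, cjm, e1, e2, e3, e4]

theorem d_r : d ∈ C{φ (w₇ 23)} := mem_C1_iff_conj.2 (by
  have e : ∀ x, d * (d * x * d⁻¹) * d⁻¹ = d * d * x * (d * d)⁻¹ := fun x => by group
  nth_rw 2 [show w₇ 23 = w₇ 2 * w₇ 4 * w₇ 1 * w₇ 24 by decide +kernel]
  rw [show w₇ 23 = w₇ 1 * w₇ 2 * w₇ 4 * w₇ 16 by decide +kernel]
  simp only [map_mul]
  rw [cjm, cjm, cjm]
  simp only [m.e1, m.e2, m.e4, m.e16, m.e24, e, h.ddd])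

theorem NA_le : N[C[V] ⊓ C{φ (w₇ 23)}] ≤ N[V] := by
  refine h.uq₁ (h.syl.pi.of_le (inf_le_left.trans h.CV)) (ne_bot_of_mem ⟨Abl.le_C h.ea.1 h.z_mem,
    mem_C1.2 (h.mem_C m _ z h.z_mem)⟩ h.z1) (le_N_iff.2 fun g hg a ha =>
      ⟨conj_mem (N_le_NC V (h.nml.norm hg)) ha.1, mem_C1_comm.1 ?_⟩)
    (inf_normalizer_le_normalizer_inf ⟨N_le_NC V h.dN.1, norm_self _ (h.d_r m)⟩) h.dN.1
    (h.d_ne h.z_mem h.z1)
  have := mul_mem (cents_symm (zpowers_le.2 ha.1) (h.cm_r m (inv_mem hg))) (C_zpowers a ▸ mem_C1_comm.1 ha.2)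
  rw [inv_mul_cancel_right, C_zpowers, inv_inv] at this
  rwa [← cj_C1, mem_cj]

theorem mem_U' (hy : y ∈ Uz V z) : ∃ s, val s % 8 ≤ 1 ∧ φ s = y := by
  by_cases hV : y ∈ V
  · obtain ⟨s, hs, rfl⟩ := (h.mem_V m).1 hV
    exact ⟨s, by omega, rfl⟩
  obtain ⟨_, hv, rfl⟩ := h.mem_U hy hV
  obtain ⟨s, hs, rfl⟩ := (h.mem_V m).1 hv
  exact ⟨w₇ 1 * s, (by decide +kernel : ∀ s : W0, val s % 8 = 0 → val (w₇ 1 * s) % 8 ≤ 1) s hs,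
    by rw [map_mul, m.e1]⟩

theorem r_Q : φ (w₇ 23) ∈ Qz z := h.mem_Q (h.CV_le₁ (h.mem_C m _)) fun y hy => by
  obtain ⟨s, hs, rfl⟩ := h.mem_U' m hy
  rw [mem_zp2 h.z_sq, ← m.e8, ← map_one φ]
  simp only [← map_inv, ← map_mul, m.inj.eq_iff]
  clear hy; revert s; decide +kernel

theorem r_u : u ∉ C{φ (w₇ 23)} := by
  rw [mem_C1, ← m.e1, ← map_mul, ← map_mul, m.inj.eq_iff]; decide +kernel

theorem exists_x : ∃ x ∈ Qz z, x * x = 1 ∧ x ∉ C[V] := by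
  refine ⟨_, (CA.Q_nml₁ z).conj_mem h.fC (h.r_Q m), ?_, fun hc => h.r_u m ?_⟩
  · rw [← cjm, ← map_mul, show w₇ 23 * w₇ 23 = 1 by decide +kernel]; simp
  obtain ⟨v, hv, e⟩ := h.fU h.fC h.fV
  have h1 : Uz V z ≤ C{f * φ (w₇ 23) * f⁻¹} := by
    rw [h.Ueq, sup_le_iff, zpowers_le, ← mul_mem_cancel_right (mem_C_iff_le_C1.1 hc hv), ← e, ← cj_C1,
      conj_mem_cj_iff]
    exact ⟨cj_C1 f _ ▸ mem_C_iff_le_C1.1 hc, mem_C_iff_le_C1.1 (h.mem_C m _) h.v2_mem⟩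
  simpa only [← cj_C1, conj_mem_cj_iff] using h1 (h.U_nml.conj_mem h.fC h.u_mem)

end M12c

end H12.NG
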