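import Mathlib
import Cfsg.Agent.H17.Lyons
import Cfsg.Agent.S0205
import Cfsg.Agent.H17.PermCh
import Cfsg.Agent.H4.InvAct
import Cfsg.Agent.H5.ClassMul

/-! Characters of the principal 2-block on the elements whose cyclic group contains a given
involution. -/

set_option autoImplicit false
set_option linter.unusedSectionVars false

open Cfsg H4 Subgroup Finset
open scoped ComplexConjugate

namespace H17.NG

section General

variable {G : Type*} [Group G]

theorem inv_unique [Finite G] {x s t : G} (hs : s ∈ zpowers x) (ht : t ∈ zpowers x) (s2 : s * s = 1)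
    (t2 : t * t = 1) (s1 : s ≠ 1) (t1 : t ≠ 1) : s = t := by
  classical
  have := Fintype.ofFinite (zpowers x)
  by_contra h
  have h1 := IsCyclic.card_pow_eq_one_le (α := zpowers x) (n := 2) two_pos
  have h2 : ({1, ⟨s, hs⟩, ⟨t, ht⟩} : Finset (zpowers x)) ⊆ univ.filter fun a => a ^ 2 = 1 := by
    intro a ha
    simp only [mem_insert, Finset.mem_singleton] at ha
    rcases ha with rfl | rfl | rfl <;> simp [pow_two, Subtype.ext_iff, s2, t2]
  have h3 := card_le_card h2
  rw [card_eq_three.2 ⟨_, _, _, by simpa [Subtype.ext_iff] using s1.symm,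
    by simpa [Subtype.ext_iff] using t1.symm, by simpa using h, rfl⟩] at h3
  omega

/-- the part of a character with the kernel of `π` in its kernel -/
theorem exists_bar {K : Type*} [Group K] [Finite G] [Finite K] (π : G →* K)
    (hπ : Function.Surjective π) [Fintype π.ker] {χ : G → ℂ} (hχ : IsCharacter G χ) :
    ∃ θ, IsCharacter K θ ∧ ∀ h, θ (π h) = (Nat.card π.ker : ℂ)⁻¹ * ∑ u : π.ker, χ (h * u) := by
  have := Fintype.ofFinite G
  have := Fintype.ofFinite K
  let F : G → ℂ := fun h => (Nat.card π.ker : ℂ)⁻¹ * ∑ u : π.ker, χ (h * u)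
  have h1 : ∀ a b, π a = π b → F a = F b := fun a b e => by
    have hu : b⁻¹ * a ∈ π.ker := by simp [MonoidHom.mem_ker, e]
    simp only [F]
    rw [← Equiv.sum_comp (Equiv.mulLeft (⟨_, hu⟩ : π.ker)) fun u => χ (b * u)]
    simp [mul_assoc]
  have h2 : ∀ h, F (Function.surjInv hπ (π h)) = F h := fun h => h1 _ _ (Function.surjInv_eq hπ _)
  refine ⟨fun k => F (Function.surjInv hπ k), H4.Cfsg.IsClassFunction.isCharacter_of_inner_nat
    (fun k x => ?_) fun ψ hψ => ?_, h2⟩
  · obtain ⟨k, rfl⟩ := hπ k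
    obtain ⟨x, rfl⟩ := hπ x
    rw [← map_mul, ← map_inv, ← map_mul, h2, h2]
    simp only [F]
    rw [← Equiv.sum_comp (MulAut.conjNormal x : MulAut π.ker).toEquiv fun u => χ (x * k * x⁻¹ * u)]
    refine congrArg _ (Finset.sum_congr rfl fun u _ => ?_)
    rw [← hχ.classFun (k * u) x]
    simp [mul_assoc]
  obtain ⟨n, hn⟩ := hχ.inner_nat (hψ.isCharacter.comp π)
  refine ⟨n, ?_⟩
  rw [← classInner_comp_surjective π hπ, ← hn]
  simp only [h2]
  simp only [classInner, F, Finset.mul_sum, Finset.sum_mul]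
  rw [Finset.sum_comm, Finset.sum_congr rfl (g := fun _ => ∑ g, (Nat.card G : ℂ)⁻¹ *
    ((Nat.card π.ker : ℂ)⁻¹ * χ g * conj (ψ (π g)))) fun u _ => by
      rw [← Equiv.sum_comp (Equiv.mulRight (u : G)) fun g => _ * (_ * χ g * conj (ψ (π g)))]
      simp [MonoidHom.mem_ker.1 u.2], Finset.sum_const, card_univ, ← Nat.card_eq_fintype_card,
    nsmul_eq_mul, Finset.mul_sum]
  refine Finset.sum_congr rfl fun g _ => ?_
  have := card_ne_zero π.ker
  field_simp

variable [Fintype G] {V : Subgroup G} [V.Normal] [Fintype V] {χ : G → ℂ}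

theorem dvd_mult (hχ : IsCharacter G χ) (hV : ∀ a b : V, a * b = b * a) {P : Subgroup G}
    (hP : ∀ g ∈ P, g ≠ 1 → ∀ v ∈ V, χ (g * v) = χ g) {l : IrrCharacter V} (hl : l ≠ irrOne V)
    (hf : ∀ g ∈ P, PC.act V (MulAut.conjNormal g) l = l) {n : ℕ}
    (hn : classInner (fun v : V => χ v) l.1 = n) : Nat.card P ∣ n := by
  classical
  have := Fintype.ofFinite P
  have h1 := l.2.apply_one_of_comm hV
  let φ : P →* MulAut V := MulAut.conjNormal.comp P.subtype
  let e : V ⋊[φ] P ≃ V × P := SemidirectProduct.equivProd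
  have := Fintype.ofEquiv _ e.symm
  let f : V ⋊[φ] P →* G := ⟨⟨fun x => x.left * x.right, by simp⟩, fun x y => by simp [φ, mul_assoc]⟩
  let μ : V ⋊[φ] P →* ℂ := ⟨⟨fun x => l.1 x.left, h1⟩, fun x y => by
    change l.1 (x.left * φ x.right y.left) = l.1 x.left * l.1 y.left
    rw [l.2.isCharacter.map_mul_of_apply_one h1]
    exact congrArg _ (congrFun (congrArg Subtype.val (hf _ x.right.2)) _)⟩
  obtain ⟨m, hm⟩ := (hχ.comp f).inner_nat (isIrrCharacter_monoidHom μ).isCharacter
  have h0 : ∑ v : V, conj (l.1 v) = 0 := by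
    have := isIrrCharacter_one.inner_of_ne l.2 fun e => hl (Subtype.ext e.symm)
    simpa [classInner] using this
  rw [classInner, ← e.symm.sum_comp, Nat.card_congr e, Fintype.sum_prod_type_right,
    Finset.sum_eq_single 1 (fun g _ hg => ?_) (by simp), Nat.card_prod] at hm
  · refine ⟨m, ?_⟩
    have := card_ne_zero V
    have := card_ne_zero P
    rw [classInner] at hn
    have hm' : ((Nat.card V * Nat.card P : ℕ) : ℂ)⁻¹ * ∑ v : V, χ v * conj (l.1 v) = m := by
      simpa [e, f, μ, SemidirectProduct.equivProd] using hm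
    push_cast at hm'
    field_simp at hm' hn
    have : (n : ℂ) = Nat.card P * m := by
      refine mul_left_cancel₀ (card_ne_zero V) ?_
      linear_combination hm' - hn
    exact_mod_cast this
  · change ∑ v : V, χ (v * g) * conj (l.1 v) = 0
    simp only [fun v : V => hχ.classFun.mul_comm (v : G) g,
      fun v : V => hP g g.2 (by simpa using hg) v v.2]
    rw [← Finset.mul_sum, h0, mul_zero]

theorem kill (hχ : IsCharacter G χ) (hr : ∀ g, conj (χ g) = χ g) (hV : ∀ a b : V, a * b = b * a)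
    (ho : Odd (Nat.card V)) {Q : Subgroup G} (hQ : Nat.card Q = 8)
    (hD : ∀ g ∈ Q, g ≠ 1 → ∀ v ∈ V, χ (g * v) = χ g) {t : G} (ht : t ∈ Q) (t2 : orderOf t = 2)
    (tc : ∀ g, g * t = t * g) (hgen : Q ≤ Subgroup.closure {y | Odd (orderOf y)}) {d a : ℤ} (hd : χ 1 = d)
    (ha : χ t = a) (h : d - |a| < 12) : ∀ v ∈ V, χ v = χ 1 := by
  classical
  obtain ⟨n, hn, hn'⟩ := PC.exists_mult (hχ.restrict V)
  have t1 : t ≠ 1 := by rintro rfl; simp at t2
  have one : ∀ l : IrrCharacter V, l.1 1 = 1 := fun l => l.2.apply_one_of_comm hV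
  have hsum : ∑ l ∈ univ.erase (irrOne V), n l < 12 := by
    have : Fintype (QuotientGroup.mk' V).ker := Fintype.ofFinite _
    obtain ⟨θ, hθ, e⟩ := exists_bar _ (QuotientGroup.mk'_surjective V) hχ
    have e0 : ∀ g, θ (QuotientGroup.mk' V g) = (Nat.card V : ℂ)⁻¹ * ∑ u : V, χ (g * u) := fun g => by
      rw [e, Nat.card_congr (MulEquiv.subgroupCongr (QuotientGroup.ker_mk' V)).toEquiv,
        ← (MulEquiv.subgroupCongr (QuotientGroup.ker_mk' V)).toEquiv.sum_comp]
      rfl
    have e1 : θ 1 = n (irrOne V) := by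
      rw [← hn', ← map_one (QuotientGroup.mk' V), e0]
      simp [classInner, irrOne]
    have e2 : θ (QuotientGroup.mk' V t) = a := by
      rw [e0, Finset.sum_congr rfl fun (u : V) _ => hD t ht t1 u u.2, ha, Finset.sum_const, card_univ,
        ← Nat.card_eq_fintype_card, nsmul_eq_mul, inv_mul_cancel_left₀ (card_ne_zero V)]
    have e3 := hθ.norm_le (QuotientGroup.mk' V t)
    rw [e1, e2, Complex.norm_intCast, Complex.natCast_re] at e3
    have e4 := hn 1
    simp only [one, mul_one, OneMemClass.coe_one, hd] at e4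
    rw [← add_sum_erase _ _ (mem_univ (irrOne V))] at e4
    have e5 : d = n (irrOne V) + ∑ l ∈ univ.erase (irrOne V), n l := by exact_mod_cast e4
    have e6 : |a| ≤ n (irrOne V) := by exact_mod_cast e3
    omega
  have inv : ∀ α : MulAut V, (∀ v, χ (α v) = χ v) → ∀ l, n (PC.act V α l) = n l := fun α hα l => by
    have := hn' (PC.act V α l)
    rw [← funext hα] at this
    exact_mod_cast this.symm.trans ((classInner_comp_equiv α.toEquiv (fun v : V => χ v) l.1).trans (hn' l))
  have invc : ∀ g : G, ∀ l, n (PC.act V (MulAut.conjNormal g) l) = n l := fun g =>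
    inv _ fun v => hχ.classFun v g
  let ι : MulAut V := ⟨⟨fun v => v⁻¹, fun v => v⁻¹, inv_inv, inv_inv⟩, fun a b => by
    change (a * b)⁻¹ = a⁻¹ * b⁻¹
    rw [hV a b, mul_inv_rev]⟩
  have ιc : ∀ α : MulAut V, ι * α = α * ι := fun α => MulEquiv.ext fun v => (map_inv α v).symm
  have ι2 : ι * ι = 1 := MulEquiv.ext fun v => inv_inv v
  have invι := inv ι fun v => by
    change χ (v : G)⁻¹ = _
    rw [hχ.apply_inv, hr]
  have ιf : ∀ l, PC.act V ι l = l → l = irrOne V := fun l => PC.eq_one_of_act hV fun k hk => by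
    have h1 : k * k = 1 := by nth_rw 1 [← hk]; exact inv_mul_cancel k
    obtain ⟨j, hj⟩ := exists_sq_eq (ho.of_dvd_nat (orderOf_dvd_natCard k))
    rw [← hj, ← (Commute.refl k).mul_pow, h1, one_pow]
  have two : ∀ l, l ≠ irrOne V → 2 ∣ n l := fun l hl => by
    rw [← t2, ← Nat.card_zpowers]
    refine dvd_mult hχ hV (fun g hg => hD g (zpowers_le.2 ht hg)) hl (fun g hg => ?_) (hn' l)
    have : (MulAut.conjNormal g : MulAut V) = 1 := MulEquiv.ext fun v => Subtype.ext (by
      obtain ⟨k, rfl⟩ := hg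
      change t ^ k * v * (t ^ k)⁻¹ = v
      rw [← (Commute.zpow_right (tc v) k).eq, mul_inv_cancel_right])
    rw [this]; rfl
  suffices H : ∀ l, l ≠ irrOne V → n l = 0 by
    intro v hv
    have e : ∀ w : V, χ w = n (irrOne V) := fun w => by
      rw [hn w, Finset.sum_eq_single (irrOne V) (fun l _ hl => by simp [H l hl]) (by simp)]
      simp [irrOne]
    exact (e ⟨v, hv⟩).trans (e 1).symm
  intro l hl
  by_contra h0
  let St : Subgroup (MulAut V) :=
    { carrier := {β | PC.act V β l = l}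
      one_mem' := rfl
      mul_mem' := fun {a b} ha hb => by
        change PC.act V (a * b) l = l
        rw [PC.act_mul, ha, hb]
      inv_mem' := fun {a} ha => by
        change PC.act V a⁻¹ l = l
        rw [← ha, ← PC.act_mul, mul_inv_cancel, ha]; rfl }
  have mSt : ∀ β γ, PC.act V β l = PC.act V γ l → β * γ⁻¹ ∈ St := fun β γ e => by
    change PC.act V _ l = l
    rw [PC.act_mul, e, ← PC.act_mul, mul_inv_cancel]; rfl
  have sq : ∀ β : MulAut V, Odd (orderOf β) → β * β ∈ St → β ∈ St := fun β hβ h => by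
    obtain ⟨k, hk⟩ := exists_sq_eq hβ
    rw [← hk, ← (Commute.refl β).mul_pow]
    exact pow_mem h k
  have ne1 : ∀ α, PC.act V α l ≠ irrOne V := fun α e => hl (PC.act_eq_one e)
  have hQ' : Q ≤ St.comap MulAut.conjNormal := hgen.trans ((Subgroup.closure_le _).2 fun y hy => by
    have hα : Odd (orderOf (MulAut.conjNormal y : MulAut V)) :=
      Odd.of_dvd_nat hy (orderOf_map_dvd _ y)
    have nα : ∀ i : ℕ, n (PC.act V (MulAut.conjNormal y ^ i) l) = n l := fun i => by
      rw [← map_pow, invc]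
    change MulAut.conjNormal y ∈ St
    generalize (MulAut.conjNormal y : MulAut V) = α at hα nα
    by_contra hy
    let T := (range 3).image fun i => PC.act V (α ^ i) l
    have h2 : α * α ∉ St := fun h => hy (sq α hα h)
    have cT : #T = 3 := by
      rw [card_image_of_injOn, card_range]
      intro i hi j hj e
      have e1 := mSt _ _ e
      have e2 := mSt _ _ e.symm
      simp only [coe_range, Set.mem_Iio] at hi hj
      interval_cases i <;> interval_cases j <;> first
        | rfl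
        | exact absurd (by simpa [pow_succ, mul_assoc] using e1) hy
        | exact absurd (by simpa [pow_succ, mul_assoc] using e2) hy
        | exact absurd (by simpa [pow_succ, mul_assoc] using e1) h2
        | exact absurd (by simpa [pow_succ, mul_assoc] using e2) h2
    have dT : Disjoint T (T.image (PC.act V ι)) := Finset.disjoint_left.2 fun x hx hx' => by
      obtain ⟨_, h1, rfl⟩ := mem_image.1 hx'
      obtain ⟨i, -, rfl⟩ := mem_image.1 h1
      obtain ⟨j, -, e⟩ := mem_image.1 hx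
      have e1 := mSt _ _ ((PC.act_mul _ _ _).trans e.symm)
      rw [← ιc, mul_assoc, ← zpow_natCast, ← zpow_natCast, ← zpow_sub] at e1
      generalize (i : ℤ) - j = k at e1
      have e2 : α ^ k ∈ St := sq _ (hα.of_dvd_nat (orderOf_dvd_of_mem_zpowers (zpow_mem_zpowers α k)))
        (by simpa [mul_assoc, ← ιc, ← mul_assoc ι ι, ι2, ← mul_assoc _ ι] using mul_mem e1 e1)
      exact hl (ιf l (show ι ∈ St by simpa using mul_mem e1 (inv_mem e2)))
    have h6 : ∀ x ∈ T ∪ T.image (PC.act V ι), x ∈ univ.erase (irrOne V) ∧ 2 ≤ n x := fun x hx => by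
      have : x ≠ irrOne V ∧ n x = n l := by
        rcases mem_union.1 hx with h1 | h1
        · obtain ⟨i, -, rfl⟩ := mem_image.1 h1
          exact ⟨ne1 _, nα i⟩
        · obtain ⟨_, h3, rfl⟩ := mem_image.1 h1
          obtain ⟨i, -, rfl⟩ := mem_image.1 h3
          exact ⟨ne1 (_ * ι), (invι _).trans (nα i)⟩
      exact ⟨by simp [this.1], this.2 ▸ Nat.le_of_dvd (Nat.pos_of_ne_zero h0) (two l hl)⟩
    have h7 := (card_nsmul_le_sum _ n 2 fun x hx => (h6 x hx).2).trans
      (sum_le_sum_of_subset (f := n) fun x hx => (h6 x hx).1)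
    rw [card_union_of_disjoint dT, card_image_of_injective T (fun a b e => by
      have := congrArg (PC.act V ι) e
      rwa [← PC.act_mul, ← PC.act_mul, ι2] at this), cT] at h7
    simp only [smul_eq_mul] at h7
    omega)
  have h8 := Nat.le_of_dvd (Nat.pos_of_ne_zero h0) (dvd_mult hχ hV hD hl hQ' (hn' l))
  have h9 := sum_le_sum_of_subset (f := n) (s := {l, PC.act V ι l}) (t := univ.erase (irrOne V))
    (by simp [insert_subset_iff, hl, ne1])
  rw [sum_pair fun e => hl (ιf l e.symm), invι] at h9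
  omega

theorem mem_pp {t g : G} (t2 : t * t = 1) (h : t ∈ zpowers g) : t ∈ zpowers (pp 2 g) := by
  obtain ⟨k, rfl⟩ := h
  have h1 : g ^ k = pp 2 g ^ k * pr 2 g ^ k := by rw [← (commute_pp_pr g).mul_zpow, pp_mul_pr]
  have h2 := pp_mul (p := 2) ((pElt_pp g).zpow k) (reg_zpow (reg_pr g) k)
    ((commute_pp_pr g).zpow_zpow k k)
  rw [← h1, pp_of_pElt (PElt.iff_pow.2 ⟨1, by rw [pow_one, pow_two]; exact t2⟩)] at h2
  exact ⟨k, h2.symm⟩

theorem cent_le {t g : G} (h : t ∈ zpowers g) : centralizer {g} ≤ centralizer ({t} : Set G) :=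
  fun x hx => by
    obtain ⟨k, rfl⟩ := h
    exact mem_cent.2 (Commute.zpow_right (mem_cent.1 hx) k)

theorem mem_of_conj {t x g : G} (t2 : t * t = 1) (t1 : t ≠ 1) (hx : t ∈ zpowers x)
    (h : t ∈ zpowers (g * x * g⁻¹)) : g ∈ centralizer ({t} : Set G) := by
  obtain ⟨k, hk⟩ := hx
  have := inv_unique (s := g * t * g⁻¹) ⟨k, by simp [← hk]⟩ h (by simp [t2]) t2
    (by simpa using t1) t1
  exact mem_cent.2 (mul_inv_eq_iff_eq_mul.1 this)

open Classical in
theorem norm_lt {t : G} (t2 : t * t = 1) (t1 : t ≠ 1) [Fintype (centralizer ({t} : Set G))]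
    (hχ : IsIrrCharacter G χ) {ψ : centralizer ({t} : Set G) → ℂ}
    (hψ : ∀ x, ψ x = if t ∈ zpowers (x : G) then χ x else 0) : (classInner ψ ψ).re < 1 := by
  have c1 : IsClassFunction _ ψ := fun x g => by
    have : t ∈ zpowers ((g : G) * x * (g : G)⁻¹) ↔ t ∈ zpowers (x : G) := by
      have key : ∀ (g : centralizer ({t} : Set G)) (y : G), t ∈ zpowers y →
          t ∈ zpowers (g * y * (g : G)⁻¹) := fun g y ⟨k, hk⟩ =>
        ⟨k, by simp only [conj_zpow] at hk ⊢; rw [hk, mem_cent.1 g.2, mul_inv_cancel_right]⟩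
      exact ⟨fun h => by simpa [mul_assoc] using key g⁻¹ _ h, key g x⟩
    simp only [hψ, Subgroup.coe_mul, Subgroup.coe_inv, this, hχ.classFun (x : G) g]
  have p1 : ψ 1 = 0 := by simp [hψ, t1]
  have c2 : ∀ x : centralizer ({t} : Set G), (x : G) ∉ {x | t ∈ zpowers x} → ψ x = 0 :=
    fun x hx => (hψ x).trans (if_neg hx)
  have h1 := classInner_indFun_of_TI _ {x | t ∈ zpowers x}
    (fun g hg x hx hx' => absurd (mem_of_conj t2 t1 hx hx') hg) c1 c2 c2 p1
  have h2 : classInner (indFun _ ψ) χ = classInner ψ ψ := by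
    rw [classInner_indFun_left _ _ hχ.classFun, classInner, classInner]
    refine congrArg _ (Finset.sum_congr rfl fun x _ => ?_)
    rw [hψ]; split_ifs <;> simp
  have h3 := classInner_sub_irr_self (indFun _ ψ) hχ
  have h4 := classInner_self_re_nonneg (indFun _ ψ - classInner (indFun _ ψ) χ • χ)
  obtain ⟨c, hc⟩ : ∃ c : ℝ, classInner ψ ψ = c := ⟨_, classInner_self_eq ψ⟩
  rw [h3, h1, h2, hc] at h4
  rw [h1, h2, hc] at h3
  rw [hc, Complex.ofReal_re]
  by_contra h5
  have h6 : c = 1 := by simp at h4; nlinarith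
  rw [h6] at h3
  have h7 := congrFun (classInner_self_eq_zero.1 (h3.trans (by simp))) 1
  simp only [Pi.sub_apply, indFun_apply_one, p1, Pi.smul_apply, Pi.zero_apply] at h7
  exact hχ.apply_one_ne_zero (by simpa using h7)

/-- `ZMod 8` mapped to the powers of an element -/
def cyc {M : Type*} [Monoid M] (g : M) (h : g ^ 8 = 1) : Multiplicative (ZMod 8) →* M where
  toFun x := g ^ x.toAdd.val
  map_one' := by simp
  map_mul' x y := by rw [toAdd_mul, ZMod.val_add, ← pow_eq_pow_mod _ h, pow_add]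

theorem int_eight (hχ : IsCharacter G χ) {w : G} (w8 : w ^ 8 = 1)
    (h : IsConj w (w ^ 3) ∨ IsConj w (w ^ 5)) : ∃ r : ℤ, χ w + χ w⁻¹ = 2 * r := by
  obtain ⟨m, hm⟩ := (hχ.comp (cyc w w8)).inner_nat isCharacter_one
  obtain ⟨n, hn⟩ := (hχ.comp (cyc w w8)).inner_nat
    (isIrrCharacter_monoidHom (cyc (-1 : ℂ) (by norm_num))).isCharacter
  have e : ∀ F : ℕ → ℂ, ∑ x : Multiplicative (ZMod 8), F x.toAdd.val = ∑ i ∈ range 8, F i :=
    fun F => Fin.sum_univ_eq_sum_range F 8
  have c : (Nat.card (Multiplicative (ZMod 8)) : ℂ) = 8 := by simp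
  rw [classInner, c] at hm hn
  replace hm := (congrArg _ (e fun i => χ (w ^ i) * conj (1 : ℂ))).symm.trans hm
  replace hn := (congrArg _ (e fun i => χ (w ^ i) * conj ((-1 : ℂ) ^ i))).symm.trans hn
  simp only [sum_range_succ, sum_range_zero] at hm hn
  simp only [map_pow, map_neg, map_one] at hm hn
  have e7 : w ^ 7 = w⁻¹ := eq_inv_of_mul_eq_one_left (by rw [← pow_succ, w8])
  have e5 : w ^ 5 = (w ^ 3)⁻¹ := eq_inv_of_mul_eq_one_left (by rw [← pow_add, w8])
  have ci : ∀ {a b : G}, IsConj a b → χ a⁻¹ = χ b⁻¹ := fun h => by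
    rw [hχ.apply_inv, hχ.apply_inv, hχ.classFun.apply_of_isConj h]
  refine ⟨m - n, ?_⟩
  rw [e7, pow_one] at hm hn
  push_cast
  rcases h with h | h
  · rw [e5, ← ci h, ← hχ.classFun.apply_of_isConj h] at hm hn
    linear_combination 2 * hm - 2 * hn
  · have := ci h
    rw [e5, inv_inv] at this
    rw [← this, ← hχ.classFun.apply_of_isConj h] at hm hn
    linear_combination 2 * hm - 2 * hn

theorem exists_lift {K : Type*} [Group K] [Finite K] (π : G →* K) (hπ : Function.Surjective π)
    (ho : Odd (Nat.card π.ker)) {S : Subgroup K} (hS : IsPGroup 2 S) :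
    ∃ ι : S →* G, ∀ s, π (ι s) = s := by
  let φ : S.comap π →* S := π.subgroupComap S
  have hφ : Function.Surjective φ := π.subgroupComap_surjective_of_surjective S hπ
  obtain ⟨P⟩ : Nonempty (Sylow 2 (S.comap π)) := inferInstance
  let ψ : (P : Subgroup (S.comap π)) →* S := φ.comp (P : Subgroup (S.comap π)).subtype
  have h1 : Function.Injective ψ := (injective_iff_map_eq_one _).2 fun x hx => by
    have e1 : ((x : S.comap π) : G) ∈ π.ker := congrArg Subtype.val hx
    have e2 : PElt 2 ((x : S.comap π) : G) := (PElt.of_mem P.2 x.2).map (S.comap π).subtype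
    exact Subtype.ext (Subtype.ext (eq_one_of_PElt_of_reg e2
      (reg_of_mem (Nat.two_dvd_ne_zero.2 (Nat.odd_iff.1 ho)) e1)))
  have h2 : Function.Surjective ψ := by
    have := (P.mapSurjective hφ).is_maximal' (Q := ⊤) (hS.to_subgroup ⊤) le_top
    intro s
    obtain ⟨x, hx, e⟩ : s ∈ (P : Subgroup (S.comap π)).map φ := by
      rw [← Sylow.coe_mapSurjective hφ, ← this]; trivial
    exact ⟨⟨x, hx⟩, e⟩
  let e := MulEquiv.ofBijective ψ ⟨h1, h2⟩
  exact ⟨(S.comap π).subtype.comp ((P : Subgroup (S.comap π)).subtype.comp e.symm.toMonoidHom),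
    fun s => congrArg Subtype.val (e.apply_symm_apply s)⟩

end General

end H17.NG
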