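import Mathlib
import Cfsg.Agent.H17.NG1
import Cfsg.Agent.H2.MinNormal

/-! The column of an element of order eight in the principal 2-block; killing the core of an
involution centralizer. -/

set_option autoImplicit false
set_option linter.unusedSectionVars false

open Cfsg H4 Subgroup Finset H17.Ly
open scoped ComplexConjugate

namespace H17.NG

variable {G : Type*} [Group G] [Fintype G] {K : Type*} [Group K] [Finite K]

structure St (t : G) (π : centralizer ({t} : Set G) →* K) : Prop where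
  t2 : t * t = 1
  t1 : t ≠ 1
  surj : Function.Surjective π
  odd : Odd (Nat.card π.ker)

/-- local data of a real character of the principal block -/
structure Row (t : K) (S : Subgroup K) (θ η : K → ℂ) (d : ℤ) : Prop where
  ch : IsCharacter K θ
  re : ∀ k, conj (θ k) = θ k
  nm : ∀ A : Finset K, (∀ k ∈ A, t ∈ zpowers k) → ∑ k ∈ A, ‖θ k‖ ^ 2 < Nat.card K
  ch' : IsCharacter S fun s => η s
  re' : ∀ s ∈ S, conj (η s) = η s
  one : η 1 = d
  eqD : ∀ s ∈ S, t ∈ zpowers s → η s = θ s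
  inv : ∀ s ∈ S, s * s = 1 → s ≠ 1 → η s = θ t

def Arith (t : K) (S : Subgroup K) (w : K) : Prop :=
  ∀ (θ η : Fin 3 → K → ℂ) (d a r : Fin 3 → ℤ),
    (∀ i, Row t S (θ i) (η i) (d i) ∧ θ i t = a i ∧ θ i w = r i ∧ (r i = 1 ∨ r i = -1) ∧ 0 < d i) →
    1 + ∑ i, r i * d i = 0 → (∀ k, t ∈ zpowers k → k ^ 12 = 1 → 1 + ∑ i, r i * θ i k = 0) →
    1 + ∑ i, (r i : ℚ) * (a i * a i / d i) = 0 → ∃ i, d i - |a i| < 12

theorem pair_eq {r s d e a b : ℤ} (hr : r = 1 ∨ r = -1) (hs : s = 1 ∨ s = -1) (hd : 0 < d) (he : 0 < e)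
    (h1 : 1 + r * d + 2 * (s * e) = 0) (h2 : 1 + r * a + 2 * (s * b) = 0)
    (h3 : (1 + r * (a * a / d) + 2 * (s * (b * b / e)) : ℚ) = 0) : b = e := by
  have hd' : (d : ℚ) ≠ 0 := by positivity
  have he' : (e : ℚ) ≠ 0 := by positivity
  field_simp at h3
  have h4 : d * e + r * a ^ 2 * e + 2 * s * b ^ 2 * d = 0 := by
    have : (d * e + r * a ^ 2 * e + 2 * s * b ^ 2 * d : ℚ) = 0 := by linear_combination h3
    exact_mod_cast this
  have h5 : (b - e) ^ 2 = 0 := by
    rcases hr with rfl | rfl <;> rcases hs with rfl | rfl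
    · omega
    · obtain rfl : d = 2 * e - 1 := by omega
      obtain rfl : a = 2 * b - 1 := by omega
      linarith
    · obtain rfl : d = 2 * e + 1 := by omega
      obtain rfl : a = 2 * b + 1 := by omega
      linarith
    · obtain rfl : d = 1 - 2 * e := by omega
      omega
  exact sub_eq_zero.1 (pow_eq_zero_iff two_ne_zero |>.1 h5)

namespace St

variable {t : G} {π : centralizer ({t} : Set G) →* K} (h : St t π)
include h

theorem pElt : PElt 2 t := PElt.iff_pow.2 ⟨1, by rw [pow_one, pow_two]; exact h.t2⟩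

theorem pow_card {x : centralizer ({t} : Set G)} (hx : π x = π (selfC t)) :
    (x : G) ^ Nat.card π.ker = t := by
  have hu : (selfC t)⁻¹ * x ∈ π.ker := by simp [MonoidHom.mem_ker, hx]
  have e : (x : G) = t * ((selfC t)⁻¹ * x : centralizer ({t} : Set G)) := by simp
  have e2 := congrArg (fun y : π.ker => ((y : centralizer ({t} : Set G)) : G))
    (pow_card_eq_one' (x := (⟨_, hu⟩ : π.ker)))
  obtain ⟨k, hk⟩ := h.odd
  rw [e, (Commute.symm (mem_cent.1 ((selfC t)⁻¹ * x).2)).mul_pow]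
  simp only [SubmonoidClass.coe_pow, OneMemClass.coe_one] at e2
  rw [e2, hk, pow_succ, pow_mul, pow_two, h.t2, one_pow, one_mul, mul_one]

theorem memD {x : centralizer ({t} : Set G)} (hx : π (selfC t) ∈ zpowers (π x)) :
    t ∈ zpowers (x : G) := by
  obtain ⟨k, hk⟩ := hx
  have := pow_mem (zpow_mem_zpowers (x : G) k) (Nat.card π.ker)
  rwa [← Subgroup.coe_zpow, h.pow_card (x := x ^ k) (by simpa using hk)] at this

variable {M : Ideal AlgInt} [PM 2 M]

theorem apply_mul {χ : Irr G} (hχ : χ ∈ B0 G M) {x u : centralizer ({t} : Set G)}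
    (hx : π (selfC t) ∈ zpowers (π x)) (hu : u ∈ π.ker) : χ.1 (x * u) = χ.1 x := by
  have := Fintype.ofFinite (centralizer ({t} : Set G))
  have key : ∀ y : centralizer ({t} : Set G), π (selfC t) ∈ zpowers (π y) →
      χ.1 y = blockPart (principalBlock M _) (fun k : centralizer ({t} : Set G) => χ.1 k) y :=
    fun y hy => by
      have h1 := second_main (M := M) (subtype_injective _) (exists_indRel_centralizer M h.pElt)
        (h := y) (by rw [range_subtype]; exact cent_le (mem_pp h.t2 (h.memD hy)))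
        (fb_mem_ZS (irrOne G)) χ.2.classFun
      rw [blockPart_irr, ind_of_mem ((mem_B0 M).1 hχ), one_smul] at h1
      rw [← indSet_principal (subtype_injective _) (exists_indRel_centralizer M h.pElt)]
      exact h1
  refine (key (x * u) (by rwa [map_mul, MonoidHom.mem_ker.1 hu, mul_one])).trans
    (Eq.trans ?_ (key x hx).symm)
  rw [blockPart_apply, blockPart_apply]
  refine Finset.sum_congr rfl fun ξ _ => ?_
  by_cases h1 : ξ ∈ principalBlock M _
  · rw [SB.pPrimeCore_mul h1 (H2.le_pPrimeCore inferInstance (Nat.coprime_two_right.2 h.odd) hu)]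
  · rw [ind_of_notMem h1, zero_mul, zero_mul]

theorem exists_theta {χ : Irr G} (hχ : χ ∈ B0 G M) : ∃ θ, IsCharacter K θ ∧
    (∀ x, π (selfC t) ∈ zpowers (π x) → θ (π x) = χ.1 x) ∧
    ((∀ g, conj (χ.1 g) = χ.1 g) → ∀ k, conj (θ k) = θ k) ∧
    ∀ A : Finset K, (∀ k ∈ A, π (selfC t) ∈ zpowers k) → ∑ k ∈ A, ‖θ k‖ ^ 2 < Nat.card K := by
  classical
  have := Fintype.ofFinite K
  have := Fintype.ofFinite π.ker
  have := Fintype.ofFinite (centralizer ({t} : Set G))
  obtain ⟨θ, hθ, e⟩ := exists_bar π h.surj (χ.2.isCharacter.restrict _)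
  have e1 : ∀ x, π (selfC t) ∈ zpowers (π x) → θ (π x) = χ.1 x := fun x hx => by
    simp only [e, Subgroup.coe_mul]
    rw [Finset.sum_congr rfl fun (u : π.ker) _ => h.apply_mul hχ hx u.2, Finset.sum_const,
      card_univ, ← Nat.card_eq_fintype_card, nsmul_eq_mul, inv_mul_cancel_left₀ (card_ne_zero _)]
  refine ⟨θ, hθ, e1, fun hr k => ?_, fun A hA => ?_⟩
  · obtain ⟨x, rfl⟩ := h.surj k
    simp [e, hr]
  let ψ : K → ℂ := fun k => if π (selfC t) ∈ zpowers k then θ k else 0
  have h1 := norm_lt h.t2 h.t1 χ.2 (ψ := fun x => ψ (π x)) fun x => by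
    by_cases hx : π (selfC t) ∈ zpowers (π x)
    · simp only [ψ, if_pos hx, if_pos (h.memD hx), e1 x hx]
    · simp only [ψ, if_neg hx]
      rw [if_neg fun ⟨k, hk⟩ => hx ⟨k, by rw [← congrArg π (show x ^ k = selfC t from Subtype.ext hk)]; simp⟩]
  rw [classInner_comp_surjective π h.surj, classInner_self_re,
    inv_mul_lt_one₀ (by exact_mod_cast Nat.card_pos)] at h1
  refine lt_of_le_of_lt ?_ h1
  rw [Finset.sum_congr rfl (g := fun k => ‖ψ k‖ ^ 2) fun k hk => by simp only [ψ, if_pos (hA k hk)]]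
  exact sum_le_sum_of_subset_of_nonneg (subset_univ _) fun _ _ _ => by positivity

open Classical in
theorem col {u : centralizer ({t} : Set G)} (u8 : orderOf (u : G) = 8) (hu : t ∈ zpowers (u : G))
    (hc : ∀ x, x * π u = π u * x → x ∈ zpowers (π u)) (g : G) :
    ∑ χ ∈ B0 G M, χ.1 g * conj (χ.1 u) = if IsConj (pp 2 g) u then 8 else 0 := by
  let φ : centralizer ({(u : G)} : Set G) →* K := π.comp (inclusion (cent_le hu))
  have h1 : Nat.card φ.range ∣ 2 ^ 3 := by
    refine (card_dvd_of_le (K := zpowers (π u)) ?_).trans ?_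
    · rintro _ ⟨x, rfl⟩
      exact hc _ (by
        simp only [φ, MonoidHom.comp_apply, ← map_mul]
        exact congrArg π (Subtype.ext (mem_cent.1 x.2)))
    · rw [Nat.card_zpowers]
      exact (orderOf_map_dvd π u).trans (by rw [← Subgroup.orderOf_coe, u8]; rfl)
  have h2 : Odd (Nat.card φ.ker) :=
    h.odd.of_dvd_nat (card_comap_dvd_of_injective π.ker _ (inclusion_injective _))
  have h3 := φ.ker.card_mul_index
  rw [index_ker] at h3
  have h4 : 2 ^ 3 ∣ Nat.card φ.range := by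
    refine (Nat.Coprime.pow_left 3 (Nat.coprime_two_left.2 h2)).dvd_of_dvd_mul_left ?_
    rw [h3, show 2 ^ 3 = orderOf (selfC (u : G)) by rw [← Subgroup.orderOf_coe, u8]; rfl]
    exact orderOf_dvd_natCard _
  rw [← sum_B0, npc_sum ⟨3, u8⟩ (H3.hasNPC_of_normal φ.ker (Nat.coprime_two_right.2 h2)
    (IsPGroup.of_card (n := 3) (by rw [← index_eq_card, index_ker, Nat.dvd_antisymm h1 h4]))), ← h3,
    Nat.dvd_antisymm h1 h4, Nat.factorization_mul Nat.card_pos.ne' (by norm_num),
    Finsupp.add_apply, Nat.factorization_eq_zero_of_not_dvd (Nat.two_dvd_ne_zero.2 (Nat.odd_iff.1 h2)),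
    Nat.Prime.factorization_pow Nat.prime_two]
  simp

theorem ker_eq_bot [IsSimpleGroup G]
    (hone : ∀ s : centralizer ({t} : Set G), s * s = 1 → s ≠ 1 → IsConj (s : G) t)
    {S : Subgroup K} (hS : IsPGroup 2 S) {w : K} (hw : w ∈ S) (w8 : w ^ 8 = 1)
    (w4 : w ^ 4 = π (selfC t)) (wc : ∀ x, x * w = w * x → x ∈ zpowers w) (wr : ¬ IsConj w w⁻¹)
    (wf : IsConj w (w ^ 3) ∨ IsConj w (w ^ 5)) {Q : Subgroup K} (hQ : Nat.card Q = 8)
    (hQt : π (selfC t) ∈ Q) (hQD : ∀ q ∈ Q, q ≠ 1 → π (selfC t) ∈ zpowers q)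
    (hQg : ∀ q ∈ Q, ∃ y, y ^ 3 = 1 ∧ ∃ z, z ^ 3 = 1 ∧ (q = y * z ∨ q = y * z * (y * z))) (hA : Arith (π (selfC t)) S w) :
    π.ker = ⊥ := by
  classical
  have := Fintype.ofFinite K
  have := Fintype.ofFinite (centralizer ({t} : Set G))
  obtain ⟨M, hM⟩ := exists_PM 2
  obtain ⟨ι, hι⟩ := exists_lift π h.surj h.odd hS
  choose! θ θc θe θr θn using fun χ : Irr G => h.exists_theta (M := M) (χ := χ)
  set ω := ι ⟨w, hw⟩ with hω
  have πω : π ω = w := hι _
  have ω8 : ω ^ 8 = 1 := by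
    rw [← map_pow, show (⟨w, hw⟩ : S) ^ 8 = 1 from Subtype.ext w8, map_one]
  have ω4 : (ω : G) ^ 4 = t := by
    have e := h.pow_card (x := ω ^ 4) (by rw [map_pow, πω, w4])
    obtain ⟨k, hk⟩ := h.odd
    rwa [hk, pow_succ, pow_mul, ← Subgroup.coe_pow, ← pow_mul, show 4 * 2 = 8 from rfl, ω8, OneMemClass.coe_one, one_pow,
      one_mul] at e
  have o8 : orderOf (ω : G) = 8 := orderOf_eq_prime_pow (p := 2) (n := 2)
    (by rw [show 2 ^ 2 = 4 from rfl, ω4]; exact h.t1) (congrArg Subtype.val ω8)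
  have tω : t ∈ zpowers (ω : G) := ⟨(4 : ℕ), (zpow_natCast _ 4).trans ω4⟩
  have tw : π (selfC t) ∈ zpowers w := ⟨(4 : ℕ), (zpow_natCast _ 4).trans w4⟩
  have tw' : π (selfC t) ∈ zpowers w⁻¹ := by rwa [zpowers_inv]
  have nc : ¬ IsConj (ω : G) (ω : G)⁻¹ := fun e => by
    obtain ⟨g, hg⟩ := isConj_iff.1 e
    have hg' := mem_of_conj h.t2 h.t1 tω (by rwa [hg, zpowers_inv])
    refine wr (isConj_iff.2 ⟨π ⟨g, hg'⟩, ?_⟩)
    rw [← πω, ← map_inv, ← map_inv, ← map_mul, ← map_mul]
    exact congrArg π (Subtype.ext hg)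
  have c1 := h.col (M := M) o8 tω (πω ▸ wc)
  have c2 := h.col (M := M) (u := ω⁻¹) (by simpa using o8) (by simpa using tω) (by
    rw [map_inv, πω, zpowers_inv]
    exact fun x hx => wc x (Commute.inv_right_iff.1 hx))
  choose! r hr using fun χ (hχ : χ ∈ B0 G M) => int_eight (θc χ hχ) w8 wf
  have hr' : ∀ χ ∈ B0 G M, χ.1 ω + χ.1 (ω : G)⁻¹ = 2 * r χ := fun χ hχ => by
    rw [← hr χ hχ, ← θe χ hχ ω (πω ▸ tw), ← Subgroup.coe_inv, ← θe χ hχ ω⁻¹ (by rwa [map_inv, πω]),
      map_inv, πω]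
  have hΘ : ∀ g, 2 * ∑ χ ∈ B0 G M, r χ * χ.1 g = (if IsConj (pp 2 g) ω then 8 else 0) +
      if IsConj (pp 2 g) (ω : G)⁻¹ then 8 else 0 := fun g => by
    rw [← c1, ← Subgroup.coe_inv, ← c2, ← sum_add_distrib, mul_sum]
    refine sum_congr rfl fun χ hχ => ?_
    rw [← χ.2.isCharacter.apply_inv, ← χ.2.isCharacter.apply_inv, Subgroup.coe_inv, inv_inv]
    linear_combination -χ.1 g * hr' χ hχ
  have pω : pp 2 (ω : G) = ω := pp_of_pElt ⟨3, o8⟩
  have h4 : ∑ χ ∈ (B0 G M).filter (r · ≠ 0), r χ ^ 2 = 4 := by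
    have e1 := hΘ ω
    have e2 := hΘ (ω : G)⁻¹
    rw [pω, if_pos (IsConj.refl _), if_neg nc] at e1
    rw [pp_inv, pω, if_pos (IsConj.refl _), if_neg fun e => nc e.symm] at e2
    have e3 : ∑ χ ∈ B0 G M, (r χ * χ.1 ω + r χ * χ.1 (ω : G)⁻¹) = ∑ χ ∈ B0 G M, 2 * (r χ : ℂ) ^ 2 :=
      sum_congr rfl fun χ hχ => by linear_combination r χ * hr' χ hχ
    rw [sum_add_distrib, ← mul_sum] at e3
    rw [sum_filter_of_ne fun χ _ e => by simpa using e]
    have : ∑ χ ∈ B0 G M, (r χ : ℂ) ^ 2 = 4 := by linear_combination (e1 + e2) / 4 - e3 / 2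
    exact_mod_cast this
  have r1 : r (irrOne G) = 1 := by
    have := hr' _ (one_mem_B0 M)
    change (1 : ℂ) + 1 = _ at this
    exact_mod_cast (by linear_combination -this / 2 : (r (irrOne G) : ℂ) = 1)
  obtain ⟨hs, a, b, c, ha, hb, hc, hab, hac, hbc, es⟩ := exists_of_sum_sq_four _ r (o := irrOne G)
    (by simp [r1, one_mem_B0]) r1 (fun i hi => (mem_filter.1 hi).2) h4
  let X : Fin 3 → Irr G := ![a, b, c]
  have Xm : ∀ χ, (χ ∈ B0 G M ∧ r χ ≠ 0) ↔ χ = irrOne G ∨ ∃ i, X i = χ := fun χ => by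
    rw [← mem_filter (p := (r · ≠ 0)), es]
    simp [X, Fin.exists_fin_succ, eq_comm]
  have XB : ∀ i, X i ∈ B0 G M := fun i => ((Xm _).2 (Or.inr ⟨i, rfl⟩)).1
  have Xr : ∀ i, r (X i) = 1 ∨ r (X i) = -1 := fun i => hs _ (mem_filter.2 ((Xm _).2 (Or.inr ⟨i, rfl⟩)))
  have X1 : ∀ i, X i ≠ irrOne G := by simp [X, Fin.forall_fin_succ, ha, hb, hc]
  have hsum : ∀ F : Irr G → ℂ, ∑ χ ∈ B0 G M, r χ * F χ = F (irrOne G) + ∑ i, r (X i) * F (X i) :=
    fun F => by
      rw [← sum_filter_of_ne (p := (r · ≠ 0)) fun χ _ e e' => by simp [e'] at e, es,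
        sum_insert (by simp [ha.symm, hb.symm, hc.symm]), sum_insert (by simp [hab, hac]),
        sum_pair hbc, r1, Fin.sum_univ_three]
      simp [X, add_assoc]
  have z0 : ∀ g : G, ¬ IsConj (pp 2 g) ω → ¬ IsConj (pp 2 g) (ω : G)⁻¹ →
      ∑ χ ∈ B0 G M, r χ * χ.1 g = 0 := fun g h1 h2 => by
    have := hΘ g
    rw [if_neg h1, if_neg h2] at this
    linear_combination this / 2
  have z12 : ∀ x : centralizer ({t} : Set G), π x ^ 12 = 1 → 1 + ∑ i, r (X i) * (X i).1 x = 0 :=
    fun x hx => by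
      have e : ¬ orderOf (pp 2 (x : G)) = 8 := fun e => by
        have e1 : orderOf x ∣ 12 * Nat.card π.ker := orderOf_dvd_of_pow_eq_one (by
          rw [pow_mul]
          exact congrArg Subtype.val (pow_card_eq_one' (x := (⟨x ^ 12, by
            rwa [MonoidHom.mem_ker, map_pow]⟩ : π.ker))))
        have e2 := orderOf_dvd_of_mem_zpowers (pp_mem_zpowers (p := 2) (x : G))
        rw [e, Subgroup.orderOf_coe] at e2
        have := e2.trans e1
        have := Nat.odd_iff.1 h.odd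
        omega
      exact (hsum fun χ => χ.1 x).symm.trans (z0 x (fun e' => e ((orderOf_eq_of_isConj e').trans o8))
        fun e' => e ((orderOf_eq_of_isConj e').trans (by simpa using o8)))
  choose α hα using fun χ : Irr G => χ.2.isGen.exists_int_of_sq (g := t) (by rw [pow_two, h.t2])
  have s1 : 1 + ∑ i, r (X i) * deg (X i) = 0 := by
    have := z12 1 (by simp)
    simp only [OneMemClass.coe_one, ← deg_eq] at this
    exact_mod_cast this
  have s2 : 1 + ∑ i, r (X i) * α (X i) = 0 := by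
    have := z12 (selfC t) (by
      rw [← map_pow, show selfC t ^ 12 = 1 from Subtype.ext (by
        change t ^ (2 * 6) = 1; rw [pow_mul, pow_two, h.t2, one_pow]), map_one])
    simp only [hα] at this
    exact_mod_cast this
  have s3 : 1 + ∑ i, (r (X i) : ℚ) * (α (X i) * α (X i) / (deg (X i) : ℤ)) = 0 := by
    have e1 : ∑ x ∈ H5.cl t, ∑ y ∈ H5.cl t, ∑ χ ∈ B0 G M, r χ * χ.1 (x * y) = 0 :=
      sum_eq_zero fun x hx => sum_eq_zero fun y hy => by
        obtain ⟨x', rfl⟩ := isConj_iff.1 (H5.mem_cl.1 hx)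
        obtain ⟨y', rfl⟩ := isConj_iff.1 (H5.mem_cl.1 hy)
        generalize hx : x' * t * x'⁻¹ = x
        generalize hy : y' * t * y'⁻¹ = y
        have x2 : x⁻¹ = x := inv_eq_of_mul_eq_one_left (by simp [← hx, h.t2])
        have y2 : y⁻¹ = y := inv_eq_of_mul_eq_one_left (by simp [← hy, h.t2])
        have e : IsConj (pp 2 (x * y)) (pp 2 (x * y))⁻¹ := by
          rw [← pp_inv]
          exact isConj_pp (isConj_iff.2 ⟨x⁻¹, by rw [mul_inv_rev, y2, inv_inv, inv_mul_cancel_left, x2]⟩)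
        have ci : ∀ {a b : G}, IsConj a b → IsConj a⁻¹ b⁻¹ := fun e => by
          obtain ⟨g, rfl⟩ := isConj_iff.1 e
          exact isConj_iff.2 ⟨g, by group⟩
        exact z0 _ (fun e' => nc (e'.symm.trans (e.trans (ci e'))))
          fun e' => nc ((e'.symm.trans (e.trans (by simpa using ci e'))).symm)
    rw [sum_congr rfl fun x _ => sum_comm, sum_comm] at e1
    simp only [← mul_sum, fun χ : Irr G => H5.sum_cl_cl χ.2 t t] at e1
    rw [hsum fun χ => (#(H5.cl t) : ℂ) * #(H5.cl t) * (χ.1 t * χ.1 t / χ.1 1)] at e1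
    have e2 : (#(H5.cl t) : ℂ) ≠ 0 := by
      exact_mod_cast card_ne_zero_of_mem (H5.mem_cl.2 (IsConj.refl t))
    have e3 : (1 + ∑ i, r (X i) * ((X i).1 t * (X i).1 t / (X i).1 1) : ℂ) = 0 := by
      refine mul_left_cancel₀ (mul_ne_zero e2 e2) ?_
      rw [mul_zero, ← e1, mul_add, mul_sum]
      simp only [irrOne]
      congr 1
      · simp
      · exact sum_congr rfl fun _ _ => by ring
    simp only [hα, ← deg_eq] at e3
    refine Rat.cast_injective (α := ℂ) ?_
    push_cast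
    exact e3
  have dpos : ∀ χ : Irr G, (0 : ℤ) < deg χ := fun χ => one_le_deg χ
  have ne1 : ∀ i, (X i).1 ≠ fun _ => 1 := fun i e => X1 i (Subtype.ext e)
  have real : ∀ i g, conj ((X i).1 g) = (X i).1 g := fun i => by
    have hk : (Nat.card G - 1).Coprime (Nat.card G) := by
      rw [Nat.coprime_self_sub_left Nat.card_pos]; simp
    have e : ∀ g, (gal hk (X i)).1 g = (X i).1 g⁻¹ := fun g => congrArg (X i).1
      (eq_inv_of_mul_eq_one_left (by
        rw [← pow_succ, Nat.sub_add_cancel Nat.card_pos, pow_card_eq_one']))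
    have eB := (gal_mem M hk _).1 (XB i)
    have er : r (gal hk (X i)) = r (X i) := by
      have := hr' _ eB
      rw [e, e, inv_inv, add_comm, hr' _ (XB i)] at this
      exact_mod_cast (mul_left_cancel₀ two_ne_zero this).symm
    rcases (Xm _).1 ⟨eB, by rw [er]; rcases Xr i with e | e <;> simp [e]⟩ with e1 | ⟨j, e1⟩
    · exact absurd (funext fun g => by
        have := e g⁻¹
        rw [e1, inv_inv] at this
        exact this.symm) (ne1 i)
    by_cases hij : j = i
    · intro g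
      rw [← (X i).2.isCharacter.apply_inv, ← e, ← e1, hij]
    have ed : deg (X j) = deg (X i) := by
      have := e 1
      rw [← e1, inv_one, ← deg_eq, ← deg_eq] at this
      exact_mod_cast this
    have ea : α (X j) = α (X i) := by
      have := e t
      rw [← e1, inv_eq_of_mul_eq_one_left h.t2, hα, hα] at this
      exact_mod_cast this
    rw [← e1] at er
    obtain ⟨k, hk⟩ : ∃ k, ∀ F : Fin 3 → ℚ, ∑ l, F l = F k + F i + F j := by
      fin_cases i <;> fin_cases j <;> simp only [not_true] at hij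
      exacts [⟨2, fun F => by simp [Fin.sum_univ_three]; ring⟩,
        ⟨1, fun F => by simp [Fin.sum_univ_three]; ring⟩,
        ⟨2, fun F => by simp [Fin.sum_univ_three]; ring⟩, ⟨0, fun F => by simp [Fin.sum_univ_three]⟩,
        ⟨1, fun F => by simp [Fin.sum_univ_three]; ring⟩,
        ⟨0, fun F => by simp [Fin.sum_univ_three]; ring⟩]
    have s1' : 1 + ∑ i, (r (X i) : ℚ) * deg (X i) = 0 := by exact_mod_cast s1
    have s2' : 1 + ∑ i, (r (X i) : ℚ) * α (X i) = 0 := by exact_mod_cast s2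
    rw [hk, er, ed] at s1'
    rw [hk, er, ea] at s2'
    rw [hk, er, ed, ea] at s3
    have := pair_eq (Xr k) (Xr i) (dpos (X k)) (dpos (X i)) (a := α (X k)) (b := α (X i))
      (by exact_mod_cast (by linear_combination s1' :
        (1 + r (X k) * deg (X k) + 2 * (r (X i) * deg (X i)) : ℚ) = 0))
      (by exact_mod_cast (by linear_combination s2' :
        (1 + r (X k) * α (X k) + 2 * (r (X i) * α (X i)) : ℚ) = 0)) (by linear_combination s3)
    exact absurd ((X i).2.eq_one_of_apply_eq_of_simple (ne1 i) (g := t)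
      (by rw [hα, this, ← deg_eq]; simp)) h.t1
  obtain ⟨i, hi⟩ := hA (fun i => θ (X i)) (fun i k => if hk : k ∈ S then (X i).1 (ι ⟨k, hk⟩) else 0)
    (fun i => deg (X i)) (fun i => α (X i)) (fun i => r (X i)) (fun i => ⟨⟨θc _ (XB i),
      θr _ (XB i) (real i), θn _ (XB i), by
        simpa using (X i).2.isCharacter.comp ((Subgroup.subtype _).comp ι),
      fun s hs => by simp [hs, real], by
        simp [one_mem, show (⟨1, one_mem S⟩ : S) = 1 from rfl, deg_eq],
      fun s hs hs' => by rw [dif_pos hs, ← θe _ (XB i) _ (by rwa [hι]), hι],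
      fun s hs s2 s1 => by
        rw [dif_pos hs, θe _ (XB i) _ (mem_zpowers _)]
        exact (X i).2.classFun.apply_of_isConj (hone _ (by
          rw [← map_mul, show (⟨s, hs⟩ * ⟨s, hs⟩ : S) = 1 from Subtype.ext s2, map_one])
          fun e => s1 (by simpa [e] using (hι ⟨s, hs⟩).symm))⟩,
      by rw [θe _ (XB i) _ (mem_zpowers _), hα], by
        have := hr _ (XB i)
        rw [(θc _ (XB i)).apply_inv, θr _ (XB i) (real i)] at this
        linear_combination this / 2, Xr i, dpos _⟩) s1 (fun k hk k12 => by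
      obtain ⟨x, rfl⟩ := h.surj k
      simpa only [fun i => θe _ (XB i) x hk] using z12 x k12) s3
  by_contra hne
  obtain ⟨V, -, -, ⟨hV, V1, -⟩, hVU, hc, -⟩ := H2.exists_elementary_abelian_normal_le
    (N := π.ker) inferInstance (Cfsg.Agent.S0205.result h.odd) hne
  have := Fintype.ofFinite V
  obtain ⟨κ, hκ⟩ := exists_lift π h.surj h.odd (IsPGroup.of_card (p := 2) (n := 3) hQ)
  have kt : κ ⟨_, hQt⟩ = selfC t := Subtype.ext (by
    have e := h.pow_card (hκ ⟨_, hQt⟩)
    obtain ⟨k, hk⟩ := h.odd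
    rwa [hk, pow_succ, pow_mul, ← Subgroup.coe_pow, ← map_pow, show (⟨_, hQt⟩ : Q) ^ 2 = 1 from
      Subtype.ext (by
        change π (selfC t) ^ 2 = 1
        rw [← map_pow, show selfC t ^ 2 = 1 from Subtype.ext ((pow_two t).trans h.t2), map_one]),
      map_one, OneMemClass.coe_one, one_pow, one_mul] at e)
  have odd3 : ∀ y, π y ^ 3 = 1 → y ∈ Subgroup.closure {y | Odd (orderOf y)} := fun y hy =>
    Subgroup.subset_closure (Odd.of_dvd_nat (Odd.mul (by decide : Odd 3) h.odd)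
      (orderOf_dvd_of_pow_eq_one (by
        rw [pow_mul]
        exact congrArg Subtype.val (pow_card_eq_one' (x := (⟨y ^ 3, by
          rwa [MonoidHom.mem_ker, map_pow]⟩ : π.ker))))))
  have := kill ((X i).2.isCharacter.restrict (centralizer ({t} : Set G))) (fun g => real i g)
    (V := V) (fun a b => hc.is_comm.comm a b) (h.odd.of_dvd_nat (card_dvd_of_le hVU)) (Q := κ.range)
    (by
      rw [← hQ]
      exact (Nat.card_congr (MonoidHom.ofInjective fun a b e =>
        Subtype.ext ((hκ a).symm.trans (e ▸ hκ b))).toEquiv).symm)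
    (by
      rintro _ ⟨q, rfl⟩ hq v hv
      exact h.apply_mul (XB i) (by
        rw [hκ]; exact hQD _ q.2 fun e => hq (by rw [show q = 1 from Subtype.ext e, map_one])) (hVU hv))
    (t := selfC t) ⟨_, kt⟩ (by
      rw [← Subgroup.orderOf_coe]; exact orderOf_eq_prime ((pow_two t).trans h.t2) h.t1)
    (fun g => Subtype.ext (mem_cent.1 g.2)) (by
      rintro _ ⟨q, rfl⟩
      obtain ⟨y, hy, z, hz, e⟩ := hQg q q.2
      obtain ⟨y, rfl⟩ := h.surj y
      obtain ⟨z, rfl⟩ := h.surj z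
      have hyz := mul_mem (odd3 y hy) (odd3 z hz)
      rcases e with e | e
      · have := mul_mem hyz (odd3 ((y * z)⁻¹ * κ q) (by simp [hκ, e]))
        rwa [mul_inv_cancel_left] at this
      · have := mul_mem (mul_mem hyz hyz) (odd3 ((y * z * (y * z))⁻¹ * κ q) (by
          rw [map_mul, map_inv, hκ, e, map_mul, map_mul, inv_mul_cancel, one_pow]))
        rwa [mul_inv_cancel_left] at this) (deg_eq _).symm (hα _) hi
  exact V1 ((eq_bot_iff_forall _).2 fun v hv => Subtype.ext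
    ((X i).2.eq_one_of_apply_eq_of_simple (ne1 i) (this v hv)))

end St

end H17.NG
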