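import Mathlib
import Cfsg.Agent.H17.NG2
import Cfsg.Agent.H17.NG3

/-! The arithmetic of the principal 2-block when `C(t) / O(C(t))` is `GL₂(3)` or `GU₂(3)`. -/

set_option autoImplicit false
set_option linter.unusedSectionVars false
set_option maxRecDepth 100000

open Cfsg H4 Subgroup Finset
open scoped ComplexConjugate

namespace H17.NG

open TG

section Tools

variable {K : Type*} [Group K] [Fintype K] {θ : K → ℂ}

theorem par (h : IsCharacter K θ) {g : K} {m n : ℤ} (h1 : θ g = m) (h2 : θ (g * g) = n) :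
    (m - n) % 2 = 0 := by
  have := h.symSq.isIntegral g
  simp only [h1, h2] at this
  obtain ⟨k, hk⟩ := int_dvd_of_isIntegral_div (a := m ^ 2 + n) (b := 2) two_ne_zero
    (by exact_mod_cast this)
  obtain ⟨l, hl⟩ := Int.even_mul_pred_self m
  have : m - n = 2 * (k - l - n) := by linear_combination hk - hl
  omega

theorem cong3 (h : IsCharacter K θ) {x y : K} (hx : x ^ 4 = 1) (hy : y ^ 3 = 1) (hc : y * x = x * y)
    {m n : ℤ} (h1 : θ x = m) (h2 : θ (x * y) = n) : (n - m) % 3 = 0 := by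
  have : Fact (Nat.Prime 3) := ⟨Nat.prime_three⟩
  obtain ⟨M, hM⟩ := exists_PM 3
  have e := sub_pr_mem_of_CR (p := 3) (M := M) (gen_mem_CR _ h.isGen) (y * x)
  rw [pr_mul (PElt.iff_pow.2 ⟨1, hy⟩) (fun e => absurd (e.trans (orderOf_dvd_of_pow_eq_one hx))
    (by decide)) hc, hc, h1, h2, ← Int.cast_sub, intCast_mem_Pm (p := 3)] at e
  omega

theorem sum_class {n : ℕ} (κ : K → Fin n) (c : K → ℤ) (F : K → ℂ) (T : Fin n → ℂ)
    (h : ∀ w, c w ≠ 0 → F w = T (κ w)) :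
    ∑ w, F w * c w = ∑ k, ((∑ w, if κ w = k then c w else 0 : ℤ) : ℂ) * T k := by
  simp only [Int.cast_sum, Finset.sum_mul]
  rw [Finset.sum_comm]
  refine Finset.sum_congr rfl fun w _ => ?_
  rw [Finset.sum_eq_single (κ w) (fun k _ hk => by rw [if_neg hk.symm]; simp) (by simp), if_pos rfl]
  by_cases hc : c w = 0
  · simp [hc]
  · rw [h w hc, mul_comm]

theorem sum_lin (S : Subgroup K) [DecidablePred (· ∈ S)] (h : IsCharacter S fun s => θ s)
    (hr : ∀ s ∈ S, conj (θ s) = θ s) (c e : K → ℤ) (h1 : c 1 = 1 ∧ e 1 = 0)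
    (hm : ∀ x ∈ S, ∀ y ∈ S, c (x * y) = c x * c y - e x * e y ∧ e (x * y) = c x * e y + e x * c y) :
    ∃ n : ℤ, ∑ x, θ x * ((if x ∈ S then c x else 0 : ℤ) : ℂ) = Nat.card S * n := by
  let μ : S →* ℂ :=
    { toFun := fun x => c x + e x * Complex.I
      map_one' := by simp [h1]
      map_mul' := fun x y => by
        simp only [Subgroup.coe_mul, hm x x.2 y y.2]
        push_cast
        linear_combination -(e x * e y : ℂ) * Complex.I_mul_I }
  obtain ⟨n, hn⟩ := h.inner_nat (isIrrCharacter_monoidHom μ).isCharacter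
  refine ⟨n, ?_⟩
  rw [classInner, inv_mul_eq_iff_eq_mul₀ (card_ne_zero S)] at hn
  have h2 := congrArg conj hn
  simp only [map_sum, map_mul, map_natCast, Complex.conj_conj, fun s : S => hr s s.2] at h2
  have h3 : ∑ x : S, θ x * c x = Nat.card S * n := by
    have := congrArg₂ (· + ·) hn h2
    simp only [← sum_add_distrib] at this
    rw [sum_congr rfl (g := fun x : S => 2 * (θ x * c x)) fun x _ => by simp [μ]; ring, ← mul_sum] at this
    linear_combination this / 2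
  rw [Int.cast_natCast, ← h3, ← Finset.sum_subtype (univ.filter (· ∈ S)) (by simp)
    fun x => θ x * c x, sum_filter]
  exact sum_congr rfl fun x _ => by split_ifs <;> simp

theorem cls_eq (h : IsCharacter K θ) (hr : ∀ k, conj (θ k) = θ k) {x y : K}
    (e : ∃ g, g * x * g⁻¹ = y ∨ g * x * g⁻¹ = y⁻¹) : θ y = θ x := by
  obtain ⟨g, e | e⟩ := e
  · rw [← e, h.classFun]
  · rw [← hr y, ← h.apply_inv, ← e, h.classFun]

theorem int_val (h : IsCharacter K θ) (hr : ∀ k, conj (θ k) = θ k) {x : K} (h1 : x ^ 12 = 1)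
    (h5 : ∃ g, g * x * g⁻¹ = x ^ 5 ∨ g * x * g⁻¹ = (x ^ 5)⁻¹) : ∃ n : ℤ, θ x = n := by
  refine h.isGen.exists_int_of_pow (n := 12) (by norm_num) h1 fun m hm => ?_
  have e7 : x ^ 7 = (x ^ 5)⁻¹ := eq_inv_of_mul_eq_one_left (by rw [← pow_add, h1])
  have e11 : x ^ 11 = x⁻¹ := eq_inv_of_mul_eq_one_left (by rw [← pow_succ, h1])
  have h2 : ¬ 2 ∣ m := fun e => absurd (Nat.eq_one_of_dvd_coprimes hm e (by norm_num)) (by norm_num)
  have h3 : ¬ 3 ∣ m := fun e => absurd (Nat.eq_one_of_dvd_coprimes hm e (by norm_num)) (by norm_num)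
  rw [pow_eq_pow_mod m h1]
  obtain e | e | e | e : m % 12 = 1 ∨ m % 12 = 5 ∨ m % 12 = 7 ∨ m % 12 = 11 := by omega
  · rw [e, pow_one]
  · rw [e, cls_eq h hr h5]
  · rw [e, e7, h.apply_inv, hr, cls_eq h hr h5]
  · rw [e, e11, h.apply_inv, hr]

theorem Row.norm {t : K} {S : Subgroup K} {η : K → ℂ} {d : ℤ} (h : Row t S θ η d) {n : ℕ}
    (κ : K → Fin n) (v : Fin n → ℤ) (c : K → ℤ) (hc : ∀ x, c x = 0 ∨ c x = 1 ∧ ∃ i : Fin 12, x ^ i.1 = t)
    (hv : ∀ x, c x ≠ 0 → θ x = v (κ x)) :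
    ∑ k, (∑ w, if κ w = k then c w else 0) * v k ^ 2 < Nat.card K := by
  have h1 := h.nm (univ.filter (c · ≠ 0)) fun k hk => by
    obtain ⟨-, i, e⟩ := (hc k).resolve_left (mem_filter.1 hk).2
    exact e ▸ npow_mem_zpowers k i
  have h2 := sum_class κ c (fun x => (v (κ x) : ℂ) ^ 2) (fun k => (v k : ℂ) ^ 2) fun _ _ => rfl
  have h3 : ∑ k ∈ univ.filter (c · ≠ 0), ‖θ k‖ ^ 2 = ∑ w, (v (κ w) : ℝ) ^ 2 * c w := by
    rw [sum_filter]
    refine sum_congr rfl fun x _ => ?_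
    split_ifs with e
    · rw [hv x e, Complex.norm_intCast, sq_abs, ((hc x).resolve_left e).1]; simp
    · simp [not_not.1 e]
  have h4 : ∑ w, v (κ w) ^ 2 * c w = ∑ k, (∑ w, if κ w = k then c w else 0) * v k ^ 2 := by
    exact_mod_cast h2
  rw [h3] at h1
  rw [← h4]
  exact_mod_cast h1

end Tools

section Dio

theorem poly {r d a : Fin 3 → ℤ} (hr : ∀ i, r i = 1 ∨ r i = -1) (hd : ∀ i, 0 < d i)
    (h : 1 + ∑ i, (r i : ℚ) * (a i * a i / d i) = 0) :
    r 0 * d 0 * (r 1 * d 1) * (r 2 * d 2) + (r 0 * a 0) ^ 2 * (r 1 * d 1) * (r 2 * d 2) +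
      (r 1 * a 1) ^ 2 * (r 0 * d 0) * (r 2 * d 2) + (r 2 * a 2) ^ 2 * (r 0 * d 0) * (r 1 * d 1) = 0 := by
  rw [Fin.sum_univ_three] at h
  have h0 : (d 0 : ℚ) ≠ 0 := by exact_mod_cast (hd 0).ne'
  have h1 : (d 1 : ℚ) ≠ 0 := by exact_mod_cast (hd 1).ne'
  have h2 : (d 2 : ℚ) ≠ 0 := by exact_mod_cast (hd 2).ne'
  field_simp at h
  have h' : d 0 * d 1 * d 2 + r 0 * a 0 ^ 2 * d 1 * d 2 + r 1 * a 1 ^ 2 * d 0 * d 2 +
      r 2 * a 2 ^ 2 * d 0 * d 1 = 0 := by
    refine Int.cast_injective (α := ℚ) ?_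
    push_cast
    linear_combination h
  rcases hr 0 with e0 | e0 <;> rcases hr 1 with e1 | e1 <;> rcases hr 2 with e2 | e2 <;>
    rw [e0, e1, e2] at h' ⊢ <;> linarith

theorem fac (α : ℤ) {x y w : ℤ} (h1 : 1 + x + y + w = 0) (hw : w ≠ -1)
    (h2 : x * y * w + α * y * w + α * x * w + x * y = 0) : (x + α) * (y + α) = α ^ 2 - α := by
  obtain rfl : w = -1 - x - y := by omega
  refine mul_left_cancel₀ (show x + y ≠ 0 by omega) ?_
  linear_combination -h2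

theorem dio1 {x y w : ℤ} (h2 : x * y * w + y * w + x * w + x * y = 0) (h1 : 1 + x + y + w = 0)
    (hw : w ≠ -1) (hx : x ≠ -1) (hy : y ≠ -1) : False := by
  have := fac 1 h1 hw (by linear_combination h2)
  rcases mul_eq_zero.1 (this.trans (by norm_num)) with e | e <;> omega

theorem dio9 {x y w : ℤ} (h2 : x * y * w + 9 * y * w + 9 * x * w + x * y = 0) (h1 : 1 + x + y + w = 0)
    (hw : w ≠ -1) (hx : x % 16 = 3 ∨ x % 16 = 7 ∨ x % 32 = 27)
    (hy : y % 16 = 1 ∨ y % 16 = 5) (hx' : 15 ≤ x ∨ 15 ≤ -x) (hy' : 15 ≤ y ∨ 15 ≤ -y) : False := by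
  have := fac 9 h1 hw h2
  have h3 := Int.le_of_dvd (by norm_num) ((abs_dvd _ _).2 ⟨_, this.symm⟩)
  rw [abs_le] at h3
  obtain ⟨h3, h4⟩ := h3
  have h5 : -81 ≤ x := by omega
  have h6 : x ≤ 63 := by omega
  interval_cases x <;> omega

theorem dio25 {x y w : ℤ} (h2 : x * y * w + 25 * y * w + 25 * x * w + x * y = 0)
    (h1 : 1 + x + y + w = 0) (hw : w ≠ -1) (hx : x % 32 = 11) (hy : y % 32 = 21) : False := by
  have := fac 25 h1 hw h2
  have h3 := Int.le_of_dvd (by norm_num) ((abs_dvd _ _).2 ⟨_, this.symm⟩)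
  rw [abs_le] at h3
  obtain ⟨h3, h4⟩ := h3
  obtain ⟨k, rfl⟩ : ∃ k, x = 32 * k + 11 := ⟨x / 32, by omega⟩
  have h5 : -20 ≤ k := by omega
  have h6 : k ≤ 18 := by omega
  interval_cases k <;> omega

theorem dioU {x y w : ℤ} (h2 : x * y * w + 25 * y * w + x * w + 9 * x * y = 0)
    (h1 : 1 + x + y + w = 0) (hx : x % 32 = 11) (hy : y % 32 = 25)
    (hw : w % 32 = 27) (hx' : 17 ≤ x ∨ 17 ≤ -x) (hy' : 13 ≤ y ∨ 13 ≤ -y)
    (hw' : 15 ≤ w ∨ 15 ≤ -w) : False := by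
  by_cases e : x = -21
  · obtain rfl : w = 20 - y := by omega
    subst e
    rcases mul_eq_zero.1 (show (y + 7) * (y + 15) = 0 by linarith) with e | e <;> omega
  have a1 : 43 ≤ |x| := by rw [le_abs]; omega
  have a2 : 25 ≤ |y| := by rw [le_abs]; omega
  have a3 : 27 ≤ |w| := by rw [le_abs]; omega
  have a4 : |x| * |y| * |w| ≤ 25 * (|y| * |w|) + |x| * |w| + 9 * (|x| * |y|) := by
    rw [← abs_mul, ← abs_mul, ← abs_mul, ← abs_mul, show x * y * w = -(25 * (y * w) + x * w + 9 * (x * y))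
      by linear_combination h2, abs_neg]
    refine (abs_add_three _ _ _).trans_eq ?_
    simp [abs_mul]
  generalize |x| = p, |y| = q, |w| = s at *
  nlinarith [mul_nonneg (sub_nonneg.2 a1) (by positivity : 0 ≤ q * s),
    mul_nonneg (sub_nonneg.2 a2) (by positivity : 0 ≤ p * s),
    mul_nonneg (sub_nonneg.2 a3) (by positivity : 0 ≤ p * q), (by positivity : 0 < p * q * s)]

theorem row1 {A B C : ℤ} (h1 : A % 2 = 1) (h2 : C % 2 = 1) (h3 : (B - A) % 3 = 0)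
    (h : A ^ 2 + 8 * B ^ 2 + 6 * C ^ 2 + 12 < 48) : (C = 1 ∨ C = -1) ∧
      (A = 3 ∧ B = 0 ∨ A = -3 ∧ B = 0 ∨ A = 1 ∧ B = 1 ∨ A = -1 ∧ B = -1) := by
  have a1 : -6 < A ∧ A < 6 := by constructor <;> nlinarith
  have a2 : -3 < B ∧ B < 3 := by constructor <;> nlinarith
  have a3 : -3 < C ∧ C < 3 := by constructor <;> nlinarith
  obtain ⟨_, _⟩ := a1
  obtain ⟨_, _⟩ := a2
  obtain ⟨_, _⟩ := a3
  interval_cases A <;> interval_cases B <;> interval_cases C <;> omega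

set_option maxHeartbeats 8000000 in
theorem row2 {A B C R Y : ℤ} (h1 : A % 2 = 1) (h2 : (A - C) % 4 = 0) (h3 : (B - A) % 3 = 0)
    (h4 : (R + C) % 4 = 2) (h5 : (Y - R) % 3 = 0) (h6 : (Y - B) % 2 = 0)
    (h : A ^ 2 + 8 * B ^ 2 + 6 * C ^ 2 + 24 + 2 * R ^ 2 + 16 * Y ^ 2 < 96) :
    A = -5 ∧ B = 1 ∧ C = -1 ∧ R = -1 ∨ A = 5 ∧ B = -1 ∧ C = 1 ∧ R = 1 ∨
      A = 1 ∧ B = -2 ∧ C = 1 ∧ R = -3 ∨ A = -1 ∧ B = 2 ∧ C = -1 ∧ R = 3 ∨
      A = 1 ∧ B = 1 ∧ C = 1 ∧ R = 1 ∨ A = -1 ∧ B = -1 ∧ C = -1 ∧ R = -1 ∨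
      A = 3 ∧ B = 0 ∧ C = -1 ∧ R = 3 ∨ A = -3 ∧ B = 0 ∧ C = 1 ∧ R = -3 := by
  have a1 : -9 < A ∧ A < 9 := by constructor <;> nlinarith
  have a2 : -3 < B ∧ B < 3 := by constructor <;> nlinarith
  have a3 : -4 < C ∧ C < 4 := by constructor <;> nlinarith
  have a4 : -6 < R ∧ R < 6 := by constructor <;> nlinarith
  have a5 : -3 < Y ∧ Y < 3 := by constructor <;> nlinarith
  obtain ⟨_, _⟩ := a1
  obtain ⟨_, _⟩ := a2
  obtain ⟨_, _⟩ := a3
  obtain ⟨_, _⟩ := a4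
  obtain ⟨_, _⟩ := a5
  interval_cases A <;> (try omega) <;> interval_cases C <;> (try omega) <;> interval_cases R <;>
    (try omega) <;> interval_cases B <;> (try omega) <;> interval_cases Y <;> omega

/-- `12 + |A| ≤ |X|` -/
def Big (A X : ℤ) : Prop := (12 + A ≤ X ∨ 12 + A ≤ -X) ∧ (12 - A ≤ X ∨ 12 - A ≤ -X)

def R1 (A B C X : ℤ) : Prop := Big A X ∧ (X + 5 * A + 6 * C + 4) % 16 = 0 ∧ (C = 1 ∨ C = -1) ∧
  (A = 3 ∧ B = 0 ∨ A = -3 ∧ B = 0 ∨ A = 1 ∧ B = 1 ∨ A = -1 ∧ B = -1)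

def R2 (A B C R X : ℤ) : Prop := Big A X ∧ (X + 3 * A - 2 * C - 2 * R) % 32 = 0 ∧
  (A = -5 ∧ B = 1 ∧ C = -1 ∧ R = -1 ∨ A = 5 ∧ B = -1 ∧ C = 1 ∧ R = 1 ∨
    A = 1 ∧ B = -2 ∧ C = 1 ∧ R = -3 ∨ A = -1 ∧ B = 2 ∧ C = -1 ∧ R = 3 ∨
    A = 1 ∧ B = 1 ∧ C = 1 ∧ R = 1 ∨ A = -1 ∧ B = -1 ∧ C = -1 ∧ R = -1 ∨
    A = 3 ∧ B = 0 ∧ C = -1 ∧ R = 3 ∨ A = -3 ∧ B = 0 ∧ C = 1 ∧ R = -3)

set_option maxHeartbeats 8000000 in
theorem glob1 {A0 B0 C0 X0 A1 B1 C1 X1 A2 B2 C2 X2 : ℤ} (h0 : R1 A0 B0 C0 X0) (h1 : R1 A1 B1 C1 X1)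
    (h2 : R1 A2 B2 C2 X2) (s1 : 1 + (A0 + A1 + A2) = 0) (s2 : 1 + (B0 + B1 + B2) = 0)
    (s3 : 1 + (X0 + X1 + X2) = 0)
    (e : X0 * X1 * X2 + A0 ^ 2 * X1 * X2 + A1 ^ 2 * X0 * X2 + A2 ^ 2 * X0 * X1 = 0) : False := by
  obtain ⟨⟨b0, b0'⟩, x0, c0, ⟨rfl, rfl⟩ | ⟨rfl, rfl⟩ | ⟨rfl, rfl⟩ | ⟨rfl, rfl⟩⟩ := h0 <;>
  obtain ⟨⟨b1, b1'⟩, x1, c1, ⟨rfl, rfl⟩ | ⟨rfl, rfl⟩ | ⟨rfl, rfl⟩ | ⟨rfl, rfl⟩⟩ := h1 <;>
  obtain ⟨⟨b2, b2'⟩, x2, c2, ⟨rfl, rfl⟩ | ⟨rfl, rfl⟩ | ⟨rfl, rfl⟩ | ⟨rfl, rfl⟩⟩ := h2 <;> first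
    | exact absurd s1 (by decide)
    | exact absurd s2 (by decide)
    | exact dio1 (x := X0) (y := X1) (w := X2) (by linear_combination e) (by omega) (by omega)
        (by omega) (by omega)
    | exact dio9 (x := X0) (y := X1) (w := X2) (by linear_combination e)
        (by omega) (by omega) (by omega) (by omega) (by omega) (by omega)
    | exact dio9 (x := X0) (y := X2) (w := X1) (by linear_combination e)
        (by omega) (by omega) (by omega) (by omega) (by omega) (by omega)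
    | exact dio9 (x := X1) (y := X0) (w := X2) (by linear_combination e)
        (by omega) (by omega) (by omega) (by omega) (by omega) (by omega)
    | exact dio9 (x := X1) (y := X2) (w := X0) (by linear_combination e)
        (by omega) (by omega) (by omega) (by omega) (by omega) (by omega)
    | exact dio9 (x := X2) (y := X0) (w := X1) (by linear_combination e)
        (by omega) (by omega) (by omega) (by omega) (by omega) (by omega)
    | exact dio9 (x := X2) (y := X1) (w := X0) (by linear_combination e)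
        (by omega) (by omega) (by omega) (by omega) (by omega) (by omega)

set_option maxHeartbeats 8000000 in
theorem glob2 {A0 B0 C0 R0 X0 A1 B1 C1 R1 X1 A2 B2 C2 R2' X2 : ℤ} (h0 : R2 A0 B0 C0 R0 X0)
    (h1 : R2 A1 B1 C1 R1 X1) (h2 : R2 A2 B2 C2 R2' X2) (s1 : 1 + (A0 + A1 + A2) = 0)
    (s2 : 1 + (B0 + B1 + B2) = 0) (s4 : 1 + (C0 + C1 + C2) = 0) (s3 : 1 + (X0 + X1 + X2) = 0)
    (e : X0 * X1 * X2 + A0 ^ 2 * X1 * X2 + A1 ^ 2 * X0 * X2 + A2 ^ 2 * X0 * X1 = 0) : False := by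
  obtain ⟨⟨b0, b0'⟩, x0, ⟨rfl, rfl, rfl, rfl⟩ | ⟨rfl, rfl, rfl, rfl⟩ | ⟨rfl, rfl, rfl, rfl⟩ |
    ⟨rfl, rfl, rfl, rfl⟩ | ⟨rfl, rfl, rfl, rfl⟩ | ⟨rfl, rfl, rfl, rfl⟩ | ⟨rfl, rfl, rfl, rfl⟩ |
    ⟨rfl, rfl, rfl, rfl⟩⟩ := h0 <;>
  obtain ⟨⟨b1, b1'⟩, x1, ⟨rfl, rfl, rfl, rfl⟩ | ⟨rfl, rfl, rfl, rfl⟩ | ⟨rfl, rfl, rfl, rfl⟩ |
    ⟨rfl, rfl, rfl, rfl⟩ | ⟨rfl, rfl, rfl, rfl⟩ | ⟨rfl, rfl, rfl, rfl⟩ | ⟨rfl, rfl, rfl, rfl⟩ |
    ⟨rfl, rfl, rfl, rfl⟩⟩ := h1 <;>
  obtain ⟨⟨b2, b2'⟩, x2, ⟨rfl, rfl, rfl, rfl⟩ | ⟨rfl, rfl, rfl, rfl⟩ | ⟨rfl, rfl, rfl, rfl⟩ |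
    ⟨rfl, rfl, rfl, rfl⟩ | ⟨rfl, rfl, rfl, rfl⟩ | ⟨rfl, rfl, rfl, rfl⟩ | ⟨rfl, rfl, rfl, rfl⟩ |
    ⟨rfl, rfl, rfl, rfl⟩⟩ := h2 <;>
  first
    | exact absurd s1 (by decide)
    | exact absurd s2 (by decide)
    | exact absurd s4 (by decide)
    | exact dio1 (x := X0) (y := X1) (w := X2) (by linear_combination e) (by omega) (by omega)
        (by omega) (by omega)
    | exact dio9 (x := X0) (y := X1) (w := X2) (by linear_combination e)
        (by omega) (by omega) (by omega) (by omega) (by omega) (by omega)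
    | exact dio9 (x := X0) (y := X2) (w := X1) (by linear_combination e)
        (by omega) (by omega) (by omega) (by omega) (by omega) (by omega)
    | exact dio9 (x := X1) (y := X0) (w := X2) (by linear_combination e)
        (by omega) (by omega) (by omega) (by omega) (by omega) (by omega)
    | exact dio9 (x := X1) (y := X2) (w := X0) (by linear_combination e)
        (by omega) (by omega) (by omega) (by omega) (by omega) (by omega)
    | exact dio9 (x := X2) (y := X0) (w := X1) (by linear_combination e)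
        (by omega) (by omega) (by omega) (by omega) (by omega) (by omega)
    | exact dio9 (x := X2) (y := X1) (w := X0) (by linear_combination e)
        (by omega) (by omega) (by omega) (by omega) (by omega) (by omega)
    | exact dio25 (x := X0) (y := X1) (w := X2) (by linear_combination e)
        (by omega) (by omega) (by omega) (by omega)
    | exact dio25 (x := X0) (y := X2) (w := X1) (by linear_combination e)
        (by omega) (by omega) (by omega) (by omega)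
    | exact dio25 (x := X1) (y := X0) (w := X2) (by linear_combination e)
        (by omega) (by omega) (by omega) (by omega)
    | exact dio25 (x := X1) (y := X2) (w := X0) (by linear_combination e)
        (by omega) (by omega) (by omega) (by omega)
    | exact dio25 (x := X2) (y := X0) (w := X1) (by linear_combination e)
        (by omega) (by omega) (by omega) (by omega)
    | exact dio25 (x := X2) (y := X1) (w := X0) (by linear_combination e)
        (by omega) (by omega) (by omega) (by omega)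
    | exact dioU (x := X0) (y := X1) (w := X2) (by linear_combination e)
        (by omega) (by omega) (by omega) (by omega) (by omega) (by omega) (by omega)
    | exact dioU (x := X0) (y := X2) (w := X1) (by linear_combination e)
        (by omega) (by omega) (by omega) (by omega) (by omega) (by omega) (by omega)
    | exact dioU (x := X1) (y := X0) (w := X2) (by linear_combination e)
        (by omega) (by omega) (by omega) (by omega) (by omega) (by omega) (by omega)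
    | exact dioU (x := X1) (y := X2) (w := X0) (by linear_combination e)
        (by omega) (by omega) (by omega) (by omega) (by omega) (by omega) (by omega)
    | exact dioU (x := X2) (y := X0) (w := X1) (by linear_combination e)
        (by omega) (by omega) (by omega) (by omega) (by omega) (by omega) (by omega)
    | exact dioU (x := X2) (y := X1) (w := X0) (by linear_combination e)
        (by omega) (by omega) (by omega) (by omega) (by omega) (by omega) (by omega)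

theorem big {r a d : ℤ} (hr : r = 1 ∨ r = -1) (h : ¬ d - |a| < 12) : Big (r * a) (r * d) := by
  have := le_abs_self a
  have := neg_abs_le a
  rcases hr with rfl | rfl <;> constructor <;> omega

end Dio

end H17.NG
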