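import Mathlib
import Cfsg.Agent.H17.NG4
import Cfsg.Agent.H4.GD13

/-! Killing the core when `C(t) / O(C(t))` is `GL₂(3)` or `GU₂(3)`. -/

set_option autoImplicit false
set_option linter.unusedSectionVars false
set_option maxRecDepth 100000

open Cfsg H4 Subgroup Finset
open scoped ComplexConjugate

namespace H17.NG

open TG

section Gen

variable {K : Type*} [Group K] [Fintype K] {θ η : K → ℂ} {t : K} {S : Subgroup K} {d : ℤ} {n : ℕ}

structure Cls (t : K) (κ : K → Fin n) (rep : Fin n → K) (ty : Fin n → ℕ) : Prop where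
  cj : ∀ x, ∃ g, g * rep (κ x) * g⁻¹ = x ∨ g * rep (κ x) * g⁻¹ = x⁻¹
  pw : ∀ x, ty (κ x) = 2 → ∃ i : Fin 12, x ^ i.1 = t

variable {κ : K → Fin n} {rep : Fin n → K} {ty : Fin n → ℕ}

theorem Row.lin (h : Row t S θ η d) (hc : Cls t κ rep ty) {v : Fin n → ℤ}
    (hv : ∀ k, (ty k = 0 → v k = d) ∧ (ty k = 1 → θ t = v k) ∧ (ty k = 2 → θ (rep k) = v k))
    (c : K → ℤ) (wt : Fin n → ℤ) (h1 : ∀ x, c x ≠ 0 → x ∈ S ∧ (x = 1 ∧ ty (κ x) = 0 ∨
      x * x = 1 ∧ x ≠ 1 ∧ ty (κ x) = 1 ∨ ty (κ x) = 2))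
    (h2 : ∀ k, (∑ w, if κ w = k then c w else 0) = wt k) :
    ∑ x, η x * c x = (∑ k, wt k * v k : ℤ) := by
  rw [sum_class κ c η (fun k => v k) fun x hx => ?_]
  · simp only [h2]; push_cast; rfl
  obtain ⟨hS, ⟨rfl, e⟩ | ⟨e1, e2, e⟩ | e⟩ := h1 x hx
  · rw [h.one, (hv _).1 e]
  · rw [h.inv x hS e1 e2, (hv _).2.1 e]
  · obtain ⟨i, hi⟩ := hc.pw x e
    rw [h.eqD x hS (hi ▸ npow_mem_zpowers x i), cls_eq h.ch h.re (hc.cj x), (hv _).2.2 e]

theorem Row.nrm (h : Row t S θ η d) (hc : Cls t κ rep ty) {v : Fin n → ℤ}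
    (hv : ∀ k, (ty k = 0 → v k = d) ∧ (ty k = 1 → θ t = v k) ∧ (ty k = 2 → θ (rep k) = v k))
    (wt : Fin n → ℤ) (h2 : ∀ k, (∑ w, if κ w = k then (if ty (κ w) = 2 then 1 else 0) else 0) = wt k) :
    ∑ k, wt k * v k ^ 2 < Nat.card K := by
  have := h.norm κ v (fun w => if ty (κ w) = 2 then 1 else 0) (fun x => by
    split_ifs with e
    exacts [Or.inr ⟨rfl, hc.pw x e⟩, Or.inl rfl]) fun x hx => by
      rw [cls_eq h.ch h.re (hc.cj x), (hv _).2.2 (by simpa using hx)]
  simpa only [h2] using this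

theorem sum_at {θ : Fin 3 → K → ℂ} {r b : Fin 3 → ℤ} {k : K}
    (h : ∀ k, t ∈ zpowers k → k ^ 12 = 1 → 1 + ∑ i, r i * θ i k = 0) (hb : ∀ i, θ i k = b i)
    (hk : (∃ i : Fin 12, k ^ i.1 = t) ∧ k ^ 12 = 1) : 1 + (r 0 * b 0 + r 1 * b 1 + r 2 * b 2) = 0 := by
  obtain ⟨⟨i, hi⟩, hk⟩ := hk
  have := h k (hi ▸ npow_mem_zpowers k i) hk
  simp only [hb, Fin.sum_univ_three] at this
  exact_mod_cast this

end Gen

def κ1 (x : K1) : Fin 7 := Fin.ofNat 7
  (0x665665555665665556656655423243331432342222342340 >>> (4 * x.val) % 16)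
def rep1 : Fin 7 → K1 := ![mk 0, mk 15, mk 9, mk 21, mk 10, mk 24, mk 26]
def ty1 : Fin 7 → ℕ := ![0, 2, 3, 2, 2, 1, 2]

theorem cls1 : Cls (mk 15) κ1 rep1 ty1 := ⟨by decide +kernel, by decide +kernel⟩

theorem row_one {θ η : K1 → ℂ} {d a r : ℤ} (h : Row (mk 15) S1 θ η d) (ha : θ (mk 15) = a)
    (hw : θ (mk 26) = r) (hr : r = 1 ∨ r = -1) (hb : ¬ d - |a| < 12) :
    ∃ b c : ℤ, θ (mk 21) = b ∧ R1 (r * a) (r * b) (r * c) (r * d) := by
  obtain ⟨b, eb⟩ := int_val h.ch h.re (x := mk 21) (by decide +kernel) (by decide +kernel)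
  obtain ⟨c, ec⟩ := int_val h.ch h.re (x := mk 10) (by decide +kernel) (by decide +kernel)
  have hv : ∀ k, (ty1 k = 0 → ![d, a, 0, b, c, a, r] k = d) ∧
      (ty1 k = 1 → θ (mk 15) = (![d, a, 0, b, c, a, r] k : ℤ)) ∧
      (ty1 k = 2 → θ (rep1 k) = (![d, a, 0, b, c, a, r] k : ℤ)) := fun k => by
    fin_cases k <;> simp [ty1, rep1, ha, hw, eb, ec]
  have p1 := par h.ch hw (by rw [show (mk 26 * mk 26 : K1) = mk 10 by decide +kernel, ec])
  have p2 := par h.ch ec (by rw [show (mk 10 * mk 10 : K1) = mk 15 by decide +kernel, ha])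
  have p3 := cong3 h.ch (y := mk 9) (by decide +kernel) (by decide +kernel) (by decide +kernel) ha
    (by rw [show (mk 15 * mk 9 : K1) = mk 21 by decide +kernel, eb])
  obtain ⟨N, hN⟩ := sum_lin S1 h.ch' h.re' (fun _ => 1) (fun _ => 0) ⟨rfl, rfl⟩ (by simp)
  rw [h.lin cls1 hv _ ![1, 1, 0, 0, 6, 4, 4] (by decide +kernel) (by decide +kernel), card_sub,
    show (univ.filter (· ∈ S1)).card = 16 by decide +kernel] at hN
  have p4 : d + a + 6 * c + 4 * a + 4 * r = 16 * N := by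
    have : (∑ k, (![1, 1, 0, 0, 6, 4, 4] : Fin 7 → ℤ) k * ![d, a, 0, b, c, a, r] k) = 16 * N := by
      exact_mod_cast hN
    simp [Fin.sum_univ_succ] at this
    omega
  have p5 := h.nrm cls1 hv ![0, 1, 0, 8, 6, 0, 12] (by decide +kernel)
  rw [TG.card] at p5
  simp [Fin.sum_univ_succ] at p5
  refine ⟨b, c, eb, big hr hb, ?_⟩
  rcases hr with rfl | rfl
  · exact ⟨by omega, row1 (by omega) (by omega) (by omega) (by linarith)⟩
  · exact ⟨by omega, row1 (by omega) (by omega) (by omega) (by linarith)⟩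

theorem arith1 : Arith (mk 15) S1 (mk 26) := fun θ η d a r h s1 s2 s3 => by
  by_contra hc
  push Not at hc
  choose b c eb hR using fun i => row_one (h i).1 (h i).2.1 (h i).2.2.1 (h i).2.2.2.1 (hc i).not_gt
  exact glob1 (hR 0) (hR 1) (hR 2) (sum_at s2 (fun i => (h i).2.1) (by decide +kernel))
    (sum_at s2 eb (by decide +kernel)) (by rwa [Fin.sum_univ_three] at s1)
    (poly (fun i => (h i).2.2.2.1) (fun i => (h i).2.2.2.2) s3)

def κ2 (x : K2) : Fin 11 := Fin.ofNat 11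
  (0x9a6a6969a69a9a6a66666669788858885588878888858855a6966696a66669a6aa96a969423243331432342222342340
    >>> (4 * x.val) % 16)
def rep2 : Fin 11 → K2 := ![mk 0, mk 15, mk 9, mk 21, mk 23, mk 48, mk 25, mk 71, mk 56, mk 24, mk 39]
def ty2 : Fin 11 → ℕ := ![0, 2, 3, 2, 2, 1, 2, 2, 2, 3, 3]
def reD (x : K2) : ℤ := if x.val / 24 = 0 then 1 else if x.val / 24 = 2 then -1 else 0
def imD (x : K2) : ℤ := if x.val / 24 = 1 then 1 else if x.val / 24 = 3 then -1 else 0
def sg (x : K2) : ℤ := if x ∈ E2 then 1 else -1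

theorem cls2 : Cls (mk 15) κ2 rep2 ty2 := ⟨by decide +kernel, by decide +kernel⟩

theorem row_two {θ η : K2 → ℂ} {d a r : ℤ} (h : Row (mk 15) S2 θ η d) (ha : θ (mk 15) = a)
    (hw : θ (mk 25) = r) (hr : r = 1 ∨ r = -1) (hb : ¬ d - |a| < 12) :
    ∃ b c R : ℤ, θ (mk 21) = b ∧ θ (mk 23) = c ∧ R2 (r * a) (r * b) (r * c) (r * R) (r * d) := by
  obtain ⟨b, eb⟩ := int_val h.ch h.re (x := mk 21) (by decide +kernel) (by decide +kernel)
  obtain ⟨c, ec⟩ := int_val h.ch h.re (x := mk 23) (by decide +kernel) (by decide +kernel)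
  obtain ⟨R, eR⟩ := int_val h.ch h.re (x := mk 71) (by decide +kernel) (by decide +kernel)
  obtain ⟨Y, eY⟩ := int_val h.ch h.re (x := mk 56) (by decide +kernel) (by decide +kernel)
  have hv : ∀ k, (ty2 k = 0 → ![d, a, 0, b, c, a, r, R, Y, 0, 0] k = d) ∧
      (ty2 k = 1 → θ (mk 15) = (![d, a, 0, b, c, a, r, R, Y, 0, 0] k : ℤ)) ∧
      (ty2 k = 2 → θ (rep2 k) = (![d, a, 0, b, c, a, r, R, Y, 0, 0] k : ℤ)) := fun k => by
    fin_cases k <;> simp [ty2, rep2, ha, hw, eb, ec, eR, eY]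
  have p1 := par h.ch hw ((cls_eq h.ch h.re (by decide +kernel)).trans eR)
  have p2 := par h.ch eR ((cls_eq h.ch h.re (by decide +kernel)).trans ha)
  have p2' := par h.ch eY ((cls_eq h.ch h.re (by decide +kernel)).trans eb)
  have p3 := cong3 h.ch (y := mk 9) (by decide +kernel) (by decide +kernel) (by decide +kernel) ha
    ((cls_eq h.ch h.re (by decide +kernel)).trans eb)
  have p3' := cong3 h.ch (y := mk 9) (by decide +kernel) (by decide +kernel) (by decide +kernel) eR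
    ((cls_eq h.ch h.re (by decide +kernel)).trans eY)
  have c32 : Nat.card S2 = 32 := by rw [card_sub]; decide +kernel
  obtain ⟨N1, h1⟩ := sum_lin S2 h.ch' h.re' reD imD (by decide +kernel) (by decide +kernel)
  obtain ⟨N2, h2⟩ := sum_lin S2 h.ch' h.re' (fun x => reD x * sg x) (fun x => imD x * sg x)
    (by decide +kernel) (by decide +kernel)
  obtain ⟨N3, h3⟩ := sum_lin S2 h.ch' h.re' (fun _ => 1) (fun _ => 0) ⟨rfl, rfl⟩ (by simp)
  obtain ⟨N4, h4⟩ := sum_lin S2 h.ch' h.re' (fun x => (reD x ^ 2 - imD x ^ 2) * sg x) (fun _ => 0)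
    (by decide +kernel) (by decide +kernel)
  have h5 := h.lin cls2 hv (fun x => (if x ∈ S2 then 1 else 0) +
    if x ∈ S2 then (reD x ^ 2 - imD x ^ 2) * sg x else 0) ![2, 2, 0, 0, 4, 4, 16, 4, 0, 0, 0]
    (by decide +kernel) (by decide +kernel)
  simp only [Int.cast_add, mul_add, sum_add_distrib, h3, h4] at h5
  rw [h.lin cls2 hv _ ![1, 1, 0, 0, 6, -6, 0, -2, 0, 0, 0] (by decide +kernel) (by decide +kernel)] at h1
  rw [h.lin cls2 hv _ ![1, 1, 0, 0, -2, 2, 0, -2, 0, 0, 0] (by decide +kernel) (by decide +kernel)] at h2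
  rw [c32] at h1 h2 h5
  norm_cast at h1 h2 h5
  have p5 := h.nrm cls2 hv ![0, 1, 0, 8, 6, 0, 24, 2, 16, 0, 0] (by decide +kernel)
  rw [TG.card] at p5
  simp [Fin.sum_univ_succ] at p5 h1 h2 h5
  refine ⟨b, c, R, eb, ec, big hr hb, ?_⟩
  rcases hr with rfl | rfl
  · exact ⟨by omega, row2 (Y := Y) (by omega) (by omega) (by omega) (by omega) (by omega) (by omega)
      (by linarith)⟩
  · exact ⟨by omega, row2 (Y := -Y) (by omega) (by omega) (by omega) (by omega) (by omega) (by omega)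
      (by linarith)⟩

theorem arith2 : Arith (mk 15) S2 (mk 25) := fun θ η d a r h s1 s2 s3 => by
  by_contra hc
  push Not at hc
  choose b c R eb ec hR using fun i =>
    row_two (h i).1 (h i).2.1 (h i).2.2.1 (h i).2.2.2.1 (hc i).not_gt
  exact glob2 (hR 0) (hR 1) (hR 2) (sum_at s2 (fun i => (h i).2.1) (by decide +kernel))
    (sum_at s2 eb (by decide +kernel)) (sum_at s2 ec (by decide +kernel))
    (by rwa [Fin.sum_univ_three] at s1) (poly (fun i => (h i).2.2.2.1) (fun i => (h i).2.2.2.2) s3)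

def N3 : NP := ⟨3, 3, 1, 4, 2, -1, Nat.prime_three, by decide, by decide, rfl, Or.inr rfl, rfl, rfl⟩

instance decTop : DecidablePred (· ∈ (⊤ : Subgroup K2)) := fun _ => isTrue trivial

def D2 : GD K2 N3 where
  H := ⊤
  Z := Z2
  T := E2
  W := W2
  X := X2
  S := W2
  t := mk 15
  u := mk 48
  w := mk 49
  v := mk 48
  hS := Or.inr ⟨rfl, rfl⟩
  cZ := ⟨1, odd_one, by rw [card_sub]; decide +kernel⟩
  cT := by rw [card_sub, card_sub]; decide +kernel
  cW := by rw [card_sub, card_sub]; decide +kernel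
  cX := by rw [card_sub]; decide +kernel
  cH := by rw [card_sub, card_sub]; decide +kernel
  Z_le_T := fun x => by revert x; decide +kernel
  Z_le_W := fun x => by revert x; decide +kernel
  T_le := le_top
  W_le := le_top
  X_le := le_top
  Z_comm := by decide +kernel
  t_mem := by decide +kernel
  t_ne := by decide +kernel
  t_sq := by decide +kernel
  cycT := ⟨mk 24, by decide +kernel, fun y hy => by
    obtain ⟨k, h⟩ := (by decide +kernel : ∀ y ∈ E2, ∃ k : Fin 4, ∃ z ∈ Z2, y = mk 24 ^ k.1 * z) y hy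
    exact ⟨k, h⟩⟩
  cycW := ⟨mk 25, by decide +kernel, fun y hy => by
    obtain ⟨k, h⟩ := (by decide +kernel : ∀ y ∈ W2, ∃ k : Fin 8, y = mk 25 ^ k.1) y hy
    exact ⟨k, h⟩⟩
  X_comm := by decide +kernel
  X_pow := by decide +kernel
  cent_T := by decide +kernel
  cent_W := by decide +kernel
  cent_X := by decide +kernel
  u_mem := by decide +kernel
  u_not := by decide +kernel
  u_sq := by decide +kernel
  w_mem := trivial
  w_not := by decide +kernel
  w_sq := by decide +kernel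
  w_inv := by decide +kernel
  w_onto := by decide +kernel
  norm_T := by decide +kernel
  v_mem := trivial
  v_not := by decide +kernel
  v_sq := by decide +kernel
  v_inv := by decide +kernel
  v_onto := by decide +kernel
  norm_W := by decide +kernel
  S_norm := by decide +kernel
  norm_X := by decide +kernel

section Ident

variable {G : Type*} [Group G] [Finite G] [IsSimpleGroup G] {t : G}

theorem mem_zp {K : Type*} [Group K] {x y : K} (h : ∃ i : Fin 12, x ^ i.1 = y) : y ∈ zpowers x :=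
  let ⟨i, hi⟩ := h; hi ▸ npow_mem_zpowers x i

theorem St.of_bar (ht : orderOf t = 2) {K : Type*} [Group K] [Finite K]
    (e : (centralizer ({t} : Set G) ⧸ oddCore (centralizer ({t} : Set G))) ≃* K) {τ : K}
    (hτ : ∀ x : K, x * x = 1 → x ≠ 1 → (∀ y, y * x = x * y) → x = τ) :
    ∃ π : centralizer ({t} : Set G) →* K, St t π ∧ π (selfC t) = τ := by
  have := Fintype.ofFinite G
  let π := e.toMonoidHom.comp (QuotientGroup.mk' (oddCore (centralizer ({t} : Set G))))
  have hk : π.ker = oddCore _ := by ext; simp [π]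
  have h : St t π := ⟨sq_of_orderOf_two ht, ne_one_of_orderOf ht (by decide),
    e.surjective.comp (QuotientGroup.mk'_surjective _), hk ▸ H17.odd_card_pPrimeCore⟩
  refine ⟨π, h, hτ _ ?_ (fun e1 => ?_) fun y => ?_⟩
  · rw [← map_mul, show selfC t * selfC t = 1 from Subtype.ext h.t2, map_one]
  · have := h.pow_card (x := 1) (by rw [map_one, e1])
    exact h.t1 (by simpa using this.symm)
  · obtain ⟨y, rfl⟩ := h.surj y
    rw [← map_mul, ← map_mul]
    exact congrArg π (Subtype.ext (mem_cent.1 y.2))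

theorem ident1 (ht : orderOf t = 2)
    (hone : ∀ s : centralizer ({t} : Set G), s * s = 1 → s ≠ 1 → IsConj (s : G) t)
    (e : (centralizer ({t} : Set G) ⧸ oddCore (centralizer ({t} : Set G))) ≃* K1) :
    Nonempty (G ≃* Matrix.ProjectiveSpecialLinearGroup (Fin 3) (ZMod 3)) ∨ Nat.card G = 7920 := by
  have := Fintype.ofFinite G
  obtain ⟨π, h, hτ⟩ := St.of_bar ht e (τ := mk 15) (by decide +kernel)
  have hk := h.ker_eq_bot hone (S := S1) (IsPGroup.of_card (n := 4) (by rw [card_sub]; decide +kernel))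
    (w := mk 26) (by decide +kernel) (by decide +kernel) (hτ ▸ by decide +kernel)
    (fun x hx => mem_zp (by revert x; decide +kernel)) (by rw [isConj_iff]; decide +kernel)
    (Or.inl (by rw [isConj_iff]; decide +kernel)) (Q := Q1) (by rw [card_sub]; decide +kernel)
    (hτ ▸ by decide +kernel) (fun q hq h1 => hτ ▸ mem_zp (by revert q; decide +kernel))
    (by decide +kernel) (hτ ▸ arith1)
  exact gl2_centralizer (by decide) ⊥ bot_le (by simp) t ht ⟨((MulEquiv.ofBijective π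
    ⟨(MonoidHom.ker_eq_bot_iff π).1 hk, h.surj⟩).trans (MulEquiv.ofBijective _ toGL_bij)).trans
      QuotientGroup.quotientBot.symm⟩

theorem ident2 (ht : orderOf t = 2)
    (hone : ∀ s : centralizer ({t} : Set G), s * s = 1 → s ≠ 1 → IsConj (s : G) t)
    (e : (centralizer ({t} : Set G) ⧸ oddCore (centralizer ({t} : Set G))) ≃* K2)
    (F : Type*) [Field F] [Fintype F] (hF : Fintype.card F = 9) : Nonempty (G ≃* PSU 3 F 3) := by
  have := Fintype.ofFinite G
  obtain ⟨π, h, hτ⟩ := St.of_bar ht e (τ := mk 15) (by decide +kernel)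
  have hk := h.ker_eq_bot hone (S := S2) (IsPGroup.of_card (n := 5) (by rw [card_sub]; decide +kernel))
    (w := mk 25) (by decide +kernel) (by decide +kernel) (hτ ▸ by decide +kernel)
    (fun x hx => mem_zp (by revert x; decide +kernel)) (by rw [isConj_iff]; decide +kernel)
    (Or.inr (by rw [isConj_iff]; decide +kernel)) (Q := Q2) (by rw [card_sub]; decide +kernel)
    (hτ ▸ by decide +kernel) (fun q hq h1 => hτ ▸ mem_zp (by revert q; decide +kernel))
    (by decide +kernel) (hτ ▸ arith2)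
  obtain ⟨D, h, -⟩ := GD.exists_full.{_, _, 0} D2 rfl (by
    ext x; rw [mem_center_iff]; revert x; change ∀ x, x ∈ Z2 ↔ _; decide +kernel) ⊥ bot_le (by simp) ht
    ((MulEquiv.ofBijective π ⟨(MonoidHom.ker_eq_bot_iff π).1 hk, h.surj⟩).trans
      QuotientGroup.quotientBot.symm)
  have hg := h.cfg.g_list h.cfg.dvd_three
  refine h.cfg.psu rfl h.cfg.dvd_three (h.cfg.cent_W' h.cfg.dvd_three) ?_ F hF
  rw [show N3.ε = -1 from rfl] at hg
  rcases hg with e | e | e
  exacts [Or.inl (by rw [e]; ring), Or.inr (Or.inl (by rw [e]; ring)), Or.inr (Or.inr e.2)]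

end Ident

end H17.NG
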