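import Mathlib
import Cfsg.Agent.H17.NG3
import Cfsg.Agent.H22.QD

/-! A core-free group with quasi-dihedral or wreathed Sylow 2-subgroups and commutator subgroup
`SL₂(3)` is `GL₂(3)` or `GU₂(3)`. -/

set_option autoImplicit false
set_option linter.unusedSectionVars false
set_option maxRecDepth 100000

open Cfsg Subgroup H22

namespace H17.NG

open TG

structure Emb {K : Type*} [Group K] (j : L3 →* K) : Prop where
  inj : Function.Injective j
  nrm : j.range.Normal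

section
variable {K K₀ : Type*} [Group K] [Group K₀] {j : L3 →* K} {i : L3 →* K₀}

/-- the conjugation action on `L3` -/
noncomputable def Emb.cj (h : Emb j) : K →* MulAut L3 :=
  haveI := h.nrm
  (MulAut.congr (MonoidHom.ofInjective h.inj)).symm.toMonoidHom.comp MulAut.conjNormal

theorem Emb.cj_spec (h : Emb j) (k : K) (l : L3) : j (h.cj k l) = k * j l * k⁻¹ :=
  MonoidHom.apply_ofInjective_symm h.inj _

theorem Emb.cj_eq (h : Emb j) {x y : K} : h.cj x = h.cj y ↔ ∀ l, x * j l * x⁻¹ = y * j l * y⁻¹ :=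
  ⟨fun e l => by rw [← h.cj_spec, e, h.cj_spec], fun e => MulEquiv.ext fun l => h.inj (by
    rw [h.cj_spec, h.cj_spec, e])⟩

theorem Emb.cj_one (h : Emb j) {x : K} : h.cj x = 1 ↔ ∀ l, x * j l * x⁻¹ = j l := by
  rw [← map_one h.cj, h.cj_eq]; simp

theorem Emb.cj_j (h : Emb j) (l : L3) : h.cj (j l) = MulAut.conj l :=
  MulEquiv.ext fun x => h.inj (by simp [h.cj_spec])

structure Mdl (i : L3 →* K₀) (s : K₀) (m : ℕ) (β : L3 → L3) (lam : K₀ → L3) (e : K₀ → ℕ) : Prop where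
  inj : ∀ l, i l = 1 → l = 1
  nrm : ∀ g l, ∃ l', i l' = g * i l * g⁻¹
  aut : ∀ a b : L3, a * b * a = b * a * b → a ^ 3 = 1 → a ≠ b →
    ∃ g, i a = g * i (TG.mk 9) * g⁻¹ ∧ i b = g * i (TG.mk 8) * g⁻¹
  min : ∀ x, x ≠ 1 → ∃ g, ∃ n : Fin 12, x ^ n.1 = i (TG.mk 15) ∨ (g * x * g⁻¹ * x⁻¹) ^ n.1 = i (TG.mk 15)
  hβ : ∀ l, s * i l * s⁻¹ = i (β l)
  mul : ∀ x y, lam (x * y) = lam x * β^[e x] (lam y) ∧ e (x * y) = (e x + e y) % m
  hi : ∀ l, lam (i l) = l ∧ e (i l) = 0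
  hs : lam s = 1 ∧ e s = 1

variable {s₀ : K₀} {m : ℕ} {β : L3 → L3} {lam : K₀ → L3} {e : K₀ → ℕ}

theorem Mdl.emb (M : Mdl i s₀ m β lam e) : Emb i :=
  ⟨(injective_iff_map_eq_one _).2 M.inj, ⟨by rintro _ ⟨l, rfl⟩ g; exact M.nrm g l⟩⟩

theorem Mdl.surj (M : Mdl i s₀ m β lam e) (φ : MulAut L3) : ∃ g, M.emb.cj g = φ := by
  obtain ⟨g, h1, h2⟩ := M.aut (φ (TG.mk 9)) (φ (TG.mk 8))
    (by simp only [← map_mul]; exact congrArg φ (by decide +kernel))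
    (by rw [← map_pow, ← map_one φ]; exact congrArg φ (by decide +kernel))
    (φ.injective.ne (by decide +kernel))
  rw [← M.emb.cj_spec, M.emb.inj.eq_iff] at h1 h2
  refine ⟨g, MulEquiv.ext fun l => ?_⟩
  obtain ⟨a, b, c, d, rfl⟩ := (by decide +kernel : ∀ l : L3, ∃ a b c d : Fin 3,
    l = TG.mk 9 ^ a.1 * TG.mk 8 ^ b.1 * TG.mk 9 ^ c.1 * TG.mk 8 ^ d.1) l
  simp only [map_mul, map_pow, h1, h2]

theorem Mdl.iso (M : Mdl i s₀ m β lam e) (h : Emb j) {s : K} (hs : s ^ m = 1)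
    (hα : h.cj s = M.emb.cj s₀)
    (hC : ∀ H : Subgroup K, j.range ≤ H → s ∈ H → ∀ c, h.cj c = 1 → c ∈ H) : Nonempty (K ≃* K₀) := by
  have h1 : ∀ l, s * j l = j (β l) * s := fun l => by
    rw [← mul_inv_eq_iff_eq_mul, ← h.cj_spec, hα, M.emb.inj ((M.emb.cj_spec s₀ l).trans (M.hβ l))]
  have h2 : ∀ n l, s ^ n * j l = j (β^[n] l) * s ^ n := fun n => by
    induction n with
    | zero => simp
    | succ n ih => intro l; rw [pow_succ, mul_assoc, h1, ← mul_assoc, ih, mul_assoc]; rfl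
  let φ : K₀ →* K := MonoidHom.mk' (fun x => j (lam x) * s ^ e x) fun x y => by
    rw [(M.mul x y).1, (M.mul x y).2, ← pow_eq_pow_mod _ hs, map_mul, pow_add, mul_assoc, mul_assoc,
      ← mul_assoc (s ^ e x), h2, mul_assoc]
  have hi : ∀ l, φ (i l) = j l := fun l => by simp [φ, M.hi]
  have h3 : ∀ g, h.cj (φ g) = M.emb.cj g := fun g => MulEquiv.ext fun l => h.inj (by
    rw [h.cj_spec, ← hi, ← hi, M.emb.cj_spec]; simp)
  refine ⟨(MulEquiv.ofBijective φ ⟨(injective_iff_map_eq_one _).2 fun x hx => ?_, fun k => ?_⟩).symm⟩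
  · by_contra hx1
    obtain ⟨g, n, e1⟩ := M.min x hx1
    have : j (TG.mk 15) = j 1 := by
      rw [← hi, map_one]
      rcases e1 with e1 | e1 <;> simp [← e1, hx]
    exact absurd (h.inj this) (by decide +kernel)
  · obtain ⟨g, hg⟩ := M.surj (h.cj k)
    have := hC φ.range (by rintro _ ⟨l, rfl⟩; exact ⟨_, hi l⟩) ⟨s₀, by simp [φ, M.hs]⟩ ((φ g)⁻¹ * k)
      (by simp [h3, hg])
    exact (φ.range.mul_mem_cancel_left (inv_mem ⟨g, rfl⟩)).1 this

end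

theorem mdl1 : Mdl i1 (TG.mk 24) 2 (fun l => TG.mk (TG.mk 24 * i1 l * (TG.mk 24)⁻¹).val) (fun x => TG.mk x.val)
    fun x => x.val / 24 :=
  ⟨by decide +kernel, by decide +kernel, by decide +kernel, by decide +kernel, by decide +kernel,
    by decide +kernel, by decide +kernel, by decide +kernel⟩

theorem mdl2 : Mdl i2 (TG.mk 24) 4 (fun l => TG.mk (TG.mk 24 * i2 l * (TG.mk 24)⁻¹).val) (fun x => TG.mk x.val)
    fun x => x.val / 24 :=
  ⟨by decide +kernel, by decide +kernel, by decide +kernel, by decide +kernel, by decide +kernel,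
    by decide +kernel, by decide +kernel, by decide +kernel⟩

theorem ext2_fix {G : Type*} [Group G] {S : Subgroup G} {A : Type} [AddCommGroup A] {σ : A →+ A} {c : A}
    (E : Ext2 S A σ c) {x p q : G} (hx : x ∈ S) (hp : p ∈ S) (hq : q ∈ S) (h1 : x * p = p * x)
    (h2 : x * q = q * x) (h3 : p * q ≠ q * p) : ∃ a, σ a = a ∧ x = E.r a := by
  rcases E.cases hx with ⟨a, rfl⟩ | ⟨a, rfl⟩ <;> rcases E.cases hp with ⟨b, rfl⟩ | ⟨b, rfl⟩ <;>
    rcases E.cases hq with ⟨d, rfl⟩ | ⟨d, rfl⟩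
  · exact absurd (E.r_comm_r _ _) h3
  · exact ⟨a, E.r_comm_s.1 h2, rfl⟩
  · exact ⟨a, E.r_comm_s.1 h1, rfl⟩
  · exact ⟨a, E.r_comm_s.1 h1, rfl⟩
  · exact absurd (E.r_comm_r _ _) h3
  · exact absurd (E.r_comm_s.2 (E.s_comm_r.1 h1)) h3
  · exact absurd (E.s_comm_r.2 (E.s_comm_r.1 h2)) h3
  · refine absurd (E.s_comm_s.2 ?_) h3
    rw [show b - d = a - d - (a - b) by abel, map_sub, E.s_comm_s.1 h1, E.s_comm_s.1 h2]

section
variable {K : Type*} [Group K] [Finite K] {j : L3 →* K} (h : Emb j) (hr : j.range = commutator K)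
  (hO : oddCore K = ⊥) (R : Sylow 2 K)
include h hr hO

theorem Emb.ker_le : h.cj.ker ≤ R := by
  have key : ∀ c ∈ h.cj.ker, Odd (orderOf c) → c = 1 := fun c hc ho => by
    have h1 : ∀ k, k * c * k⁻¹ = c := fun k => by
      obtain ⟨l, hl⟩ : k * c * k⁻¹ * c⁻¹ ∈ j.range :=
        hr ▸ commutator_mem_commutator (mem_top k) (mem_top c)
      have h2 : MulAut.conj l = 1 := by
        rw [← h.cj_j, hl]; simp [MonoidHom.mem_ker.1 hc]
      have h3 : j l * j l = 1 := by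
        rw [← map_mul, (by decide +kernel : ∀ l : L3, (∀ x, l * x * l⁻¹ = x) → l * l = 1) l
          fun x => DFunLike.congr_fun h2 x, map_one]
      have h4 : Commute (j l) c := (mul_inv_eq_iff_eq_mul.1 (h.cj_one.1 hc l)).symm
      have h5 : (j l * c) ^ orderOf c = 1 := by
        rw [hl, inv_mul_cancel_right, conj_pow, pow_orderOf_eq_one]; simp
      obtain ⟨n, hn⟩ := ho
      rw [h4.mul_pow, pow_orderOf_eq_one, hn, pow_succ, pow_mul, pow_two, h3] at h5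
      rw [← mul_inv_eq_one, ← hl]
      simpa using h5
    have := H2.le_pPrimeCore (p := 2) (N := zpowers c) ⟨by
      rintro _ ⟨n, rfl⟩ g
      exact ⟨n, by simp only [← conj_zpow, h1]⟩⟩ (by rwa [Nat.card_zpowers, Nat.coprime_two_right])
    exact mem_bot.1 (hO ▸ this (mem_zpowers c))
  refine IsPGroup.le_sylow_of_normal (fun c => ?_) R
  obtain ⟨a, b, hb, e⟩ := Nat.exists_eq_two_pow_mul_odd (orderOf_pos (c : K)).ne'
  refine ⟨a, Subtype.ext (key _ (pow_mem c.2 _) (hb.of_dvd_nat (orderOf_dvd_of_pow_eq_one ?_)))⟩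
  rw [SubmonoidClass.coe_pow, ← pow_mul, ← e, pow_orderOf_eq_one]

theorem Emb.fix {A : Type} [AddCommGroup A] {σ : A →+ A} {c : A} (E : Ext2 (R : Subgroup K) A σ c)
    {x : K} (hx : h.cj x = 1) : ∃ a, σ a = a ∧ x = E.r a := by
  have hQ : ∀ l : L3, l ∈ Q0 ↔ l ^ 4 = 1 := by decide +kernel
  have : (Q0.map j).Normal := ⟨by
    rintro _ ⟨l, hl, rfl⟩ g
    exact ⟨_, (hQ _).2 (by rw [← map_pow, (hQ _).1 hl, map_one]), h.cj_spec g l⟩⟩
  have h1 := IsPGroup.le_sylow_of_normal ((IsPGroup.of_card (G := Q0) (n := 3)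
    (by rw [card_sub]; decide +kernel)).map j) R
  have h2 := fun l => mul_inv_eq_iff_eq_mul.1 (h.cj_one.1 hx l)
  refine ext2_fix E (h.ker_le hr hO R hx) (h1 ⟨TG.mk 1, (hQ _).2 (by decide +kernel), rfl⟩)
    (h1 ⟨TG.mk 10, (hQ _).2 (by decide +kernel), rfl⟩) (h2 _) (h2 _) ?_
  rw [← map_mul, ← map_mul]
  exact h.inj.ne (by decide +kernel)

theorem Emb.qd (hR : IsQuasiDihedral (R : Subgroup K)) : Nonempty (K ≃* K1) := by
  obtain ⟨T, Q, ⟨D⟩⟩ := SD.exists_data hR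
  have h1 : ∀ x, h.cj x = 1 → x = 1 ∨ x = D.E.r (hh D.n) := fun x hx => by
    obtain ⟨a, ha, rfl⟩ := h.fix hr hO R D.E hx
    refine D.center_cases ⟨D.E.r_mem a, fun g hg => ?_⟩
    rcases D.E.cases hg with ⟨b, rfl⟩ | ⟨b, rfl⟩
    exacts [D.E.r_comm_r _ _, D.E.s_comm_r.2 ha]
  have h2 : j (TG.mk 15) = D.E.r (hh D.n) := (h1 _ (by
    rw [h.cj_j]; ext l; revert l; decide +kernel)).resolve_left fun e =>
      absurd (h.inj (e.trans (map_one j).symm)) (by decide +kernel)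
  have h3 : ∀ x, h.cj x = 1 → x ∈ j.range := fun x hx => by
    rcases h1 x hx with rfl | rfl
    exacts [one_mem _, ⟨_, h2⟩]
  have s2 : D.E.s 0 ^ 2 = 1 := by simp [D.E.s_sq, D.E.r_zero]
  obtain ⟨g, hg⟩ := mdl1.surj (h.cj (D.E.s 0))
  rcases (by decide +kernel : ∀ g : K1, (∀ l, g ^ 2 * i1 l * (g ^ 2)⁻¹ = i1 l) → (∃ l, g = i1 l) ∨
      ∃ l, ∀ x, i1 l * g * (i1 l)⁻¹ * i1 x * (i1 l * g * (i1 l)⁻¹)⁻¹ = TG.mk 24 * i1 x * (TG.mk 24)⁻¹) g
    (mdl1.emb.cj_one.1 (by rw [map_pow, hg, ← map_pow, s2, map_one])) with ⟨l, rfl⟩ | ⟨l, hl⟩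
  · obtain ⟨x, hx⟩ := (j.range.mul_mem_cancel_left (inv_mem ⟨l, rfl⟩)).1 (h3 ((j l)⁻¹ * D.E.s 0)
      (by simp [← hg, Emb.cj_j]))
    rcases (by decide +kernel : ∀ x : L3, x ^ 2 = 1 → x = 1 ∨ x = TG.mk 15) x
      (h.inj (by rw [map_pow, hx, s2, map_one])) with rfl | rfl
    · exact absurd (hx.symm.trans (map_one j)) (D.E.s_ne_one 0)
    · exact absurd (hx.symm.trans h2) (D.E.s_ne_r _ _)
  · refine mdl1.iso h (s := j l * D.E.s 0 * (j l)⁻¹) (by rw [conj_pow, s2]; simp) ?_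
      fun H hH _ c hc => hH (h3 c hc)
    rw [← mdl1.emb.cj_eq.2 hl]
    simp [← hg, Emb.cj_j]

theorem Emb.wr (hR : IsWreathed (R : Subgroup K)) : Nonempty (K ≃* K2) := by
  obtain ⟨n, hn, ⟨E⟩⟩ := exists_WR hR
  have h1 : ∀ k : ℕ, h.cj (E.r (1, 0) ^ k) = 1 → 2 ^ n ∣ k := fun k hk => by
    obtain ⟨a, ha, e⟩ := h.fix hr hO R E hk
    rw [E.r_pow, E.r_inj] at e
    subst e
    simpa [ZMod.natCast_eq_zero_iff] using (congrArg Prod.snd ha)
  obtain ⟨g, hg⟩ := mdl2.surj (h.cj (E.r (1, 0)))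
  have s4 : E.r (1, 0) ^ 4 = 1 := by
    have := h1 12 (by
      rw [map_pow, ← hg, ← map_pow, mdl2.emb.cj_one]
      revert g
      exact fun g _ => (by decide +kernel : ∀ g : K2, ∀ l, g ^ 12 * i2 l * (g ^ 12)⁻¹ = i2 l) g)
    have h4 : 2 ^ n ∣ 4 := (Nat.Coprime.pow_left n (by decide : Nat.Coprime 2 3)).dvd_of_dvd_mul_left this
    rw [E.r_pow, E.r_eq_one]
    simpa [ZMod.natCast_eq_zero_iff] using (ZMod.natCast_eq_zero_iff 4 _).2 h4
  obtain ⟨l, hl⟩ := (by decide +kernel : ∀ g : K2, (∀ l, g ^ 4 * i2 l * (g ^ 4)⁻¹ = i2 l) →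
      (¬ ∀ l, g ^ 2 * i2 l * (g ^ 2)⁻¹ = i2 l) →
      ∃ l, ∀ x, i2 l * g * (i2 l)⁻¹ * i2 x * (i2 l * g * (i2 l)⁻¹)⁻¹ = TG.mk 24 * i2 x * (TG.mk 24)⁻¹) g
    (mdl2.emb.cj_one.1 (by rw [map_pow, hg, ← map_pow, s4, map_one])) fun e => by
      have := Nat.le_of_dvd two_pos (h1 2 (by rw [map_pow, ← hg, ← map_pow, mdl2.emb.cj_one.2 e]))
      have := Nat.pow_le_pow_right two_pos hn
      omega
  refine mdl2.iso h (s := j l * E.r (1, 0) * (j l)⁻¹) (by rw [conj_pow, s4]; simp) ?_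
    fun H hH hs c hc => ?_
  · rw [← mdl2.emb.cj_eq.2 hl]
    simp [← hg, Emb.cj_j]
  obtain ⟨⟨a, b⟩, ha, rfl⟩ := h.fix hr hO R E hc
  obtain rfl : b = a := congrArg Prod.fst ha
  have h2 : E.r (b, 0) ∈ H := by
    have := pow_mem ((mul_mem_cancel_left (hH ⟨l, rfl⟩)).1
      ((mul_mem_cancel_right (inv_mem (hH ⟨l, rfl⟩))).1 hs)) b.val
    rw [E.r_pow] at this
    simpa using this
  have h3 := hH (hr.ge <| commutator_mem_commutator (mem_top (E.s 0)) (mem_top (E.r (b, 0))))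
  rw [commutatorElement_def, E.s_conj_r, mul_mem_cancel_right (inv_mem h2)] at h3
  simpa [E.r_mul_r] using mul_mem h2 h3

end

end H17.NG
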