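import Mathlib
import Cfsg.Agent.H17.Lyons
import Cfsg.Agent.H6.StrongEmb

/-! A simple group with a Sylow 2-subgroup of type `U₃(4)` has a strongly embedded subgroup. -/

set_option autoImplicit false
set_option linter.unusedSectionVars false

open Cfsg H4 Subgroup

namespace H17.Ly.US

variable {G : Type*} [Group G] [Finite G] {S : Sylow 2 G} (h : US (S : Subgroup G))
include h

theorem exists_four : ∃ x ∈ (S : Subgroup G), x * x ≠ 1 := by
  obtain ⟨v, hv, h1, -⟩ := h.exists_other 1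
  obtain ⟨x, hx, rfl⟩ := h.root hv.1 hv.2 h1
  exact ⟨x, hx, h1⟩

theorem not_comm : ∃ a b : G, a * b ≠ b * a := by
  obtain ⟨x, hx, h2⟩ := h.exists_four
  obtain ⟨y, hy⟩ := Set.nonempty_of_ncard_ne_zero ((h.ncard_f' hx h2).trans_ne (by norm_num))
  exact ⟨y, x, hy.2.2⟩

theorem dvd_card : 64 ∣ Nat.card G := h.card ▸ card_subgroup_dvd_card _

variable [IsSimpleGroup G]

theorem exists_nu3 : ∃ ν ∈ normalizer ((S : Subgroup G) : Set G), ∀ z ∈ h.V, z ≠ 1 →
    ν * z * ν⁻¹ ≠ z ∧ ν ^ 3 * z * (ν ^ 3)⁻¹ = z ∧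
      ∀ u ∈ h.V, u ≠ 1 → u = z ∨ u = ν * z * ν⁻¹ ∨ u = ν * ν * z * (ν * ν)⁻¹ := by
  have hO : pPrimeCore 2 G = ⊥ := (IsSimpleGroup.eq_bot_or_eq_top_of_normal _ inferInstance).resolve_right
    fun e => by
      have h1 := odd_card_pPrimeCore (G := G)
      rw [e, card_top] at h1
      exact h1.not_two_dvd_nat (Dvd.dvd.trans (by norm_num) h.dvd_card)
  obtain ⟨v, hv, h1, -⟩ := h.exists_other 1
  have hni : ¬ IsIsolatedInvolution v := fun hi => by
    obtain ⟨a, b, hab⟩ := h.not_comm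
    rcases IsSimpleGroup.eq_bot_or_eq_top_of_normal (center G) inferInstance with e | e
    · exact h1 (mem_bot.mp (e ▸ mem_center_iff.mpr fun g => (zstar_central hO hi g).symm))
    · exact hab (mem_center_iff.mp (e ▸ mem_top b) a)
  rw [isolated_iff_sylow (h.two hv h1) S hv.1] at hni
  push Not at hni
  obtain ⟨g, hg, hne⟩ := hni
  obtain ⟨ν, hν, hodd, hf⟩ := exists_nu S (fun _ a b _ c => h.cent a b c) h.cases hv.1 hg hv.2
    (by rw [conj_mul_conj, hv.2]; simp) hne.symm (H22.isConj_conj _ _)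
  refine ⟨ν, hν, fun z hz hz1 => ?_⟩
  have hb := H22.conj_mem_of_mem_normalizer (h.mem_nV hν) hz
  have hc := H22.conj_mem_of_mem_normalizer (h.mem_nV hν) hb
  have a1 : ν * z * ν⁻¹ ≠ z := fun e => hz1 (hf z hz.1 hz.2 e)
  have b1 : ν * z * ν⁻¹ ≠ 1 := by simpa using hz1
  have a2 : ν * (ν * z * ν⁻¹) * ν⁻¹ = z * (ν * z * ν⁻¹) := by
    rcases h.cases hz.1 hb.1 hc.1 hz.2 hb.2 hc.2 hz1 b1 a1.symm with e | e | e | e
    · exact absurd e (by simpa using hz1)
    · exact absurd (fix_of_sq hodd e) a1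
    · exact absurd (hf _ hb.1 hb.2 e) b1
    · exact e
  refine ⟨a1, ?_, fun u hu hu1 => ?_⟩
  · rw [show ν ^ 3 * z * (ν ^ 3)⁻¹ = ν * (ν * (ν * z * ν⁻¹) * ν⁻¹) * ν⁻¹ by simp only [pow_three]; group,
      a2, ← conj_mul_conj, a2, ← h.cent hz.1 hz.2 hb.1, ← mul_assoc, hb.2, one_mul]
  · rcases h.cases hz.1 hb.1 hu.1 hz.2 hb.2 hu.2 hz1 b1 a1.symm with e | e | e | e
    · exact absurd e hu1
    · exact Or.inl e
    · exact Or.inr (Or.inl e)
    · exact Or.inr (Or.inr (by rw [e, ← a2]; group))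

theorem fusion_V {z u : G} (hz : z ∈ h.V) (hu : u ∈ h.V) (hz1 : z ≠ 1) (hu1 : u ≠ 1) :
    ∃ n ∈ normalizer (h.V : Set G), n * z * n⁻¹ = u := by
  obtain ⟨ν, hν, hf⟩ := h.exists_nu3
  rcases (hf z hz hz1).2.2 u hu hu1 with rfl | rfl | rfl
  · exact ⟨1, one_mem _, by simp⟩
  · exact ⟨ν, h.mem_nV hν, rfl⟩
  · exact ⟨_, h.mem_nV (mul_mem hν hν), rfl⟩

theorem hfus (a b : G) (ha : orderOf a = 2) (hb : orderOf b = 2) : IsConj a b := by
  have key : ∀ a : G, orderOf a = 2 → ∃ g, g * a * g⁻¹ ∈ h.V ∧ g * a * g⁻¹ ≠ 1 := fun a ha => by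
    have h2 := H22.mul_self_of_orderOf_two ha
    obtain ⟨g, hg, -⟩ := exists_conj_pair_mem S (a := a) (b := a) ⟨1, by rw [pow_one, ha]⟩
      ⟨1, by rw [pow_one, ha]⟩ (by simp)
    exact ⟨g, ⟨hg, by rw [conj_mul_conj, h2]; simp⟩, by rintro e; simp at e; simp [e] at ha⟩
  obtain ⟨g, a1, a2⟩ := key a ha
  obtain ⟨k, b1, b2⟩ := key b hb
  obtain ⟨n, -, e⟩ := h.fusion_V a1 b1 a2 b2
  exact ((H22.isConj_conj g a).trans (e ▸ H22.isConj_conj n _)).trans (H22.isConj_conj k b).symm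

theorem three_dvd : 3 ∣ Nat.card G := by
  obtain ⟨ν, hν, hf⟩ := h.exists_nu3
  obtain ⟨v, hv, h1, -⟩ := h.exists_other 1
  obtain ⟨a1, a2, -⟩ := hf v hv h1
  by_contra h3
  have : ν ∈ centralizer ({v} : Set G) := H3.mem_of_pow_mem_of_coprime (m := 3)
    (mem_centralizer_singleton.mpr (mul_inv_eq_iff_eq_mul.mp a2))
    ((Nat.prime_three.coprime_iff_not_dvd.mpr fun e => h3 (e.trans (orderOf_dvd_natCard ν))).symm)
  exact a1 (by rw [(mem_centralizer_singleton.mp this).eq, mul_inv_cancel_right])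

theorem isStronglyEmbedded : IsStronglyEmbedded (normalizer (h.V : Set G)) := by
  obtain ⟨a, ha, ha1, -⟩ := h.exists_other 1
  obtain ⟨b, hb, hb1, hab⟩ := h.exists_other a
  have hV : ∀ t ∈ normalizer (h.V : Set G), orderOf t = 2 → t ∈ h.V ∧ t ≠ 1 := fun t ht h2 => by
    have t2 := H22.mul_self_of_orderOf_two h2
    have hc : ∀ v ∈ h.V, Commute v t := fun v hv => h.comm_of_sq ht hv (by rw [t2]; simp)
    obtain ⟨T, hT⟩ := exists_sylow_of_comm (insert t (h.V : Set G))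
      (by rintro _ (rfl | hv); exacts [t2, hv.2]) (by
        rintro x (rfl | hx) y (rfl | hy)
        exacts [rfl, (hc y hy).symm, hc x hx, h.cent hy.1 hy.2 hx.1])
    refine ⟨?_, by rintro rfl; simp at h2⟩
    rcases (h.sylow T).cases (hT a (Or.inr ha)) (hT b (Or.inr hb)) (hT t (Or.inl rfl)) ha.2 hb.2 t2
      ha1 hb1 hab with rfl | rfl | rfl | rfl
    exacts [one_mem _, ha, hb, mul_mem ha hb]
  refine (H6.isStronglyEmbedded_iff_fusion _ (fun e => ?_) ?_).2 ⟨fun t ht h2 =>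
    h.centralizer_le_normalizer h.hfus (hV t ht h2).1 (hV t ht h2).2, fun t ht s hs h2 h3 _ =>
      h.fusion_V (hV t ht h2).1 (hV s hs h3).1 (hV t ht h2).2 (hV s hs h3).2⟩
  · have h4 := h.card_V
    rcases IsSimpleGroup.eq_bot_or_eq_top_of_normal h.V (normalizer_eq_top_iff.mp e) with e | e
    · simp [e] at h4
    · have := h.dvd_card
      rw [e, card_top] at h4
      omega
  · exact even_iff_two_dvd.mpr (Dvd.dvd.trans (by rw [h.card_V]; norm_num)
      (card_dvd_of_le (le_normalizer (H := h.V))))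

end H17.Ly.US
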