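import Mathlib
import Cfsg.Agent.H11.JordanField

/-! # Systems of transvection groups on an elementary abelian `2`-group are linear over a field -/

set_option autoImplicit false
set_option linter.unusedSectionVars false

namespace H17.TL

open H11.JF

variable {V : Type*} [AddCommGroup V] [Finite V] {ι : Type*} {I : ι → AddSubgroup V} {T : ι → Set (V →+ V)}

/-- axes `I i` with their groups `1 + T i` of transvections -/
structure LS (I : ι → AddSubgroup V) (T : ι → Set (V →+ V)) : Prop where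
  two : ∀ v : V, v + v = 0
  mem : ∀ i, ∀ τ ∈ T i, ∀ v, τ v ∈ I i
  ker : ∀ i, ∀ τ ∈ T i, ∀ v ∈ I i, τ v = 0
  inj : ∀ i, ∀ τ ∈ T i, ∀ v ∉ I i, τ v = 0 → ∀ w, τ w = 0
  sur : ∀ i, ∀ v ∉ I i, ∀ u ∈ I i, ∃ τ ∈ T i, τ v = u
  add : ∀ i, ∀ τ ∈ T i, ∀ τ' ∈ T i, τ + τ' ∈ T i
  sup : ∀ i k, I i ≠ I k → ∀ v, ∃ x ∈ I i, ∃ y ∈ I k, v = x + y
  inf : ∀ i k, I i ≠ I k → ∃ v ≠ 0, v ∈ I i ∧ v ∈ I k
  big : ∀ i k l m, I i ≠ I k → I l ≠ I m → I i ⊓ I k ≤ I l ⊓ I m → I l ⊓ I m ≤ I i ⊓ I k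
  ex : ∀ i, ∃ k, I i ≠ I k
  uniq : ∀ i k, I i = I k → T i ⊆ T k
  cj : ∀ i, ∀ τ ∈ T i, ∀ k, ∃ l, (∀ v, v ∈ I l ↔ v + τ v ∈ I k) ∧
    ∀ ρ ∈ T l, ∃ ρ' ∈ T k, ∀ v, ρ v + τ (ρ v) = ρ' (v + τ v)
  inv : ∀ i, ∃ a0 ∉ I i, ∀ a ∉ I i, ∃ a', ∀ τ ∈ T i, ∀ τ' ∈ T i, τ' a0 = τ a → τ' a' = τ a0

/-- `e` commutes with `T i` -/
def Cp (T : ι → Set (V →+ V)) (i : ι) (e : V → V) : Prop := ∀ τ ∈ T i, ∀ v, e (τ v) = τ (e v)

/-- `l` is a scalar on `I i` -/
def Sc (I : ι → AddSubgroup V) (T : ι → Set (V →+ V)) (i : ι) (l : V → V) : Prop :=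
  (∀ x ∈ I i, ∀ y ∈ I i, l (x + y) = l x + l y) ∧ ∀ a, ∃ a', ∀ τ ∈ T i, l (τ a) = τ a'

theorem Cp.sc {i : ι} {e : V →+ V} (h : Cp T i e) : Sc I T i e :=
  ⟨fun x _ y _ => map_add e x y, fun a => ⟨e a, fun τ k => h τ k a⟩⟩

theorem Cp.add {i : ι} {e e' : V →+ V} (h : Cp T i e) (h' : Cp T i e') : Cp T i (e + e') := fun τ k v => by
  simp [h τ k, h' τ k]

namespace LS

variable (h : LS I T) {i k : ι} {l : V → V} {τ : V →+ V} {a u v x : V}
include h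

theorem eq_of_add {x y : V} (e : x + y = 0) : x = y := by rw [← add_zero x, ← h.two y, ← add_assoc, e, zero_add]

theorem exists_not (i : ι) : ∃ a, a ∉ I i := (h.inv i).imp fun _ k => k.1

theorem ext {τ' : V →+ V} (h1 : τ ∈ T i) (h2 : τ' ∈ T i) (ha : a ∉ I i) (e : τ a = τ' a) (w : V) : τ w = τ' w :=
  h.eq_of_add (h.inj i _ (h.add i τ h1 τ' h2) a ha (by simp [e, h.two]) w)

theorem exists_sc (ha : a ∉ I i) (a' : V) : ∃ l, Sc I T i l ∧ ∀ τ ∈ T i, l (τ a) = τ a' := by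
  classical
  obtain ⟨a0, h0, hi⟩ := h.inv i
  choose s s1 s2 using fun x : I i => h.sur i a0 h0 x x.2
  have k : ∀ b, ∃ p : AddMonoid.End (I i), ∀ τ ∈ T i, ∀ m, (p ⟨τ a0, m⟩ : V) = τ b := fun b =>
    ⟨AddMonoidHom.mk' (fun x => ⟨s x b, h.mem i _ (s1 x) b⟩) fun x y => Subtype.ext
      (h.ext (s1 _) (h.add i _ (s1 x) _ (s1 y)) h0 (by simp [s2]) b), fun τ t m => h.ext (s1 _) t h0 (s2 _) b⟩
  let S : AddSubgroup (AddMonoid.End (I i)) :=
    { carrier := {p | ∃ b, ∀ τ ∈ T i, ∀ m, (p ⟨τ a0, m⟩ : V) = τ b}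
      zero_mem' := ⟨0, fun τ _ _ => (map_zero τ).symm⟩
      add_mem' := fun ⟨b, e⟩ ⟨c, e'⟩ => ⟨b + c, fun τ t m => by rw [map_add, ← e τ t m, ← e' τ t m]; rfl⟩
      neg_mem' := fun ⟨b, e⟩ => ⟨-b, fun τ t m => by rw [map_neg, ← e τ t m]; rfl⟩ }
  have ex : ∀ p q : AddMonoid.End (I i), (∀ τ ∈ T i, ∀ m, (p ⟨τ a0, m⟩ : V) = q ⟨τ a0, m⟩) → p = q := fun p q e =>
    AddMonoidHom.ext fun x => Subtype.ext (by
      have := e _ (s1 x) (h.mem i _ (s1 x) _)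
      rwa [show (⟨s x a0, _⟩ : I i) = x from Subtype.ext (s2 x)] at this)
  have : Finite (AddMonoid.End (I i)) := Finite.of_injective _ DFunLike.coe_injective
  have nz : ∀ p : AddMonoid.End (I i), ∀ b, (∀ τ ∈ T i, ∀ m, (p ⟨τ a0, m⟩ : V) = τ b) → b ∉ I i →
      ∃ q ∈ S, q * p = 1 := fun p b e hb => by
    obtain ⟨b', e1⟩ := hi b hb
    obtain ⟨q, hq⟩ := k b'
    refine ⟨q, ⟨b', hq⟩, ex _ _ fun τ t m => ?_⟩
    have := hq _ (s1 (p ⟨_, m⟩)) (h.mem i _ (s1 _) _)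
    rw [show (⟨s _ a0, _⟩ : I i) = _ from Subtype.ext (s2 _), e1 τ t _ (s1 _) ((s2 _).trans (e τ t m))] at this
    exact this
  have J : JD S := ⟨AddMonoidHom.ext fun x => Subtype.ext (by
      change ((2 : AddMonoid.End (I i)) x : V) = 0
      rw [← one_add_one_eq_two]; exact h.two x), ⟨a0, fun _ _ _ => rfl⟩, fun p ⟨b, e⟩ p0 => by
    obtain ⟨q, hq, e1⟩ := nz p b e fun hb => p0 (ex _ _ fun τ t m => (e τ t m).trans (h.ker i τ t b hb))
    exact ⟨q, hq, mul_eq_one_comm.1 e1, e1⟩⟩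
  obtain ⟨p, hp⟩ := k a
  obtain ⟨p', hp'⟩ := k a'
  obtain ⟨q, hq, e⟩ := nz p a hp ha
  have key : ∀ τ (t : τ ∈ T i), ∀ b (r : AddMonoid.End (I i)), (∀ τ ∈ T i, ∀ m, (r ⟨τ a0, m⟩ : V) = τ b) →
      (if m : τ b ∈ I i then ((p' * q) ⟨τ b, m⟩ : V) else 0) = (p' * q * r) ⟨τ a0, h.mem i τ t _⟩ :=
    fun τ t b r hr => by
      rw [dif_pos (h.mem i τ t b), show (⟨τ b, h.mem i τ t b⟩ : I i) = r ⟨τ a0, h.mem i τ t _⟩ from
        Subtype.ext (hr τ t _).symm]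
      rfl
  refine ⟨fun x => if m : x ∈ I i then ((p' * q) ⟨x, m⟩ : V) else 0, ⟨fun x hx y hy => ?_, fun b => ?_⟩,
    fun τ t => ?_⟩
  · simp only [dif_pos hx, dif_pos hy, dif_pos (add_mem hx hy)]
    rw [← AddSubgroup.coe_add, ← map_add]; rfl
  · obtain ⟨r, hr⟩ := k b
    obtain ⟨c, e1⟩ := J.mul_mem' (J.mul_mem' ⟨a', hp'⟩ hq) ⟨b, hr⟩
    exact ⟨c, fun τ t => (key τ t b r hr).trans (e1 τ t _)⟩
  · exact (key τ t a p hp).trans (by rw [mul_assoc, e, mul_one, hp' τ t])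

theorem sc_mem (hl : Sc I T i l) (hx : x ∈ I i) : l x ∈ I i := by
  obtain ⟨a, ha⟩ := h.exists_not i
  obtain ⟨τ, t, rfl⟩ := h.sur i a ha x hx
  obtain ⟨a', e⟩ := hl.2 a
  exact e τ t ▸ h.mem i τ t a'

theorem sc_ext {l' : V → V} (hl : Sc I T i l) (hl' : Sc I T i l') (hx : x ∈ I i) (h0 : x ≠ 0) (e : l x = l' x) :
    ∀ y ∈ I i, l y = l' y := fun y hy => by
  obtain ⟨a, ha⟩ := h.exists_not i
  obtain ⟨τ, t, rfl⟩ := h.sur i a ha x hx
  obtain ⟨ρ, r, rfl⟩ := h.sur i a ha y hy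
  obtain ⟨b, e1⟩ := hl.2 a
  obtain ⟨b', e2⟩ := hl'.2 a
  rw [e1 τ t, e2 τ t] at e
  rw [e1 ρ r, e2 ρ r]
  exact h.eq_of_add ((map_add ρ _ _).symm.trans (h.ker i ρ r _ (by_contra fun m =>
    h0 (h.inj i τ t _ m (by rw [map_add, e, h.two]) a))))

theorem exists_out (hik : I i ≠ I k) : ∃ v ∈ I i, v ∉ I k := by
  obtain ⟨a, ha⟩ := h.exists_not k
  obtain ⟨x, hx, y, hy, rfl⟩ := h.sup i k hik a
  exact ⟨x, hx, fun e => ha (add_mem e hy)⟩

theorem star (hik : I i ≠ I k) (t : τ ∈ T k) (hv : v ∉ I k) (m : τ v ∈ I i) :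
    (∀ w, τ w ∈ I i) ∧ ∀ ρ ∈ T i, τ.comp ρ ∈ T i := by
  obtain ⟨x, hx, y, hy, rfl⟩ := h.sup i k hik v
  rw [map_add, h.ker k τ t y hy, add_zero] at m
  obtain ⟨j, j1, j2⟩ := h.cj k τ t i
  have e : I j = I i := by_contra fun e => hv (add_mem (h.big i k j i hik e (fun w hw =>
    ⟨(j1 w).2 (by rw [h.ker k τ t w hw.2, add_zero]; exact hw.1), hw.1⟩) ⟨(j1 x).2 (add_mem hx m), hx⟩).2 hy)
  have k1 : ∀ w, τ w ∈ I i := fun w => by
    obtain ⟨x, hx, y, hy, rfl⟩ := h.sup i k hik w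
    rw [map_add, h.ker k τ t y hy, add_zero]
    exact (add_mem_cancel_left hx).1 ((j1 x).1 (e ▸ hx))
  refine ⟨k1, fun ρ r => ?_⟩
  obtain ⟨ρ', r', e1⟩ := j2 ρ (h.uniq i j e.symm r)
  rw [show τ.comp ρ = ρ + ρ' from AddMonoidHom.ext fun w => by
    have := e1 w
    rw [map_add, h.ker i ρ' r' _ (k1 w), add_zero] at this
    rw [AddMonoidHom.add_apply, ← this, ← add_assoc, h.two, zero_add]; rfl]
  exact h.add i ρ r ρ' r'

theorem sc_comm (hik : I i ≠ I k) (t : τ ∈ T k) (hv : v ∉ I k) (m : τ v ∈ I i) (hl : Sc I T i l) (hx : x ∈ I i) :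
    l (τ x) = τ (l x) := by
  obtain ⟨a, ha⟩ := h.exists_not i
  obtain ⟨ρ, r, rfl⟩ := h.sur i a ha x hx
  obtain ⟨a', e⟩ := hl.2 a
  rw [e ρ r]
  exact e _ ((h.star hik t hv m).2 ρ r)

theorem sc_mem0 (hik : I i ≠ I k) (hl : Sc I T i l) (hx : x ∈ I i) (hx' : x ∈ I k) : l x ∈ I k := by
  obtain ⟨v, h1, h2⟩ := h.exists_out hik
  obtain ⟨τ, t, rfl⟩ := h.sur k v h2 x hx'
  rw [h.sc_comm hik t h2 hx hl h1]
  exact h.mem k τ t _

theorem cp_of (hik : I i ≠ I k) {e : V →+ V} (h1 : Sc I T i e) (h2 : Sc I T k e) : Cp T i e := fun τ t v => by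
  obtain ⟨x, hx, y, hy, rfl⟩ := h.sup i k hik v
  rw [map_add, map_add e x, map_add τ, h.ker i τ t x hx, h.ker i τ t _ (h.sc_mem h1 hx), zero_add, zero_add]
  by_cases m : y ∈ I i
  · rw [h.ker i τ t y m, h.ker i τ t _ (h.sc_mem h1 m), map_zero]
  obtain ⟨l, l1, l2⟩ := h.exists_sc m (e y)
  obtain ⟨w, w0, w1, w2⟩ := h.inf i k hik
  obtain ⟨ρ, r, rfl⟩ := h.sur i y m w w1
  rw [← l2 τ t]
  exact h.sc_ext h1 l1 w1 w0 (by rw [l2 ρ r, h.sc_comm hik.symm r m w2 h2 hy]) _ (h.mem i τ t y)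

theorem exists_cp (hik : I i ≠ I k) (hu : u ∉ I i) (w : V) :
    ∃ e : V →+ V, Cp T i e ∧ Cp T k e ∧ e u + w ∈ I i := by
  obtain ⟨l, l1, l2⟩ := h.exists_sc hu w
  obtain ⟨v, v1, v2⟩ := h.exists_out hik
  obtain ⟨l', l3, l4⟩ := h.exists_sc v2 (l v)
  have ag : ∀ x ∈ I i, x ∈ I k → l x = l' x := fun x hx hx' => by
    obtain ⟨τ, t, rfl⟩ := h.sur k v v2 x hx'
    rw [l4 τ t, h.sc_comm hik t v2 hx l1 v1]
  choose X hX Y hY e using h.sup i k hik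
  have z : ∀ {j l}, Sc I T j l → l 0 = 0 := fun s => by simpa using s.1 0 (zero_mem _) 0 (zero_mem _)
  have wd : ∀ x ∈ I i, ∀ y ∈ I k, l (X (x + y)) + l' (Y (x + y)) = l x + l' y := fun x hx y hy => by
    have e1 : X (x + y) + x = Y (x + y) + y := h.eq_of_add (by
      rw [add_add_add_comm, ← e, h.two])
    have := ag _ (add_mem (hX _) hx) (e1 ▸ add_mem (hY _) hy)
    nth_rewrite 2 [e1] at this
    rw [l1.1 _ (hX _) _ hx, l3.1 _ (hY _) _ hy] at this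
    exact h.eq_of_add (by rw [add_add_add_comm, this, h.two])
  let E : V →+ V := AddMonoidHom.mk' (fun v => l (X v) + l' (Y v)) fun a b => by
    have := wd _ (add_mem (hX a) (hX b)) _ (add_mem (hY a) (hY b))
    rw [add_add_add_comm, ← e, ← e] at this
    rw [this, l1.1 _ (hX _) _ (hX _), l3.1 _ (hY _) _ (hY _), add_add_add_comm]
  have E1 : ∀ x ∈ I i, E x = l x := fun x hx => by
    have := wd x hx 0 (zero_mem _)
    rwa [add_zero, z l3, add_zero] at this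
  have E2 : ∀ x ∈ I k, E x = l' x := fun x hx => by
    have := wd 0 (zero_mem _) x hx
    rwa [zero_add, z l1, zero_add] at this
  have s1 : Sc I T i E := ⟨fun x _ y _ => map_add E x y, fun a => (l1.2 a).imp fun b e τ t =>
    (E1 _ (h.mem i τ t a)).trans (e τ t)⟩
  have s2 : Sc I T k E := ⟨fun x _ y _ => map_add E x y, fun a => (l3.2 a).imp fun b e τ t =>
    (E2 _ (h.mem k τ t a)).trans (e τ t)⟩
  refine ⟨E, h.cp_of hik s1 s2, h.cp_of hik.symm s2 s1, by_contra fun m => ?_⟩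
  obtain ⟨x, x0, x1, -⟩ := h.inf i k hik
  obtain ⟨τ, t, rfl⟩ := h.sur i u hu x x1
  exact x0 (h.inj i τ t _ m (by rw [map_add, ← h.cp_of hik s1 s2 τ t, E1 _ x1, l2 τ t, h.two]) u)

theorem cp_eq {e e' : V →+ V} (h1 : Cp T i e) (h2 : Cp T i e') (hu : u ∉ I i) (m : e u + e' u ∈ I i) :
    ∀ x ∈ I i, e x = e' x := fun x hx => by
  obtain ⟨τ, t, rfl⟩ := h.sur i u hu x hx
  exact h.eq_of_add (by rw [h1 τ t, h2 τ t, ← map_add, h.ker i τ t _ m])

theorem cp_all (hik : I i ≠ I k) {e : V →+ V} (h1 : Cp T i e) (h2 : Cp T k e) (j : ι) : Cp T j e := by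
  by_cases hi : I i = I j
  · exact fun τ t => h1 τ (h.uniq j i hi.symm t)
  by_cases hk : I k = I j
  · exact fun τ t => h2 τ (h.uniq j k hk.symm t)
  by_cases hu : ∃ u ∈ I k, u ∈ I j ∧ u ∉ I i
  · obtain ⟨u, u1, u2, u3⟩ := hu
    obtain ⟨v, hv⟩ := h.exists_not k
    obtain ⟨e2, a1, a2, a3⟩ := h.exists_cp hi u3 (e u)
    obtain ⟨e4, b1, b2, b3⟩ := h.exists_cp hk hv (e v)
    have c1 := h.cp_eq a1 h1 u3 a3
    have c2 := h.cp_eq b1 h2 hv b3
    obtain ⟨x, x0, x1, x2⟩ := h.inf i j hi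
    obtain ⟨τ, t, rfl⟩ := h.sur i u u3 x x1
    have c3 := h.sc_ext a2.sc b2.sc x2 x0 (h.eq_of_add (by
      rw [a1 τ t, h.sc_comm (Ne.symm hi) t u3 x2 b2.sc u2, c2 u u1, ← map_add, h.ker i τ t _ a3]))
    have c4 : ∀ w ∈ I j, e w = e2 w := fun w hw => by
      obtain ⟨e3, -, d2, d3⟩ := h.exists_cp hi u3 w
      have m := h.sc_mem d2.sc u2
      have m' := h.sc_mem0 (Ne.symm hk) d2.sc u2 u1
      rw [show w = e3 u + (e3 u + w) by rw [← add_assoc, h.two, zero_add], map_add, map_add e2 (e3 u),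
        ← c1 _ d3, ← c2 _ m', c3 _ m]
    exact h.cp_of (Ne.symm hi) ⟨fun x _ y _ => map_add e x y, fun a => ⟨e2 a, fun τ t =>
      (c4 _ (h.mem j τ t a)).trans (a2 τ t a)⟩⟩ h1.sc
  have b := h.big k j i k hk hik fun w hw => ⟨by_contra fun e => hu ⟨w, hw.1, hw.2, e⟩, hw.1⟩
  obtain ⟨w, w1, w2⟩ := h.exists_out (Ne.symm hi)
  obtain ⟨x, hx, y, hy, rfl⟩ := h.sup i k hik w
  obtain ⟨τ, t, rfl⟩ := h.sur i y (fun e => w2 (add_mem hx e)) x hx
  obtain ⟨m, m1, m2⟩ := h.cj i τ t k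
  have em : I j = I m := by_contra fun em => w2 (h.big i k j m hik em (fun w hw => ⟨(b hw).2,
    (m1 w).2 (by rw [h.ker i τ t w hw.1, add_zero]; exact hw.2)⟩) ⟨w1, (m1 _).2 (by
      rw [map_add, h.ker i τ t _ hx, zero_add, add_right_comm, h.two, zero_add]; exact hy)⟩).1
  intro ρ r v
  obtain ⟨ρ', r', e1⟩ := m2 ρ (h.uniq j m em r)
  have k : ∀ x y, x + τ x = y + τ y → x = y := fun x y e => by
    have := congrArg τ e
    rw [map_add, map_add, h.ker i τ t _ (h.mem i τ t x), h.ker i τ t _ (h.mem i τ t y), add_zero, add_zero] at this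
    rwa [this, add_left_inj] at e
  exact k _ _ (by rw [e1, ← h1 τ t, ← h1 τ t, ← map_add, ← map_add, e1, h2 ρ' r'])

theorem cp_zero {e : V →+ V} (he : ∀ j, Cp T j e) (hv : v ∉ I i) (m : e v ∈ I i) (w : V) : e w = 0 := by
  obtain ⟨k, hik⟩ := h.ex i
  have e1 := h.cp_eq (e' := 0) (he i) (fun τ _ _ => (map_zero τ).symm) hv (by simpa using m)
  obtain ⟨x, x0, x1, x2⟩ := h.inf i k hik
  have e2 := h.sc_ext (l' := (0 : V →+ V)) (he k).sc (Cp.sc fun τ _ _ => (map_zero τ).symm) x2 x0 (e1 x x1)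
  obtain ⟨x, hx, y, hy, rfl⟩ := h.sup i k hik w
  simp [e1 x hx, e2 y hy]

theorem main [Nonempty ι] : ∃ (K : Type) (_ : Field K) (_ : Fintype K) (n : ℕ) (e : (Fin n → K) ≃+ V),
    CharP K 2 ∧ 3 ≤ n ∧ (∀ i, ∃ f : Module.Dual K (Fin n → K), f ≠ 0 ∧ ∀ v, e v ∈ I i ↔ f v = 0) ∧
    (∀ i, ∀ τ ∈ T i, ∀ f : Module.Dual K (Fin n → K), (∀ v, e v ∈ I i ↔ f v = 0) → ∀ a, f a = 1 →
      ∀ v, τ (e v) = e (f v • e.symm (τ (e a)))) ∧
    ∀ μ : V ≃+ V, (∀ i, ∀ τ ∈ T i, ∃ k, ∃ τ' ∈ T k, ∀ v, μ (τ' v) = τ (μ v)) →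
      ∃ σ : K ≃+* K, ∀ c v w, μ (e v) = e w → μ (e (c • v)) = e (σ c • w) := by
  obtain ⟨i0⟩ := ‹Nonempty ι›
  let S : AddSubgroup (AddMonoid.End V) :=
    { carrier := {p | ∀ j, Cp T j p}
      zero_mem' := fun j τ _ _ => (map_zero τ).symm
      add_mem' := fun h1 h2 j => (h1 j).add (h2 j)
      neg_mem' := fun {p} h1 j τ t v => by
        change -p _ = τ (-p v)
        rw [map_neg, h1 j τ t] }
  have : Finite (AddMonoid.End V) := Finite.of_injective _ DFunLike.coe_injective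
  have onto : ∀ i, ∀ a ∉ I i, ∀ w, ∃ p ∈ S, p a + w ∈ I i := fun i a ha w => by
    obtain ⟨k, hik⟩ := h.ex i
    obtain ⟨e, e1, e2, e3⟩ := h.exists_cp hik ha w
    exact ⟨e, h.cp_all hik e1 e2, e3⟩
  obtain ⟨a0, h0⟩ := h.exists_not i0
  have J : JD S := ⟨AddMonoidHom.ext fun x => by
      change (2 : AddMonoid.End V) x = 0
      rw [← one_add_one_eq_two]; exact h.two x, fun _ _ _ _ => rfl, fun p hp p0 => by
    obtain ⟨q, hq, e⟩ := onto i0 (p a0) (fun m => p0 (AddMonoidHom.ext (h.cp_zero hp h0 m))) a0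
    have e1 : q * p = 1 := AddMonoidHom.ext fun w => h.eq_of_add (h.cp_zero (e := (q * p + 1 : AddMonoid.End V))
      (fun j => Cp.add (e := (q * p : AddMonoid.End V)) (e' := .id V)
        (fun τ t v => (congrArg q (hp j τ t v)).trans (hq j τ t _)) fun _ _ _ => rfl)
      h0 e w)
    exact ⟨q, hq, mul_eq_one_comm.1 e1, e1⟩⟩
  have : Nontrivial (AddMonoid.End V) := ⟨1, 0, fun e => h0 (by
    rw [show a0 = 0 from DFunLike.congr_fun e a0]; exact zero_mem _)⟩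
  obtain ⟨K, _, _, φ, φ1, φ2⟩ := J.exists_field
  let _ : Module K V := Module.compHom V φ
  have sm : ∀ (c : K) (v : V), c • v = φ c v := fun _ _ => rfl
  have cp : ∀ c j, Cp T j (φ c) := fun c => (φ2 _).2 ⟨c, rfl⟩
  let N : ι → Submodule K V := fun i => { I i with smul_mem' := fun c x hx => h.sc_mem (cp c i).sc hx }
  let b := (Module.finBasis K V).equivFun.symm
  have ch : CharP K 2 := CharTwo.of_one_ne_zero_of_two_eq_zero one_ne_zero (φ1 (by rw [map_ofNat, J.two, map_zero]))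
  refine ⟨K, inferInstance, inferInstance, _, b.toAddEquiv, ch, ?_, fun i => ?_, fun i τ t f hf a ha v => ?_,
    fun μ hμ => ?_⟩
  · obtain ⟨k, hik⟩ := h.ex i0
    obtain ⟨x, x0, x1, x2⟩ := h.inf i0 k hik
    obtain ⟨v, v1, v2⟩ := h.exists_out hik
    have e1 : (⊥ : Submodule K V) < N i0 ⊓ N k := bot_lt_iff_ne_bot.2 ((Submodule.ne_bot_iff _).2 ⟨x, ⟨x1, x2⟩, x0⟩)
    have e2 : N i0 ⊓ N k < N i0 := lt_of_le_of_ne inf_le_left fun e => v2 (e.ge v1).2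
    have e3 : N i0 < ⊤ := lt_top_iff_ne_top.2 fun e => h0 (e.ge (Submodule.mem_top (x := a0)))
    have := Submodule.finrank_lt_finrank_of_lt e1
    have := Submodule.finrank_lt_finrank_of_lt e2
    have := Submodule.finrank_lt_finrank_of_lt e3
    rw [finrank_top] at this
    omega
  · obtain ⟨a, ha⟩ := h.exists_not i
    have k : ∀ w, ∃ c : K, c • a + w ∈ I i := fun w => by
      obtain ⟨p, hp, e⟩ := onto i a ha w
      obtain ⟨c, rfl⟩ := (φ2 p).1 hp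
      exact ⟨c, e⟩
    choose g hg using k
    have un : ∀ c w, c • a + w ∈ I i → g w = c := fun c w e => by
      have := add_mem (hg w) e
      rw [add_add_add_comm, h.two, add_zero, ← add_smul] at this
      exact CharTwo.add_eq_zero.1 (φ1 ((AddMonoidHom.ext (h.cp_zero (cp _) ha this)).trans (map_zero φ).symm))
    let f : Module.Dual K V :=
      { toFun := g
        map_add' := fun x y => un _ _ (by rw [add_smul, add_add_add_comm]; exact add_mem (hg x) (hg y))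
        map_smul' := fun c x => un _ _ (by
          rw [RingHom.id_apply, smul_eq_mul, mul_smul, ← smul_add]; exact (N i).smul_mem c (hg x)) }
    have k : ∀ w, w ∈ I i ↔ f w = 0 := fun w => ⟨fun e => un 0 w (by simpa using e), fun e => by
      simpa [show g w = 0 from e] using hg w⟩
    exact ⟨f.comp b.toLinearMap, fun e => ha ((k a).2 (by simpa using DFunLike.congr_fun e (b.symm a))),
      fun v => k _⟩
  · have := h.ker i τ t _ ((hf (v - f v • a)).2 (by simp [ha]))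
    change τ (b _) = 0 at this
    change τ (b v) = b (f v • b.symm (τ (b a)))
    rw [map_sub, map_sub, sub_eq_zero] at this
    rw [this, map_smul b, map_smul b, b.apply_symm_apply, sm, sm, cp _ i τ t]
  · have k : ∀ c, ∃ c', ∀ v, φ c' (μ v) = μ (φ c v) := fun c => by
      obtain ⟨c', e⟩ := (φ2 (μ.toAddMonoidHom.comp ((φ c : V →+ V).comp μ.symm.toAddMonoidHom))).1
        fun j τ t v => by
          obtain ⟨v, rfl⟩ := μ.surjective v
          obtain ⟨k, τ', t', e⟩ := hμ j τ t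
          change μ (φ c (μ.symm _)) = τ (μ (φ c (μ.symm _)))
          rw [← e, ← e, μ.symm_apply_apply, μ.symm_apply_apply, cp c k τ' t']
      exact ⟨c', fun v => by rw [e]; exact congrArg (fun x => μ (φ c x)) (μ.symm_apply_apply v)⟩
    choose σ hσ using k
    have ex : ∀ c d, (∀ v, φ c (μ v) = φ d (μ v)) → c = d := fun c d e => φ1 (AddMonoidHom.ext fun v => by
      obtain ⟨v, rfl⟩ := μ.surjective v
      exact e v)
    let σ' : K →+* K :=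
      { toFun := σ
        map_one' := ex _ _ fun v => by simp [hσ]
        map_mul' := fun c d => ex _ _ fun v => by simp [hσ]
        map_zero' := ex _ _ fun v => by simp [hσ]
        map_add' := fun c d => ex _ _ fun v => by
          rw [hσ, ← sm, add_smul, map_add μ, map_add φ]
          exact congrArg₂ _ (hσ c v).symm (hσ d v).symm }
    refine ⟨RingEquiv.ofBijective σ' (Finite.injective_iff_bijective.1 σ'.injective), fun c v w e => ?_⟩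
    change μ (b v) = b w at e
    change μ (b (c • v)) = b (σ c • w)
    rw [map_smul b, map_smul b, sm, sm, ← e, hσ]

end LS

end H17.TL
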