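import Cfsg.Agent.H12.TIB

/-! # Weakly closed TI-subgroups, the linear case: small facts -/

set_option autoImplicit false
set_option linter.unusedSectionVars false
set_option linter.unusedVariables false

namespace H12.TI.L17

open Cfsg H24 Subgroup
open scoped commutatorElement

universe u

variable {G : Type u} [Group G] [Finite G] {Ω : Set (Subgroup G)}
  {A B C D E F I P Q R S T U : Subgroup G} {a a' b c d d' g i j j' p r s t w x y ρ κ : G}

theorem top_card (hA : Top Ω A B) (hC : Top Ω C D) : ♯(ax A B) = ♯(ax C D) :=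
  le_antisymm (hC.max _ _ hA.toAdj) (hA.max _ _ hC.toAdj)

theorem card_inf (h : Sit Ω) (hc : CL Ω) (hB : Top Ω A B) (hC : Top Ω A C) (hn : ax A B ≠ ax A C) :
    ♯A * ♯(ax A B ⊓ ax A C) = ♯(ax A B) * ♯(ax A B) := by
  have := card_sup (A := ax A B) (B := ax A C)
    (norm_of_cent (le_C_iff.2 fun x hx y hy => h.comm hB.l hx.1 hy.1))
  rwa [hc.sup A B C hB hC hn, ← top_card hB hC] at this

theorem card_inf_eq (h : Sit Ω) (hc : CL Ω) (hB : Top Ω A B) (hC : Top Ω A C) (hn : ax A B ≠ ax A C)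
    (hD : Top Ω P D) (hE : Top Ω P E) (hn' : ax P D ≠ ax P E) :
    ♯(ax A B ⊓ ax A C) = ♯(ax P D ⊓ ax P E) :=
  Nat.eq_of_mul_eq_mul_left (card_pos A) (by
    rw [card_inf h hc hB hC hn, h.card_eq hB.l hD.l, card_inf h hc hD hE hn', top_card hB hD])

theorem big (h : Sit Ω) (hc : CL Ω) (hB : Top Ω A B) (hC : Top Ω A C) (hn : ax A B ≠ ax A C)
    (hD : Top Ω A D) (hE : Top Ω A E) (hle : ax A B ⊓ ax A C ≤ ax A D ⊓ ax A E) (hx : x ∈ ax A D)
    (hx' : x ∈ ax A E) (hx0 : x ∉ ax A B ⊓ ax A C) : ax A D = ax A E := by_contra fun hn' =>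
  hx0 ((eq_of_le_of_card_ge hle (card_inf_eq h hc hB hC hn hD hE hn').ge).ge ⟨hx, hx'⟩)

theorem inv_eq (h : Sit Ω) (hA : A ∈ Ω) (ha : a ∈ A) : a⁻¹ = a := inv_eq_of_mul_eq_one_right (h.sq A hA a ha)

theorem eq_one (h : Sit Ω) (hA : A ∈ Ω) (hB : B ∈ Ω) (hn : A ≠ B) (ha : a ∈ A) (hb : a ∈ B) : a = 1 :=
  by_contra fun e => hn (h.eq_of_mem hA hB e ha hb)

end H12.TI.L17
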