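import Mathlib
import Cfsg.Agent.H20.TAZ

/-! Moufang triangles: the basic commutator calculus and the coordinate ring. -/

set_option autoImplicit false
set_option linter.unusedSectionVars false

namespace H20
namespace TB

open Subgroup
open scoped commutatorElement

universe u

variable {G : Type u} [Group G]

theorem Mu.inv17 {n : ℤ} {U : ℤ → Subgroup G} {i : ℤ} {a m : G} (h : Mu n U i a m) :
    Mu n U i a⁻¹ m⁻¹ := by
  obtain ⟨⟨κ, hκ, l, hl, e⟩, h2⟩ := h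
  refine ⟨⟨l⁻¹, inv_mem hl, κ⁻¹, inv_mem hκ, by rw [e]; group⟩, fun j g => ?_⟩
  have := h2 (2 * i + n - j) (m⁻¹ * g * m⁻¹⁻¹)
  rw [show 2 * i + n - (2 * i + n - j) = j by ring, show m * (m⁻¹ * g * m⁻¹⁻¹) * m⁻¹ = g by group] at this
  exact this.symm

namespace Hex

variable (H : Hex G)

theorem congr17 {i j : ℤ} (h : (i - j) % 6 = 0) : H.U i = H.U j := by
  obtain ⟨k, hk⟩ := Int.dvd_of_emod_eq_zero h
  obtain rfl : i = j + 6 * k := by omega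
  clear h hk
  induction k using Int.induction_on with
  | zero => simp
  | succ k ih => rw [← ih, ← H.per (j + 6 * k)]; congr 1; ring
  | pred k ih => rw [← ih, ← H.per (j + 6 * (-(k : ℤ) - 1))]; congr 1; ring

theorem mem17 {i j : ℤ} {g : G} (hg : g ∈ H.U i) (h : (i - j) % 6 = 0) : g ∈ H.U j :=
  H.congr17 h ▸ hg

/-- the reversed triangle -/
def rev17 (c : ℤ) : Hex G where
  U j := H.U (c - j)
  per i := H.congr17 (by omega)
  fin i := H.fin _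
  c1 i a ha b hb := (H.c1 (c - (i + 1)) b hb a (H.mem17 ha (by omega))).symm
  c2 i a ha b hb := by
    rw [← commutatorElement_inv]
    exact inv_mem (H.mem17 (H.c2 (c - (i + 2)) b hb a (H.mem17 ha (by omega))) (by omega))
  ind i a ha b hb d hd e := by
    have := H.ind (c - (i + 2)) d⁻¹ (inv_mem hd) b⁻¹ (inv_mem (H.mem17 hb (by omega))) a⁻¹
      (inv_mem (H.mem17 ha (by omega))) (by rw [← inv_eq_one, ← e]; group)
    simp only [inv_eq_one] at this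
    tauto
  mu i a ha h1 := by
    obtain ⟨m, ⟨κ, hκ, l, hl, e⟩, h2⟩ := H.mu _ a ha h1
    refine ⟨m, ⟨κ, H.mem17 hκ (by omega), l, H.mem17 hl (by omega), e⟩, fun j g => ?_⟩
    rw [h2, H.congr17 (j := c - (2 * i + 3 - j)) (by omega)]
  ne i := H.ne _

variable {H}

theorem mu_rev17 {c i : ℤ} {a m : G} (h : Mu 3 H.U (c - i) a m) : Mu 3 (H.rev17 c).U i a m := by
  obtain ⟨⟨κ, hκ, l, hl, e⟩, h2⟩ := h
  refine ⟨⟨κ, H.mem17 hκ (by omega), l, H.mem17 hl (by omega), e⟩, fun j g => ?_⟩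
  show g ∈ H.U _ ↔ _ ∈ H.U _
  rw [h2, H.congr17 (j := c - (2 * i + 3 - j)) (by omega)]

theorem six4 {i : ℤ} {a m κ l b : G} (ha : a ∈ H.U i) (hκ : κ ∈ H.U (i + 3)) (hl : l ∈ H.U (i + 3))
    (e : m = κ * a * l) (h2 : ∀ j g, g ∈ H.U j ↔ m * g * m⁻¹ ∈ H.U (2 * i + 3 - j))
    (hb : b ∈ H.U (i + 2)) : m * b * m⁻¹ = ⁅a, b⁆ ∧ ⁅κ, ⁅a, b⁆⁆ = b⁻¹ := by
  have hy := H.c2 i a ha b hb
  have h3 : m * b * m⁻¹ ∈ H.U (i + 1) := H.mem17 ((h2 _ _).mp hb) (by omega)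
  have hz : ⁅κ, ⁅a, b⁆⁆ ∈ H.U (i + 2) := by
    rw [← commutatorElement_inv]
    exact inv_mem (H.mem17 (H.c2 (i + 1) _ hy κ (H.mem17 hκ (by omega))) (by omega))
  have c1 := H.c1 (i + 2) b hb l (H.mem17 hl (by omega))
  have c2 := H.c1 (i + 2) b hb κ (H.mem17 hκ (by omega))
  have c3 := H.c1 (i + 1) _ hy _ (H.mem17 hz (by omega))
  have e1 : m * b * m⁻¹ = ⁅κ, ⁅a, b⁆⁆ * ⁅a, b⁆ * b := by
    calc m * b * m⁻¹ = κ * a * (l * b) * l⁻¹ * a⁻¹ * κ⁻¹ := by rw [e]; group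
      _ = κ * ⁅a, b⁆ * (b * κ⁻¹) := by rw [← c1, commutatorElement_def]; group
      _ = κ * ⁅a, b⁆ * (κ⁻¹ * b) := by
        rw [show b * κ⁻¹ = κ⁻¹ * (κ * b) * κ⁻¹ by group, ← c2]; group
      _ = _ := by rw [commutatorElement_def κ]; group
  rw [← c3] at e1
  have := H.ind i 1 (one_mem _) ((m * b * m⁻¹)⁻¹ * ⁅a, b⁆) (mul_mem (inv_mem h3) hy) _
    (mul_mem hz hb) (by rw [e1]; group)
  exact ⟨inv_mul_eq_one.mp this.2.1, eq_inv_of_mul_eq_one_left this.2.2⟩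

theorem conj17 {i : ℤ} {a m b : G} (ha : a ∈ H.U i) (h : Mu 3 H.U i a m) (hb : b ∈ H.U (i + 2)) :
    m * b * m⁻¹ = ⁅a, b⁆ := by
  obtain ⟨⟨κ, hκ, l, hl, e⟩, h2⟩ := h
  exact (six4 ha hκ hl e h2 hb).1

theorem conj17' {i : ℤ} {a m b : G} (hb : b ∈ H.U (i + 2)) (h : Mu 3 H.U (i + 2) b m)
    (ha : a ∈ H.U i) : m * a * m⁻¹ = ⁅b, a⁆ :=
  conj17 (H := H.rev17 (i + 2)) (i := 0) (H.mem17 hb (by omega))
    (mu_rev17 (by simpa using h)) (H.mem17 ha (by omega))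

theorem inj_right17 {i : ℤ} {a b b' : G} (ha : a ∈ H.U i) (h1 : a ≠ 1) (hb : b ∈ H.U (i + 2))
    (hb' : b' ∈ H.U (i + 2)) (e : ⁅a, b⁆ = ⁅a, b'⁆) : b = b' := by
  obtain ⟨m, hm⟩ := H.mu i a ha h1
  rw [← conj17 ha hm hb, ← conj17 ha hm hb'] at e
  simpa using e

theorem surj_right17 {i : ℤ} {a y : G} (ha : a ∈ H.U i) (h1 : a ≠ 1) (hy : y ∈ H.U (i + 1)) :
    ∃ b ∈ H.U (i + 2), ⁅a, b⁆ = y := by
  obtain ⟨m, hm⟩ := H.mu i a ha h1
  have hb : m⁻¹ * y * m ∈ H.U (i + 2) :=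
    (hm.2 _ _).mpr (H.mem17 (by simpa [mul_assoc] using hy) (by omega))
  exact ⟨_, hb, by rw [← conj17 ha hm hb]; group⟩

theorem inj_left17 {i : ℤ} {a a' b : G} (hb : b ∈ H.U (i + 2)) (h1 : b ≠ 1) (ha : a ∈ H.U i)
    (ha' : a' ∈ H.U i) (e : ⁅a, b⁆ = ⁅a', b⁆) : a = a' :=
  inj_right17 (H := H.rev17 (i + 2)) (i := 0) (H.mem17 hb (by omega)) h1 (H.mem17 ha (by omega))
    (H.mem17 ha' (by omega)) (by rw [← commutatorElement_inv, e, commutatorElement_inv])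

theorem surj_left17 {i : ℤ} {b y : G} (hb : b ∈ H.U (i + 2)) (h1 : b ≠ 1) (hy : y ∈ H.U (i + 1)) :
    ∃ a ∈ H.U i, ⁅a, b⁆ = y := by
  obtain ⟨a, ha, e⟩ := surj_right17 (H := H.rev17 (i + 2)) (i := 0) (H.mem17 hb (by omega)) h1
    (H.mem17 (inv_mem hy) (by omega))
  exact ⟨a, H.mem17 ha (by omega), by rw [← commutatorElement_inv, e, inv_inv]⟩

theorem exists_ne17 (H : Hex G) (i : ℤ) : ∃ a ∈ H.U i, a ≠ 1 := by
  by_contra h
  push Not at h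
  exact H.ne i ((Subgroup.eq_bot_iff_forall _).mpr h)

theorem comm17 {i : ℤ} {x y : G} (hx : x ∈ H.U i) (hy : y ∈ H.U i) : x * y = y * x := by
  obtain ⟨a, ha, h1⟩ := H.exists_ne17 (i - 1)
  obtain ⟨b, hb, rfl⟩ := surj_right17 ha h1 (H.mem17 hy (by omega))
  have c1 : Commute x a := (H.c1 _ a ha x (H.mem17 hx (by omega))).symm
  have c2 : Commute x b := H.c1 _ x hx b (H.mem17 hb (by omega))
  exact ((c1.mul_right c2).mul_right c1.inv_right).mul_right c2.inv_right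

theorem mul_left17 {i : ℤ} {a a' b : G} (ha : a ∈ H.U i) (ha' : a' ∈ H.U i) (hb : b ∈ H.U (i + 2)) :
    ⁅a * a', b⁆ = ⁅a, b⁆ * ⁅a', b⁆ := by
  have h1 := H.c1 i a ha _ (H.c2 i a' ha' b hb)
  rw [comm17 (H.c2 i a ha b hb) (H.c2 i a' ha' b hb)]
  calc ⁅a * a', b⁆ = (a * ⁅a', b⁆) * a⁻¹ * ⁅a, b⁆ := by simp only [commutatorElement_def]; group
    _ = _ := by rw [h1]; group

theorem mul_right17 {i : ℤ} {a b b' : G} (ha : a ∈ H.U i) (hb : b ∈ H.U (i + 2))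
    (hb' : b' ∈ H.U (i + 2)) : ⁅a, b * b'⁆ = ⁅a, b⁆ * ⁅a, b'⁆ := by
  have h1 := H.c1 (i + 1) _ (H.c2 i a ha b' hb') b (H.mem17 hb (by omega))
  calc ⁅a, b * b'⁆ = ⁅a, b⁆ * (b * ⁅a, b'⁆) * b⁻¹ := by simp only [commutatorElement_def]; group
    _ = _ := by rw [← h1]; group

theorem kl17 {i : ℤ} {a m κ l : G} (ha : a ∈ H.U i) (hκ : κ ∈ H.U (i + 3)) (hl : l ∈ H.U (i + 3))
    (e : m = κ * a * l) (h2 : ∀ j g, g ∈ H.U j ↔ m * g * m⁻¹ ∈ H.U (2 * i + 3 - j)) : κ = l := by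
  have h3 : ∀ j g, g ∈ H.U j ↔ m * g * m⁻¹ ∈ H.U (2 * (i + 1 + 2) + 3 - j) := fun j g => by
    rw [h2, H.congr17 (j := 2 * (i + 1 + 2) + 3 - j) (by omega)]
  have ha' : a ∈ H.U (i + 1 + 2 + 3) := H.mem17 ha (by omega)
  have m1 : Mu 3 H.U (i + 1 + 2) l m := ⟨⟨a, ha', m⁻¹ * κ * m,
    H.mem17 ((h2 i _).mpr (H.mem17 (by simpa [mul_assoc] using hκ) (by omega))) (by omega),
    by rw [show a * l * (m⁻¹ * κ * m) = κ⁻¹ * (κ * a * l) * m⁻¹ * κ * m by group, ← e]; group⟩, h3⟩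
  have m2 : Mu 3 H.U (i + 1 + 2) κ m := ⟨⟨m * l * m⁻¹, H.mem17 ((h2 _ _).mp hl) (by omega), a, ha',
    by rw [show m * l * m⁻¹ * κ * a = m * l * m⁻¹ * (κ * a * l) * l⁻¹ by group, ← e]; group⟩, h3⟩
  obtain ⟨y, hy, h1⟩ := H.exists_ne17 (i + 1)
  have hκ' : κ ∈ H.U (i + 1 + 2) := H.mem17 hκ (by omega)
  have hl' : l ∈ H.U (i + 1 + 2) := H.mem17 hl (by omega)
  refine inj_right17 hy h1 hκ' hl' ?_
  rw [← commutatorElement_inv, ← conj17' hκ' m2 hy, conj17' hl' m1 hy, commutatorElement_inv]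

theorem kap17 {i : ℤ} {a m κ l : G} (ha : a ∈ H.U i) (hκ : κ ∈ H.U (i + 3)) (hl : l ∈ H.U (i + 3))
    (e : m = κ * a * l) (h2 : ∀ j g, g ∈ H.U j ↔ m * g * m⁻¹ ∈ H.U (2 * i + 3 - j)) :
    κ = m * a * m⁻¹ := by
  have h := kl17 (i := i + 3) (m := m) (κ := a) (l := m⁻¹ * κ * m) hl (H.mem17 ha (by omega))
    (H.mem17 ((h2 i _).mpr (H.mem17 (by simpa [mul_assoc] using hκ) (by omega))) (by omega))
    (by rw [show a * l * (m⁻¹ * κ * m) = κ⁻¹ * (κ * a * l) * m⁻¹ * κ * m by group, ← e]; group)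
    (fun j g => by rw [h2, H.congr17 (j := 2 * (i + 3) + 3 - j) (by omega)])
  rw [h]; group

/-- coordinates over a not necessarily associative ring -/
structure PP (H : Hex G) (R : Type*) [NonAssocRing R] where
  x0 : R → G
  x1 : R → G
  x2 : R → G
  add0 : ∀ s t, x0 (s + t) = x0 s * x0 t
  add1 : ∀ s t, x1 (s + t) = x1 s * x1 t
  add2 : ∀ s t, x2 (s + t) = x2 s * x2 t
  inj0 : Function.Injective x0
  inj1 : Function.Injective x1
  inj2 : Function.Injective x2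
  mem0 : ∀ g, g ∈ H.U 0 ↔ ∃ t, x0 t = g
  mem1 : ∀ g, g ∈ H.U 1 ↔ ∃ t, x1 t = g
  mem2 : ∀ g, g ∈ H.U 2 ↔ ∃ t, x2 t = g
  rel : ∀ s t, ⁅x0 s, x2 t⁆ = x1 (s * t)

theorem zero17 {R : Type*} [AddGroup R] {x : R → G} (h : ∀ s t, x (s + t) = x s * x t) : x 0 = 1 := by
  have := h 0 0
  rw [add_zero] at this
  exact left_eq_mul.mp this

theorem neg17 {R : Type*} [AddGroup R] {x : R → G} (h : ∀ s t, x (s + t) = x s * x t) (s : R) :
    x (-s) = (x s)⁻¹ := by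
  rw [eq_inv_iff_mul_eq_one, ← h, neg_add_cancel, zero17 h]

variable {R : Type*} [NonAssocRing R]

/-- the coordinates of the reversed triangle -/
def PP.rev (P : PP H R) : PP (H.rev17 2) Rᵐᵒᵖ where
  x0 s := P.x2 s.unop
  x1 s := P.x1 (-s.unop)
  x2 s := P.x0 s.unop
  add0 s t := P.add2 _ _
  add1 s t := by rw [← P.add1, MulOpposite.unop_add, neg_add]
  add2 s t := P.add0 _ _
  inj0 s t h := MulOpposite.unop_injective (P.inj2 h)
  inj1 s t h := MulOpposite.unop_injective (neg_injective (P.inj1 h))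
  inj2 s t h := MulOpposite.unop_injective (P.inj0 h)
  mem0 g := (P.mem2 g).trans ⟨fun ⟨t, h⟩ => ⟨MulOpposite.op t, h⟩, fun ⟨t, h⟩ => ⟨_, h⟩⟩
  mem1 g := (P.mem1 g).trans ⟨fun ⟨t, h⟩ => ⟨MulOpposite.op (-t), by simpa using h⟩,
    fun ⟨t, h⟩ => ⟨_, h⟩⟩
  mem2 g := (P.mem0 g).trans ⟨fun ⟨t, h⟩ => ⟨MulOpposite.op t, h⟩, fun ⟨t, h⟩ => ⟨_, h⟩⟩
  rel s t := by rw [← commutatorElement_inv, P.rel, neg17 P.add1, MulOpposite.unop_mul]

theorem PP.left_inv [Nontrivial R] (P : PP H R) (s : R) (hs : s ≠ 0) :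
    ∃ u : R, ∀ t, u * (s * t) = t := by
  have m0 : ∀ t, P.x0 t ∈ H.U 0 := fun t => (P.mem0 _).mpr ⟨t, rfl⟩
  have m1 : ∀ t, P.x1 t ∈ H.U 1 := fun t => (P.mem1 _).mpr ⟨t, rfl⟩
  have m2 : ∀ t, P.x2 t ∈ H.U (0 + 2) := fun t => (P.mem2 _).mpr ⟨t, rfl⟩
  have ne : ∀ s, s ≠ 0 → P.x0 s ≠ 1 := fun s hs e => hs (P.inj0 (e.trans (zero17 P.add0).symm))
  obtain ⟨n, hn⟩ := H.mu 0 _ (m0 1) (ne 1 one_ne_zero)
  have n2 : ∀ t, n * P.x2 t * n⁻¹ = P.x1 t := fun t => by rw [conj17 (m0 1) hn (m2 t), P.rel, one_mul]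
  have n3 : ∀ u t, ⁅n * P.x0 u * n⁻¹, P.x1 t⁆ = n * P.x1 (u * t) * n⁻¹ := fun u t => by
    rw [← n2, ← P.rel]; simp only [commutatorElement_def]; group
  have n1 : ∀ t, n * P.x1 t * n⁻¹ = (P.x2 t)⁻¹ := fun t => by
    obtain ⟨⟨κ, hκ, l, hl, e⟩, h2⟩ := hn
    have h3 := (six4 (m0 1) hκ hl e h2 (m2 t)).2
    rw [kap17 (m0 1) hκ hl e h2, P.rel, n3, one_mul, one_mul] at h3
    exact h3
  obtain ⟨m, ⟨κ, hκ, l, hl, e⟩, h2⟩ := H.mu 0 _ (m0 s) (ne s hs)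
  obtain ⟨u, hu⟩ := (P.mem0 (n⁻¹ * κ * n)).mp
    ((hn.2 0 _).mpr (H.mem17 (by simpa [mul_assoc] using hκ) (by omega)))
  refine ⟨u, fun t => ?_⟩
  have h3 := (six4 (m0 s) hκ hl e h2 (m2 t)).2
  rw [show κ = n * P.x0 u * n⁻¹ by rw [hu]; group, P.rel, n3, n1] at h3
  exact P.inj2 (inv_injective h3)

theorem exists_PP (H : Hex G) {e : G} (he : e ∈ H.U 0) (h1 : e ≠ 1) :
    ∃ (R : Type u) (_ : NonAssocRing R) (_ : Finite R) (P : PP H R), P.x0 1 = e := by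
  obtain ⟨f, hf, hf1⟩ := H.exists_ne17 (0 + 2)
  choose a ha ea using fun y : H.U 1 => surj_left17 (i := 0) hf hf1 y.2
  choose b hb eb using fun y : H.U 1 => surj_right17 (i := 0) he h1 y.2
  have a_mul : ∀ y z, a (y * z) = a y * a z := fun y z =>
    inj_left17 hf hf1 (ha _) (mul_mem (ha _) (ha _)) (by rw [mul_left17 (ha _) (ha _) hf, ea, ea, ea]; rfl)
  have b_mul : ∀ y z, b (y * z) = b y * b z := fun y z =>
    inj_right17 he h1 (hb _) (mul_mem (hb _) (hb _)) (by rw [mul_right17 he (hb _) (hb _), eb, eb, eb]; rfl)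
  have a_one : a 1 = 1 := left_eq_mul.mp (show a 1 = a 1 * a 1 by rw [← a_mul, mul_one])
  have b_one : b 1 = 1 := left_eq_mul.mp (show b 1 = b 1 * b 1 by rw [← b_mul, mul_one])
  let o : H.U 1 := ⟨⁅e, f⁆, H.c2 0 e he f hf⟩
  have a_o : a o = e := inj_left17 hf hf1 (ha _) he (ea o)
  have b_o : b o = f := inj_right17 he h1 (hb _) hf (eb o)
  letI : CommGroup (H.U 1) :=
    { (inferInstance : Group (H.U 1)) with mul_comm := fun x y => Subtype.ext (comm17 x.2 y.2) }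
  let mul : Additive (H.U 1) → Additive (H.U 1) → Additive (H.U 1) := fun s t =>
    Additive.ofMul ⟨⁅a s.toMul, b t.toMul⁆, H.c2 0 _ (ha _) _ (hb _)⟩
  letI : NonAssocRing (Additive (H.U 1)) :=
    { (inferInstance : AddCommGroup (Additive (H.U 1))) with
      mul := mul
      one := Additive.ofMul o
      left_distrib := fun s t r => Subtype.ext (by
        show ⁅a s.toMul, b (t.toMul * r.toMul)⁆ = ⁅a s.toMul, b t.toMul⁆ * ⁅a s.toMul, b r.toMul⁆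
        rw [b_mul, mul_right17 (ha _) (hb _) (hb _)])
      right_distrib := fun s t r => Subtype.ext (by
        show ⁅a (s.toMul * t.toMul), b r.toMul⁆ = ⁅a s.toMul, b r.toMul⁆ * ⁅a t.toMul, b r.toMul⁆
        rw [a_mul, mul_left17 (ha _) (ha _) (hb _)])
      zero_mul := fun s => Subtype.ext (by
        show ⁅a 1, b s.toMul⁆ = 1
        rw [a_one, commutatorElement_one_left])
      mul_zero := fun s => Subtype.ext (by
        show ⁅a s.toMul, b 1⁆ = 1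
        rw [b_one, commutatorElement_one_right])
      one_mul := fun s => Subtype.ext (by
        show ⁅a o, b s.toMul⁆ = _
        rw [a_o, eb]; rfl)
      mul_one := fun s => Subtype.ext (by
        show ⁅a s.toMul, b o⁆ = _
        rw [b_o, ea]; rfl) }
  haveI := H.fin 1
  refine ⟨Additive (H.U 1), inferInstance, inferInstance,
    { x0 := fun s => a s.toMul, x1 := fun s => (s.toMul : H.U 1), x2 := fun s => b s.toMul
      add0 := fun s t => a_mul _ _, add1 := fun s t => rfl, add2 := fun s t => b_mul _ _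
      inj0 := fun s t h => Subtype.ext (by
        have h' : a s.toMul = a t.toMul := h
        exact (ea _).symm.trans (h' ▸ ea _))
      inj1 := fun s t h => Subtype.ext h
      inj2 := fun s t h => Subtype.ext (by
        have h' : b s.toMul = b t.toMul := h
        exact (eb _).symm.trans (h' ▸ eb _))
      mem0 := fun g => ⟨fun hg => ⟨Additive.ofMul ⟨⁅g, f⁆, H.c2 0 g hg f hf⟩,
        inj_left17 hf hf1 (ha _) hg (ea _)⟩, fun ⟨t, h⟩ => h ▸ ha _⟩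
      mem1 := fun g => ⟨fun hg => ⟨Additive.ofMul ⟨g, hg⟩, rfl⟩, fun ⟨t, h⟩ => h ▸ t.toMul.2⟩
      mem2 := fun g => ⟨fun hg => ⟨Additive.ofMul ⟨⁅e, g⁆, H.c2 0 e he g hg⟩,
        inj_right17 he h1 (hb _) hg (eb _)⟩, fun ⟨t, h⟩ => h ▸ hb _⟩
      rel := fun s t => rfl }, a_o⟩

end Hex

end TB
end H20
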