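import Mathlib
import Cfsg.Agent.H20.THex
import Cfsg.Agent.H7.QuadClass
import Cfsg.Agent.H15.Finite

/-! Anisotropic quadratic and pseudo-quadratic spaces over finite fields: the structure. -/

set_option autoImplicit false
set_option linter.unusedSectionVars false

namespace H20
namespace TB

open Subgroup
open scoped commutatorElement

theorem iso_of_param17 {X M M' : Type*} [Group M] [Group M'] (w : X → M) (w' : X → M')
    (hs : Function.Surjective w) (hs' : Function.Surjective w')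
    (he : ∀ x y, w x = w y ↔ w' x = w' y)
    (hm : ∀ x y, ∃ z, w x * w y = w z ∧ w' x * w' y = w' z) :
    ∃ Φ : M ≃* M', ∀ x, Φ (w x) = w' x := by
  choose j hj using hs
  have h1 : ∀ x, w' (j (w x)) = w' x := fun x => (he _ _).mp (hj _)
  refine ⟨⟨Equiv.ofBijective (fun m => w' (j m)) ⟨fun m m' h => ?_, fun m' => ?_⟩, fun m m' => ?_⟩, h1⟩
  · rw [← hj m, ← hj m']; exact (he _ _).mpr h
  · obtain ⟨x, rfl⟩ := hs' m'
    exact ⟨w x, h1 x⟩
  · obtain ⟨z, h2, h3⟩ := hm (j m) (j m')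
    rw [hj, hj] at h2
    show w' (j (m * m')) = w' (j m) * w' (j m')
    rw [h2, h1, h3]

theorem ds_map17 {G G' : Type*} [Group G] [Group G'] (f : G →* G') (T : Subgroup G) :
    ∀ n, (ds T n).map f = ds (T.map f) n
  | 0 => rfl
  | n + 1 => by rw [ds, ds, Subgroup.map_commutator, ds_map17 f T n]

theorem semi_aut17 {K M : Type*} [Field K] [Finite K] [Group M] (x : K → M)
    (hx : Function.Bijective x) (T : Subgroup (MulAut M))
    (hT : ∀ g ∈ T, ∃ a, a ≠ 0 ∧ ∃ σ : K →*₀ K, ∀ s, g (x s) = x (a * σ s)) : ds T 2 = ⊥ := by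
  have h := semi_sol17 (G := M ⋊[MonoidHom.id _] MulAut M) (fun s => SemidirectProduct.inl (x s))
    (SemidirectProduct.inl_injective.comp hx.1) (T.map SemidirectProduct.inr) (by
      rintro _ ⟨g, hg, rfl⟩
      obtain ⟨a, ha, σ, h⟩ := hT g hg
      exact ⟨a, ha, σ, fun s => by rw [← map_inv, ← SemidirectProduct.inl_aut, ← h]; rfl⟩)
  rw [← ds_map17] at h
  refine (Subgroup.eq_bot_iff_forall _).mpr fun g hg => MulEquiv.ext fun m => ?_
  obtain ⟨s, rfl⟩ := hx.2 m
  simpa using congrArg SemidirectProduct.left (h _ ⟨g, hg, rfl⟩ s)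

theorem invol_unique17 {K : Type*} [Field K] [Finite K] (σ τ : K →+* K) (hσ : σ ≠ RingHom.id K)
    (hτ : τ ≠ RingHom.id K) (hσ2 : ∀ a, σ (σ a) = a) (hτ2 : ∀ a, τ (τ a) = a) : σ = τ := by
  classical
  haveI := Fintype.ofFinite K
  obtain ⟨p, hp, -, hp', -⟩ := FiniteField.card' K
  haveI := Fact.mk hp'
  letI := ZMod.algebra K p
  let mk : ∀ ρ : K →+* K, (∀ a, ρ (ρ a) = a) → (K ≃ₐ[ZMod p] K) := fun ρ h =>
    AlgEquiv.ofRingEquiv (f := { ρ with invFun := ρ, left_inv := h, right_inv := h }) fun x =>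
      DFunLike.congr_fun (RingHom.ext_zmod (ρ.comp (algebraMap (ZMod p) K)) (algebraMap (ZMod p) K)) x
  have ho : ∀ ρ h, ρ ≠ RingHom.id K → orderOf (mk ρ h) = 2 := fun ρ h h1 =>
    orderOf_eq_prime (AlgEquiv.ext h) fun e => h1 (RingHom.ext fun x => DFunLike.congr_fun e x)
  have h1 := IsCyclic.card_orderOf_eq_totient (α := K ≃ₐ[ZMod p] K) (d := 2)
    (ho σ hσ2 hσ ▸ orderOf_dvd_card)
  rw [Nat.totient_two] at h1
  have := Finset.card_le_one.mp h1.le (mk σ hσ2) (by simp [ho σ hσ2 hσ]) (mk τ hτ2)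
    (by simp [ho τ hτ2 hτ])
  exact RingHom.ext fun x => DFunLike.congr_fun this x

theorem card_fix17 {K : Type*} [Field K] (σ : K →+* K) (hσ : σ ≠ RingHom.id K)
    (hσ2 : ∀ a, σ (σ a) = a) : Nat.card {a // σ a = a} ^ 2 = Nat.card K := by
  obtain ⟨θ, hθ⟩ := H15.exists_sigma_ne σ hσ
  have h0 : θ - σ θ ≠ 0 := sub_ne_zero.mpr hθ.symm
  have h0' : σ θ - θ ≠ 0 := sub_ne_zero.mpr hθ
  rw [sq, ← Nat.card_prod]
  refine Nat.card_congr (Equiv.ofBijective (fun x => x.1.1 + x.2.1 * θ) ⟨?_, fun u => ?_⟩)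
  · rintro ⟨⟨a, ha⟩, ⟨b, hb⟩⟩ ⟨⟨a', ha'⟩, ⟨b', hb'⟩⟩ h
    have h1 : a + b * θ = a' + b' * θ := h
    have h2 := congrArg σ h1
    rw [map_add, map_add, map_mul, map_mul, ha, hb, ha', hb'] at h2
    obtain rfl : b = b' := mul_right_cancel₀ h0 (by linear_combination h1 - h2)
    obtain rfl : a = a' := by linear_combination h1
    rfl
  · have hb : σ ((u - σ u) / (θ - σ θ)) = (u - σ u) / (θ - σ θ) := by
      rw [map_div₀, map_sub, map_sub, hσ2, hσ2]; field_simp; ring
    refine ⟨(⟨u - (u - σ u) / (θ - σ θ) * θ, ?_⟩, ⟨_, hb⟩), by simp⟩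
    rw [map_sub, map_mul, hb]; field_simp; ring

namespace PQ

variable {K M : Type*} [Field K] [Group M] (P : PQ K M)

theorem q_one : P.q 1 = 0 := (P.q_eq_zero 1).mpr rfl

theorem f_one_left (n : M) : P.f 1 n = 0 := by simpa using P.f_mul_left 1 1 n

theorem f_one_right (n : M) : P.f n 1 = 0 := by simpa using P.f_mul_right n 1 1

theorem γ_zero : P.γ 0 = 1 := Hex.zero17 P.γ_add

theorem act_one' (s : K) : P.act s 1 = 1 := by simpa using P.act_hom s 1 1

theorem f_γ' (u : K) (m : M) : P.f (P.γ u) m = 0 := by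
  have h := congrArg P.q (P.γ_comm u m)
  rw [P.q_mul, P.q_mul, P.f_γ] at h
  linear_combination h

theorem key (s t : K) (m : M) : P.q (P.γ (P.σ s * t * P.q m)) =
    ((s + t) * P.σ (s + t) - t * P.σ t - s * P.σ s) * P.q m - s * P.σ t * P.f m m := by
  have h := congrArg P.q (P.act_add s t m)
  simp only [P.q_mul, P.q_act, P.f_mul_left, P.f_γ, P.f_γ', P.f_act_left, P.f_act_right] at h
  linear_combination -h

theorem f_aut {g : MulAut M} {c : K} (h : ∀ m, P.q (g m) = c * P.q m) (m n : M) :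
    P.f (g m) (g n) = c * P.f m n := by
  have := h (m * n)
  rw [map_mul, P.q_mul, P.q_mul, h, h] at this
  linear_combination this

theorem c_ne {g : MulAut M} {c : K} (h : ∀ m, P.q (g m) = c * P.q m) : c ≠ 0 := by
  obtain ⟨m, hm⟩ := P.ne
  rintro rfl
  exact hm ((map_eq_one_iff g g.injective).mp ((P.q_eq_zero _).mp (by rw [h, zero_mul])))

/-! ### the quadratic case -/

section Quad

variable (h : ∀ u, P.γ u = 1)
include h

theorem act_add' (s t : K) (m : M) : P.act (s + t) m = P.act s m * P.act t m := by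
  rw [add_comm, P.act_add, h, mul_one]

theorem comm' (m n : M) : m * n = n * m := by
  have h1 := P.act_hom (1 + 1) m n
  simp only [P.act_add' h, P.act_one] at h1
  have : m * (n * m) * n = m * (m * n) * n := by simpa [mul_assoc] using h1
  exact (mul_left_cancel (mul_right_cancel this)).symm

theorem f_self (m : M) : P.f m m = 2 * P.q m := by
  have := P.key 1 1 m
  simp only [h, P.q_one, P.σ_of_γ h] at this
  linear_combination this

theorem f_symm (m n : M) : P.f m n = P.f n m := by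
  have := congrArg P.q (P.comm' h m n)
  rw [P.q_mul, P.q_mul] at this
  linear_combination this

end Quad

/-- coordinates in the quadratic case -/
def w (e e' : M) (s t : K) : M := P.act s e * P.act t e'

theorem act_w (e e' : M) (r s t : K) : P.act r (P.w e e' s t) = P.w e e' (r * s) (r * t) := by
  simp only [w, P.act_hom, P.act_mul]

section Quad

variable (h : ∀ u, P.γ u = 1)
include h

theorem q_w (e e' : M) (s t : K) :
    P.q (P.w e e' s t) = s ^ 2 * P.q e + s * t * P.f e e' + t ^ 2 * P.q e' := by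
  simp only [w, P.q_mul, P.q_act, P.f_act_left, P.f_act_right, P.σ_of_γ h]
  ring

theorem w_add (e e' : M) (s t s' t' : K) :
    P.w e e' s t * P.w e e' s' t' = P.w e e' (s + s') (t + t') := by
  simp only [w, P.act_add' h]
  rw [mul_assoc, mul_assoc, ← mul_assoc (P.act t e'), P.comm' h (P.act t e') (P.act s' e), mul_assoc]

theorem act_neg (s : K) (m : M) : P.act (-s) m = (P.act s m)⁻¹ := by
  rw [eq_inv_iff_mul_eq_one, ← P.act_add' h, neg_add_cancel, P.act_zero]

theorem act_inj {e : M} (he : e ≠ 1) : Function.Injective fun s => P.act s e := fun s t hst => by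
  have h1 : P.act s e = P.act t e := hst
  have h2 : P.q (P.act (s + -t) e) = 0 := by
    rw [P.act_add' h, P.act_neg h, h1, mul_inv_cancel, P.q_one]
  rw [P.q_act, P.σ_of_γ h] at h2
  have h3 := (mul_eq_zero.mp h2).resolve_right (mt (P.q_eq_zero e).mp he)
  linear_combination mul_self_eq_zero.mp h3

theorem w_inj {e e' : M} (he : e ≠ 1) (ha : H7.Aniso (P.f e e' / P.q e) (P.q e' / P.q e))
    {s t s' t' : K} (hw : P.w e e' s t = P.w e e' s' t') : s = s' ∧ t = t' := by
  have hq := mt (P.q_eq_zero e).mp he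
  have h1 : P.w e e' (s + -s') (t + -t') = 1 := by
    rw [← P.w_add h, hw, P.w_add h]; simp [w, P.act_zero]
  have h2 := P.q_w h e e' (s + -s') (t + -t')
  rw [h1, P.q_one] at h2
  obtain ⟨h3, h4⟩ := ha (s + -s') (t + -t') (by field_simp; linear_combination -h2)
  exact ⟨by linear_combination h3, by linear_combination h4⟩

theorem caseA [Finite K] : ∃ e, e ≠ 1 ∧ ((∀ m, ∃ s, P.act s e = m) ∨
    ∃ e', H7.Aniso (P.f e e' / P.q e) (P.q e' / P.q e) ∧ ∀ m, ∃ s t, P.w e e' s t = m) := by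
  obtain ⟨e, he⟩ := P.ne
  refine ⟨e, he, ?_⟩
  by_cases h1 : ∀ m, ∃ s, P.act s e = m
  · exact Or.inl h1
  push Not at h1
  obtain ⟨e', he'⟩ := h1
  have hq := mt (P.q_eq_zero e).mp he
  have ha : H7.Aniso (P.f e e' / P.q e) (P.q e' / P.q e) := fun s t hst => by
    have h2 : P.w e e' s t = 1 := (P.q_eq_zero _).mp (by
      rw [P.q_w h]; field_simp at hst; linear_combination hst)
    by_cases ht : t = 0
    · subst ht; simpa using hst
    have h3 := congrArg (P.act t⁻¹) h2
    rw [P.act_w, inv_mul_cancel₀ ht, P.act_one', w, P.act_one] at h3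
    exact absurd (by rw [P.act_neg h, inv_eq_iff_mul_eq_one, h3]) (he' (-(t⁻¹ * s)))
  refine Or.inr ⟨e', ha, fun m => ?_⟩
  have hD := ha.disc_ne_zero
  set a := P.f e e' / P.q e with ha0
  set b := P.q e' / P.q e with hb0
  set α := P.f m e / P.q e with hα
  set β := P.f m e' / P.q e with hβ
  set s0 := (2 * b * α - a * β) / (a ^ 2 - 4 * b) with hs0
  set t0 := (2 * β - a * α) / (a ^ 2 - 4 * b) with ht0
  have hD' := mul_inv_cancel₀ hD
  have e1 : 2 * s0 + a * t0 + α = 0 := by rw [hs0, ht0]; linear_combination (-α) * hD'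
  have e2 : a * s0 + 2 * b * t0 + β = 0 := by rw [hs0, ht0]; linear_combination (-β) * hD'
  obtain ⟨s, t, hst⟩ := ha.exists_eq
    (-(P.q m / P.q e + s0 ^ 2 + a * s0 * t0 + b * t0 ^ 2 + α * s0 + β * t0))
  have h2 : m * P.w e e' (s + s0) (t + t0) = 1 := (P.q_eq_zero _).mp (by
    have h3 : P.q m / P.q e + ((s + s0) ^ 2 + a * (s + s0) * (t + t0) + b * (t + t0) ^ 2) +
        ((s + s0) * α + (t + t0) * β) = 0 := by linear_combination hst + s * e1 + t * e2
    rw [P.q_mul, P.q_w h, w, P.f_mul_right, P.f_act_right, P.f_act_right]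
    rw [ha0, hb0, hα, hβ] at h3
    field_simp at h3
    linear_combination h3)
  refine ⟨-(s + s0), -(t + t0), ?_⟩
  rw [eq_inv_of_mul_eq_one_left h2, eq_inv_iff_mul_eq_one, P.w_add h]
  simp [w, P.act_zero]

end Quad

/-! ### the pseudo-quadratic case -/

/-- rescaling -/
def scale (c : K) (hc : c ≠ 0) : PQ K M where
  act := P.act
  q m := P.q m / c
  f m n := P.f m n / c
  γ u := P.γ (c * u)
  σ := P.σ
  act_zero := P.act_zero
  act_one := P.act_one
  act_mul := P.act_mul
  act_hom := P.act_hom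
  act_add s t m := by rw [P.act_add]; congr 3; field_simp
  q_mul m n := by rw [P.q_mul]; ring
  q_eq_zero m := by rw [div_eq_zero_iff, P.q_eq_zero]; simp [hc]
  q_act s m := by rw [P.q_act]; ring
  f_mul_left m m' n := by rw [P.f_mul_left]; ring
  f_mul_right m n n' := by rw [P.f_mul_right]; ring
  f_act_left s m n := by rw [P.f_act_left]; ring
  f_act_right s m n := by rw [P.f_act_right]; ring
  f_γ m u := by rw [P.f_γ, zero_div]
  σ_zero := P.σ_zero
  σ_one := P.σ_one
  σ_mul := P.σ_mul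
  γ_add u v := by rw [mul_add, P.γ_add]
  γ_comm u m := P.γ_comm _ m
  γ_σ_add s t u := by simpa only [mul_left_comm c] using P.γ_σ_add s t (c * u)
  act_γ r u := by rw [P.act_γ]; congr 1; ring
  σ_of_γ h := P.σ_of_γ fun u => by simpa [mul_div_cancel₀ u hc] using h (u / c)
  ne := P.ne

/-- normalised pseudo-quadratic data -/
structure Nm (τ : K →+* K) : Prop where
  σ_eq : ∀ s, P.σ s = τ s
  inv : ∀ s, τ (τ s) = s
  lam : ∀ u, P.q (P.γ u) = u + τ u
  fd : ∀ m, P.f m m = P.q m - τ (P.q m)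
  tr : ∃ θ, θ + τ θ = 1

theorem exists_nm (h : ¬ ∀ u, P.γ u = 1) : ∃ c hc τ, (P.scale c hc).Nm τ := by
  push Not at h
  obtain ⟨u0, h0⟩ := h
  have hadd : ∀ s t, P.σ (s + t) = P.σ s + P.σ t := fun s t => by
    by_contra hne
    have hδ := sub_ne_zero.mpr hne
    set u := u0 / (P.σ (s + t) - (P.σ s + P.σ t))
    have h1 := P.γ_σ_add s t u
    rw [← P.γ_add, show P.σ (s + t) * u = u0 + (P.σ s * u + P.σ t * u) by
      simp only [u]; field_simp; ring, P.γ_add] at h1
    exact h0 (by simpa using h1)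
  let τ : K →+* K := ⟨⟨⟨P.σ, P.σ_one⟩, P.σ_mul⟩, P.σ_zero, hadd⟩
  have hτ : ∀ s, P.σ s = τ s := fun _ => rfl
  have k : ∀ s t m, P.q (P.γ (τ s * t * P.q m)) =
      τ s * t * P.q m + s * τ t * (P.q m - P.f m m) := fun s t m => by
    have := P.key s t m
    simp only [hτ, map_add] at this
    linear_combination this
  set c := P.q (P.γ u0) with hc0
  have hc : c ≠ 0 := mt (P.q_eq_zero _).mp h0
  have hτc : τ c ≠ 0 := (map_ne_zero τ).mpr hc
  have lam : ∀ u, P.q (P.γ (c * u)) / c = u + τ u := fun u => by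
    have := k 1 u (P.γ u0)
    rw [map_one, one_mul, P.f_γ, ← hc0, mul_comm u] at this
    rw [this]; field_simp; ring
  have hinv : ∀ s, τ (τ s) = s := fun s => by
    have h1 := k s 1 (P.γ u0)
    have h2 := lam (τ s)
    rw [P.f_γ, ← hc0, mul_one, mul_comm] at h1
    rw [h1, map_one] at h2
    field_simp at h2
    exact mul_left_cancel₀ hc (by linear_combination -h2)
  have h1 := lam (u0 / c)
  rw [mul_div_cancel₀ u0 hc, ← hc0, div_self hc] at h1
  refine ⟨c, hc, τ, hτ, hinv, lam, fun m => ?_, ⟨_, h1.symm⟩⟩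
  have h2 := k 1 1 m
  have h3 := lam (P.q m / c)
  simp only [map_one, one_mul] at h2
  rw [mul_div_cancel₀ _ hc, h2] at h3
  show P.f m m / c = P.q m / c - τ (P.q m / c)
  linear_combination -h3

/-- coordinates in the pseudo-quadratic case -/
def v (e : M) (s u : K) : M := P.act s e * P.γ u

theorem f_v (e : M) (s u : K) : P.f e (P.v e s u) = s * P.f e e := by
  rw [v, P.f_mul_right, P.f_γ, P.f_act_right, add_zero]

theorem act_v (e : M) (r s u : K) : P.act r (P.v e s u) = P.v e (r * s) (r * P.σ r * u) := by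
  rw [v, v, P.act_hom, P.act_mul, P.act_γ]

theorem v_mul (e : M) (s u t u' : K) :
    P.v e t u * P.v e s u' = P.v e (s + t) (u + u' - P.σ s * t * P.q e) := by
  have h : ∀ a b : K, ∀ m, P.γ a * m * P.γ b = m * P.γ (a + b) := fun a b m => by
    rw [P.γ_comm, mul_assoc, P.γ_add]
  simp only [v, P.act_add, mul_assoc (P.act t e), ← mul_assoc (P.γ u), h]
  congr 3; ring

namespace Nm

variable {P} {τ : K →+* K} (N : P.Nm τ)
include N

theorem q_v (e : M) (s u : K) : P.q (P.v e s u) = s * τ s * P.q e + (u + τ u) := by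
  rw [v, P.q_mul, P.f_γ, P.q_act, N.lam, N.σ_eq, add_zero]

theorem γ_eq {u u' : K} (h : u + τ u = u' + τ u') : P.γ u = P.γ u' := by
  have h1 : P.γ (u + -u') = 1 := (P.q_eq_zero _).mp (by
    rw [N.lam, map_add, map_neg]; linear_combination h)
  rwa [P.γ_add, Hex.neg17 P.γ_add, mul_inv_eq_one] at h1

theorem exists_tr {a : K} (ha : τ a = a) : ∃ u, u + τ u = a := by
  obtain ⟨θ, hθ⟩ := N.tr
  exact ⟨θ * a, by rw [map_mul, ha]; linear_combination a * hθ⟩

theorem memZ {m : M} (h : P.f m m = 0) : ∃ u, P.γ u = m := by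
  rw [N.fd, sub_eq_zero] at h
  obtain ⟨u, hu⟩ := N.exists_tr h.symm
  have h1 : m * P.γ (-u) = 1 := (P.q_eq_zero _).mp (by
    rw [P.q_mul, P.f_γ, N.lam, map_neg]; linear_combination -hu)
  exact ⟨u, by rw [Hex.neg17 P.γ_add, mul_inv_eq_one] at h1; exact h1.symm⟩

theorem skew (m n : M) : P.f n m = -τ (P.f m n) := by
  have h := N.fd (m * n)
  rw [P.f_mul_left, P.f_mul_right, P.f_mul_right, P.q_mul, map_add, map_add, N.fd, N.fd] at h
  linear_combination h

theorem ne_id {e : M} (he : P.f e e ≠ 0) : τ ≠ RingHom.id K := by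
  rintro rfl
  exact he (by simp [N.fd])

theorem exists_norm [Finite K] {e : M} (he : P.f e e ≠ 0) {d : K} (hd : d = -τ d) :
    ∃ s, s * τ s * P.f e e = d := by
  have h1 := N.skew e e
  obtain ⟨s, hs⟩ := H15.norm_surj τ (N.ne_id he) N.inv (a := d / P.f e e) (by
    rw [map_div₀, show τ d = -d by linear_combination hd,
      show τ (P.f e e) = -P.f e e by linear_combination h1, neg_div_neg_eq])
  exact ⟨s, by rw [hs]; field_simp⟩

theorem surj [Finite K] {e : M} (he : P.f e e ≠ 0) (m : M) : ∃ s u, P.v e s u = m := by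
  have h0 : ∀ n, P.f e n = 0 → ∃ u, P.γ u = n := fun n hn => by
    have hn' : P.f n e = 0 := by rw [N.skew, hn, map_zero, neg_zero]
    obtain ⟨s, hs⟩ := N.exists_norm he (d := -P.f n n) (by rw [map_neg, ← N.skew])
    obtain ⟨u, hu⟩ := N.memZ (m := n * P.act s e) (by
      simp only [P.f_mul_left, P.f_mul_right, P.f_act_left, P.f_act_right, hn, hn', N.σ_eq]
      linear_combination hs)
    have h1 := P.f_γ e u
    rw [hu, P.f_mul_right, hn, P.f_act_right, zero_add] at h1
    rw [(mul_eq_zero.mp h1).resolve_right he, P.act_zero, mul_one] at hu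
    exact ⟨u, hu⟩
  obtain ⟨u, hu⟩ := h0 ((P.act (P.f e m / P.f e e) e)⁻¹ * m) (by
    have h1 := P.f_mul_right e (P.act (P.f e m / P.f e e) e) ((P.act (P.f e m / P.f e e) e)⁻¹ * m)
    rw [mul_inv_cancel_left, P.f_act_right, div_mul_cancel₀ _ he] at h1
    linear_combination -h1)
  exact ⟨_, u, by rw [v, hu, mul_inv_cancel_left]⟩

theorem surj_one (h : ∀ m, P.f m m = 0) (m : M) : ∃ s u, P.v 1 s u = m := by
  obtain ⟨u, hu⟩ := N.memZ (h m)
  exact ⟨0, u, by rw [v, P.act_zero, one_mul, hu]⟩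

theorem det {e : M} {s u t u' : K} (h1 : s * P.f e e = t * P.f e e)
    (h2 : P.q (P.v e s u) = P.q (P.v e t u')) : P.v e s u = P.v e t u' := by
  by_cases he : P.f e e = 0
  · obtain ⟨u0, rfl⟩ := N.memZ he
    simp only [v, P.act_γ, ← P.γ_add, N.lam] at h2 ⊢
    exact N.γ_eq h2
  · obtain rfl := mul_right_cancel₀ he h1
    rw [N.q_v, N.q_v] at h2
    rw [v, v, N.γ_eq (add_left_cancel h2)]

theorem card_Z (h : ∀ m, P.f m m = 0) : Nat.card M = Nat.card {a // τ a = a} := by
  refine Nat.card_congr (Equiv.ofBijective (fun m => ⟨P.q m, by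
    have := h m
    rw [N.fd] at this
    linear_combination -this⟩) ⟨fun m n e => ?_, fun a => ?_⟩)
  · obtain ⟨u, rfl⟩ := N.memZ (h m)
    obtain ⟨u', rfl⟩ := N.memZ (h n)
    have e' := congrArg Subtype.val e
    exact N.γ_eq (by simpa [N.lam] using e')
  · obtain ⟨u, hu⟩ := N.exists_tr a.2
    exact ⟨P.γ u, Subtype.ext (by simpa [N.lam] using hu)⟩

theorem card_one [Finite K] {e : M} (he : P.f e e ≠ 0) :
    Nat.card M = Nat.card K * Nat.card {a // τ a = a} := by
  obtain ⟨θ, hθ⟩ := N.tr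
  have ht : ∀ a, τ a = a → θ * a + τ (θ * a) = a := fun a ha => by
    rw [map_mul, ha]; linear_combination a * hθ
  rw [← Nat.card_prod]
  refine (Nat.card_congr (Equiv.ofBijective
    (fun x : K × {a // τ a = a} => P.v e x.1 (θ * x.2)) ⟨?_, fun m => ?_⟩)).symm
  · rintro ⟨s, a, ha⟩ ⟨t, b, hb⟩ h
    have h' : P.v e s (θ * a) = P.v e t (θ * b) := h
    have h1 := congrArg (P.f e) h'
    have h2 := congrArg P.q h'
    rw [P.f_v, P.f_v] at h1
    obtain rfl := mul_right_cancel₀ he h1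
    rw [N.q_v, N.q_v, ht a ha, ht b hb] at h2
    obtain rfl := add_left_cancel h2
    rfl
  · obtain ⟨s, u, rfl⟩ := N.surj he m
    have hu : τ (u + τ u) = u + τ u := by rw [map_add, N.inv, add_comm]
    exact ⟨(s, ⟨_, hu⟩), N.det rfl (by rw [N.q_v, N.q_v, ht _ hu])⟩

theorem c1 (h : τ = RingHom.id K) : Nat.card M = Nat.card K := by
  rw [N.card_Z fun m => by simp [N.fd, h]]
  exact Nat.card_congr (Equiv.subtypeUnivEquiv fun a => by simp [h])

theorem c2 (h : τ ≠ RingHom.id K) (h' : ∀ m, P.f m m = 0) : Nat.card M ^ 2 = Nat.card K := by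
  rw [N.card_Z h', card_fix17 τ h N.inv]

theorem c3 [Finite K] {e : M} (he : P.f e e ≠ 0) : Nat.card M ^ 2 = Nat.card K ^ 3 := by
  rw [N.card_one he, mul_pow, card_fix17 τ (N.ne_id he) N.inv]; ring

end Nm

end PQ

end TB
end H20
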