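import Mathlib
import Cfsg.Agent.H20.TPQ

/-! Moufang quadrangles: the basic commutator calculus. -/

set_option autoImplicit false
set_option linter.unusedSectionVars false

namespace H20
namespace TB

open Subgroup
open scoped commutatorElement

variable {G : Type*} [Group G]

theorem prod4_17 (V0 V1 V2 V3 : Subgroup G) (h01 : ∀ a ∈ V0, ∀ b ∈ V1, a * b = b * a)
    (h12 : ∀ a ∈ V1, ∀ b ∈ V2, a * b = b * a) (h23 : ∀ a ∈ V2, ∀ b ∈ V3, a * b = b * a)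
    (h02 : ∀ a ∈ V0, ∀ b ∈ V2, ⁅a, b⁆ ∈ V1) (h13 : ∀ a ∈ V3, ∀ b ∈ V1, ⁅a, b⁆ ∈ V2)
    (h03 : ∀ a ∈ V0, ∀ b ∈ V3, ⁅a, b⁆ ∈ V1 ⊔ V2) :
    ∀ g ∈ V0 ⊔ (V1 ⊔ V2) ⊔ V3, ∃ a ∈ V0, ∃ b ∈ V1, ∃ c ∈ V2, ∃ d ∈ V3, g = a * b * c * d := by
  have nm : ∀ V N : Subgroup G, (∀ g ∈ V, ∀ n ∈ N, g * n * g⁻¹ ∈ N) → V ≤ normalizer (N : Set G) :=
    fun V N h g hg => mem_normalizer_iff.mpr fun n => ⟨h g hg n, fun hn => by
      simpa [mul_assoc] using h _ (inv_mem hg) _ hn⟩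
  have cj : ∀ a b : G, a * b * a⁻¹ = ⁅a, b⁆ * b := fun a b => by rw [commutatorElement_def]; group
  have m1 : ∀ n ∈ V1 ⊔ V2, ∃ b ∈ V1, ∃ c ∈ V2, b * c = n := fun n hn => by
    rwa [← SetLike.mem_coe, coe_mul_of_right_le_normalizer_left _ _ (nm V2 V1 fun g hg n hn => by
      rw [← h12 n hn g hg]; simpa using hn)] at hn
  have m2 : ∀ n ∈ V0 ⊔ (V1 ⊔ V2), ∃ b ∈ V0, ∃ c ∈ V1 ⊔ V2, b * c = n := fun n hn => by
    rwa [← SetLike.mem_coe, coe_mul_of_left_le_normalizer_right _ _ (nm V0 _ fun g hg n hn => by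
      obtain ⟨b, hb, c, hc, rfl⟩ := m1 n hn
      rw [show g * (b * c) * g⁻¹ = g * b * g⁻¹ * (g * c * g⁻¹) by group, h01 g hg b hb, cj g c]
      exact mul_mem (mem_sup_left (by simpa using hb))
        (mul_mem (mem_sup_left (h02 g hg c hc)) (mem_sup_right hc)))] at hn
  intro g hg
  rw [← SetLike.mem_coe, coe_mul_of_right_le_normalizer_left _ _ (nm V3 _ fun g hg n hn => by
    obtain ⟨a, ha, n', hn', rfl⟩ := m2 n hn
    obtain ⟨b, hb, c, hc, rfl⟩ := m1 n' hn'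
    rw [show g * (a * (b * c)) * g⁻¹ = g * a * g⁻¹ * (g * b * g⁻¹ * (g * c * g⁻¹)) by group,
      ← h23 c hc g hg, cj g a, cj g b, ← commutatorElement_inv a g]
    exact mul_mem (mul_mem (mem_sup_right (inv_mem (h03 a ha g hg))) (mem_sup_left ha))
      (mem_sup_right (mul_mem (mul_mem (mem_sup_right (h13 g hg b hb)) (mem_sup_left hb))
        (mem_sup_right (by simpa using hc)))))] at hg
  obtain ⟨n, hn, d, hd, rfl⟩ := hg
  obtain ⟨a, ha, n', hn', rfl⟩ := m2 n hn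
  obtain ⟨b, hb, c, hc, rfl⟩ := m1 n' hn'
  exact ⟨a, ha, b, hb, c, hc, d, hd, by simp [mul_assoc]⟩

namespace Oct

variable (O : Oct G)

theorem congr17 {i j : ℤ} (h : (i - j) % 8 = 0) : O.U i = O.U j := by
  obtain ⟨k, hk⟩ := Int.dvd_of_emod_eq_zero h
  obtain rfl : i = j + 8 * k := by omega
  clear h hk
  induction k using Int.induction_on with
  | zero => simp
  | succ k ih => rw [← ih, ← O.per (j + 8 * k)]; congr 1; ring
  | pred k ih => rw [← ih, ← O.per (j + 8 * (-(k : ℤ) - 1))]; congr 1; ring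

theorem mem17 {i j : ℤ} {g : G} (hg : g ∈ O.U i) (h : (i - j) % 8 = 0) : g ∈ O.U j :=
  O.congr17 h ▸ hg

/-- the reversed quadrangle -/
def rev17 (c : ℤ) : Oct G where
  U j := O.U (c - j)
  per i := O.congr17 (by omega)
  fin i := O.fin _
  c1 i a ha b hb := (O.c1 (c - (i + 1)) b hb a (O.mem17 ha (by omega))).symm
  c2 i a ha b hb := by
    rw [← commutatorElement_inv]
    exact inv_mem (O.mem17 (O.c2 (c - (i + 2)) b hb a (O.mem17 ha (by omega))) (by omega))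
  c3 i a ha b hb := by
    obtain ⟨y, hy, z, hz, e⟩ := O.c3 (c - (i + 3)) b hb a (O.mem17 ha (by omega))
    exact ⟨z⁻¹, inv_mem (O.mem17 hz (by omega)), y⁻¹, inv_mem (O.mem17 hy (by omega)), by
      rw [← commutatorElement_inv, e, mul_inv_rev]⟩
  ind i a ha b hb c' hc d hd e := by
    have := O.ind (c - (i + 3)) d⁻¹ (inv_mem hd) c'⁻¹ (inv_mem (O.mem17 hc (by omega))) b⁻¹
      (inv_mem (O.mem17 hb (by omega))) a⁻¹ (inv_mem (O.mem17 ha (by omega)))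
      (by rw [← inv_eq_one, ← e]; group)
    simp only [inv_eq_one] at this
    tauto
  mu i a ha h1 := by
    obtain ⟨m, ⟨κ, hκ, l, hl, e⟩, h2⟩ := O.mu _ a ha h1
    refine ⟨m, ⟨κ, O.mem17 hκ (by omega), l, O.mem17 hl (by omega), e⟩, fun j g => ?_⟩
    rw [h2, O.congr17 (j := c - (2 * i + 4 - j)) (by omega)]
  ne i := O.ne _

variable {O}

theorem mu_rev17 {c i : ℤ} {a m : G} (h : Mu 4 O.U (c - i) a m) : Mu 4 (O.rev17 c).U i a m := by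
  obtain ⟨⟨κ, hκ, l, hl, e⟩, h2⟩ := h
  refine ⟨⟨κ, O.mem17 hκ (by omega), l, O.mem17 hl (by omega), e⟩, fun j g => ?_⟩
  show g ∈ O.U _ ↔ _ ∈ O.U _
  rw [h2, O.congr17 (j := c - (2 * i + 4 - j)) (by omega)]

theorem uniq17 {y z y' z' : G} (hy : y ∈ O.U 1) (hz : z ∈ O.U 2) (hy' : y' ∈ O.U 1)
    (hz' : z' ∈ O.U 2) (e : y * z = y' * z') : y = y' ∧ z = z' := by
  have := O.ind 0 1 (one_mem _) (y'⁻¹ * y) (mul_mem (inv_mem hy') hy) (z * z'⁻¹)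
    (mul_mem hz (inv_mem hz')) 1 (one_mem _) (by
      rw [show 1 * (y'⁻¹ * y) * (z * z'⁻¹) * 1 = y'⁻¹ * (y * z) * z'⁻¹ by group, e]; group)
  exact ⟨(inv_mul_eq_one.mp this.2.1).symm, mul_inv_eq_one.mp this.2.2.1⟩

theorem six4 {a m b y z : G} (ha : a ∈ O.U 0) (h : Mu 4 O.U 0 a m) (hb : b ∈ O.U 3)
    (hy : y ∈ O.U 1) (hz : z ∈ O.U 2) (e0 : ⁅a, b⁆ = y * z) : m * b * m⁻¹ = y := by
  obtain ⟨⟨κ, hκ, l, hl, e⟩, h2⟩ := h
  have h3 : m * b * m⁻¹ ∈ O.U 1 := (h2 _ _).mp hb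
  obtain ⟨z2, hz2, z3, hz3, e1⟩ := O.c3 1 _ (inv_mem hy) κ hκ
  have hw := O.c2 2 _ (inv_mem hz) κ hκ
  have c1 := O.c1 3 b hb l hl
  have c2 := O.c1 3 b hb κ hκ
  have c3 := O.c1 2 z hz z3 hz3
  have e2 : m * b * m⁻¹ = y * (z2 * z) * (z3 * ⁅z⁻¹, κ⁆ * b) := by
    calc m * b * m⁻¹ = κ * a * (l * b) * l⁻¹ * a⁻¹ * κ⁻¹ := by rw [e]; group
      _ = κ * ⁅a, b⁆ * (b * κ⁻¹) := by rw [← c1, commutatorElement_def]; group
      _ = κ * (y * z) * (κ⁻¹ * b) := by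
        rw [show b * κ⁻¹ = κ⁻¹ * (κ * b) * κ⁻¹ by group, ← c2, e0]; group
      _ = y * ⁅y⁻¹, κ⁆ * z * ⁅z⁻¹, κ⁆ * b := by simp only [commutatorElement_def]; group
      _ = y * z2 * (z3 * z) * ⁅z⁻¹, κ⁆ * b := by rw [e1]; group
      _ = _ := by rw [← c3]; group
  have := O.ind 0 1 (one_mem _) ((m * b * m⁻¹)⁻¹ * y) (mul_mem (inv_mem h3) hy) _
    (mul_mem hz2 hz) _ (mul_mem (mul_mem hz3 hw) hb) (by rw [e2]; group)
  exact inv_mul_eq_one.mp this.2.1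

theorem six4' {a m b y z : G} (ha : a ∈ O.U 0) (hb : b ∈ O.U 3) (h : Mu 4 O.U 3 b m)
    (hy : y ∈ O.U 1) (hz : z ∈ O.U 2) (e0 : ⁅a, b⁆ = y * z) : m * a * m⁻¹ = z⁻¹ :=
  six4 (O := O.rev17 3) hb (mu_rev17 h) ha (inv_mem hz) (inv_mem hy)
    (by rw [← commutatorElement_inv, e0, mul_inv_rev])

theorem exists_ne17 (O : Oct G) (i : ℤ) : ∃ a ∈ O.U i, a ≠ 1 := by
  by_contra h
  push Not at h
  exact O.ne i ((Subgroup.eq_bot_iff_forall _).mpr h)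

variable {K : Type*} [Field K]

/-- the raw coordinates -/
structure Raw (C : O.C3 K) where
  y : K → G
  A : K → O.U 3 → G
  q : O.U 3 → K
  n : G
  y_add : ∀ s t, y (s + t) = y s * y t
  y_inj : Function.Injective y
  y_mem : ∀ g, g ∈ O.U 2 ↔ ∃ t, y t = g
  A_mem : ∀ t m, A t m ∈ O.U 1
  rel : ∀ t (m : O.U 3), ⁅C.x t, (m : G)⁆ = A t m * y (t * q m)
  q_ne : ∀ m, m ≠ 1 → q m ≠ 0
  mu : Mu 4 O.U 0 (C.x 1) n
  tor : ∀ s, s ≠ 0 → ∃ k : G, (∀ j g, g ∈ O.U j ↔ k * g * k⁻¹ ∈ O.U j) ∧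
    (∀ t, k * C.x t * k⁻¹ = C.x (s * t)) ∧ (∀ t, k * y t * k⁻¹ = y (s * t)) ∧
    ∀ t m, k * A t m * k⁻¹ = A (s * t) m

theorem C3.m0 (C : O.C3 K) (t : K) : C.x t ∈ O.U 0 := (C.mem _).mpr ⟨t, rfl⟩

theorem C3.exists_raw (C : O.C3 K) : Nonempty (Raw C) := by
  obtain ⟨e, he, h1⟩ := O.exists_ne17 3
  obtain ⟨n, hn⟩ := O.mu 3 e he h1
  obtain ⟨n1, hn1⟩ := O.mu 0 _ (C.m0 1) fun h => one_ne_zero (C.inj (h.trans (Hex.zero17 C.add).symm))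
  let y : K → G := fun t => n * C.x t * n⁻¹
  have y_mem : ∀ g, g ∈ O.U 2 ↔ ∃ t, y t = g := fun g =>
    ⟨fun hg => by
      obtain ⟨t, ht⟩ := (C.mem (n⁻¹ * g * n)).mp
        ((hn.2 0 _).mpr (O.mem17 (by simpa [mul_assoc] using hg) (by omega)))
      exact ⟨t, by simp only [y, ht]; group⟩,
    fun ⟨t, ht⟩ => ht ▸ O.mem17 ((hn.2 0 _).mp (C.m0 t)) (by omega)⟩
  have y_add : ∀ s t, y (s + t) = y s * y t := fun s t => by simp only [y, C.add]; group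
  have y_inj : Function.Injective y := fun s t h => C.inj (by simpa [y] using h)
  have ym : ∀ t, y t ∈ O.U 2 := fun t => (y_mem _).mpr ⟨t, rfl⟩
  have ex : ∀ t (m : O.U 3), ∃ a ∈ O.U 1, ∃ u, ⁅C.x t, (m : G)⁆ = a * y u := fun t m => by
    obtain ⟨a, ha, z, hz, e⟩ := O.c3 0 _ (C.m0 t) m m.2
    obtain ⟨u, rfl⟩ := (y_mem z).mp hz
    exact ⟨a, ha, u, e⟩
  choose A hA Q hQ using ex
  have tor : ∀ s, s ≠ 0 → ∃ k : G, (∀ j g, g ∈ O.U j ↔ k * g * k⁻¹ ∈ O.U j) ∧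
      (∀ t, k * C.x t * k⁻¹ = C.x (s * t)) ∧ (∀ t, k * y t * k⁻¹ = y (s * t)) ∧
      ∀ t m, k * A t m * k⁻¹ = A (s * t) m ∧ s * Q t m = Q (s * t) m := fun s hs => by
    obtain ⟨k, k1, k2, k3, k4⟩ := C.tor s hs
    obtain ⟨⟨κ, hκ, l, hl, e⟩, -⟩ := hn
    have hc : Commute k n := e ▸ ((show Commute k κ from k3 κ hκ).mul_right (k2 _ he)).mul_right
      (k3 l hl)
    have hy : ∀ t, k * y t * k⁻¹ = y (s * t) := fun t => by
      simp only [y, ← k4]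
      rw [show k * (n * C.x t * n⁻¹) * k⁻¹ = (k * n) * C.x t * (k * n)⁻¹ by group, hc.eq]; group
    refine ⟨k, k1, k4, hy, fun t m => ?_⟩
    have := uniq17 ((k1 1 _).mp (hA t m)) (ym (s * Q t m)) (hA (s * t) m) (ym _) (by
      rw [← hQ, ← hy, ← k4, show k * A t m * k⁻¹ * (k * y (Q t m) * k⁻¹) =
        k * (A t m * y (Q t m)) * k⁻¹ by group, ← hQ]
      conv_rhs => rw [show (m : G) = k * m * k⁻¹ by rw [k2 _ m.2]; group]
      simp only [commutatorElement_def]; group)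
    exact ⟨this.1, y_inj this.2⟩
  refine ⟨⟨y, A, Q 1, n1, y_add, y_inj, y_mem, hA, fun t m => ?_, fun m hm h0 => ?_, hn1,
    fun s hs => ?_⟩⟩
  · by_cases ht : t = 0
    · have := uniq17 (hA t m) (ym (Q t m)) (one_mem _) (ym 0) (by
        rw [← hQ, ht, Hex.zero17 C.add, Hex.zero17 y_add]; simp)
      rw [hQ, this.2, ht, zero_mul]
    · obtain ⟨k, -, -, -, h⟩ := tor t ht
      rw [(h 1 m).2, mul_one, hQ]
  · obtain ⟨r, hr⟩ := O.mu 3 m m.2 fun h => hm (Subtype.ext h)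
    have := six4' (C.m0 1) m.2 hr (hA 1 m) (ym _) (hQ 1 m)
    rw [h0, Hex.zero17 y_add, inv_one, conj_eq_one_iff] at this
    exact one_ne_zero (C.inj (this.trans (Hex.zero17 C.add).symm))
  · obtain ⟨k, h1, h2, h3, h4⟩ := tor s hs
    exact ⟨k, h1, h2, h3, fun t m => (h4 t m).1⟩

namespace Raw

variable {C : O.C3 K} (R : Raw C)

theorem ym (t : K) : R.y t ∈ O.U 2 := (R.y_mem _).mpr ⟨t, rfl⟩

theorem y_comm (s t : K) : R.y s * R.y t = R.y t * R.y s := by rw [← R.y_add, add_comm, R.y_add]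

theorem un {t u : K} {m : O.U 3} {a : G} (ha : a ∈ O.U 1) (e : ⁅C.x t, (m : G)⁆ = a * R.y u) :
    R.A t m = a ∧ t * R.q m = u := by
  have := uniq17 (R.A_mem t m) (R.ym _) ha (R.ym u) (by rw [← R.rel, e])
  exact ⟨this.1, R.y_inj this.2⟩

theorem A_mu {t : K} {r : G} (h : Mu 4 O.U 0 (C.x t) r) (m : O.U 3) : r * m * r⁻¹ = R.A t m :=
  six4 (C.m0 t) h m.2 (R.A_mem t m) (R.ym _) (R.rel t m)

theorem A_zero (m : O.U 3) : R.A 0 m = 1 :=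
  (R.un (u := 0) (one_mem _) (by simp [Hex.zero17 C.add, Hex.zero17 R.y_add])).1

theorem q_one : R.q 1 = 0 := by
  simpa using (R.un (t := 1) (m := 1) (u := 0) (one_mem _) (by simp [Hex.zero17 R.y_add])).2

/-- the inverse of `A 1` -/
def B (a : G) (ha : a ∈ O.U 1) : O.U 3 :=
  ⟨R.n⁻¹ * a * R.n, (R.mu.2 3 _).mpr (by simpa [mul_assoc] using ha)⟩

theorem A_B (a : G) (ha : a ∈ O.U 1) : R.A 1 (R.B a ha) = a := by
  rw [← R.A_mu R.mu, B]; group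

theorem A_inj : Function.Injective (R.A 1) := fun m m' h => by
  rw [← R.A_mu R.mu, ← R.A_mu R.mu] at h
  exact Subtype.ext (by simpa using h)

theorem exists_f (m : O.U 3) {a : G} (ha : a ∈ O.U 1) : ∃ u, R.y u = ⁅(m : G), a⁆ :=
  (R.y_mem _).mp (by rw [← commutatorElement_inv]; exact inv_mem (O.c2 1 a ha m m.2))

theorem mul_right (t u : K) (m m' : O.U 3) (hu : R.y u = ⁅(m : G), R.A t m'⁆) :
    R.A t (m * m') = R.A t m * R.A t m' ∧ t * R.q (m * m') = t * R.q m + u + t * R.q m' := by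
  refine R.un (mul_mem (R.A_mem ..) (R.A_mem ..)) ?_
  have c1 := O.c1 2 _ (R.ym (t * R.q m')) m m.2
  have c2 := O.c1 1 _ (R.A_mem t m') _ (R.ym (t * R.q m + u))
  calc ⁅C.x t, ((m * m' : O.U 3) : G)⁆ = ⁅C.x t, (m : G)⁆ * (m * ⁅C.x t, (m' : G)⁆ * (m : G)⁻¹) := by
        simp only [commutatorElement_def, coe_mul]; group
    _ = R.A t m * (R.y (t * R.q m) * ⁅(m : G), R.A t m'⁆) * R.A t m' *
        (m * R.y (t * R.q m')) * (m : G)⁻¹ := by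
      rw [R.rel, R.rel, commutatorElement_def]; group
    _ = R.A t m * (R.y (t * R.q m + u) * R.A t m') * R.y (t * R.q m') := by
      rw [← hu, ← c1, ← R.y_add]; group
    _ = _ := by rw [← c2, R.y_add _ (t * R.q m')]; group

theorem bm (s u : K) : ⁅C.x s, R.y u⁆ ∈ O.U 1 := O.c2 0 _ (C.m0 s) _ (R.ym u)

theorem add_left (s t : K) (m : O.U 3) :
    R.A (s + t) m = R.A t m * ⁅C.x s, R.y (t * R.q m)⁆ * R.A s m := by
  refine (R.un (u := t * R.q m + s * R.q m)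
    (mul_mem (mul_mem (R.A_mem ..) (R.bm ..)) (R.A_mem ..)) ?_).1
  have c1 := O.c1 0 _ (C.m0 s) _ (R.A_mem t m)
  have c2 := O.c1 1 _ (R.A_mem s m) _ (R.ym (t * R.q m))
  calc ⁅C.x (s + t), (m : G)⁆ = C.x s * ⁅C.x t, (m : G)⁆ * (C.x s)⁻¹ * ⁅C.x s, (m : G)⁆ := by
        simp only [commutatorElement_def, C.add]; group
    _ = (C.x s * R.A t m) * R.y (t * R.q m) * (C.x s)⁻¹ * R.A s m * R.y (s * R.q m) := by
      rw [R.rel, R.rel]; group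
    _ = R.A t m * ⁅C.x s, R.y (t * R.q m)⁆ * (R.y (t * R.q m) * R.A s m) * R.y (s * R.q m) := by
      rw [c1, commutatorElement_def]; group
    _ = _ := by rw [← c2, R.y_add]; group

theorem b_add_right (s u v : K) :
    ⁅C.x s, R.y (u + v)⁆ = ⁅C.x s, R.y u⁆ * ⁅C.x s, R.y v⁆ := by
  have c1 := O.c1 1 _ (R.bm s v) _ (R.ym u)
  calc _ = ⁅C.x s, R.y u⁆ * (R.y u * ⁅C.x s, R.y v⁆) * (R.y u)⁻¹ := by
        simp only [commutatorElement_def, R.y_add]; group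
    _ = _ := by rw [← c1]; group

theorem b_add_left (s t u : K) :
    ⁅C.x (t + s), R.y u⁆ = ⁅C.x s, R.y u⁆ * ⁅C.x t, R.y u⁆ := by
  have c1 := O.c1 0 _ (C.m0 t) _ (R.bm s u)
  calc _ = (C.x t * ⁅C.x s, R.y u⁆) * (C.x t)⁻¹ * ⁅C.x t, R.y u⁆ := by
        simp only [commutatorElement_def, C.add]; group
    _ = _ := by rw [c1]; group

theorem b_cent (u : K) (m : O.U 3) : ⁅(m : G), ⁅C.x 1, R.y u⁆⁆ = 1 ∧
    ⁅C.x 1, R.y u⁆ * R.A 1 m = R.A 1 m * ⁅C.x 1, R.y u⁆ := by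
  set b := ⁅C.x 1, R.y u⁆ with hb
  set a := R.A 1 m
  set z := R.y (1 * R.q m)
  have ha : a ∈ O.U 1 := R.A_mem 1 m
  have hm : a⁻¹ * b * a ∈ O.U 1 := mul_mem (mul_mem (inv_mem ha) (R.bm 1 u)) ha
  have c1 : Commute (R.y u) m := O.c1 2 _ (R.ym u) m m.2
  have c2 : Commute (a * z) (R.y u) :=
    (show Commute a (R.y u) from O.c1 1 a ha _ (R.ym u)).mul_left (R.y_comm _ _)
  have c3 := O.c1 1 _ hm z (R.ym _)
  have e1 : (m : G) * C.x 1 * (m : G)⁻¹ = (a * z)⁻¹ * C.x 1 := by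
    rw [← R.rel, commutatorElement_def]; group
  have e2 : (m : G) * b * (m : G)⁻¹ = a⁻¹ * b * a := by
    calc (m : G) * b * (m : G)⁻¹ = (m * C.x 1 * (m : G)⁻¹) * (m * R.y u * (m : G)⁻¹) *
          (m * C.x 1 * (m : G)⁻¹)⁻¹ * (m * R.y u * (m : G)⁻¹)⁻¹ := by rw [hb, commutatorElement_def]; group
      _ = (a * z)⁻¹ * b * (R.y u * (a * z)) * (R.y u)⁻¹ := by
        rw [e1, ← c1.eq, hb, commutatorElement_def]; group
      _ = z⁻¹ * (a⁻¹ * b * a * z) := by rw [← c2.eq]; group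
      _ = _ := by rw [c3]; group
  obtain ⟨w, hw⟩ := R.exists_f m (R.bm 1 u)
  have c4 := O.c1 1 _ (R.bm 1 u) _ (R.ym w)
  have := uniq17 (R.bm 1 u) (R.ym w) hm (one_mem _) (by
    rw [c4, hw, mul_one, ← e2, commutatorElement_def (m : G), ← hb]; group)
  refine ⟨hw ▸ this.2, ?_⟩
  conv_rhs => rw [show b = a⁻¹ * b * a from this.1]
  group

theorem exists_g (r : K) (hr : r ≠ 0) : ∃ g : G, (∀ j a, a ∈ O.U j → g * a * g⁻¹ ∈ O.U j) ∧
    (∀ a ∈ O.U 1, g * a * g⁻¹ = a) ∧ (∀ t, g * C.x t * g⁻¹ = C.x (r⁻¹ * t)) ∧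
    (O.ab 0 → ∀ u, g * R.y u * g⁻¹ = R.y (r * u)) := by
  obtain ⟨m, m', h1, h2, h3⟩ := C.hua r⁻¹ (inv_ne_zero hr)
  obtain ⟨k, k1, k2, k3, k4⟩ := R.tor r⁻¹ (inv_ne_zero hr)
  refine ⟨m * m'⁻¹ * k⁻¹, fun j a ha => ?_, fun a ha => ?_, fun t => ?_, fun h0 u => ?_⟩
  · have := (h1.2 _ _).mp ((h2.inv17.2 j (k⁻¹ * a * k)).mp
      ((k1 j _).mpr (by simpa [mul_assoc] using ha)))
    simpa [mul_assoc] using this
  · have hb : k⁻¹ * a * k ∈ O.U 1 := (k1 1 _).mpr (by simpa [mul_assoc] using ha)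
    have e1 := R.A_B _ hb
    have e2 := k4 1 (R.B _ hb)
    rw [mul_one, ← R.A_mu h1, e1] at e2
    rw [← R.A_mu h2] at e1
    generalize R.B _ hb = b at e1 e2
    calc _ = m * m'⁻¹ * (k⁻¹ * a * k) * m' * m⁻¹ := by group
      _ = m * (b : G) * m⁻¹ := by rw [← e1]; group
      _ = _ := by rw [← e2]; group
  · have e1 := k2 (r * t)
    have e2 := h3 (r * t)
    rw [inv_mul_cancel_left₀ hr] at e1
    rw [show r⁻¹ ^ 2 * (r * t) = r⁻¹ * t by field_simp] at e2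
    rw [← e2, ← e1]; group
  · have c4 : ∀ κ ∈ O.U 4, ∀ z ∈ O.U 2, Commute κ z := fun κ hκ z hz => by
      have := h0 _ ((h1.2 _ _).mp hκ) _ ((h1.2 _ _).mp hz)
      rw [show ∀ a b : G, m * a * m⁻¹ * (m * b * m⁻¹) = m * (a * b) * m⁻¹ from fun a b => by group,
        show ∀ a b : G, m * a * m⁻¹ * (m * b * m⁻¹) = m * (a * b) * m⁻¹ from fun a b => by group] at this
      exact mul_left_cancel (mul_right_cancel this)
    have c5 : ∀ s n, Mu 4 O.U 0 (C.x s) n → ∀ z ∈ O.U 2, Commute n z := by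
      rintro s n ⟨⟨κ, hκ, l, hl, rfl⟩, -⟩ z hz
      exact ((c4 κ hκ z hz).mul_left (h0 _ (C.m0 s) z hz)).mul_left (c4 l hl z hz)
    have e1 := k3 (r * u)
    rw [inv_mul_cancel_left₀ hr] at e1
    have e2 := ((c5 _ _ h1 _ (R.ym (r * u))).mul_left (c5 _ _ h2 _ (R.ym (r * u))).inv_left).eq
    calc _ = m * m'⁻¹ * R.y (r * u) * (m * m'⁻¹)⁻¹ := by rw [← e1]; group
      _ = _ := by rw [e2]; group

end Raw

end Oct

end TB
end H20
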