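import Cfsg.Agent.H12.TIG
import Cfsg.Agent.H12.TIF
import Cfsg.Agent.H17.TL2

/-! # Weakly closed TI-subgroups, the linear case: points of a family fixed by an involution -/

set_option autoImplicit false
set_option linter.unusedSectionVars false
set_option linter.unusedVariables false

namespace H12.TI.L17

open Cfsg H24 Subgroup H8.TI
open scoped commutatorElement

universe u

variable {G : Type u} [Group G] [Finite G] {Ω : Set (Subgroup G)}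
  {A B C D E F I J P Q R S T U V : Subgroup G} {a a' b c d d' f g i j j' p r s t w x y z ρ κ : G}

theorem exists_im (φ : G → G) (hf : ∀ x ∈ U, ∀ y ∈ U, φ (x * y) = φ x * φ y) : ∃ V : Subgroup G,
    (∀ x, x ∈ V ↔ ∃ u ∈ U, φ u = x) ∧ ∀ K ≤ U, (∀ x ∈ K, φ x = 1) → ♯K * ♯V ≤ ♯U := by
  let ψ : U →* G := MonoidHom.mk' (fun x => φ x) fun x y => hf x x.2 y y.2
  refine ⟨ψ.range, fun x => ⟨fun ⟨u, e⟩ => ⟨u, u.2, e⟩, fun ⟨u, hu, e⟩ => ⟨⟨u, hu⟩, e⟩⟩, fun K h1 h2 => ?_⟩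
  rw [← ψ.ker.card_mul_index, index_ker, ← Nat.card_congr (subgroupOfEquivOfLe h1).toEquiv]
  exact Nat.mul_le_mul_right _ (card_le fun x hx => h2 x hx)

theorem pigeon2 (hU : U ≤ A) (φ : G → G) (h1 : ∀ x ∈ J, φ x ∈ A)
    (h2 : ∀ x ∈ J, ∀ y ∈ J, (φ x)⁻¹ * φ y ∈ U → x = y) : ♯J * ♯U ≤ ♯A := by
  rw [← Nat.card_prod]
  refine Nat.card_le_card_of_injective (fun q : J × U => (⟨φ q.1 * q.2, mul_mem (h1 _ q.1.2) (hU q.2.2)⟩ : A))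
    fun q r e => ?_
  have e1 : φ q.1 * q.2 = φ r.1 * r.2 := congrArg Subtype.val e
  have e2 := h2 _ q.1.2 _ r.1.2 (by
    rw [show (φ q.1)⁻¹ * φ r.1 = q.2 * (r.2 : G)⁻¹ by rw [inv_mul_eq_iff_eq_mul, ← mul_assoc, e1, mul_inv_cancel_right]]
    exact mul_mem q.2.2 (inv_mem r.2.2))
  rw [e2, mul_right_inj] at e1
  exact Prod.ext (Subtype.ext e2) (Subtype.ext e1)

theorem pigeon (hU : U ≤ A) (hV : V ≤ P) (e1 : ♯A = ♯P) (e2 : ♯U = ♯V) (φ : G → G)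
    (h1 : ∀ a ∈ A, φ a ∈ P ∧ φ a ∉ V) : ∃ a ∈ A, ∃ a' ∈ A, a⁻¹ * a' ∉ U ∧ (φ a)⁻¹ * φ a' ∈ V := by
  by_contra hn
  let ψ : A ⧸ U.subgroupOf A → P ⧸ V.subgroupOf P := fun q => (⟨φ q.out, (h1 _ q.out.2).1⟩ : P)
  have inj : Function.Injective ψ := fun q r e => by
    rw [← q.out_eq, ← r.out_eq]
    exact QuotientGroup.eq.2 (by_contra fun k => hn ⟨_, q.out.2, _, r.out.2, k,
      mem_subgroupOf.1 (QuotientGroup.eq.1 e)⟩)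
  have c : Nat.card (A ⧸ U.subgroupOf A) = Nat.card (P ⧸ V.subgroupOf P) :=
    Nat.eq_of_mul_eq_mul_left (card_pos U) ((card_mul_relIndex hU).trans (e1.trans
      ((card_mul_relIndex hV).symm.trans (e2 ▸ rfl))))
  obtain ⟨q, e⟩ := (inj.bijective_of_nat_card_le c.ge).2 (1 : P)
  exact (h1 _ q.out.2).2 (by simpa [mem_subgroupOf] using QuotientGroup.eq.1 e)

/-- the elements commuting with `y` modulo `F` -/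
def ZZ (F : Subgroup G) (y : G) : Subgroup G where
  carrier := {x | x ∈ N[F] ∧ ⁅x, y⁆ ∈ F}
  one_mem' := ⟨one_mem _, by simp⟩
  mul_mem' := fun {a b} ha hb => ⟨mul_mem ha.1 hb.1, by
    rw [show ⁅a * b, y⁆ = a * ⁅b, y⁆ * a⁻¹ * ⁅a, y⁆ by simp only [commutatorElement_def]; group]
    exact mul_mem (conj_mem ha.1 hb.2) ha.2⟩
  inv_mem' := fun {a} ha => ⟨inv_mem ha.1, by
    rw [show ⁅a⁻¹, y⁆ = a⁻¹ * ⁅a, y⁆⁻¹ * a by simp only [commutatorElement_def]; group]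
    exact conj_mem' ha.1 (inv_mem ha.2)⟩

theorem Zfix (h : Sit Ω) (hF : GLn Ω F) (hP : On Ω F P) (hx : x ∈ ZZ F y) : y ∈ N[cj x P] ↔ y ∈ N[P] := by
  rw [← cj_N, mem_cj, show x⁻¹ * y * x = ⁅x⁻¹, y⁆ * y by rw [commutatorElement_def]; group,
    Subgroup.mul_mem_cancel_left _ (hF.le_N h hP (inv_mem hx).2)]

theorem Zcm (q : ∀ x ∈ F, x * x = 1) (hy : y ∈ N[F]) (hx : x ∈ ZZ F y) (hf : f ∈ F) : ⁅⁅x, f⁆, y⁆ = ⁅x, ⁅f, y⁆⁆ := by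
  have m := conj_mem hx.1 hf
  have k : ⁅x * f * x⁻¹, y⁆ = x * ⁅f, y⁆ * x⁻¹ := by
    rw [cm_conj, show ⁅x * f * x⁻¹, x * y * x⁻¹⁆ = x * f * x⁻¹ * (⁅x, y⁆ * (y * (x * f * x⁻¹)⁻¹ * y⁻¹)) * ⁅x, y⁆⁻¹ by
      simp only [commutatorElement_def]; group, commSq q hx.2 (conj_mem hy (inv_mem m))]
    simp only [commutatorElement_def, mul_assoc, mul_inv_cancel, mul_one]
  rw [commutatorElement_def x f, cm_mul q hy _ m _ (inv_mem hf), k, inv_eq_of_mul_eq_one_right (q f hf),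
    commutatorElement_def x, inv_eq_of_mul_eq_one_right (q _ (cm_left q hy hf))]

/-- a family `F` through `A` and a second top axis -/
structure Cx (Ω : Set (Subgroup G)) (A C F : Subgroup G) : Prop where
  h : Sit Ω
  cl : CL Ω
  fam : Fam Ω F
  oA : On Ω F A
  tC : Top Ω A C
  ne : A ⊓ F ≠ ax A C
  YN : Wl A C ⊓ N[A ⊓ F] ≤ N[F]
  ex : ∃ P, On Ω F P ∧ A ≠ P

namespace Cx

variable (m : Cx Ω A C F)
include m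

theorem gl : GLn Ω F := m.fam.toGLn
theorem axq (hP : On Ω F P) (hQ : On Ω F Q) (ne : P ≠ Q) : ax P Q = P ⊓ F := m.gl.ax_eq P Q hP hQ ne
theorem adj (hP : On Ω F P) (hQ : On Ω F Q) (ne : P ≠ Q) : Adj Ω P Q := m.gl.adj m.h hP hQ ne
theorem FN (hP : On Ω F P) : F ≤ N[P] := m.gl.le_N m.h hP

theorem mx (hB : On Ω F B) (ne : A ≠ B) : IF.Mx Ω A B C :=
  have t := m.fam.top A B m.oA hB ne
  have e : ax A B ≠ ax A C := m.axq m.oA hB ne ▸ m.ne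
  ⟨m.h, t, m.tC, e, fun P Q R a b c => (card_inf_eq m.h m.cl a b c t m.tC e).le⟩

theorem cardP (hP : On Ω F P) : ♯(P ⊓ F) = ♯(A ⊓ F) := by
  by_cases e : A = P
  · rw [e]
  · rw [← m.axq hP m.oA (Ne.symm e), ← m.axq m.oA hP e, m.h.card_ax (m.adj m.oA hP e)]

theorem key : ♯A * ♯(A ⊓ F ⊓ ax A C) = ♯(A ⊓ F) * ♯(A ⊓ F) := by
  obtain ⟨B, hB, ne⟩ := m.ex
  exact m.axq m.oA hB ne ▸ card_inf m.h m.cl (m.mx hB ne).t1 m.tC (m.mx hB ne).ne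

theorem exv : ∃ v ∈ ax A C, v ∉ F := by
  obtain ⟨B, hB, ne⟩ := m.ex
  obtain ⟨v, h1, h2⟩ := (m.mx hB ne).symm.exv
  exact ⟨v, h1, fun e => h2 (m.FN hB e)⟩

theorem dec (ha : a ∈ A) : ∃ i ∈ A ⊓ F, ∃ v ∈ ax A C, a = i * v := by
  obtain ⟨B, hB, ne⟩ := m.ex
  rw [← m.axq m.oA hB ne]
  exact (mem_sup_of_norm (axL.trans (ptN m.h m.oA.mem axL))).1
    ((m.cl.sup A B C (m.mx hB ne).t1 m.tC (m.mx hB ne).ne).ge ha)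

theorem outF (hP : On Ω F P) : ∃ p ∈ P, p ∉ F := by
  obtain ⟨B, hB, ne⟩ := m.ex
  obtain ⟨Q, hQ, ne'⟩ : ∃ Q, On Ω F Q ∧ P ≠ Q := by
    by_cases e : P = A
    exacts [⟨B, hB, e ▸ ne⟩, ⟨A, m.oA, e⟩]
  obtain ⟨p, h1, h2⟩ := m.h.exists_not_mem (m.adj hP hQ ne')
  exact ⟨p, h1, fun e => h2 (m.FN hQ e)⟩

theorem cm (hP : On Ω F P) (hQ : On Ω F Q) (ne : P ≠ Q) (hp : p ∈ P) (hx : x ∈ Q ⊓ F) : ⁅p, x⁆ ∈ P ⊓ F :=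
  m.axq hP hQ ne ▸ m.h.comm_mem (m.adj hP hQ ne) hp (m.axq hQ hP ne.symm ▸ hx)

theorem cm1 (hP : On Ω F P) (hQ : On Ω F Q) (ne : P ≠ Q) (hp : p ∈ P) (hx : x ∈ Q) (x1 : x ≠ 1)
    (e : ⁅p, x⁆ = 1) : p ∈ P ⊓ F :=
  m.axq hP hQ ne ▸ (⟨hp, m.h.C1_le hQ.mem hx x1 (mem_C1.2 (cm_one.1 e))⟩ : p ∈ ax P Q)

variable (hy : y ∈ Wl A C ⊓ N[A ⊓ F]) (y1 : y ∉ A)
include hy

theorem yy : y * y = 1 := m.h.sq_Wl m.tC.toAdj hy.1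
theorem yA : y ∈ N[A] := (m.h.gl_Wl m.tC.toAdj).le_N m.h (m.h.on_Wl m.tC.toAdj) hy.1
theorem yv (hv : a ∈ ax A C) : y * a = a * y := commSq (m.h.gl_Wl m.tC.toAdj).sq hy.1 (axLeW A C hv)

theorem AZ : A ≤ ZZ F y := fun a ha => ⟨m.oA.le ha, by
  obtain ⟨i, hi, v, hv, rfl⟩ := m.dec ha
  rw [cm_mul (m.h.sq A m.oA.mem) (m.yA hy) i hi.1 v hv.1, cm_one.2 (m.yv hy hv).symm, mul_one]
  exact cm_left m.gl.sq (m.YN hy) hi.2⟩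

include y1

theorem card0 (hP : On Ω F P) (hn : y ∈ N[P]) : ♯(P ⊓ F ⊓ C{y}) = ♯(A ⊓ F ⊓ ax A C) := by
  by_cases e : A = P
  · obtain ⟨B, hB, ne⟩ := m.ex
    rw [← e, ← m.axq m.oA hB ne, (m.mx hB ne).fixI hy.1 y1]
  · have := (m.mx hP e).cJ0 (m.axq m.oA hP e ▸ hy) y1 hn
    rwa [m.axq m.oA hP e, m.axq hP m.oA (Ne.symm e)] at this

omit y1 in
theorem tau0 (hP : On Ω F P) (hn : y ∈ N[P]) : P ≤ ZZ F y := fun b hb => by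
  have h := m.h
  have yF := m.YN hy
  by_cases e : A = P
  · exact m.AZ hy (e ▸ hb)
  refine ⟨hP.le hb, by_contra fun n => ?_⟩
  have b1 : b ∉ F := fun k => n (cm_left m.gl.sq yF k)
  obtain ⟨v, hv, v1⟩ := m.exv
  obtain ⟨R, hR, s, hs, s1, -, s2, s3, s4, -⟩ := m.gl.swap h m.oA hP e hv.1 v1 hb b1
  have hR' := hR.cj h yF
  have hs' := conj_mem_cj y hs
  have s1' : y * s * y⁻¹ ∉ F := mt (mem_N.1 yF s).2 s1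
  have ss := h.sq R hR.mem s hs
  have nA : s * (y * s * y⁻¹) ∈ N[A] := mem_N_iff_cj.2 (by
    rw [cj_mul, cj_mul, cj_mul, cj_of_mem_N (inv_mem (m.yA hy)), s3, cj_of_mem_N hn, s4])
  by_cases e1 : R = cj y R
  · have ne : R ≠ A := fun k => e (by rw [← s3, cj_of_mem (k ▸ hs)])
    have k := ((m.axq hR m.oA ne).le ⟨mul_mem hs (e1 ▸ hs'), nA⟩).2
    have k1 : ⁅b, y⁆ = s * ⁅v, s * (y * s * y⁻¹)⁆ * s⁻¹ := by
      have e2 : y * s * y⁻¹ * v⁻¹ * (y * s * y⁻¹)⁻¹ = y * (s * v * s⁻¹)⁻¹ * y⁻¹ := by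
        rw [show y * s * y⁻¹ * v⁻¹ * (y * s * y⁻¹)⁻¹ = y * s * (y⁻¹ * (v * y)⁻¹⁻¹)⁻¹ * s⁻¹ * y⁻¹ by group,
          ← m.yv hy hv]
        group
      rw [show s * ⁅v, s * (y * s * y⁻¹)⁆ * s⁻¹ = s * v * s⁻¹ * (s * s *
        (y * s * y⁻¹ * v⁻¹ * (y * s * y⁻¹)⁻¹) * (s * s)⁻¹) by simp only [commutatorElement_def]; group, e2, ss, s2]
      simp only [commutatorElement_def, mul_assoc, one_mul, inv_one, mul_one]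
    refine n (k1 ▸ conj_mem (hR.le hs) ?_)
    rw [← commutatorElement_inv]
    exact inv_mem (cm_left m.gl.sq (m.oA.le hv.1) k)
  have od : Od Ω F (s * (y * s * y⁻¹)) := ⟨R, _, s, hs, _, hs', hR, hR', e1, s1, s1', rfl⟩
  have iv : y * (s * (y * s * y⁻¹)) * y⁻¹ = (s * (y * s * y⁻¹))⁻¹ := by
    rw [mul_inv_rev, conj_inv, inv_eq_of_mul_eq_one_right ss, inv_eq_of_mul_eq_one_right (m.yy hy)]
    calc _ = y * s * y * (s * (y * y)) := by group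
      _ = _ := by rw [m.yy hy, mul_one]
  have rF := od.memN
  obtain ⟨o1, o2⟩ := od.odd h m.gl
  generalize s * (y * s * y⁻¹) = ρ at *
  refine (od.pow h m.gl (k := 2) fun k => o2 (oddSq o1 (by rwa [← sq]))).nofix h m.gl m.oA (pow_mem nA 2) hv.1 v1 ?_
  have k := (m.AZ hy (conj_mem nA hv.1)).2
  rw [commutatorElement_def, conj_inv, show ρ * v * ρ⁻¹ * y * (ρ * v⁻¹ * ρ⁻¹) * y⁻¹ =
    ρ * v * ρ⁻¹ * (y * ρ * y⁻¹) * (y * v * y⁻¹)⁻¹ * (y * ρ * y⁻¹)⁻¹ by group, iv, m.yv hy hv,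
    mul_inv_cancel_right, inv_eq h m.oA.mem hv.1] at k
  have := conj_mem rF k
  rwa [show ρ * (ρ * v * ρ⁻¹ * ρ⁻¹ * v * ρ⁻¹⁻¹) * ρ⁻¹ = ρ ^ 2 * v * (ρ ^ 2)⁻¹ * v by rw [sq]; group] at this

omit y1 in
theorem nuN (hP : On Ω F P) (hn : y ∈ N[P]) (hf : f ∈ P ⊓ F) : ⁅f, y⁆ ∈ P ⊓ F :=
  ⟨cm_left (m.h.sq P hP.mem) hn hf.1, cm_left m.gl.sq (m.YN hy) hf.2⟩

theorem onto (hP : On Ω F P) (hn : y ∈ N[P]) (hQ : On Ω F Q) (hn' : y ∈ N[Q]) (ne : P ≠ Q)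
    (hf : f ∈ Q ⊓ F) (f1 : ⁅f, y⁆ ≠ 1) (hg : g ∈ P ⊓ F) : ∃ a ∈ P, ⁅a, ⁅f, y⁆⁆ = ⁅g, y⁆ := by
  obtain ⟨V, v1, v2⟩ := exists_im (U := P ⊓ F) (⁅·, y⁆) fun a ha b hb => cm_mul m.gl.sq (m.YN hy) a ha.2 b hb.2
  have k := m.nuN hy hQ hn' hf
  refine surj_hom (K := P ⊓ F) (W := V) (⁅·, ⁅f, y⁆⁆) (cm_mul (m.h.sq P hP.mem) (m.FN hP k.2))
    (fun a ha => (v1 _).2 ⟨_, m.cm hP hQ ne ha hf, Zcm m.gl.sq (m.YN hy) (m.tau0 hy hP hn ha) hf.2⟩)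
    (fun a ha e => m.cm1 hP hQ ne ha k.1 f1 e) ?_ ((v1 _).2 ⟨g, hg, rfl⟩)
  have := v2 _ (inf_le_left (b := C{y})) fun x hx => cm_one.2 (mem_C1.1 hx.2)
  rw [m.card0 hy y1 hP hn, m.cardP hP] at this
  refine Nat.le_of_mul_le_mul_right ?_ (card_pos (A ⊓ F ⊓ ax A C))
  rw [m.h.card_eq hP.mem m.oA.mem, m.key, m.cardP hP, mul_assoc, mul_comm ♯V]
  exact Nat.mul_le_mul_left _ this

theorem exI : ∃ i ∈ A ⊓ F, ⁅i, y⁆ ≠ 1 := by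
  obtain ⟨B, hB, ne⟩ := m.ex
  obtain ⟨v, h1, h2⟩ := (m.mx hB ne).exv
  exact ⟨v, m.axq m.oA hB ne ▸ h1, fun e => h2 (((m.mx hB ne).fixA hy.1 y1).le ⟨h1.1, mem_C1.2 (cm_one.1 e)⟩).2⟩

theorem tau (hB : On Ω F B) (nB : A ≠ B) (hn : y ∈ N[B]) (hP : On Ω F P) (nP : A ≠ P) (hn' : y ∈ N[P]) :
    ∃ a ∈ A, P = cj a B := by
  by_cases ne : B = P
  · exact ⟨1, one_mem _, by simp [ne]⟩
  have h := m.h
  have q := m.gl.sq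
  have yF := m.YN hy
  have yA := m.yA hy
  obtain ⟨i, hi, i1⟩ := m.exI hy y1
  have iN := m.nuN hy m.oA yA hi
  have mv : ∀ {P π}, On Ω F P → A ≠ P → y ∈ N[P] → π ∈ P → π ∉ F → ⁅π, i⁆ ∈ P ⊓ F ∧ ⁅⁅π, i⁆, y⁆ = ⁅π, ⁅i, y⁆⁆ ∧
      ⁅⁅π, i⁆, y⁆ ≠ 1 := fun hP nP hn h1 h2 =>
    have e := Zcm q yF (m.tau0 hy hP hn h1) hi.2
    ⟨m.cm hP m.oA nP.symm h1 hi, e, fun k => h2 (m.cm1 hP m.oA nP.symm h1 iN.1 i1 (e ▸ k)).2⟩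
  obtain ⟨π, p1, p2⟩ := m.outF hP
  obtain ⟨p3, -, p4⟩ := mv hP nP hn' p1 p2
  generalize ⁅π, i⁆ = f at p3 p4
  have pN := m.nuN hy hP hn' p3
  obtain ⟨a, ha, a1⟩ := m.outF m.oA
  have aB : a ∉ N[B] := fun k => a1 ((m.axq m.oA hB nB).le ⟨ha, k⟩).2
  obtain ⟨j, hj, e1⟩ := h.comm_surj (m.adj m.oA hB nB) ha aB (m.axq m.oA hB nB ▸ m.cm m.oA hP nP ha p3)
  rw [m.axq hB m.oA nB.symm] at hj
  have jN := m.nuN hy hB hn hj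
  obtain ⟨b, hb, e2⟩ := m.onto hy y1 hB hn hP hn' ne p3 p4 hj
  have e3 : b * ⁅f, y⁆ * b⁻¹ = ⁅j, y⁆ * ⁅f, y⁆ := by rw [← e2, commutatorElement_def b]; group
  have e4 : A = cj b P := m.gl.fix h m.oA (hP.cj h (hB.le hb)) ha a1 (h.C1_le (h.cjm P hP.mem b)
    (conj_mem_cj b pN.1) (mt conj_eq_one_iff.1 p4) (mem_C1.2 (cm_one.1 (by
      rw [e3, cm_mul' (commSq q jN.2 (m.cm m.oA hP nP ha pN).2), ← Zcm q yF (m.AZ hy ha) hj.2,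
        ← Zcm q yF (m.AZ hy ha) p3.2, e1]
      exact q _ (cm_left q yF (m.cm m.oA hP nP ha p3).2)))))
  have b1 : b ∉ F := fun k => nP (e4.trans (cj_of_mem_N (m.FN hP k)))
  obtain ⟨c1, c2, c3⟩ := mv hB nB hn hb b1
  obtain ⟨a', ha', e5⟩ := m.onto hy y1 m.oA yA hB hn nB c1 c3 hi
  have cN := m.nuN hy hB hn c1
  refine ⟨a', ha', ?_⟩
  rw [show P = cj b A by rw [e4, ← cj_mul, h.sq B hB.mem b hb, cj_one]]
  refine h.eq_of_mem (h.cjm A m.oA.mem b) (h.cjm B hB.mem a') (mt conj_eq_one_iff.1 i1) (conj_mem_cj b iN.1) ?_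
  rw [show b * ⁅i, y⁆ * b⁻¹ = ⁅b, ⁅i, y⁆⁆ * ⁅i, y⁆ by rw [commutatorElement_def b]; group, ← c2,
    commSq q cN.2 iN.2, ← e5, commutatorElement_def a', inv_mul_cancel_right]
  exact conj_mem_cj a' cN.1

theorem lemK (hB : On Ω F B) (nB : A ≠ B) (hn : y ∈ N[B]) (hP : On Ω F P) (nP : A ≠ P) (no : ∀ a ∈ A, P ≠ cj a B)
    (ha : a ∈ A) (a1 : a ∉ F) : ∃ Q, On Ω F Q ∧ y * a ∈ N[Q] ∧ y ∉ N[Q] := by
  have h := m.h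
  have n : y ∉ N[P] := fun k => (m.tau hy y1 hB nB hn hP nP k).elim fun a k => no a k.1 k.2
  obtain ⟨p, p1, p2⟩ := m.outF hP
  obtain ⟨R, hR, s, hs, s1, -, s2, s3⟩ := m.gl.cover h (m.YN hy) (m.yy hy) hP n p1 p2
  have yR := h.C1_le hR.mem hs (neOne s1) (mem_C1.2 s2)
  obtain ⟨σ, k1, rfl⟩ : ∃ σ ∈ ZZ F y, σ * s * σ⁻¹ = a := by
    by_cases e : R = A
    · have nb : ∀ {a}, a ∈ A → a ∉ F → a ∉ N[B] := fun ha a1 k => a1 ((m.axq m.oA hB nB).le ⟨ha, k⟩).2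
      obtain ⟨g, g1, -, -, g2, -⟩ := h.exists_h (m.adj m.oA hB nB) (e ▸ hs) (nb (e ▸ hs) s1) ha (nb ha a1)
      exact ⟨g, sup_le (m.AZ hy) (m.tau0 hy hB hn) g1, g2⟩
    · obtain ⟨-, -, σ, -, -, k1, k2, -⟩ := m.gl.swap h hR m.oA e hs s1 ha a1
      exact ⟨σ, sup_le (m.tau0 hy hR yR) (m.AZ hy) (pairLe hs ha k1), k2⟩
  have o := hP.cj h k1.1
  refine ⟨_, o, ?_, mt (Zfix h m.gl hP k1).1 n⟩
  have := conj_mem_cj σ (h.C1_le hP.mem p1 (neOne p2) (mem_C1.2 s3))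
  rwa [cj_N, show σ * (y * s) * σ⁻¹ = ⁅σ, y⁆ * (y * (σ * s * σ⁻¹)) by rw [commutatorElement_def]; group,
    Subgroup.mul_mem_cancel_left _ (m.FN o k1.2)] at this

end Cx

end H12.TI.L17
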