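import Mathlib
import Cfsg.Agent.H20.TB0

/-! The combinatorics of the classification of the connected positive definite diagrams with labels `3, 4`. -/

set_option autoImplicit false
set_option linter.unusedVariables false
set_option linter.unreachableTactic false
set_option linter.unusedTactic false
set_option linter.unnecessarySeqFocus false

namespace H20
namespace TB

open Finset

/-- admissible ranks, small cases included -/
def Ty.ok' : Ty → Prop
  | .A n => 1 ≤ n | .B n => 2 ≤ n | .D n => 4 ≤ n | .E n => 6 ≤ n ∧ n ≤ 8 | .F => True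

namespace Cox17

/-- the diagram `T` with a new node joined to the node `a` by an edge with label `l` -/
def aug (T : Ty) (a l i j : ℕ) : ℕ :=
  if i = T.rk then (if j = T.rk then 1 else if j = a then l else 2)
  else if j = T.rk then (if i = a then l else 2) else T.cm i j

/-- a tree which is not positive definite -/
def NP (N : ℕ) (p : ℕ → ℕ) (h : ℕ → Prop) [DecidablePred h] : Prop :=
  0 < N ∧ (∀ k, 1 ≤ k → k < N → p k < k) ∧ ∃ c : ℕ → ℝ, (∀ k, 0 ≤ c k) ∧ c 0 ≠ 0 ∧
    c 0 ^ 2 + ∑ k ∈ Ico 1 N, (c k ^ 2 - (if h k then √2 else 1) * c k * c (p k)) ≤ 0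

/-- the enlarged diagram is in the list -/
def Good (T : Ty) (a l : ℕ) : Prop :=
  ∃ T' : Ty, T'.ok' ∧ T'.rk = T.rk + 1 ∧ ∃ π : ℕ → ℕ, (∀ k, k < T'.rk → π k ≤ T.rk) ∧
    ∀ k, k < T'.rk → ∀ j, j < T'.rk → T'.cm k j = aug T a l (π k) (π j)

/-- the diagram contains a tree which is not positive definite -/
def Bad (M : ℕ → ℕ → ℕ) (n : ℕ) : Prop :=
  ∃ (N : ℕ) (p : ℕ → ℕ) (s : Finset ℕ) (π : ℕ → ℕ), NP N p (· ∈ s) ∧
    (∀ k, k < N → ∀ j, j < N → π k = π j → k = j) ∧ (∀ k, k < N → π k ≤ n) ∧
    ∀ k, 1 ≤ k → k < N → M (π k) (π (p k)) = 4 ∨ (k ∉ s ∧ M (π k) (π (p k)) = 3)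

theorem sq2 : √2 * √2 = 2 := Real.mul_self_sqrt (by norm_num)

theorem sum_path (r : ℕ) (g : ℕ → ℝ) (h : ∀ k, 1 ≤ k → k ≤ r → g k = 0) :
    ∑ k ∈ Ico 1 (r + 1), g k = 0 :=
  sum_eq_zero fun k hk => h k (mem_Ico.mp hk).1 (by have := (mem_Ico.mp hk).2; omega)

theorem npD (r : ℕ) : NP (r + 5) (fun k => if k ≤ r then k - 1 else if k ≤ r + 2 then 0 else r)
    (· ∈ (∅ : Finset ℕ)) := by
  refine ⟨by omega, fun k h1 h2 => by grind, fun k => if k ≤ r then 2 else 1,
    fun k => by dsimp only; split_ifs <;> norm_num, by simp, ?_⟩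
  iterate 4 rw [sum_Ico_succ_top (by omega)]
  rw [sum_path r _ fun k h1 h2 => by simp [h2, show k - 1 ≤ r by omega]; norm_num]
  simp
  norm_num

theorem npB (r : ℕ) : NP (r + 4) (fun k => if k ≤ r then k - 1 else if k ≤ r + 2 then 0 else r)
    (· ∈ ({r + 3} : Finset ℕ)) := by
  refine ⟨by omega, fun k h1 h2 => by grind, fun k => if k ≤ r then 2 else if k ≤ r + 2 then 1 else √2,
    fun k => by dsimp only; split_ifs <;> norm_num, by simp, ?_⟩
  iterate 3 rw [sum_Ico_succ_top (by omega)]
  rw [sum_path r _ fun k h1 h2 => by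
    simp [h2, show k - 1 ≤ r by omega, show k ≠ r + 3 by omega]; norm_num]
  simp
  norm_num

theorem npC (r : ℕ) : NP (r + 3) (fun k => if k ≤ r then k - 1 else if k ≤ r + 1 then 0 else r)
    (· ∈ ({r + 1, r + 2} : Finset ℕ)) := by
  refine ⟨by omega, fun k h1 h2 => by grind, fun k => if k ≤ r then 2 else √2,
    fun k => by dsimp only; split_ifs <;> norm_num, by simp, ?_⟩
  iterate 2 rw [sum_Ico_succ_top (by omega)]
  rw [sum_path r _ fun k h1 h2 => by
    simp [h2, show k - 1 ≤ r by omega, show k ≠ r + 1 by omega, show k ≠ r + 2 by omega]; norm_num]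
  simp
  norm_num

theorem npE8 : NP 9 (fun k => if k = 8 then 2 else k - 1) (· ∈ (∅ : Finset ℕ)) := by
  refine ⟨by omega, fun k h1 h2 => by grind, fun k => ([2, 4, 6, 5, 4, 3, 2, 1, 3].getD k 0 : ℕ),
    fun k => Nat.cast_nonneg _, by simp, ?_⟩
  simp [sum_Ico_eq_sum_range, sum_range_succ]
  norm_num

theorem npE7 : NP 8 (fun k => if k = 7 then 3 else k - 1) (· ∈ (∅ : Finset ℕ)) := by
  refine ⟨by omega, fun k h1 h2 => by grind, fun k => ([1, 2, 3, 4, 3, 2, 1, 2].getD k 0 : ℕ),
    fun k => Nat.cast_nonneg _, by simp, ?_⟩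
  simp [sum_Ico_eq_sum_range, sum_range_succ]
  norm_num

theorem npE6 : NP 7 (fun k => if k = 5 then 2 else k - 1) (· ∈ (∅ : Finset ℕ)) := by
  refine ⟨by omega, fun k h1 h2 => by grind, fun k => ([1, 2, 3, 2, 1, 2, 1].getD k 0 : ℕ),
    fun k => Nat.cast_nonneg _, by simp, ?_⟩
  simp [sum_Ico_eq_sum_range, sum_range_succ]
  norm_num

theorem npF : NP 5 (fun k => k - 1) (· ∈ ({3} : Finset ℕ)) := by
  refine ⟨by omega, fun k h1 h2 => by grind,
    fun k => if k ≤ 2 then (k + 1) * √2 else if k = 3 then 4 else 2,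
    fun k => by dsimp only; split_ifs <;> positivity, by simp, ?_⟩
  simp [sum_Ico_eq_sum_range, sum_range_succ]
  nlinarith [sq2]

theorem stepA3 (n a : ℕ) (ha : a < n) : Good (Ty.A n) a 3 ∨ Bad (aug (Ty.A n) a 3) (Ty.A n).rk := by
  by_cases h : a + 1 = n
  · exact Or.inl ⟨Ty.A (n + 1), by simp only [Ty.ok']; omega, by simp only [Ty.rk] <;> omega, fun k => k,
      fun k hk => by simp only [Ty.rk] at hk ⊢; grind (splits := 60),
      fun k hk j hj => by simp only [Ty.rk] at hk hj; simp only [aug, Ty.cm, Ty.par, Ty.m0, Ty.rk]; grind (splits := 60)⟩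
  have h' := h
  clear h
  by_cases h : a = 0
  · exact Or.inl ⟨Ty.A (n + 1), by simp only [Ty.ok']; omega, by simp only [Ty.rk] <;> omega, fun k => if k = 0 then n else k - 1,
      fun k hk => by simp only [Ty.rk] at hk ⊢; grind (splits := 60),
      fun k hk j hj => by simp only [Ty.rk] at hk hj; simp only [aug, Ty.cm, Ty.par, Ty.m0, Ty.rk]; grind (splits := 60)⟩
  have h' := h
  clear h
  by_cases h : a = 1
  · exact Or.inl ⟨Ty.D (n + 1), by simp only [Ty.ok']; omega, by simp only [Ty.rk] <;> omega, fun k => k,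
      fun k hk => by simp only [Ty.rk] at hk ⊢; grind (splits := 60),
      fun k hk j hj => by simp only [Ty.rk] at hk hj; simp only [aug, Ty.cm, Ty.par, Ty.m0, Ty.rk]; grind (splits := 60)⟩
  have h' := h
  clear h
  by_cases h : a + 2 = n
  · exact Or.inl ⟨Ty.D (n + 1), by simp only [Ty.ok']; omega, by simp only [Ty.rk] <;> omega, fun k => if k = n then n else n - 1 - k,
      fun k hk => by simp only [Ty.rk] at hk ⊢; grind (splits := 60),
      fun k hk j hj => by simp only [Ty.rk] at hk hj; simp only [aug, Ty.cm, Ty.par, Ty.m0, Ty.rk]; grind (splits := 60)⟩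
  have h' := h
  clear h
  by_cases h : a = 2 ∧ n ≤ 7
  · exact Or.inl ⟨Ty.E (n + 1), by simp only [Ty.ok']; omega, by simp only [Ty.rk] <;> omega, fun k => k,
      fun k hk => by simp only [Ty.rk] at hk ⊢; grind (splits := 60),
      fun k hk j hj => by simp only [Ty.rk] at hk hj; simp only [aug, Ty.cm, Ty.par, Ty.m0, Ty.rk]; grind (splits := 60)⟩
  have h' := h
  clear h
  by_cases h : a = 2
  · exact Or.inr ⟨_, _, _, fun k => if k = 8 then n else k, npE8,
      fun k hk j hj => by grind (splits := 60), fun k hk => by simp only [Ty.rk]; grind (splits := 60),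
      fun k h1 hk => by simp only [aug, Ty.cm, Ty.par, Ty.m0, Ty.rk]; grind (splits := 60)⟩
  have h' := h
  clear h
  by_cases h : a + 3 = n ∧ n ≤ 7
  · exact Or.inl ⟨Ty.E (n + 1), by simp only [Ty.ok']; omega, by simp only [Ty.rk] <;> omega, fun k => if k = n then n else n - 1 - k,
      fun k hk => by simp only [Ty.rk] at hk ⊢; grind (splits := 60),
      fun k hk j hj => by simp only [Ty.rk] at hk hj; simp only [aug, Ty.cm, Ty.par, Ty.m0, Ty.rk]; grind (splits := 60)⟩
  have h' := h
  clear h
  by_cases h : a + 3 = n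
  · exact Or.inr ⟨_, _, _, fun k => if k = 8 then n else n - 1 - k, npE8,
      fun k hk j hj => by grind (splits := 60), fun k hk => by simp only [Ty.rk]; grind (splits := 60),
      fun k h1 hk => by simp only [aug, Ty.cm, Ty.par, Ty.m0, Ty.rk]; grind (splits := 60)⟩
  have h' := h
  clear h
  exact Or.inr ⟨_, _, _, fun k => if k = 7 then n else a - 3 + k, npE7,
      fun k hk j hj => by grind (splits := 60), fun k hk => by simp only [Ty.rk]; grind (splits := 60),
      fun k h1 hk => by simp only [aug, Ty.cm, Ty.par, Ty.m0, Ty.rk]; grind (splits := 60)⟩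

theorem stepA4 (n a : ℕ) (ha : a < n) : Good (Ty.A n) a 4 ∨ Bad (aug (Ty.A n) a 4) (Ty.A n).rk := by
  by_cases h : a = 0
  · exact Or.inl ⟨Ty.B (n + 1), by simp only [Ty.ok']; omega, by simp only [Ty.rk] <;> omega, fun k => if k = 0 then n else k - 1,
      fun k hk => by simp only [Ty.rk] at hk ⊢; grind (splits := 60),
      fun k hk j hj => by simp only [Ty.rk] at hk hj; simp only [aug, Ty.cm, Ty.par, Ty.m0, Ty.rk]; grind (splits := 60)⟩
  have h' := h
  clear h
  by_cases h : a + 1 = n
  · exact Or.inl ⟨Ty.B (n + 1), by simp only [Ty.ok']; omega, by simp only [Ty.rk] <;> omega, fun k => n - k,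
      fun k hk => by simp only [Ty.rk] at hk ⊢; grind (splits := 60),
      fun k hk j hj => by simp only [Ty.rk] at hk hj; simp only [aug, Ty.cm, Ty.par, Ty.m0, Ty.rk]; grind (splits := 60)⟩
  have h' := h
  clear h
  exact Or.inr ⟨_, _, _, fun k => if k = 0 then a else if k = 1 then a - 1 else if k = 2 then a + 1 else n, npB 0,
      fun k hk j hj => by grind (splits := 60), fun k hk => by simp only [Ty.rk]; grind (splits := 60),
      fun k h1 hk => by simp only [aug, Ty.cm, Ty.par, Ty.m0, Ty.rk]; grind (splits := 60)⟩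

theorem stepB3 (n a : ℕ) (hn : 2 ≤ n) (ha : a < n) : Good (Ty.B n) a 3 ∨ Bad (aug (Ty.B n) a 3) (Ty.B n).rk := by
  by_cases h : a + 1 = n
  · exact Or.inl ⟨Ty.B (n + 1), by simp only [Ty.ok']; omega, by simp only [Ty.rk] <;> omega, fun k => k,
      fun k hk => by simp only [Ty.rk] at hk ⊢; grind (splits := 60),
      fun k hk j hj => by simp only [Ty.rk] at hk hj; simp only [aug, Ty.cm, Ty.par, Ty.m0, Ty.rk]; grind (splits := 60)⟩
  have h' := h
  clear h
  by_cases h : a = 0 ∧ n = 2
  · exact Or.inl ⟨Ty.B (n + 1), by simp only [Ty.ok']; omega, by simp only [Ty.rk] <;> omega, fun k => if k = 0 then 1 else if k = 1 then 0 else 2,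
      fun k hk => by simp only [Ty.rk] at hk ⊢; grind (splits := 60),
      fun k hk j hj => by simp only [Ty.rk] at hk hj; simp only [aug, Ty.cm, Ty.par, Ty.m0, Ty.rk]; grind (splits := 60)⟩
  have h' := h
  clear h
  by_cases h : a = 0 ∧ n = 3
  · exact Or.inl ⟨Ty.F, trivial, by simp only [Ty.rk] <;> omega, fun k => k,
      fun k hk => by simp only [Ty.rk] at hk ⊢; grind (splits := 60),
      fun k hk j hj => by simp only [Ty.rk] at hk hj; simp only [aug, Ty.cm, Ty.par, Ty.m0, Ty.rk]; grind (splits := 60)⟩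
  have h' := h
  clear h
  by_cases h : a = 0
  · exact Or.inr ⟨_, _, _, fun k => if k = 0 then 3 else if k = 1 then 2 else if k = 2 then 1 else if k = 3 then 0 else n, npF,
      fun k hk j hj => by grind (splits := 60), fun k hk => by simp only [Ty.rk]; grind (splits := 60),
      fun k h1 hk => by simp only [aug, Ty.cm, Ty.par, Ty.m0, Ty.rk]; grind (splits := 60)⟩
  have h' := h
  clear h
  exact Or.inr ⟨_, _, _, fun k => if k < a then a - k else if k = a then a + 1 else if k = a + 1 then n else 0, npB (a - 1),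
      fun k hk j hj => by grind (splits := 60), fun k hk => by simp only [Ty.rk]; grind (splits := 60),
      fun k h1 hk => by simp only [aug, Ty.cm, Ty.par, Ty.m0, Ty.rk]; grind (splits := 60)⟩

theorem stepB4 (n a : ℕ) (hn : 2 ≤ n) (ha : a < n) : Good (Ty.B n) a 4 ∨ Bad (aug (Ty.B n) a 4) (Ty.B n).rk := by
  by_cases h : a = 0
  · exact Or.inr ⟨_, _, _, fun k => if k = 0 then 0 else if k = 1 then 1 else n, npC 0,
      fun k hk j hj => by grind (splits := 60), fun k hk => by simp only [Ty.rk]; grind (splits := 60),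
      fun k h1 hk => by simp only [aug, Ty.cm, Ty.par, Ty.m0, Ty.rk]; grind (splits := 60)⟩
  have h' := h
  clear h
  exact Or.inr ⟨_, _, _, fun k => if k < a then k + 1 else if k = a then 0 else n, npC (a - 1),
      fun k hk j hj => by grind (splits := 60), fun k hk => by simp only [Ty.rk]; grind (splits := 60),
      fun k h1 hk => by simp only [aug, Ty.cm, Ty.par, Ty.m0, Ty.rk]; grind (splits := 60)⟩

theorem stepD3 (n a : ℕ) (hn : 4 ≤ n) (ha : a < n) : Good (Ty.D n) a 3 ∨ Bad (aug (Ty.D n) a 3) (Ty.D n).rk := by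
  by_cases h : a + 2 = n
  · exact Or.inl ⟨Ty.D (n + 1), by simp only [Ty.ok']; omega, by simp only [Ty.rk] <;> omega, fun k => if k = n then n - 1 else if k = n - 1 then n else k,
      fun k hk => by simp only [Ty.rk] at hk ⊢; grind (splits := 60),
      fun k hk j hj => by simp only [Ty.rk] at hk hj; simp only [aug, Ty.cm, Ty.par, Ty.m0, Ty.rk]; grind (splits := 60)⟩
  have h' := h
  clear h
  by_cases h : a = 0 ∧ n = 4
  · exact Or.inl ⟨Ty.D (n + 1), by simp only [Ty.ok']; omega, by simp only [Ty.rk] <;> omega, fun k => if k = 0 then 2 else if k = 1 then 1 else if k = 2 then 0 else if k = 3 then 4 else 3,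
      fun k hk => by simp only [Ty.rk] at hk ⊢; grind (splits := 60),
      fun k hk j hj => by simp only [Ty.rk] at hk hj; simp only [aug, Ty.cm, Ty.par, Ty.m0, Ty.rk]; grind (splits := 60)⟩
  have h' := h
  clear h
  by_cases h : a = 0 ∧ n ≤ 7
  · exact Or.inl ⟨Ty.E (n + 1), by simp only [Ty.ok']; omega, by simp only [Ty.rk] <;> omega, fun k => if k = n then n - 1 else if k = 0 then n else k - 1,
      fun k hk => by simp only [Ty.rk] at hk ⊢; grind (splits := 60),
      fun k hk j hj => by simp only [Ty.rk] at hk hj; simp only [aug, Ty.cm, Ty.par, Ty.m0, Ty.rk]; grind (splits := 60)⟩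
  have h' := h
  clear h
  by_cases h : a = 0
  · exact Or.inr ⟨_, _, _, fun k => if k = 8 then n - 1 else if k = 0 then n else k - 1, npE8,
      fun k hk j hj => by grind (splits := 60), fun k hk => by simp only [Ty.rk]; grind (splits := 60),
      fun k h1 hk => by simp only [aug, Ty.cm, Ty.par, Ty.m0, Ty.rk]; grind (splits := 60)⟩
  have h' := h
  clear h
  by_cases h : a + 1 = n ∧ n = 4
  · exact Or.inl ⟨Ty.D (n + 1), by simp only [Ty.ok']; omega, by simp only [Ty.rk] <;> omega, fun k => if k = 0 then 2 else if k = 1 then 1 else if k = 2 then 3 else if k = 3 then 4 else 0,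
      fun k hk => by simp only [Ty.rk] at hk ⊢; grind (splits := 60),
      fun k hk j hj => by simp only [Ty.rk] at hk hj; simp only [aug, Ty.cm, Ty.par, Ty.m0, Ty.rk]; grind (splits := 60)⟩
  have h' := h
  clear h
  by_cases h : a + 1 = n ∧ n ≤ 7
  · exact Or.inl ⟨Ty.E (n + 1), by simp only [Ty.ok']; omega, by simp only [Ty.rk] <;> omega, fun k => if k = n then 0 else if k ≤ 1 then n - k else k - 1,
      fun k hk => by simp only [Ty.rk] at hk ⊢; grind (splits := 60),
      fun k hk j hj => by simp only [Ty.rk] at hk hj; simp only [aug, Ty.cm, Ty.par, Ty.m0, Ty.rk]; grind (splits := 60)⟩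
  have h' := h
  clear h
  by_cases h : a + 1 = n
  · exact Or.inr ⟨_, _, _, fun k => if k = 8 then 0 else if k ≤ 1 then n - k else k - 1, npE8,
      fun k hk j hj => by grind (splits := 60), fun k hk => by simp only [Ty.rk]; grind (splits := 60),
      fun k h1 hk => by simp only [aug, Ty.cm, Ty.par, Ty.m0, Ty.rk]; grind (splits := 60)⟩
  have h' := h
  clear h
  exact Or.inr ⟨_, _, _, fun k => if k < a then k + 1 else if k = a then 0 else if k = a + 1 then n - 1 else if k = a + 2 then a + 1 else n, npD (a - 1),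
      fun k hk j hj => by grind (splits := 60), fun k hk => by simp only [Ty.rk]; grind (splits := 60),
      fun k h1 hk => by simp only [aug, Ty.cm, Ty.par, Ty.m0, Ty.rk]; grind (splits := 60)⟩

theorem stepD4 (n a : ℕ) (hn : 4 ≤ n) (ha : a < n) : Good (Ty.D n) a 4 ∨ Bad (aug (Ty.D n) a 4) (Ty.D n).rk := by
  by_cases h : a = 0
  · exact Or.inr ⟨_, _, _, fun k => if k = 0 then 1 else if k = 1 then 0 else if k = 2 then n - 1 else if k = 3 then 2 else n, npB 1,
      fun k hk j hj => by grind (splits := 60), fun k hk => by simp only [Ty.rk]; grind (splits := 60),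
      fun k h1 hk => by simp only [aug, Ty.cm, Ty.par, Ty.m0, Ty.rk]; grind (splits := 60)⟩
  have h' := h
  clear h
  by_cases h : a + 1 = n
  · exact Or.inr ⟨_, _, _, fun k => if k = 0 then 1 else if k = 1 then n - 1 else if k = 2 then 0 else if k = 3 then 2 else n, npB 1,
      fun k hk j hj => by grind (splits := 60), fun k hk => by simp only [Ty.rk]; grind (splits := 60),
      fun k h1 hk => by simp only [aug, Ty.cm, Ty.par, Ty.m0, Ty.rk]; grind (splits := 60)⟩
  have h' := h
  clear h
  exact Or.inr ⟨_, _, _, fun k => if k < a then k + 1 else if k = a then 0 else if k = a + 1 then n - 1 else n, npB (a - 1),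
      fun k hk j hj => by grind (splits := 60), fun k hk => by simp only [Ty.rk]; grind (splits := 60),
      fun k h1 hk => by simp only [aug, Ty.cm, Ty.par, Ty.m0, Ty.rk]; grind (splits := 60)⟩

theorem stepE3 (n a : ℕ) (hn : 6 ≤ n ∧ n ≤ 8) (ha : a < n) : Good (Ty.E n) a 3 ∨ Bad (aug (Ty.E n) a 3) (Ty.E n).rk := by
  by_cases h : a + 2 = n ∧ n ≤ 7
  · exact Or.inl ⟨Ty.E (n + 1), by simp only [Ty.ok']; omega, by simp only [Ty.rk] <;> omega, fun k => if k = n then n - 1 else if k = n - 1 then n else k,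
      fun k hk => by simp only [Ty.rk] at hk ⊢; grind (splits := 60),
      fun k hk j hj => by simp only [Ty.rk] at hk hj; simp only [aug, Ty.cm, Ty.par, Ty.m0, Ty.rk]; grind (splits := 60)⟩
  have h' := h
  clear h
  by_cases h : a + 2 = n
  · exact Or.inr ⟨_, _, _, fun k => if k = 8 then 7 else if k = 7 then 8 else k, npE8,
      fun k hk j hj => by grind (splits := 60), fun k hk => by simp only [Ty.rk]; grind (splits := 60),
      fun k h1 hk => by simp only [aug, Ty.cm, Ty.par, Ty.m0, Ty.rk]; grind (splits := 60)⟩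
  have h' := h
  clear h
  by_cases h : a = 0 ∧ n = 6
  · exact Or.inl ⟨Ty.E (n + 1), by simp only [Ty.ok']; omega, by simp only [Ty.rk] <;> omega, fun k => if k = 0 then 4 else if k = 1 then 3 else if k = 2 then 2 else if k = 3 then 1 else if k = 4 then 0 else if k = 5 then 6 else 5,
      fun k hk => by simp only [Ty.rk] at hk ⊢; grind (splits := 60),
      fun k hk j hj => by simp only [Ty.rk] at hk hj; simp only [aug, Ty.cm, Ty.par, Ty.m0, Ty.rk]; grind (splits := 60)⟩
  have h' := h
  clear h
  by_cases h : a = 0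
  · exact Or.inr ⟨_, _, _, fun k => if k = 7 then n - 1 else if k = 0 then n else k - 1, npE7,
      fun k hk j hj => by grind (splits := 60), fun k hk => by simp only [Ty.rk]; grind (splits := 60),
      fun k h1 hk => by simp only [aug, Ty.cm, Ty.par, Ty.m0, Ty.rk]; grind (splits := 60)⟩
  have h' := h
  clear h
  by_cases h : a + 1 = n
  · exact Or.inr ⟨_, _, _, fun k => if k = 5 then n - 1 else if k = 6 then n else k, npE6,
      fun k hk j hj => by grind (splits := 60), fun k hk => by simp only [Ty.rk]; grind (splits := 60),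
      fun k h1 hk => by simp only [aug, Ty.cm, Ty.par, Ty.m0, Ty.rk]; grind (splits := 60)⟩
  have h' := h
  clear h
  by_cases h : a = 1
  · exact Or.inr ⟨_, _, _, fun k => if k = 0 then 2 else if k = 1 then 1 else if k = 2 then 3 else if k = 3 then n - 1 else if k = 4 then 0 else n, npD 1,
      fun k hk j hj => by grind (splits := 60), fun k hk => by simp only [Ty.rk]; grind (splits := 60),
      fun k h1 hk => by simp only [aug, Ty.cm, Ty.par, Ty.m0, Ty.rk]; grind (splits := 60)⟩
  have h' := h
  clear h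
  exact Or.inr ⟨_, _, _, fun k => if k + 1 < a then k + 2 else if k + 1 = a then 1 else if k = a then n - 1 else if k = a + 1 then a + 1 else n, npD (a - 2),
      fun k hk j hj => by grind (splits := 60), fun k hk => by simp only [Ty.rk]; grind (splits := 60),
      fun k h1 hk => by simp only [aug, Ty.cm, Ty.par, Ty.m0, Ty.rk]; grind (splits := 60)⟩

theorem stepE4 (n a : ℕ) (hn : 6 ≤ n ∧ n ≤ 8) (ha : a < n) : Good (Ty.E n) a 4 ∨ Bad (aug (Ty.E n) a 4) (Ty.E n).rk := by
  by_cases h : a ≤ 2
  · exact Or.inr ⟨_, _, _, fun k => if k + a ≤ 2 then 2 - k else if k + a = 3 then 3 else if k + a = 4 then n - 1 else n, npB (2 - a),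
      fun k hk j hj => by grind (splits := 60), fun k hk => by simp only [Ty.rk]; grind (splits := 60),
      fun k h1 hk => by simp only [aug, Ty.cm, Ty.par, Ty.m0, Ty.rk]; grind (splits := 60)⟩
  have h' := h
  clear h
  by_cases h : a + 1 = n
  · exact Or.inr ⟨_, _, _, fun k => if k = 0 then 2 else if k = 1 then n - 1 else if k = 2 then 1 else if k = 3 then 3 else n, npB 1,
      fun k hk j hj => by grind (splits := 60), fun k hk => by simp only [Ty.rk]; grind (splits := 60),
      fun k h1 hk => by simp only [aug, Ty.cm, Ty.par, Ty.m0, Ty.rk]; grind (splits := 60)⟩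
  have h' := h
  clear h
  exact Or.inr ⟨_, _, _, fun k => if k + 1 < a then k + 2 else if k + 1 = a then 1 else if k = a then n - 1 else n, npB (a - 2),
      fun k hk j hj => by grind (splits := 60), fun k hk => by simp only [Ty.rk]; grind (splits := 60),
      fun k h1 hk => by simp only [aug, Ty.cm, Ty.par, Ty.m0, Ty.rk]; grind (splits := 60)⟩

theorem stepF3 (a : ℕ) (ha : a < 4) : Good (Ty.F) a 3 ∨ Bad (aug (Ty.F) a 3) (Ty.F).rk := by
  by_cases h : a = 0
  · exact Or.inr ⟨_, _, _, fun k => if k = 0 then 0 else if k = 1 then 3 else if k = 2 then 4 else 1, npB 0,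
      fun k hk j hj => by grind (splits := 60), fun k hk => by simp only [Ty.rk]; grind (splits := 60),
      fun k h1 hk => by simp only [aug, Ty.cm, Ty.par, Ty.m0, Ty.rk]; grind (splits := 60)⟩
  have h' := h
  clear h
  by_cases h : a = 1
  · exact Or.inr ⟨_, _, _, fun k => if k = 0 then 1 else if k = 1 then 2 else if k = 2 then 4 else 0, npB 0,
      fun k hk j hj => by grind (splits := 60), fun k hk => by simp only [Ty.rk]; grind (splits := 60),
      fun k h1 hk => by simp only [aug, Ty.cm, Ty.par, Ty.m0, Ty.rk]; grind (splits := 60)⟩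
  have h' := h
  clear h
  by_cases h : a = 2
  · exact Or.inr ⟨_, _, _, fun k => if k = 0 then 4 else if k = 1 then 2 else if k = 2 then 1 else if k = 3 then 0 else 3, npF,
      fun k hk j hj => by grind (splits := 60), fun k hk => by simp only [Ty.rk]; grind (splits := 60),
      fun k h1 hk => by simp only [aug, Ty.cm, Ty.par, Ty.m0, Ty.rk]; grind (splits := 60)⟩
  have h' := h
  clear h
  exact Or.inr ⟨_, _, _, fun k => if k = 0 then 4 else if k = 1 then 3 else if k = 2 then 0 else if k = 3 then 1 else 2, npF,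
      fun k hk j hj => by grind (splits := 60), fun k hk => by simp only [Ty.rk]; grind (splits := 60),
      fun k h1 hk => by simp only [aug, Ty.cm, Ty.par, Ty.m0, Ty.rk]; grind (splits := 60)⟩

theorem stepF4 (a : ℕ) (ha : a < 4) : Good (Ty.F) a 4 ∨ Bad (aug (Ty.F) a 4) (Ty.F).rk := by
  by_cases h : a = 0
  · exact Or.inr ⟨_, _, _, fun k => if k = 0 then 0 else if k = 1 then 1 else 4, npC 0,
      fun k hk j hj => by grind (splits := 60), fun k hk => by simp only [Ty.rk]; grind (splits := 60),
      fun k h1 hk => by simp only [aug, Ty.cm, Ty.par, Ty.m0, Ty.rk]; grind (splits := 60)⟩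
  have h' := h
  clear h
  by_cases h : a = 1
  · exact Or.inr ⟨_, _, _, fun k => if k = 0 then 1 else if k = 1 then 0 else 4, npC 0,
      fun k hk j hj => by grind (splits := 60), fun k hk => by simp only [Ty.rk]; grind (splits := 60),
      fun k h1 hk => by simp only [aug, Ty.cm, Ty.par, Ty.m0, Ty.rk]; grind (splits := 60)⟩
  have h' := h
  clear h
  by_cases h : a = 2
  · exact Or.inr ⟨_, _, _, fun k => if k = 0 then 1 else if k = 1 then 2 else if k = 2 then 0 else 4, npC 1,
      fun k hk j hj => by grind (splits := 60), fun k hk => by simp only [Ty.rk]; grind (splits := 60),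
      fun k h1 hk => by simp only [aug, Ty.cm, Ty.par, Ty.m0, Ty.rk]; grind (splits := 60)⟩
  have h' := h
  clear h
  exact Or.inr ⟨_, _, _, fun k => if k = 0 then 0 else if k = 1 then 3 else if k = 2 then 1 else 4, npC 1,
      fun k hk j hj => by grind (splits := 60), fun k hk => by simp only [Ty.rk]; grind (splits := 60),
      fun k h1 hk => by simp only [aug, Ty.cm, Ty.par, Ty.m0, Ty.rk]; grind (splits := 60)⟩

theorem step (T : Ty) (hT : T.ok') (a l : ℕ) (ha : a < T.rk) (hl : l = 3 ∨ l = 4) :
    Good T a l ∨ Bad (aug T a l) T.rk := by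
  rcases T with n | n | n | n | _ <;> rcases hl with rfl | rfl
  exacts [stepA3 n a ha, stepA4 n a ha, stepB3 n a hT ha, stepB4 n a hT ha, stepD3 n a hT ha,
    stepD4 n a hT ha, stepE3 n a hT ha, stepE4 n a hT ha, stepF3 a ha, stepF4 a ha]

end Cox17

end TB
end H20
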