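import Mathlib
import Cfsg.Agent.H14.RuA1

/-! # Standard subgroup `Sz(8)`: the eight conjugates of `V` in `E = V × Z` -/

set_option autoImplicit false
set_option linter.unusedSectionVars false

namespace H17.RC

open Cfsg H24 Subgroup H14.Ru

variable {G : Type*} [Group G] [Finite G] {L G0 V : Subgroup G}

theorem exists_compl {π : Set ℕ} {W P : Subgroup G} (h : Hall π W P) (hn : W ≤ N[P]) :
    ∃ D ≤ W, IsPi πᶜ D ∧ ∀ w ∈ W, ∃ v ∈ P, ∃ d ∈ D, w = v * d := by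
  have : (P.subgroupOf W).Normal := Nml.normal ⟨h.le, hn⟩
  obtain ⟨H, hH⟩ := exists_right_complement'_of_coprime (N := P.subgroupOf W)
    (by rw [card_subgroupOf_of_le h.le]; exact h.coprime)
  refine ⟨H.map W.subtype, map_subtype_le H, ?_, fun w hw => ?_⟩
  · have := h.idx
    rw [relIndex, hH.symm.index_eq_card] at this
    exact (isPi_map_iff W.subtype_injective).2 this
  · obtain ⟨⟨a, b⟩, e⟩ := (hH.existsUnique ⟨w, hw⟩).exists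
    exact ⟨a.1, a.2, b.1, ⟨_, b.2, rfl⟩, (congrArg Subtype.val e).symm⟩

theorem mem_of_pow {H : Subgroup G} {g : G} {n : ℕ} (h2 : PiElt {2} g) (hn : Odd n)
    (h : g ^ n ∈ H) : g ∈ H := by
  refine zpowers_le.2 h (mem_zpowers_pow_iff.2 ?_)
  obtain ⟨k, hk⟩ := h2.exists_pow Nat.prime_two
  rw [hk]
  exact Nat.Coprime.pow_right k hn.coprime_two_right

theorem mem_of_pow' {H : Subgroup G} {g : G} {n : ℕ} (h2 : PiElt {2}ᶜ g)
    (h : g ^ 2 ^ n ∈ H) : g ∈ H := by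
  refine zpowers_le.2 h (mem_zpowers_pow_iff.2 ?_)
  exact Nat.Coprime.pow_left n ((piNat_compl_iff_coprime Nat.prime_two).1 h2)

theorem dd_conj {t : G} (h : DD L t) (g : G) : DD L (g * t * g⁻¹) := by
  obtain ⟨h1, h2, k, hk⟩ := h
  refine ⟨fun e => h1 (conj_eq_one_iff.1 e), by rw [conj_mul, h2, mul_one, mul_inv_cancel],
    k * g⁻¹, ?_⟩
  rwa [show k * g⁻¹ * (g * t * g⁻¹) * (k * g⁻¹)⁻¹ = k * t * k⁻¹ by group]

/-- the standing hypotheses -/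
structure Bs (X : SzD L) (V G0 : Subgroup G) : Prop where
  st : St L G0
  vd : VD X V

open Classical in
/-- coordinates in `T = V × S` -/
noncomputable def co (X : SzD L) (V : Subgroup G) (t : G) : G × F8 × F8 :=
  if h : ∃ p : G × F8 × F8, p.1 ∈ V ∧ t = p.1 * X.u p.2.1 p.2.2 then h.choose else (1, 0, 0)

namespace Bs

variable {X : SzD L} (h : Bs X V G0)
include h

theorem le : V ≤ C[L] := h.vd.syl.le

theorem cl {v l : G} (hv : v ∈ V) (hl : l ∈ L) : l * v = v * l := mem_C.1 (h.le hv) l hl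

theorem cu {v : G} (hv : v ∈ V) (a b : F8) : X.u a b * v = v * X.u a b := h.cl hv (X.u_mem a b)

theorem cz {v : G} (hv : v ∈ V) (b : F8) : X.z b * v = v * X.z b := h.cu hv 0 b

theorem inv {v : G} (hv : v ∈ V) : v⁻¹ = v := inv_eq_of_mul_eq_one_right (h.vd.ea v hv)

theorem comm {v w : G} (hv : v ∈ V) (hw : w ∈ V) : v * w = w * v := by
  rw [← h.inv (mul_mem hv hw), mul_inv_rev, h.inv hv, h.inv hw]

theorem mem_T {g : G} : g ∈ V ⊔ X.S ↔ ∃ v ∈ V, ∃ a b, g = v * X.u a b := by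
  rw [mem_sup_of_norm (norm_of_cent (cents_symm (cents_of_le h.le X.S_le)))]
  exact ⟨by rintro ⟨v, hv, _, ⟨a, b, rfl⟩, e⟩; exact ⟨v, hv, a, b, e⟩,
    by rintro ⟨v, hv, a, b, e⟩; exact ⟨v, hv, _, ⟨a, b, rfl⟩, e⟩⟩

theorem ZV : X.Z ≤ C[V] := cents_symm (cents_of_le h.le (X.Z_le_S.trans X.S_le))

theorem mem_E {g : G} : g ∈ V ⊔ X.Z ↔ ∃ v ∈ V, ∃ b, g = v * X.z b := by
  rw [mem_sup_of_norm (norm_of_cent h.ZV)]
  exact ⟨by rintro ⟨v, hv, _, ⟨b, rfl⟩, e⟩; exact ⟨v, hv, b, e⟩,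
    by rintro ⟨v, hv, b, e⟩; exact ⟨v, hv, _, ⟨b, rfl⟩, e⟩⟩

theorem vu_mem {v : G} (hv : v ∈ V) (a b : F8) : v * X.u a b ∈ V ⊔ X.S := h.mem_T.2 ⟨v, hv, a, b, rfl⟩

theorem vz_mem {v : G} (hv : v ∈ V) (b : F8) : v * X.z b ∈ V ⊔ X.Z := h.mem_E.2 ⟨v, hv, b, rfl⟩

omit h in
theorem E_le : V ⊔ X.Z ≤ V ⊔ X.S := sup_le_sup_left X.Z_le_S V

theorem eq_one {g : G} (h1 : g ∈ L) (h2 : g ∈ C[L]) : g = 1 := by
  rw [← mem_bot, ← X.inf_C]; exact mem_inf.2 ⟨h1, h2⟩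

theorem uniq {v w : G} (hv : v ∈ V) (hw : w ∈ V) {a b c d : F8}
    (e : v * X.u a b = w * X.u c d) : v = w ∧ a = c ∧ b = d := by
  have e1 : w⁻¹ * v = X.u c d * (X.u a b)⁻¹ := by
    rw [eq_mul_inv_iff_mul_eq, mul_assoc, e, inv_mul_cancel_left]
  have e2 : w⁻¹ * v = 1 := h.eq_one
    (e1 ▸ mul_mem (X.u_mem _ _) (inv_mem (X.u_mem _ _))) (h.le (mul_mem (inv_mem hw) hv))
  obtain rfl : w = v := inv_mul_eq_one.1 e2
  exact ⟨rfl, X.u_inj (mul_left_cancel e)⟩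

theorem uniqz {v w : G} (hv : v ∈ V) (hw : w ∈ V) {b d : F8}
    (e : v * X.z b = w * X.z d) : v = w ∧ b = d :=
  ⟨(h.uniq hv hw e).1, (h.uniq hv hw e).2.2⟩

theorem mulT {v w : G} (hw : w ∈ V) (a b c d : F8) :
    v * X.u a b * (w * X.u c d) = v * w * X.u (a + c) (b + d + a ^ 4 * c) := by
  rw [mul_assoc, ← mul_assoc (X.u a b), h.cu hw, ← X.u_mul]; simp only [mul_assoc]

theorem mulE {v w : G} (hw : w ∈ V) (b d : F8) :
    v * X.z b * (w * X.z d) = v * w * X.z (b + d) := by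
  rw [mul_assoc, ← mul_assoc (X.z b), h.cz hw, ← X.z_mul]; simp only [mul_assoc]

theorem sqT {v : G} (hv : v ∈ V) (a b : F8) :
    v * X.u a b * (v * X.u a b) = X.z (a ^ 5) := by
  rw [mul_assoc, ← mul_assoc (X.u a b), h.cu hv, mul_assoc, X.u_sq, ← mul_assoc, h.vd.ea v hv,
    one_mul]

theorem exists_ne : ∃ v ∈ V, v ≠ 1 :=
  exists_ne_one (h.vd.syl.ne_bot Nat.prime_two rfl (even_iff_two_dvd.1 h.st.std.2.1.1))

theorem dd_V {v : G} (hv : v ∈ V) (h1 : v ≠ 1) : DD L v :=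
  ⟨h1, h.vd.ea v hv, 1, by simpa using h.le hv⟩

theorem sq_E {g : G} (hg : g ∈ V ⊔ X.Z) : g * g = 1 := by
  obtain ⟨v, hv, b, rfl⟩ := h.mem_E.1 hg
  rw [h.mulE hv, h.vd.ea v hv, F8.add_self, X.z_zero, mul_one]

theorem mem_E_of_sq {g : G} (hg : g ∈ V ⊔ X.S) (h2 : g * g = 1) : g ∈ V ⊔ X.Z := by
  obtain ⟨v, hv, a, b, rfl⟩ := h.mem_T.1 hg
  rw [h.sqT hv, X.z_eq_one] at h2
  obtain rfl : a = 0 := pow_eq_zero_iff (by norm_num) |>.1 h2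
  exact h.vz_mem hv b

theorem T_CE : V ⊔ X.S ≤ C[V ⊔ X.Z] := fun g hg => mem_C.2 fun e he => by
  obtain ⟨v, hv, a, b, rfl⟩ := h.mem_T.1 hg
  obtain ⟨w, hw, c, rfl⟩ := h.mem_E.1 he
  rw [SzD.z, h.mulT hv, h.mulT hw, h.comm hv hw]
  simp [add_comm]

theorem NT_NE : N[V ⊔ X.S] ≤ N[V ⊔ X.Z] := fun g hg => mem_N_of_finite fun e he =>
  h.mem_E_of_sq (conj_mem hg (E_le he)) (by rw [conj_mul, h.sq_E he, mul_one, mul_inv_cancel])

theorem f_NT : X.f ∈ N[V ⊔ X.S] :=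
  norm_sup (X := zpowers X.f) (zpowers_le.2 (C_le_N V (cents_symm h.le X.f_mem)))
    (zpowers_le.2 X.f_mem_NZ.1) (mem_zpowers _)

theorem fv {v : G} (hv : v ∈ V) : X.f * v * X.f⁻¹ = v := by
  rw [h.cl hv X.f_mem, mul_inv_cancel_right]

theorem K_E {g : G} (h1 : g ∈ C[L]) (h2 : g ∈ V ⊔ X.Z) : g ∈ V := by
  obtain ⟨v, hv, b, rfl⟩ := h.mem_E.1 h2
  rw [show X.z b = 1 from h.eq_one (X.u_mem 0 b) ((mul_mem_cancel_left (h.le hv)).1 h1), mul_one]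
  exact hv

theorem pi_T : IsPi {2} (V ⊔ X.S) := (X.syl_N h.vd.syl).pi

theorem co_eq {v : G} (hv : v ∈ V) (a b : F8) : co X V (v * X.u a b) = (v, a, b) := by
  have e : ∃ p : G × F8 × F8, p.1 ∈ V ∧ v * X.u a b = p.1 * X.u p.2.1 p.2.2 := ⟨(v, a, b), hv, rfl⟩
  rw [co, dif_pos e]
  obtain ⟨h1, h2, h3⟩ := h.uniq hv e.choose_spec.1 e.choose_spec.2
  exact Prod.ext h1.symm (Prod.ext h2.symm h3.symm)

theorem co_u (a b : F8) : co X V (X.u a b) = (1, a, b) := by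
  simpa using h.co_eq (one_mem V) a b

theorem x_mul {s t : G} (hs : s ∈ V ⊔ X.S) (ht : t ∈ V ⊔ X.S) :
    (co X V (s * t)).2.1 = (co X V s).2.1 + (co X V t).2.1 := by
  obtain ⟨v, hv, a, b, rfl⟩ := h.mem_T.1 hs
  obtain ⟨w, hw, c, d, rfl⟩ := h.mem_T.1 ht
  rw [h.mulT hw, h.co_eq (mul_mem hv hw), h.co_eq hv, h.co_eq hw]

theorem x_E {t : G} (ht : t ∈ V ⊔ X.S) : (co X V t).2.1 = 0 ↔ t ∈ V ⊔ X.Z := by
  constructor
  · obtain ⟨v, hv, a, b, rfl⟩ := h.mem_T.1 ht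
    rw [h.co_eq hv]
    rintro (rfl : a = 0)
    exact h.vz_mem hv b
  · intro he
    obtain ⟨v, hv, b, rfl⟩ := h.mem_E.1 he
    rw [SzD.z, h.co_eq hv]

theorem x_sq {t : G} (ht : t ∈ V ⊔ X.S) : t * t = X.z ((co X V t).2.1 ^ 5) := by
  obtain ⟨v, hv, a, b, rfl⟩ := h.mem_T.1 ht
  rw [h.sqT hv, h.co_eq hv]

omit h in
theorem z_eq_sq (b : F8) : X.z b = X.u (b ^ 3) 0 * X.u (b ^ 3) 0 := by
  rw [X.u_sq, (by decide +kernel : ∀ a : F8, (a ^ 3) ^ 5 = a)]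

/-- the action on `T / E` -/
noncomputable def A (X : SzD L) (V : Subgroup G) (g : G) (a : F8) : F8 :=
  (co X V (g * X.u a 0 * g⁻¹)).2.1

theorem A_x {g t : G} (hg : g ∈ N[V ⊔ X.S]) (ht : t ∈ V ⊔ X.S) :
    (co X V (g * t * g⁻¹)).2.1 = A X V g (co X V t).2.1 := by
  obtain ⟨v, hv, a, b, rfl⟩ := h.mem_T.1 ht
  have e : v * X.u a b = X.u a 0 * (v * X.z b) := by
    rw [← mul_assoc, h.cu hv, mul_assoc, SzD.z, X.u_mul]; simp
  have m := h.vz_mem hv b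
  rw [h.co_eq hv, e, ← conj_mul, h.x_mul (conj_mem hg (mem_sup_right (X.u_mem_S _ _)))
    (conj_mem hg (E_le m)), (h.x_E (conj_mem hg (E_le m))).2 (conj_mem (h.NT_NE hg) m), add_zero, A]

theorem A_mul {g k : G} (hg : g ∈ N[V ⊔ X.S]) (hk : k ∈ N[V ⊔ X.S]) (a : F8) :
    A X V (g * k) a = A X V g (A X V k a) := by
  rw [A, show g * k * X.u a 0 * (g * k)⁻¹ = g * (k * X.u a 0 * k⁻¹) * g⁻¹ by group,
    h.A_x hg (conj_mem hk (mem_sup_right (X.u_mem_S _ _)))]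
  rfl

theorem A_one (a : F8) : A X V 1 a = a := by simp [A, h.co_u]

theorem A_pow {g : G} (hg : g ∈ N[V ⊔ X.S]) (n : ℕ) (a : F8) :
    A X V (g ^ n) a = (A X V g)^[n] a := by
  induction n generalizing a with
  | zero => rw [pow_zero, h.A_one]; rfl
  | succ n ih => rw [pow_succ, h.A_mul (pow_mem hg n) hg, ih]; rfl

theorem A_z {g : G} (hg : g ∈ N[V ⊔ X.S]) (a : F8) :
    g * X.z (a ^ 5) * g⁻¹ = X.z (A X V g a ^ 5) := by
  rw [← X.u_sq a 0, ← conj_mul, h.x_sq (conj_mem hg (mem_sup_right (X.u_mem_S _ _))), A]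

theorem A_21 {g : G} (hg : g ∈ N[V ⊔ X.S]) (a : F8) : A X V (g ^ 21) a = a := by
  have c : ∀ a : F8, (a ^ 3) ^ 5 = a := by decide +kernel
  have c' : ∀ a : F8, (a ^ 5) ^ 3 = a := by decide +kernel
  have add : ∀ a b, A X V g (a + b) = A X V g a + A X V g b := fun a b => by
    have m := fun a : F8 => mem_sup_right (S := V) (X.u_mem_S a 0)
    have := h.A_x hg (mul_mem (m a) (m b))
    rw [h.x_mul (m a) (m b), h.co_u, h.co_u, ← conj_mul,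
      h.x_mul (conj_mem hg (m a)) (conj_mem hg (m b))] at this
    exact this.symm
  have inj : Function.Injective (A X V g) := fun a b e => by
    rw [← h.A_one a, ← h.A_one b, ← inv_mul_cancel g, h.A_mul (inv_mem hg) hg,
      h.A_mul (inv_mem hg) hg, e]
  obtain ⟨l, i, e⟩ := qlemma (AddMonoidHom.mk' (A X V g) add)
    (AddMonoidHom.mk' (fun b => A X V g (b ^ 3) ^ 5) fun a b => X.z_inj (by
      rw [← X.z_mul, ← h.A_z hg, ← h.A_z hg, ← h.A_z hg, c, c, c, conj_mul, X.z_mul]))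
    inj (fun a => by simp [c'])
  have e' : A X V g = fun a => l * a ^ 2 ^ (i : ℕ) := funext e
  have l0 : l ≠ 0 := by
    rintro rfl
    exact absurd (inj (a₁ := 0) (a₂ := 1) (by simp [e'])) zero_ne_one
  rw [h.A_pow hg, e']
  exact (by decide +kernel : ∀ l : F8, l ≠ 0 → ∀ i : Fin 3, ∀ a : F8,
    (fun a => l * a ^ 2 ^ (i : ℕ))^[21] a = a) l l0 i a

theorem A_two {g : G} (hg : g ∈ N[V ⊔ X.S]) (h2 : PiElt {2} g) (a : F8) : A X V g a = a := by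
  let H : Subgroup G :=
    { carrier := {k | k ∈ N[V ⊔ X.S] ∧ ∀ a, A X V k a = a}
      mul_mem' := fun h1 h2 => ⟨mul_mem h1.1 h2.1, fun a => by rw [h.A_mul h1.1 h2.1, h2.2, h1.2]⟩
      one_mem' := ⟨one_mem _, h.A_one⟩
      inv_mem' := fun {k} h1 => ⟨inv_mem h1.1, fun a => by
        conv_lhs => rw [← h1.2 a]
        rw [← h.A_mul (inv_mem h1.1) h1.1, inv_mul_cancel, h.A_one]⟩ }
  exact (mem_of_pow (H := H) h2 (n := 21) (by decide) ⟨pow_mem hg _, h.A_21 hg⟩).2 a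

theorem two_Z {g : G} (hg : g ∈ N[V ⊔ X.S]) (h2 : PiElt {2} g) : g ∈ C[X.Z] := mem_C'.2 <| by
  rintro _ ⟨b, rfl⟩
  have := h.A_z hg (b ^ 3)
  rwa [h.A_two hg h2, (by decide +kernel : ∀ a : F8, (a ^ 3) ^ 5 = a), mul_inv_eq_iff_eq_mul] at this

theorem two_T {g t : G} (hg : g ∈ N[V ⊔ X.S]) (h2 : PiElt {2} g) (ht : t ∈ V ⊔ X.S) :
    ∃ v ∈ V, ∃ b, g * t * g⁻¹ = t * (v * X.z b) := by
  have m := conj_mem hg ht
  have : t⁻¹ * (g * t * g⁻¹) ∈ V ⊔ X.Z := by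
    rw [← h.x_E (mul_mem (inv_mem ht) m), h.x_mul (inv_mem ht) m, h.A_x hg ht, h.A_two hg h2,
      ← h.x_mul (inv_mem ht) ht, inv_mul_cancel, h.x_E (one_mem _)]
    exact one_mem _
  obtain ⟨v, hv, b, e⟩ := h.mem_E.1 this
  exact ⟨v, hv, b, by rw [← e, mul_inv_cancel_left]⟩

theorem exists_phi {g : G} (hg : g ∈ N[V ⊔ X.S]) (hn : g ∉ N[L]) :
    ∃ φ : G → F8, ∀ v ∈ V, ∀ b, v * X.z b ∈ cj g V ↔ b = φ v := by
  have i1 : cj g V ⊓ X.Z = ⊥ := by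
    rw [eq_bot_iff]
    rintro x ⟨h1, b, rfl⟩
    obtain ⟨v, hv, e⟩ := mem_cj'.1 h1
    by_contra h3
    refine h.vd.zn b (e ▸ dd_conj (h.dd_V hv ?_) g)
    rintro rfl
    exact h3 (by rw [e]; simp)
  have i2 : V ⊓ X.Z = ⊥ := by
    rw [eq_bot_iff]
    exact fun x hx => mem_bot.2 (h.eq_one (X.S_le (X.Z_le_S hx.2)) (h.le hx.1))
  have l1 : cj g V ≤ V ⊔ X.Z := cj_le_of_mem_N le_sup_left (h.NT_NE hg)
  have e : cj g V ⊔ X.Z = V ⊔ X.Z := eq_of_card_eq (sup_le l1 le_sup_right) (by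
    rw [card_sup_of_inf (norm_of_cent (cents_of_le (le_sup_right.trans (E_le.trans h.T_CE)) l1)) i1,
      card_sup_of_inf (norm_of_cent h.ZV) i2, card_cj])
  have k : ∀ v, ∃ b, v ∈ V → v * X.z b ∈ cj g V := fun v => by
    by_cases hv : v ∈ V
    · obtain ⟨x, hx, _, ⟨b, rfl⟩, e'⟩ := (mem_sup_of_norm (norm_of_cent (cents_of_le
        (le_sup_right.trans (E_le.trans h.T_CE)) l1))).1 (e ▸ mem_sup_left hv : v ∈ cj g V ⊔ X.Z)
      exact ⟨b, fun _ => by rwa [e', mul_assoc, X.z_sq, mul_one]⟩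
    · exact ⟨0, fun h => absurd h hv⟩
  choose φ hφ using k
  refine ⟨φ, fun v hv b => ⟨fun hb => ?_, fun e => e ▸ hφ v hv⟩⟩
  have := mul_mem (inv_mem hb) (hφ v hv)
  rw [mul_inv_rev, mul_assoc, inv_mul_cancel_left, X.z_inv, X.z_mul] at this
  have h3 : X.z (b + φ v) = 1 := mem_bot.1 (i1 ▸ mem_inf.2 ⟨this, X.z_mem_Z _⟩)
  rw [X.z_eq_one] at h3
  linear_combination h3 - F8.add_self (φ v)

end Bs

end H17.RC
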