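import Mathlib
import Cfsg.Agent.H17.RC1

/-! # Standard subgroup `Sz(8)`: the group `C₀ = Q × D` -/

set_option autoImplicit false
set_option linter.unusedSectionVars false

namespace H17.RC

open Cfsg H24 Subgroup H14.Ru

variable {G : Type*} [Group G] [Finite G] {L G0 V : Subgroup G}

theorem cj_cj (g k : G) (H : Subgroup G) : cj g (cj k H) = cj (g * k) H := by
  ext x; simp only [mem_cj, mul_inv_rev, mul_assoc]

/-- `g V g⁻¹` is the graph of `ψ` -/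
def Gr (X : SzD L) (V : Subgroup G) (g : G) (ψ : G → F8) : Prop :=
  g ∈ N[V ⊔ X.S] ∧ ∀ v ∈ V, ∀ b, v * X.z b ∈ cj g V ↔ b = ψ v

/-- a conjugate of `V` in `E` given as the graph of `φ` -/
structure Ph (X : SzD L) (V G0 : Subgroup G) (φ : G → F8) : Prop extends Bs X V G0 where
  ex : ∃ g, g ∉ N[L] ∧ Gr X V g φ

theorem Bs.exists_ph {X : SzD L} (h : Bs X V G0) : ∃ φ, Ph X V G0 φ := by
  obtain ⟨g, h1, h2⟩ := h.vd.ex
  obtain ⟨φ, hφ⟩ := h.exists_phi h1 h2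
  exact ⟨φ, h, g, h2, h1, hφ⟩

theorem Bs.gr_f {X : SzD L} (h : Bs X V G0) {g : G} {ψ : G → F8} (k : Gr X V g ψ) :
    Gr X V (X.f * g) fun v => ω ^ 5 * ψ v := by
  refine ⟨mul_mem h.f_NT k.1, fun v hv b => ?_⟩
  obtain ⟨c, rfl⟩ : ∃ c, b = ω ^ 5 * c := ⟨ω ^ 2 * b, by revert b; decide +kernel⟩
  rw [mul_right_inj' (by decide +kernel), ← k.2 v hv, ← X.f_z, ← cj_cj]
  conv_lhs => rw [← h.fv hv, conj_mul, conj_mem_cj_iff]

namespace Ph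

variable {X : SzD L} {φ : G → F8} (h : Ph X V G0 φ)
include h

theorem add {v w : G} (hv : v ∈ V) (hw : w ∈ V) : φ (v * w) = φ v + φ w := by
  obtain ⟨g, -, -, k⟩ := h.ex
  have := mul_mem ((k v hv _).2 rfl) ((k w hw _).2 rfl)
  rw [h.mulE hw] at this
  exact ((k _ (mul_mem hv hw) _).1 this).symm

theorem one : φ 1 = 0 := by simpa using h.add (one_mem V) (one_mem V)

theorem eq_one_of {v : G} (hv : v ∈ V) (e : φ v = 0) : v = 1 := by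
  obtain ⟨g, hn, -, k⟩ := h.ex
  have := (k v hv _).2 rfl
  rw [e, X.z_zero, mul_one] at this
  obtain ⟨w, hw, rfl⟩ := mem_cj'.1 this
  by_contra h1
  refine hn (h.st.mem_N (t := w) ?_ (h.vd.ea w hw) (h.le hw) (h.le hv))
  rintro rfl
  exact h1 (by simp)

theorem inj {v w : G} (hv : v ∈ V) (hw : w ∈ V) (e : φ v = φ w) : v = w := by
  have := h.eq_one_of (mul_mem hv hw) (by rw [h.add hv hw, e, F8.add_self])
  rw [eq_inv_of_mul_eq_one_left this, h.inv hw]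

theorem ne_zero {v : G} (hv : v ∈ V) (h1 : v ≠ 1) : φ v ≠ 0 := fun e => h1 (h.eq_one_of hv e)

theorem gr (l : F8) : ∃ g, Gr X V g fun v => l * φ v := by
  by_cases hl : l = 0
  · refine ⟨1, one_mem _, fun v hv b => ?_⟩
    dsimp only
    rw [cj_one, hl, zero_mul, mul_mem_cancel_left hv, ← X.z_eq_one]
    exact ⟨fun k => h.eq_one (X.u_mem 0 b) (h.le k), fun k => k ▸ one_mem _⟩
  obtain ⟨⟨i, hi⟩, rfl⟩ := exists_pow5 l hl
  obtain ⟨g, -, k⟩ := h.ex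
  clear hl
  dsimp only
  clear hi
  induction i with
  | zero => exact ⟨g, by simpa using k⟩
  | succ i ih =>
    obtain ⟨g, k⟩ := ih
    exact ⟨_, by simpa only [pow_succ' (ω ^ 5) i, mul_assoc] using h.gr_f k⟩

theorem not_N {g : G} {l : F8} (k : Gr X V g fun v => l * φ v) (hl : l ≠ 0) : g ∉ N[L] := fun hg => by
  obtain ⟨v, hv, h1⟩ := h.exists_ne
  have := cj_le_of_mem_N h.le (N_le_NC L hg) ((k.2 v hv _).2 rfl)
  rw [mul_mem_cancel_left (h.le hv)] at this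
  exact mul_ne_zero hl (h.ne_zero hv h1) (X.z_eq_one.1 (h.eq_one (X.u_mem 0 _) this))

theorem scale {l : F8} (hl : l ≠ 0) : Ph X V G0 fun v => l * φ v :=
  let ⟨g, k⟩ := h.gr l; ⟨h.toBs, g, h.not_N k hl, k⟩

theorem dd {v : G} (hv : v ∈ V) (h1 : v ≠ 1) (b : F8) : DD L (v * X.z b) := by
  obtain ⟨g, -, k⟩ := h.gr (b / φ v)
  obtain ⟨w, hw, e⟩ := mem_cj'.1 ((k v hv b).2 (div_mul_cancel₀ _ (h.ne_zero hv h1)).symm)
  refine e ▸ dd_conj (h.dd_V hw ?_) g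
  rintro rfl
  rw [mul_one, mul_inv_cancel, ← mul_one (1 : G), ← X.z_zero] at e
  exact h1 (h.uniqz hv (one_mem V) (by simpa [X.z_zero] using e : v * X.z b = 1 * X.z 0)).1

theorem NE_NZ : N[V ⊔ X.Z] ≤ N[X.Z] := fun g hg => mem_N_of_finite <| by
  rintro _ ⟨b, rfl⟩
  obtain ⟨v, hv, c, e⟩ := h.mem_E.1 (conj_mem hg (mem_sup_right (X.z_mem_Z b)))
  by_cases h1 : v = 1
  · rw [e, h1, one_mul]; exact X.z_mem_Z c
  · have := dd_conj (e ▸ h.dd hv h1 c) g⁻¹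
    rw [show g⁻¹ * (g * X.z b * g⁻¹) * g⁻¹⁻¹ = X.z b by group] at this
    exact absurd this (h.vd.zn b)

theorem NEL {n : G} (h1 : n ∈ N[V ⊔ X.Z]) (h2 : n ∈ N[L]) : n ∈ N[V] ∧ n ∈ N[V ⊔ X.S] := by
  have a : n ∈ N[V] := mem_N_of_finite fun v hv =>
    h.K_E (conj_mem (N_le_NC L h2) (h.le hv)) (conj_mem h1 (mem_sup_left hv))
  exact ⟨a, norm_sup (X := zpowers n) (zpowers_le.2 a) (zpowers_le.2
    (X.norm_S h2 one_ne_zero (conj_mem (h.NE_NZ h1) (X.z_mem_Z 1))).1) (mem_zpowers n)⟩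

theorem gr_of {x : G} (hx : x ∈ N[V ⊔ X.Z]) : ∃ m, Gr X V x fun v => m * φ v := by
  obtain ⟨v0, hv0, h0⟩ := h.exists_ne
  obtain ⟨v, hv, c, e⟩ := h.mem_E.1 (conj_mem hx (mem_sup_left hv0))
  have h1 : v ≠ 1 := by
    rintro rfl
    exact h.vd.zn c (by rw [← one_mul (X.z c), ← e]; exact dd_conj (h.dd_V hv0 h0) x)
  obtain ⟨g, hg, k⟩ := h.gr (c / φ v)
  have m := mem_cj.1 ((k v hv c).2 (div_mul_cancel₀ _ (h.ne_zero hv h1)).symm)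
  have n : g⁻¹ * x ∈ N[L] := h.st.mem_N h0 (h.vd.ea v0 hv0) (h.le hv0) (by
    rw [← e] at m
    convert h.le m using 1
    group)
  obtain ⟨n1, n2⟩ := h.NEL (mul_mem (inv_mem (h.NT_NE hg)) hx) n
  refine ⟨c / φ v, (mul_mem_cancel_left (inv_mem hg)).1 n2, ?_⟩
  rwa [cj_eq_cj_iff.2 n1]

theorem NE_NT : N[V ⊔ X.Z] ≤ N[V ⊔ X.S] := fun _ hx => (h.gr_of hx).choose_spec.1

/-- `g` multiplies `φ` by `κ` -/
def Kp (X : SzD L) (V : Subgroup G) (φ : G → F8) (g : G) (κ : F8) : Prop :=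
  ∀ v ∈ V, ∃ w ∈ V, ∃ c, g * v * g⁻¹ = w * X.z c ∧ φ w = κ * φ v

theorem exists_kp {g : G} (hg : g ∈ N[V ⊔ X.Z]) (hz : g ∈ C[X.Z]) : ∃ κ ≠ 0, Kp X V φ g κ := by
  obtain ⟨m0, -, k0⟩ := h.gr_of hg
  obtain ⟨g1, n1, k1⟩ := h.gr 1
  obtain ⟨m1, -, k2⟩ := h.gr_of (mul_mem hg (h.NT_NE n1))
  have key : ∀ v ∈ V, ∃ w ∈ V, ∃ c, g * v * g⁻¹ = w * X.z c ∧ φ v = (m0 + m1) * φ w := fun v hv => by
    obtain ⟨w, hw, c, e⟩ := h.mem_E.1 (conj_mem hg (mem_sup_left hv))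
    refine ⟨w, hw, c, e, ?_⟩
    have e1 := (k0 w hw c).1 (e ▸ conj_mem_cj g hv)
    have e2 := conj_mem_cj g ((k1 v hv _).2 rfl)
    rw [cj_cj, ← conj_mul, e, conj_eq_of_mem_C hz (X.z_mem_Z _), mul_assoc, X.z_mul] at e2
    have e3 := (k2 w hw _).1 e2
    dsimp only at e1 e3
    linear_combination e3 - e1 - F8.add_self (m0 * φ w)
  obtain ⟨v0, hv0, h0⟩ := h.exists_ne
  have hm : m0 + m1 ≠ 0 := fun e => by
    obtain ⟨w, -, c, -, e1⟩ := key v0 hv0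
    exact h.ne_zero hv0 h0 (by rw [e1, e, zero_mul])
  refine ⟨_, inv_ne_zero hm, fun v hv => ?_⟩
  obtain ⟨w, hw, c, e, e1⟩ := key v hv
  exact ⟨w, hw, c, e, by rw [e1, inv_mul_cancel_left₀ hm]⟩

omit h in
theorem Kp.pow {g : G} {κ : F8} (hz : g ∈ C[X.Z]) (k : Kp X V φ g κ) (n : ℕ) :
    Kp X V φ (g ^ n) (κ ^ n) := by
  induction n with
  | zero => exact fun v hv => ⟨v, hv, 0, by simp [X.z_zero], by simp⟩
  | succ n ih =>
    intro v hv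
    obtain ⟨w, hw, c, e, e1⟩ := ih v hv
    obtain ⟨w', hw', c', e', e1'⟩ := k w hw
    refine ⟨w', hw', c' + c, ?_, by rw [e1', e1]; ring⟩
    rw [pow_succ', show g * g ^ n * v * (g * g ^ n)⁻¹ = g * (g ^ n * v * (g ^ n)⁻¹) * g⁻¹ by group, e,
      ← conj_mul, e', conj_eq_of_mem_C hz (X.z_mem_Z _), mul_assoc, X.z_mul]

/-- the elements centralising `Z` and `E / Z` -/
def C0 (X : SzD L) (V : Subgroup G) (φ : G → F8) : Subgroup G where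
  carrier := {g | g ∈ C[X.Z] ∧ ∃ m, ∀ v ∈ V, g * v * g⁻¹ = v * X.z (m * φ v)}
  one_mem' := ⟨one_mem _, 0, fun v _ => by simp [X.z_zero]⟩
  mul_mem' := by
    rintro a b ⟨h1, m, h2⟩ ⟨h3, n, h4⟩
    refine ⟨mul_mem h1 h3, m + n, fun v hv => ?_⟩
    rw [show a * b * v * (a * b)⁻¹ = a * (b * v * b⁻¹) * a⁻¹ by group, h4 v hv, ← conj_mul, h2 v hv,
      conj_eq_of_mem_C h1 (X.z_mem_Z _), mul_assoc, X.z_mul, add_mul]
  inv_mem' := by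
    rintro a ⟨h1, m, h2⟩
    refine ⟨inv_mem h1, m, fun v hv => ?_⟩
    have := h2 v hv
    rw [← conj_eq_of_mem_C h1 (X.z_mem_Z (m * φ v)), mul_inv_eq_iff_eq_mul] at this
    rw [inv_inv, eq_comm, ← mul_inv_eq_iff_eq_mul, ← X.z_inv, eq_inv_mul_iff_mul_eq, ← mul_assoc,
      ← mul_assoc, this]
    group

open Classical in
/-- the homomorphism `C₀ → F₈` -/
noncomputable def τ (X : SzD L) (V : Subgroup G) (φ : G → F8) (g : G) : F8 :=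
  if h : g ∈ C0 X V φ then h.2.choose else 0

omit h in
theorem τ_spec {g v : G} (hg : g ∈ C0 X V φ) (hv : v ∈ V) :
    g * v * g⁻¹ = v * X.z (τ X V φ g * φ v) := by
  rw [τ, dif_pos hg]; exact hg.2.choose_spec v hv

theorem τ_eq {g : G} {m : F8} (hg : g ∈ C0 X V φ)
    (e : ∀ v ∈ V, g * v * g⁻¹ = v * X.z (m * φ v)) : τ X V φ g = m := by
  obtain ⟨v, hv, h1⟩ := h.exists_ne
  exact mul_right_cancel₀ (h.ne_zero hv h1) (X.z_inj (mul_left_cancel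
    ((τ_spec hg hv).symm.trans (e v hv))))

theorem τ_mul {a b : G} (ha : a ∈ C0 X V φ) (hb : b ∈ C0 X V φ) :
    τ X V φ (a * b) = τ X V φ a + τ X V φ b := h.τ_eq (mul_mem ha hb) fun v hv => by
  rw [show a * b * v * (a * b)⁻¹ = a * (b * v * b⁻¹) * a⁻¹ by group, τ_spec hb hv, ← conj_mul,
    τ_spec ha hv, conj_eq_of_mem_C ha.1 (X.z_mem_Z _), mul_assoc, X.z_mul, add_mul]

omit h in
theorem CE_C0 : C[V ⊔ X.Z] ≤ C0 X V φ := fun g hg =>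
  ⟨C_anti le_sup_right hg, 0, fun v hv => by
    rw [conj_eq_of_mem_C hg (mem_sup_left hv), zero_mul, X.z_zero, mul_one]⟩

theorem τ_CE {g : G} (hg : g ∈ C[V ⊔ X.Z]) : τ X V φ g = 0 := h.τ_eq (CE_C0 hg) fun v hv => by
  rw [conj_eq_of_mem_C hg (mem_sup_left hv), zero_mul, X.z_zero, mul_one]

theorem τ_inv {a : G} (ha : a ∈ C0 X V φ) : τ X V φ a⁻¹ = τ X V φ a := by
  have := h.τ_mul ha (inv_mem ha)
  rw [mul_inv_cancel, h.τ_CE (one_mem _)] at this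
  linear_combination - this - F8.add_self (τ X V φ a)

omit h in
theorem CE_of_τ {g : G} (hg : g ∈ C0 X V φ) (e : τ X V φ g = 0) : g ∈ C[V ⊔ X.Z] := by
  rw [C_sup]
  refine mem_inf.2 ⟨mem_C'.2 fun v hv => ?_, hg.1⟩
  have := τ_spec hg hv
  rwa [e, zero_mul, X.z_zero, mul_one, mul_inv_eq_iff_eq_mul] at this

theorem C0_NE : C0 X V φ ≤ N[V ⊔ X.Z] := fun g hg => mem_N_of_finite fun e he => by
  obtain ⟨v, hv, b, rfl⟩ := h.mem_E.1 he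
  rw [← conj_mul, τ_spec hg hv, conj_eq_of_mem_C hg.1 (X.z_mem_Z _), mul_assoc, X.z_mul]
  exact h.vz_mem hv _

theorem f_C0 {g : G} (hg : g ∈ C0 X V φ) :
    X.f * g * X.f⁻¹ ∈ C0 X V φ ∧ τ X V φ (X.f * g * X.f⁻¹) = ω ^ 5 * τ X V φ g := by
  have e : ∀ v ∈ V, X.f * g * X.f⁻¹ * v * (X.f * g * X.f⁻¹)⁻¹ =
      v * X.z (ω ^ 5 * τ X V φ g * φ v) := fun v hv => by
    conv_lhs => rw [← h.fv hv]
    rw [conj_inv, conj_mul, conj_mul, τ_spec hg hv, ← conj_mul, h.fv hv, X.f_z, mul_assoc (ω ^ 5)]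
  have m : X.f * g * X.f⁻¹ ∈ C0 X V φ := ⟨conj_mem (N_le_NC _ X.f_mem_NZ.2) hg.1, _, e⟩
  exact ⟨m, h.τ_eq m e⟩

theorem of_kp {g : G} (hg : g ∈ N[V ⊔ X.Z]) (hz : g ∈ C[X.Z]) (k : Kp X V φ g 1) :
    g ∈ C0 X V φ := by
  obtain ⟨m, -, k0⟩ := h.gr_of hg
  refine ⟨hz, m, fun v hv => ?_⟩
  obtain ⟨w, hw, c, e, e1⟩ := k v hv
  obtain rfl := h.inj hw hv (by rw [e1, one_mul])
  rw [e, (k0 w hw c).1 (e ▸ conj_mem_cj g hv)]

theorem two_C0 {g : G} (hg : g ∈ N[V ⊔ X.Z]) (h2 : PiElt {2} g) : g ∈ C0 X V φ := by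
  have hz := h.two_Z (h.NE_NT hg) h2
  obtain ⟨κ, h0, k⟩ := h.exists_kp hg hz
  refine mem_of_pow h2 (n := 7) (by decide) (h.of_kp (pow_mem hg _) (pow_mem hz _) ?_)
  simpa only [(by decide +kernel : ∀ a : F8, a ≠ 0 → a ^ 7 = 1) κ h0] using k.pow hz 7

theorem exists_τ : ∃ y ∈ C0 X V φ, τ X V φ y ≠ 0 := by
  obtain ⟨g, hg, k⟩ := h.gr 1
  obtain ⟨m, k1⟩ := h.gr_of (inv_mem (h.NT_NE hg))
  have hm : m ≠ 0 := by
    rintro rfl
    refine h.not_N ⟨hg, k⟩ one_ne_zero ?_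
    obtain ⟨v, hv, h1⟩ := h.exists_ne
    have := (k1.2 v hv 0).2 (by simp)
    rw [X.z_zero, mul_one, mem_cj, inv_inv] at this
    exact h.st.mem_N h1 (h.vd.ea v hv) (h.le hv) (h.le this)
  obtain ⟨i, hi⟩ := exists_pow5 m⁻¹ (inv_ne_zero hm)
  have k2 : ∀ j : ℕ, Gr X V (X.f ^ j * g⁻¹) fun v => (ω ^ 5) ^ j * m * φ v := fun j => by
    induction j with
    | zero => simpa using k1
    | succ j ih => simpa only [pow_succ' (ω ^ 5) j, pow_succ' X.f j, mul_assoc] using h.gr_f ih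
  have k3 := k2 i
  rw [← hi, inv_mul_cancel₀ hm] at k3
  set s := X.f ^ (i : ℕ) * g⁻¹ with hs
  have l1 : ∀ {x : G}, Gr X V x (fun v => 1 * φ v) → cj x V ≤ cj g V := fun {x} hx y hy => by
    obtain ⟨v, hv, b, rfl⟩ := h.mem_E.1 (cj_le_of_mem_N le_sup_left (h.NT_NE hx.1) hy)
    exact (k v hv b).2 ((hx.2 v hv b).1 hy)
  have e1 : cj s V = cj g V := eq_of_card_eq (l1 k3) (by simp)
  have e2 : s * s ∈ N[V] := by
    rw [mem_N_iff_cj, ← cj_cj, e1, cj_cj, hs, inv_mul_cancel_right]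
    exact cj_of_mem_C (pow_mem (cents_symm h.le X.f_mem) _)
  obtain ⟨y, z, hy, hz, my, mz, e⟩ := exists_piElt_decomp {2} s
  have hyN : y ∈ N[V ⊔ X.Z] := zpowers_le.2 (h.NT_NE k3.1) my
  refine ⟨y, h.two_C0 hyN hy, fun e0 => h.not_N k3 one_ne_zero ?_⟩
  have h3 : y ∈ N[V] := C_le_N V (C_anti le_sup_left (CE_of_τ (h.two_C0 hyN hy) e0))
  have h4 : z ∈ N[V] := mem_of_pow' (n := 1) hz (by
    obtain ⟨j, rfl⟩ := mem_zpowers_iff.1 mz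
    rw [pow_one, ← zpow_natCast, ← zpow_mul, mul_comm, zpow_mul, zpow_natCast, sq]
    exact zpow_mem e2 j)
  obtain ⟨v, hv, h1⟩ := h.exists_ne
  exact h.st.mem_N h1 (h.vd.ea v hv) (h.le hv) (h.le (conj_mem (e ▸ mul_mem h3 h4) hv))

end Ph

end H17.RC
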