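import Mathlib
import Cfsg.Agent.H14.RuB1
import Cfsg.Agent.H17.RC2
import Cfsg.Agent.S1174

/-! # Standard subgroup `Sz(8)`: conjugation of the data, decompositions -/

set_option autoImplicit false
set_option linter.unusedSectionVars false

namespace H14.Ru

open Cfsg H24 Subgroup H17.RC

variable {G : Type*} [Group G] [Finite G] {L G0 R : Subgroup G}

theorem isSimple_cj (h : IsSimpleGroup L) (g : G) : IsSimpleGroup (cj g L) :=
  (L.equivMapOfInjective _ (conj_injective' g)).symm.isSimpleGroup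

/-- the conjugate coordinates -/
def SzD.cj (X : SzD L) (g : G) : SzD (cj g L) where
  u a b := g * X.u a b * g⁻¹
  f := g * X.f * g⁻¹
  u_mem a b := conj_mem_cj g (X.u_mem a b)
  f_mem := conj_mem_cj g X.f_mem
  u_mul a b c d := by rw [conj_mul, X.u_mul]
  u_inj h := X.u_inj (mul_left_cancel (mul_right_cancel h))
  f_u a b := by rw [conj_inv, conj_mul, conj_mul, X.f_u]
  f7 := by rw [conj_pow, X.f7]; simp
  card := by rw [card_cj, X.card]
  simple := isSimple_cj X.simple g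
  ti := by
    intro y hy a b c d h1 h2
    obtain ⟨x, hx, rfl⟩ := mem_cj'.1 hy
    rw [conj_inv, conj_mul, conj_mul] at h2
    obtain ⟨a', b', i, rfl⟩ := X.ti x hx a b c d (fun e => h1 (by simp [e]))
      (mul_left_cancel (mul_right_cancel h2))
    exact ⟨a', b', i, by rw [conj_pow, conj_mul]⟩
  max Y h1 h2 := by
    rintro ⟨_, ⟨l, hl, rfl⟩, h3, h4⟩
    rw [← cj_le_cj (g := g⁻¹), cj_inv_cj]
    refine X.max _ (fun a b => by simpa [mem_cj] using h1 a b) (by simpa [mem_cj] using h2)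
      ⟨l, hl, by simpa [mem_cj] using h3, fun ⟨a, b, i, e⟩ => h4 ⟨a, b, i, by
        rw [conj_pow, conj_mul, e]; rfl⟩⟩
  autZ x hx h := by
    rw [← cj_N] at hx
    obtain ⟨y, hy, rfl⟩ := mem_cj'.1 hx
    obtain ⟨a, b, k, hk, rfl⟩ := X.autZ y hy fun b => by
      have := h b
      rw [conj_mul, conj_mul] at this
      exact mul_left_cancel (mul_right_cancel this)
    exact ⟨a, b, _, cj_C g L ▸ conj_mem_cj g hk, conj_mul.symm⟩
  aut2 x hx h := by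
    rw [← cj_N] at hx
    obtain ⟨y, hy, rfl⟩ := mem_cj'.1 hx
    obtain ⟨l, hl, k, hk, rfl⟩ := X.aut2 y hy (piElt_conj.1 h)
    exact ⟨_, conj_mem_cj g hl, _, cj_C g L ▸ conj_mem_cj g hk, conj_mul.symm⟩

theorem SzD.cj_S (X : SzD L) (g : G) : (X.cj g).S = H24.cj g X.S := by
  ext x
  rw [mem_cj']
  exact ⟨fun ⟨a, b, e⟩ => ⟨_, ⟨a, b, rfl⟩, e⟩, by rintro ⟨_, ⟨a, b, rfl⟩, e⟩; exact ⟨a, b, e⟩⟩

theorem St.cj (h : St L G0) (g : G) : St (cj g L) G0 := by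
  have := h.nrm
  obtain ⟨⟨h1, h2⟩, ⟨h3, h4⟩, h5, h6⟩ := h.std
  have e := L.equivMapOfInjective _ (conj_injective' g)
  have k : ∀ x : G, ∀ A : Subgroup G, H24.cj x (H24.cj g A) = H24.cj g (H24.cj (g⁻¹ * x * g) A) :=
    fun x A => by rw [cj_cj, cj_cj]; congr 1; group
  refine ⟨⟨H23.IsQuasisimple.of_equiv ⟨h1, h2⟩ e, ⟨by rwa [← cj_C, card_cj], fun x hx => ?_⟩,
    fun x hx => ?_, ?_⟩, h.nrm, h.simple, cj_le_of_mem_N h.le (norm_of_normal ⊤ _ (mem_top g)),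
    h.cent, fun hn => h.ne ?_⟩
  · rw [← cj_C, ← cj_N, mem_cj] at hx
    rw [← cj_def, ← cj_C, k, ← cj_inf, card_cj]
    exact h4 _ hx
  · rw [← cj_def, k] at hx ⊢
    rw [← cj_comm, Ne, cj_eq_bot]
    exact h5 _ fun e => hx (congrArg _ e)
  · rw [← cj_C, ← cj_N, ← cj_N, h6]
  · rw [← normalizer_eq_top_iff] at hn ⊢
    rwa [← cj_N, cj_eq_top] at hn

theorem DD.cj_iff {t g : G} : DD (cj g L) t ↔ DD L t := by
  refine and_congr_right fun _ => and_congr_right fun _ => ⟨fun ⟨x, h⟩ => ⟨g⁻¹ * x, ?_⟩,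
    fun ⟨x, h⟩ => ⟨g * x, ?_⟩⟩
  · rw [← cj_C, mem_cj] at h
    simpa [mul_assoc] using h
  · rw [← cj_C, mem_cj]
    simpa [mul_assoc] using h

theorem SzD.eq_one (X : SzD L) {g : G} (h1 : g ∈ L) (h2 : g ∈ C[L]) : g = 1 := by
  rw [← mem_bot, ← X.inf_C]; exact mem_inf.2 ⟨h1, h2⟩

theorem SzD.uniq (X : SzD L) {k k' l l' : G} (hk : k ∈ C[L]) (hk' : k' ∈ C[L]) (hl : l ∈ L)
    (hl' : l' ∈ L) (e : k * l = k' * l') : k = k' ∧ l = l' := by
  have e1 : k'⁻¹ * k = l' * l⁻¹ := by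
    rw [eq_mul_inv_iff_mul_eq, mul_assoc, e, inv_mul_cancel_left]
  obtain rfl : k' = k := inv_mul_eq_one.1
    (X.eq_one (e1 ▸ mul_mem hl' (inv_mem hl)) (mul_mem (inv_mem hk') hk))
  exact ⟨rfl, mul_left_cancel e⟩

theorem SzD.mem_T (X : SzD L) (hR : R ≤ C[L]) {g : G} :
    g ∈ R ⊔ X.S ↔ ∃ v ∈ R, ∃ a b, g = v * X.u a b := by
  rw [mem_sup_of_norm (norm_of_cent (cents_symm (cents_of_le hR X.S_le)))]
  exact ⟨by rintro ⟨v, hv, _, ⟨a, b, rfl⟩, e⟩; exact ⟨v, hv, a, b, e⟩,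
    by rintro ⟨v, hv, a, b, e⟩; exact ⟨v, hv, _, ⟨a, b, rfl⟩, e⟩⟩

theorem mul4 {k k' l l' : G} (hk' : k' ∈ C[L]) (hl : l ∈ L) :
    k * l * (k' * l') = k * k' * (l * l') := by
  rw [mul_assoc, ← mul_assoc l, mem_C.1 hk' l hl]; simp only [mul_assoc]

theorem exists_inv_pow {x : G} (h2 : PiElt {2} x) (h1 : x ≠ 1) :
    ∃ n : ℕ, x ^ n ≠ 1 ∧ x ^ n * x ^ n = 1 := by
  obtain ⟨k, hk⟩ := h2.exists_pow Nat.prime_two
  rcases k with _ | k
  · exact absurd (orderOf_eq_one_iff.1 hk) h1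
  refine ⟨2 ^ k, pow_ne_one_of_lt_orderOf (by positivity) (by rw [hk]; gcongr <;> omega), ?_⟩
  rw [← pow_add, ← mul_two, ← pow_succ, ← hk, pow_orderOf_eq_one]

/-- tight embedding for `2`-elements -/
theorem St.mem_N2 (h : St L G0) {x g : G} (h2 : PiElt {2} x) (h1 : x ≠ 1) (hx : x ∈ C[L])
    (hg : g * x * g⁻¹ ∈ C[L]) : g ∈ N[L] := by
  obtain ⟨n, a, b⟩ := exists_inv_pow h2 h1
  exact h.mem_N a b (pow_mem hx n) (by rw [← conj_pow]; exact pow_mem hg n)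

theorem St.C_eq (h : St L G0) {x g : G} (h2 : PiElt {2} x) (h1 : x ≠ 1) (hx : x ∈ C[L])
    (hg : x ∈ C[H24.cj g L]) : H24.cj g L = L := by
  rw [← cj_C, mem_cj] at hg
  exact cj_of_mem_N ((inv_mem_iff (x := g)).1 (h.mem_N2 h2 h1 hx (by rwa [inv_inv])))

theorem St.not_le_N (h : St L G0) (X : SzD L) {A : Subgroup G} {g t : G} (e : A = H24.cj g L)
    (h1 : t ≠ 1) (hA : t ∈ A) (hL : t ∈ C[L]) : ¬ A ≤ N[L] := fun hn => by
  subst e
  have := (X.cj g).simple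
  have nm : (H24.cj g L ⊓ C[L]) ⊴ H24.cj g L :=
    ⟨inf_le_left, norm_inf (norm_self _) (hn.trans (N_le_NC L))⟩
  rcases nm.normal.eq_bot_or_eq_top with e | e
  · exact h1 (mem_bot.1 ((subgroupOf_eq_bot.1 e).le_bot (mem_inf.2 ⟨mem_inf.2 ⟨hA, hL⟩, hA⟩)))
  · refine h.std.2.2.1 g (fun e => h1 (X.eq_one ?_ hL)) (comm_eq_bot'.2
      ((subgroupOf_eq_top.1 e).trans inf_le_right))
    rw [← cj_def] at e
    exact e ▸ hA

theorem SzD.f_ne (X : SzD L) : X.f ≠ 1 := fun e => by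
  have := X.f_z 1
  rw [e, one_mul, inv_one, mul_one] at this
  exact absurd (X.z_inj this) (by decide +kernel)

theorem SzD.ord_f (X : SzD L) : orderOf X.f = 7 :=
  haveI := Fact.mk Nat.prime_seven; orderOf_eq_prime X.f7 X.f_ne

theorem SzD.exists_w (X : SzD L) : ∃ w ∈ L, w ∈ N[zpowers X.f] ∧ w ∉ N[X.Z] := by
  by_contra hn
  push Not at hn
  have := X.simple
  have := Fact.mk Nat.prime_seven
  have c : ♯(zpowers X.f) = 7 := by rw [Nat.card_zpowers, X.ord_f]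
  have l := zpowers_le.2 X.f_mem
  have s : Syl 7 L (zpowers X.f) := Syl.mk' Nat.prime_seven l
    (isPi_of_card (n := 1) Nat.prime_seven c) (by
      have := card_mul_relIndex l
      rw [c, X.card] at this
      omega)
  have s1 := s.subgroupOf le_rfl
  rw [subgroupOf_self] at s1
  obtain ⟨P, hP⟩ := Syl.exists_sylow_top Nat.prime_seven s1
  have hc : normalizer (P : Set L) ≤ centralizer (P : Set L) := fun w hw => by
    have hw' : (w : G) ∈ N[zpowers X.f] := mem_N_of_finite fun x hx => by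
      have := (mem_normalizer_iff.1 (show w ∈ normalizer ((P : Subgroup L) : Set L) from hw)
        ⟨x, l hx⟩).1 (by rw [hP]; exact hx)
      rw [hP] at this
      exact this
    obtain ⟨c, e⟩ := conj_mem (hn w w.2 hw') (X.z_mem_Z 1)
    obtain ⟨a, b, i, e1⟩ := X.ti w w.2 0 1 0 c (fun e => one_ne_zero (X.z_eq_one.1 e)) e
    obtain ⟨j, e2⟩ := mem_powers_iff_mem_zpowers.2 (conj_mem hw' (mem_zpowers X.f))
    have e3 := X.fpow_z j 1
    dsimp only at e2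
    rw [e2, e1, show X.u a b * X.f ^ i * X.f * (X.u a b * X.f ^ i)⁻¹ = X.u a b * X.f * (X.u a b)⁻¹ by
      group, show X.u a b * X.f * (X.u a b)⁻¹ * X.z 1 * (X.u a b * X.f * (X.u a b)⁻¹)⁻¹ =
        X.u a b * (X.f * ((X.u a b)⁻¹ * X.z 1 * (X.u a b)⁻¹⁻¹) * X.f⁻¹) * (X.u a b)⁻¹ by group,
      X.u_inv a b, X.u_z_conj, X.f_z, ← X.u_inv, X.u_z_conj] at e3
    obtain ⟨m, hm⟩ := w5_pow_eq_one (i := j + 6) (by
      rw [pow_add, ← mul_one (_ ^ j), ← X.z_inj e3]; decide +kernel)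
    have e4 : X.f ^ j = X.f := by
      rw [← mul_left_inj (X.f ^ 6), ← pow_add, hm, pow_mul, X.f7, one_pow, ← pow_succ', X.f7]
    intro x hx
    change x ∈ (P : Subgroup L) at hx
    rw [hP] at hx
    obtain ⟨n, hx⟩ := hx
    rw [e4, eq_mul_inv_iff_mul_eq] at e2
    exact Subtype.ext (by
      rw [coe_mul, coe_mul, show (x : G) = X.f ^ n from hx.symm]; exact Commute.zpow_left e2 n)
  have h3 := (MonoidHom.ker_transferSylow_isComplement' P hc).card_mul_card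
  rw [show ♯(P : Subgroup L) = 7 by rw [hP, card_subgroupOf_of_le l, c], X.card] at h3
  rcases (MonoidHom.transferSylow P hc).normal_ker.eq_bot_or_eq_top with e | e <;> rw [e] at h3
  · simp at h3
  · rw [card_top, X.card] at h3; omega

theorem St.exists_inv (h : St L G0) (hR : Syl 2 C[L] R) : ∃ t ∈ R, t ≠ 1 ∧ t * t = 1 := by
  obtain ⟨x, hx, h1⟩ := exists_ne_one (hR.ne_bot Nat.prime_two rfl (even_iff_two_dvd.1 h.std.2.1.1))
  obtain ⟨n, a⟩ := exists_inv_pow (hR.pi.piElt hx) h1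
  exact ⟨_, pow_mem hx n, a⟩

theorem SzD.mem_R (X : SzD L) (hR : Syl 2 C[L] R) {x : G} (h1 : x ∈ R ⊔ X.S) (h2 : x ∈ C[L]) :
    x ∈ R := by
  obtain ⟨v, hv, a, b, rfl⟩ := (X.mem_T hR.le).1 h1
  rwa [X.eq_one (X.u_mem a b) ((mul_mem_cancel_left (hR.le hv)).1 h2), mul_one]

theorem St.exists_dd (h : St L G0) (X : SzD L) {R : Subgroup G} (hR : Syl 2 C[L] R) :
    ∃ t ∈ R ⊔ X.S, DD L t ∧ t ∉ R := by
  by_contra hn
  push Not at hn
  have := h.nrm
  have := h.simple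
  have k : ∀ x ∈ R, ∀ g : G, x ≠ 1 → g * x * g⁻¹ ∈ R ⊔ X.S → g ∈ N[L] := fun x hx g h1 hg => by
    obtain ⟨n, a, b⟩ := exists_inv_pow (hR.pi.piElt hx) h1
    have m := hR.le (pow_mem hx n)
    exact h.mem_N a b m (hR.le (hn _ (by rw [← conj_pow]; exact pow_mem hg n)
      (dd_conj ⟨a, b, 1, by simpa using m⟩ g)))
  obtain ⟨t, ht, t1, t2⟩ := h.exists_inv hR
  have s : Syl 2 ⊤ (R ⊔ X.S) := (X.syl_N hR).of_norm_le Nat.prime_two le_top fun g hg =>
    k t ht g t1 (conj_mem hg.2 (mem_sup_left ht))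
  have z1 : X.z 1 ≠ 1 := fun e => one_ne_zero (X.z_eq_one.1 e)
  have SG := X.S_le.trans h.le
  by_cases h0 : R ⊓ G0 = ⊥
  · have e : (R ⊔ X.S) ⊓ G0 = X.S := le_antisymm (fun x hx => by
      obtain ⟨v, hv, a, b, rfl⟩ := (X.mem_T hR.le).1 hx.1
      rw [mem_bot.1 (h0.le (mem_inf.2 ⟨hv, (mul_mem_cancel_right (SG (X.u_mem_S a b))).1 hx.2⟩)),
        one_mul]
      exact X.u_mem_S a b) (le_inf le_sup_right SG)
    refine (h.sc X s (A := X.Z) (abl_iff.2 ?_) ⟨X.Z_le_S.trans le_sup_right, ?_⟩ (ne_bot_of_mem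
      (mem_inf.2 ⟨X.z_mem_Z 1, SG (X.Z_le_S (X.z_mem_Z 1))⟩) z1)).2.1 (by rw [e, X.card_S])
    · rintro _ ⟨a, rfl⟩
      refine mem_C.2 ?_
      rintro _ ⟨b, rfl⟩
      exact X.z_u 0 a b
    · rintro _ ⟨b, rfl⟩ g hg
      exact X.mem_Z_of_sq (e.le (mem_inf.2 ⟨hg, h.nrm.conj_mem _ (SG (X.Z_le_S (X.z_mem_Z b))) g⟩))
        (by rw [conj_mul, X.z_sq]; simp)
  have s1 := (s.inf_nml (K := G0) ⟨le_top, norm_of_normal _ _⟩).subgroupOf le_rfl
  rw [subgroupOf_self] at s1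
  obtain ⟨T, hT⟩ := Syl.exists_sylow_top Nat.prime_two s1
  obtain ⟨H, c⟩ := Cfsg.Agent.S1174.result T (R.subgroupOf G0)
    (fun e => h0 (disjoint_iff.1 (subgroupOf_eq_bot.1 e)))
    ⟨fun x hx => hT ▸ mem_inf.2 ⟨mem_sup_left hx, x.2⟩, fun v hv g hg => by
      rw [hT] at hg
      by_cases h1 : (v : G) = 1
      · rw [show v = 1 from Subtype.ext h1]; simp
      exact X.mem_R hR hg.1 (conj_mem (N_le_NC L (k v hv g h1 hg.1)) (hR.le hv))⟩
    (fun e => by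
      have : G0 ≤ N[L] := by
        rw [← subgroupOf_eq_top, eq_top_iff, ← e]
        refine iSup_le fun t g hg => k t.1 t.2.1 g (fun e => ?_) ?_
        · have := t.2.2
          rw [show t.1 = 1 from Subtype.ext e, orderOf_one] at this
          omega
        · have := congrArg Subtype.val (mem_centralizer_singleton_iff.1 hg)
          rw [coe_mul, coe_mul] at this
          rw [this, mul_inv_cancel_right]
          exact mem_sup_left t.2.1
      rcases (Nml.normal ⟨h.le, this⟩).eq_bot_or_eq_top with e | e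
      · exact z1 (mem_bot.1 ((subgroupOf_eq_bot.1 e).le_bot
          (mem_inf.2 ⟨X.u_mem 0 1, h.le (X.u_mem 0 1)⟩)))
      · exact h.ne (le_antisymm h.le (subgroupOf_eq_top.1 e) ▸ h.nrm))
  obtain ⟨x, hx, h1⟩ := exists_ne_one h0
  obtain ⟨n, a, b⟩ := exists_inv_pow (hR.pi.piElt hx.1) h1
  obtain ⟨g, -, e⟩ := (h.se X c).1 _ (pow_mem hx.2 n) a b
  exact z1 (X.eq_one (X.u_mem 0 1) (hR.le (hn _ (mem_sup_right (X.u_mem_S 0 1))
    (e ▸ dd_conj ⟨a, b, 1, by simpa using hR.le (pow_mem hx.1 n)⟩ g))))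

end H14.Ru
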