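import Mathlib
import Cfsg.Agent.H17.RC2
import Cfsg.Agent.H24.Base5
import Cfsg.Prelude.Def_TwoFusion

/-! # Standard subgroup `Sz(8)`: the group `Q` and the exotic case -/

set_option autoImplicit false
set_option linter.unusedSectionVars false

namespace H17.RC

open Cfsg H24 Subgroup H14.Ru Ph

variable {G : Type*} [Group G] [Finite G] {L G0 V Q D : Subgroup G}

/-- `C₀ = Q × D` -/
structure QQ (X : SzD L) (V G0 : Subgroup G) (φ : G → F8) (Q D : Subgroup G) : Prop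
    extends Ph X V G0 φ where
  T_le : V ⊔ X.S ≤ Q
  Q_C0 : Q ≤ C0 X V φ
  pi : IsPi {2} Q
  odd : IsPi {2}ᶜ D
  D_L : D ≤ C[L]
  D_Q : D ≤ C[Q]
  CE : ∀ g ∈ C[V ⊔ X.Z], ∃ t ∈ V ⊔ X.S, ∃ d ∈ D, g = t * d
  dec : ∀ g ∈ C0 X V φ, ∃ q ∈ Q, ∃ d ∈ D, g = q * d
  onto : ∀ m, ∃ q ∈ Q, τ X V φ q = m

theorem Ph.exists_qq {X : SzD L} {φ : G → F8} (h : Ph X V G0 φ) : ∃ Q D, QQ X V G0 φ Q D := by
  obtain ⟨D, D1, D2, D3⟩ := exists_compl (W := C[L] ⊓ C[V])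
    (h.vd.syl.of_le (le_inf h.le (le_C_iff.2 fun a ha b hb => h.comm ha hb)) inf_le_left)
    (norm_of_cent inf_le_right)
  have DL : D ≤ C[L] := D1.trans inf_le_left
  have DT : D ≤ C[V ⊔ X.S] := cents_sup (D1.trans inf_le_right) (cents_of_le DL X.S_le)
  have DE : D ≤ C[V ⊔ X.Z] := cents_of_le DT Bs.E_le
  have CE : ∀ g ∈ C[V ⊔ X.Z], ∃ t ∈ V ⊔ X.S, ∃ d ∈ D, g = t * d := fun g hg => by
    obtain ⟨v, hv, h1⟩ := h.exists_ne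
    have gV : g ∈ C[V] := C_anti le_sup_left hg
    obtain ⟨a, b, k, hk, e⟩ := X.autZ g (h.st.mem_N h1 (h.vd.ea v hv) (h.le hv)
      (by rw [conj_eq_of_mem_C gV hv]; exact h.le hv))
      fun b => mem_C'.1 hg _ (mem_sup_right (X.z_mem_Z b))
    obtain ⟨w, hw, d, hd, e'⟩ := D3 k (mem_inf.2 ⟨hk, by
      rw [eq_inv_mul_of_mul_eq e.symm]
      exact mul_mem (inv_mem (cents_symm h.le (X.u_mem a b))) gV⟩)
    exact ⟨X.u a b * w, mul_mem (mem_sup_right (X.u_mem_S a b)) (mem_sup_left hw), d, hd, by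
      rw [e, e', mul_assoc]⟩
  have ND : N[V ⊔ X.Z] ≤ N[D] := fun g hg => mem_N_of_finite fun d hd => by
    obtain ⟨t, ht, d', hd', e⟩ := CE _ (conj_mem (N_le_NC _ hg) (DE hd))
    have := (piElt_decomp_unique (piElt_one {2}) ((D2.piElt hd).conj g) (h.pi_T.piElt ht)
      (D2.piElt hd') (by simp) (mem_C.1 (DT hd') t ht) (by rw [one_mul, e])).2
    exact this ▸ hd'
  have fD : X.f ∈ C[D] := cents_symm DL X.f_mem
  have onto : ∀ m, ∃ u ∈ C0 X V φ ⊓ C[D], τ X V φ u = m := by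
    obtain ⟨y, hy, h0⟩ := h.exists_τ
    have k1 := h.f_C0 (inv_mem hy)
    have k2 : ∀ i : ℕ, ∃ u ∈ C0 X V φ ⊓ C[D], τ X V φ u = (ω ^ 5) ^ i * ((1 + ω ^ 5) * τ X V φ y) := by
      intro i
      induction i with
      | zero =>
        refine ⟨y * (X.f * y⁻¹ * X.f⁻¹), mem_inf.2 ⟨mul_mem hy k1.1, ?_⟩, by
          rw [h.τ_mul hy k1.1, k1.2, h.τ_inv hy]; ring⟩
        rw [show y * (X.f * y⁻¹ * X.f⁻¹) = y * X.f * y⁻¹ * X.f⁻¹ by group]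
        exact mul_mem (conj_mem (N_le_NC _ (ND (h.C0_NE hy))) fD) (inv_mem fD)
      | succ i ih =>
        obtain ⟨u, hu, e⟩ := ih
        exact ⟨_, ⟨(h.f_C0 hu.1).1, conj_mem (norm_self _ fD) hu.2⟩, by
          rw [(h.f_C0 hu.1).2, e]; ring⟩
    intro m
    by_cases hm : m = 0
    · exact ⟨1, one_mem _, hm ▸ h.τ_CE (one_mem _)⟩
    have h1 : (1 + ω ^ 5) * τ X V φ y ≠ 0 := mul_ne_zero (by decide +kernel) h0
    obtain ⟨i, hi⟩ := exists_pow5 _ (div_ne_zero hm h1)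
    obtain ⟨u, hu, e⟩ := k2 i
    exact ⟨u, hu, by rw [e, ← hi, div_mul_cancel₀ _ h1]⟩
  have TU : V ⊔ X.S ≤ C0 X V φ ⊓ C[D] := le_inf (h.T_CE.trans CE_C0) (cents_symm DT)
  obtain ⟨Q, hQ, TQ⟩ := Sylow_superset Nat.prime_two h.pi_T TU
  have DQ : D ≤ C[Q] := cents_symm (hQ.le.trans inf_le_right)
  have UQ : C0 X V φ ⊓ C[D] ≤ Q ⊔ D := le_of_syl_le fun p hp _ => by
    by_cases h2 : p = 2
    · exact ⟨Q, h2 ▸ hQ, le_sup_left⟩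
    obtain ⟨P, hP⟩ := Sylow_exists hp (C0 X V φ ⊓ C[D])
    refine ⟨P, hP, fun x hx => mem_sup_right (mem_of_pow' (n := 3)
      ((hP.pi.compl_of_ne h2).piElt hx) ?_)⟩
    have x0 := (hP.le hx).1
    obtain ⟨t, ht, d, hd, e⟩ := CE (x * x) (CE_of_τ (mul_mem x0 x0)
      (by rw [h.τ_mul x0 x0, F8.add_self]))
    have c : Commute t d := mem_C.1 (DT hd) t ht
    rw [show x ^ 2 ^ 3 = (x * x) ^ 4 by rw [← sq, ← pow_mul]; rfl, e, c.mul_pow,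
      show t ^ 4 = t * t * (t * t) by rw [← sq, ← sq, ← pow_mul], h.x_sq ht, X.z_sq, one_mul]
    exact pow_mem hd _
  have dU : ∀ u ∈ C0 X V φ ⊓ C[D], ∃ q ∈ Q, ∃ d ∈ D, u = q * d := fun u hu =>
    (mem_sup_of_norm (norm_of_cent DQ)).1 (UQ hu)
  refine ⟨Q, D, h, TQ, hQ.le.trans inf_le_left, hQ.pi, D2, DL, DQ, CE, fun g hg => ?_, fun m => ?_⟩
  · obtain ⟨u, hu, e⟩ := onto (τ X V φ g)
    obtain ⟨t, ht, d, hd, e1⟩ := CE (u⁻¹ * g) (CE_of_τ (mul_mem (inv_mem hu.1) hg)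
      (by rw [h.τ_mul (inv_mem hu.1) hg, h.τ_inv hu.1, e, F8.add_self]))
    obtain ⟨q, hq, d', hd', e2⟩ := dU _ (mul_mem hu (TU ht))
    exact ⟨q, hq, d' * d, mul_mem hd' hd, by
      rw [← mul_assoc, ← e2, mul_assoc, ← e1, mul_inv_cancel_left]⟩
  · obtain ⟨u, hu, e⟩ := onto m
    obtain ⟨q, hq, d, hd, rfl⟩ := dU u hu
    rw [h.τ_mul (hQ.le hq).1 (CE_C0 (DE hd)), h.τ_CE (DE hd), add_zero] at e
    exact ⟨q, hq, e⟩

namespace QQ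

variable {X : SzD L} {φ : G → F8} (h : QQ X V G0 φ Q D)
include h

theorem Q_NE : Q ≤ N[V ⊔ X.Z] := h.Q_C0.trans h.C0_NE

theorem Q_NT : Q ≤ N[V ⊔ X.S] := h.Q_NE.trans h.NE_NT

theorem two {g : G} (hg : g ∈ N[V ⊔ X.Z]) (h2 : PiElt {2} g) : g ∈ Q := by
  obtain ⟨q, hq, d, hd, e⟩ := h.dec g (h.two_C0 hg h2)
  exact (piElt_decomp_unique h2 (piElt_one _) (h.pi.piElt hq) (h.odd.piElt hd) (by simp)
    (mem_C.1 (h.D_Q hd) q hq) (by rw [mul_one, e])).1 ▸ hq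

theorem NE : N[V ⊔ X.Z] ≤ N[Q] := fun g hg => mem_N_of_finite fun q hq =>
  h.two (conj_mem (norm_self _ hg) (h.Q_NE hq)) ((h.pi.piElt hq).conj g)

theorem f_N : X.f ∈ N[Q] := h.NE (h.NT_NE h.f_NT)

theorem ker {q : G} (hq : q ∈ Q) (e : τ X V φ q = 0) : q ∈ V ⊔ X.S := by
  obtain ⟨t, ht, d, hd, e1⟩ := h.CE q (CE_of_τ (h.Q_C0 hq) e)
  exact (piElt_decomp_unique (h.pi.piElt hq) (piElt_one _) (h.pi_T.piElt ht) (h.odd.piElt hd)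
    (by simp) (mem_C.1 (h.D_Q hd) t (h.T_le ht)) (by rw [mul_one, e1])).1 ▸ ht

theorem τ_T {t : G} (ht : t ∈ V ⊔ X.S) : τ X V φ t = 0 := h.τ_CE (h.T_CE ht)

theorem τ_mul' {a b : G} (ha : a ∈ Q) (hb : b ∈ Q) :
    τ X V φ (a * b) = τ X V φ a + τ X V φ b := h.τ_mul (h.Q_C0 ha) (h.Q_C0 hb)

theorem τ_f {a : G} (ha : a ∈ Q) : τ X V φ (X.f * a * X.f⁻¹) = ω ^ 5 * τ X V φ a :=
  (h.f_C0 (h.Q_C0 ha)).2

theorem τ_fpow {a : G} (ha : a ∈ Q) (i : ℕ) :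
    τ X V φ (X.f ^ i * a * (X.f ^ i)⁻¹) = (ω ^ 5) ^ i * τ X V φ a := by
  induction i with
  | zero => simp
  | succ i ih =>
    rw [show X.f ^ (i + 1) * a * (X.f ^ (i + 1))⁻¹ = X.f * (X.f ^ i * a * (X.f ^ i)⁻¹) * X.f⁻¹ by
      group, h.τ_f (conj_mem (pow_mem h.f_N i) ha), ih]
    ring

theorem sq_T {q : G} (hq : q ∈ Q) : q * q ∈ V ⊔ X.S :=
  h.ker (mul_mem hq hq) (by rw [h.τ_mul' hq hq, F8.add_self])

/-- the statement of `St.sc` -/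
def SC (X : SzD L) (G0 : Subgroup G) : Prop :=
  ∀ P A : Subgroup G, Syl 2 ⊤ P → Abl A → IsStronglyClosed A P → A ⊓ G0 ≠ ⊥ →
    (∀ s ∈ G0, s ≠ 1 → s * s = 1 → ∃ g ∈ G0, g * s * g⁻¹ = X.z 1) ∧
      ♯(P ⊓ G0) ≠ 64 ∧ ♯(P ⊓ G0) ≠ 512

theorem sc (hs : SC X G0) (h1 : Syl 2 ⊤ Q) (h2 : IsStronglyClosed X.Z Q) : False := by
  have := h.st.nrm
  have ZG : X.S ≤ G0 := X.S_le.trans h.st.le
  obtain ⟨k1, -, k2⟩ := hs Q X.Z h1 (abl_iff.2 ((le_sup_right.trans (Bs.E_le.trans h.T_CE)).trans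
    (C_anti le_sup_right))) h2 (ne_bot_of_mem (x := X.z 1)
      ⟨X.z_mem_Z 1, ZG (X.Z_le_S (X.z_mem_Z 1))⟩ fun e => one_ne_zero (X.z_eq_one.1 e))
  let ρ : ↥(Q ⊓ G0) →* Multiplicative F8 := MonoidHom.mk'
    (fun g => Multiplicative.ofAdd (τ X V φ g)) fun a b => by
      rw [← ofAdd_add, ← h.τ_mul' a.2.1 b.2.1]; rfl
  have e1 : ρ.ker = X.S.subgroupOf _ := by
    ext g
    rw [MonoidHom.mem_ker, mem_subgroupOf]
    refine ⟨fun e => ?_, fun e => congrArg Multiplicative.ofAdd (h.τ_T (mem_sup_right e))⟩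
    obtain ⟨v, hv, a, b, e2⟩ := h.mem_T.1 (h.ker g.2.1 (congrArg Multiplicative.toAdd e))
    have m := g.2.2
    rw [e2] at m ⊢
    by_cases h3 : v = 1
    · rw [h3, one_mul]; exact X.u_mem_S a b
    obtain ⟨k, -, e3⟩ := k1 v ((mul_mem_cancel_right (ZG (X.u_mem_S a b))).1 m) h3 (h.vd.ea v hv)
    exact absurd (e3 ▸ dd_conj (h.dd_V hv h3) k) (h.vd.zn 1)
  have e2 : ρ.range = ⊤ := by
    rw [eq_top_iff]
    intro m _
    obtain ⟨q, hq, e⟩ := h.onto (m.toAdd / (ω ^ 5 + 1))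
    have m1 := conj_mem h.f_N hq
    refine ⟨⟨X.f * q * X.f⁻¹ * q⁻¹, mem_inf.2 ⟨mul_mem m1 (inv_mem hq), ?_⟩⟩, ?_⟩
    · rw [show X.f * q * X.f⁻¹ * q⁻¹ = X.f * (q * X.f⁻¹ * q⁻¹) by group]
      exact mul_mem (h.st.le X.f_mem) (this.conj_mem _ (inv_mem (h.st.le X.f_mem)) q)
    · apply Multiplicative.toAdd.injective
      change τ X V φ _ = _
      rw [h.τ_mul' m1 (inv_mem hq), h.τ_f hq, h.τ_inv (h.Q_C0 hq), e]
      field_simp [(by decide +kernel : ω ^ 5 + 1 ≠ 0)]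
  apply k2
  rw [← ρ.ker.card_mul_index, index_ker, e1, e2, card_top, card_subgroupOf_of_le
    (le_inf (le_sup_right.trans h.T_le) ZG), X.card_S, Nat.card_eq_fintype_card,
    Fintype.card_multiplicative, F8.card]

theorem sq_E' (hs : SC X G0) {q : G} (hq : q ∈ Q) : q * q ∈ V ⊔ X.Z := by
  have k1 : ∀ a ∈ Q, ∀ t ∈ V ⊔ X.S, a * a ∈ V ⊔ X.Z → t * a * (t * a) ∈ V ⊔ X.Z := fun a ha t ht e => by
    obtain ⟨v, hv, b, e1⟩ := h.two_T (h.Q_NT ha) (h.pi.piElt ha) ht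
    rw [show t * a * (t * a) = t * (a * t * a⁻¹) * (a * a) by group, e1, ← mul_assoc t, h.x_sq ht]
    exact mul_mem (mul_mem (mem_sup_right (X.z_mem_Z _)) (h.vz_mem hv b)) e
  by_contra hn
  have q0 : τ X V φ q ≠ 0 := fun e => hn (by
    rw [h.x_sq (h.ker hq e)]; exact mem_sup_right (X.z_mem_Z _))
  have k2 : ∀ a ∈ Q, a * a = 1 → a ∈ V ⊔ X.Z := fun a ha h2 => by
    refine h.mem_E_of_sq (h.ker ha ?_) h2
    by_contra a0
    obtain ⟨i, hi⟩ := exists_pow5 _ (div_ne_zero q0 a0)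
    have m := conj_mem (pow_mem h.f_N (i : ℕ)) ha
    have := k1 _ m _ (h.ker (mul_mem hq (inv_mem m)) (by
      rw [h.τ_mul' hq (inv_mem m), h.τ_inv (h.Q_C0 m), h.τ_fpow ha, ← hi, div_mul_cancel₀ _ a0,
        F8.add_self])) (by rw [conj_mul, h2]; simp)
    rw [inv_mul_cancel_right] at this
    exact hn this
  refine h.sc hs (Syl.of_norm_le (M := N[V ⊔ X.Z]) Nat.prime_two (syl_of_max Nat.prime_two h.pi h.Q_NE
    fun R hR _ h3 x hx => h.two (h3 hx) (hR.piElt hx)) le_top fun g hg =>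
      mem_N_of_finite fun e he => k2 _ (conj_mem hg.2 (h.T_le (Bs.E_le he)))
        (by rw [conj_mul, h.sq_E he]; simp))
    ⟨le_sup_right.trans (Bs.E_le.trans h.T_le), ?_⟩
  rintro _ ⟨b, rfl⟩ g hg
  obtain ⟨v, hv, c, e⟩ := h.mem_E.1 (k2 _ hg (by rw [conj_mul, X.z_sq]; simp))
  by_cases h1 : v = 1
  · rw [e, h1, one_mul]; exact X.z_mem_Z c
  · have := dd_conj (e ▸ h.dd hv h1 c) g⁻¹
    rw [show g⁻¹ * (g * X.z b * g⁻¹) * g⁻¹⁻¹ = X.z b by group] at this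
    exact absurd this (h.vd.zn b)

theorem zc {q : G} (hq : q ∈ Q) (b : F8) : q * X.z b * q⁻¹ = X.z b :=
  conj_eq_of_mem_C (h.Q_C0 hq).1 (X.z_mem_Z b)

theorem sq_Z (hs : SC X G0) {q : G} (hq : q ∈ Q) : q * q ∈ X.Z := by
  by_cases q0 : τ X V φ q = 0
  · rw [h.x_sq (h.ker hq q0)]; exact X.z_mem_Z _
  obtain ⟨v, hv, b, e⟩ := h.mem_E.1 (h.sq_E' hs hq)
  have : q * (v * X.z b) * q⁻¹ = v * X.z b := by rw [← e]; group
  rw [← conj_mul, τ_spec (h.Q_C0 hq) hv, h.zc hq, mul_left_inj, mul_eq_left, X.z_eq_one] at this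
  rw [e, h.eq_one_of hv ((mul_eq_zero.1 this).resolve_left q0), one_mul]
  exact X.z_mem_Z b

end QQ

end H17.RC
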