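import Mathlib
import Cfsg.Agent.H17.RC3

/-! # Standard subgroup `Sz(8)`: coordinates on `Q / Z` -/

set_option autoImplicit false
set_option linter.unusedSectionVars false

namespace H17.RC

open Cfsg H24 Subgroup H14.Ru Ph

variable {G : Type*} [Group G] [Finite G] {L G0 V Q D : Subgroup G}

/-- a predicate on `F8` from its values -/
def pk (b0 b1 b2 b3 b4 b5 b6 b7 : Bool) (c : F8) : Bool :=
  match c.val with
  | 0 => b0 | 1 => b1 | 2 => b2 | 3 => b3 | 4 => b4 | 5 => b5 | 6 => b6 | _ => b7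

theorem pk_eq (p : F8 → Bool) (c : F8) : p c = pk (p (.mk 0)) (p (.mk 1)) (p (.mk 2)) (p (.mk 3))
    (p (.mk 4)) (p (.mk 5)) (p (.mk 6)) (p (.mk 7)) c := by
  obtain ⟨i, hi⟩ := c
  interval_cases i <;> rfl

set_option synthInstance.maxSize 2000 in
set_option synthInstance.maxHeartbeats 200000 in
theorem sub3 : ∀ b0 b1 b2 b3 b4 b5 b6 b7 : Bool,
    (∀ a b, pk b0 b1 b2 b3 b4 b5 b6 b7 a = true → pk b0 b1 b2 b3 b4 b5 b6 b7 b = true →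
      pk b0 b1 b2 b3 b4 b5 b6 b7 (a + b) = true) →
    (∃ a, a ≠ 0 ∧ pk b0 b1 b2 b3 b4 b5 b6 b7 a = true) → ∃ l : F8, l ≠ 0 ∧
      ((∀ c, c ∈ ({0, 1} : Finset F8) ↔ pk b0 b1 b2 b3 b4 b5 b6 b7 (l * c) = true) ∨
       (∀ c, c ∈ ({0, ω, ω ^ 2, ω ^ 4} : Finset F8) ↔ pk b0 b1 b2 b3 b4 b5 b6 b7 (l * c) = true) ∨
       (∀ c, pk b0 b1 b2 b3 b4 b5 b6 b7 (l * c) = true)) := by
  decide +kernel

theorem Ph.exists_Vs {X : SzD L} {φ : G → F8} (h : Ph X V G0 φ) :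
    ∃ (ψ : G → F8) (Vs : Finset F8), Ph X V G0 ψ ∧
      (Vs = {0, 1} ∨ Vs = {0, ω, ω ^ 2, ω ^ 4} ∨ Vs = Finset.univ) ∧
      ∀ c, c ∈ Vs ↔ ∃ v ∈ V, ψ v = c := by
  classical
  let p : F8 → Bool := fun c => decide (∃ v ∈ V, φ v = c)
  obtain ⟨l, hl, k⟩ := sub3 (p (.mk 0)) (p (.mk 1)) (p (.mk 2)) (p (.mk 3))
    (p (.mk 4)) (p (.mk 5)) (p (.mk 6)) (p (.mk 7)) (fun a b => by
      simp only [← pk_eq p, p, decide_eq_true_eq]
      rintro ⟨v, hv, rfl⟩ ⟨w, hw, rfl⟩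
      exact ⟨_, mul_mem hv hw, h.add hv hw⟩) (by
      obtain ⟨v, hv, h1⟩ := h.exists_ne
      exact ⟨φ v, h.ne_zero hv h1, by simpa only [← pk_eq p, p, decide_eq_true_eq] using ⟨v, hv, rfl⟩⟩)
  simp only [← pk_eq p, p, decide_eq_true_eq] at k
  have e : ∀ c, (∃ v ∈ V, φ v = l * c) ↔ ∃ v ∈ V, l⁻¹ * φ v = c := fun c => by
    simp only [inv_mul_eq_iff_eq_mul₀ hl]
  simp only [e] at k
  rcases k with k | k | k
  · exact ⟨_, _, h.scale (inv_ne_zero hl), .inl rfl, k⟩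
  · exact ⟨_, _, h.scale (inv_ne_zero hl), .inr (.inl rfl), k⟩
  · exact ⟨_, _, h.scale (inv_ne_zero hl), .inr (.inr rfl), fun c => by simpa using k c⟩

theorem sq_lin : ∀ x y w : F8, (∀ a, lin3 x y w a + ω ^ 5 * lin3 x y w (ω ^ 6 * a) =
    ω ^ 4 * lin3 x y w (ω ^ 2 * a)) → ∀ a, lin3 x y w a = x * a ^ 2 := by decide +kernel

theorem add_self3 (p : F8 × F8 × F8) : p + p = 0 := by
  ext <;> simp [F8.add_self]

/-- coordinates on `T / Z` -/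
noncomputable def ψ (X : SzD L) (V : Subgroup G) (φ : G → F8) (t : G) : F8 × F8 :=
  (φ (co X V t).1, (co X V t).2.1)

/-- the projection `Q → T` modulo `Z` -/
def tt (X : SzD L) (g : G) : G :=
  X.f ^ 3 * g * (X.f ^ 3)⁻¹ * (X.f ^ 5 * g * (X.f ^ 5)⁻¹) * (X.f ^ 6 * g * (X.f ^ 6)⁻¹)

/-- coordinates on `Q / Z` -/
noncomputable def pi3 (X : SzD L) (V : Subgroup G) (φ : G → F8) (g : G) : F8 × F8 × F8 :=
  ((ψ X V φ (tt X g)).1, (ψ X V φ (tt X g)).2, τ X V φ g)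

/-- the squaring map -/
noncomputable def sf (X : SzD L) (V : Subgroup G) (g : G) : F8 := (co X V (g * g)).2.2

/-- the commutator map -/
noncomputable def cm (X : SzD L) (V : Subgroup G) (g k : G) : F8 :=
  (co X V (k⁻¹ * (g * k * g⁻¹))).2.2

/-- `Q / Z` is elementary abelian -/
structure QZ (X : SzD L) (V G0 : Subgroup G) (φ : G → F8) (Q D : Subgroup G) : Prop
    extends QQ X V G0 φ Q D where
  sqZ : ∀ q ∈ Q, q * q ∈ X.Z

namespace QZ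

variable {X : SzD L} {φ : G → F8} (h : QZ X V G0 φ Q D)
include h

theorem ψ_eq {v : G} (hv : v ∈ V) (a b : F8) : ψ X V φ (v * X.u a b) = (φ v, a) := by
  rw [ψ, h.co_eq hv]

theorem ψ_mul {s t : G} (hs : s ∈ V ⊔ X.S) (ht : t ∈ V ⊔ X.S) :
    ψ X V φ (s * t) = ψ X V φ s + ψ X V φ t := by
  obtain ⟨v, hv, a, b, rfl⟩ := h.mem_T.1 hs
  obtain ⟨w, hw, c, d, rfl⟩ := h.mem_T.1 ht
  rw [h.mulT hw, h.ψ_eq (mul_mem hv hw), h.ψ_eq hv, h.ψ_eq hw, h.add hv hw]; rfl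

theorem ψ_z {t : G} (ht : t ∈ V ⊔ X.S) (b : F8) : ψ X V φ (t * X.z b) = ψ X V φ t := by
  rw [h.ψ_mul ht (mem_sup_right (X.Z_le_S (X.z_mem_Z b))), ← one_mul (X.z b), SzD.z,
    h.ψ_eq (one_mem V), h.one]
  exact add_zero _

theorem ψ_fpow {v : G} (hv : v ∈ V) (a b : F8) (i : ℕ) :
    X.f ^ i * (v * X.u a b) * (X.f ^ i)⁻¹ = v * X.u (ω ^ i * a) ((ω ^ 5) ^ i * b) := by
  rw [← conj_mul, X.fpow_u, h.cl hv (pow_mem X.f_mem i), mul_inv_cancel_right]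

theorem ψ_f {t : G} (ht : t ∈ V ⊔ X.S) :
    ψ X V φ (X.f * t * X.f⁻¹) = ((ψ X V φ t).1, ω * (ψ X V φ t).2) := by
  obtain ⟨v, hv, a, b, rfl⟩ := h.mem_T.1 ht
  have := h.ψ_fpow hv a b 1
  simp only [pow_one] at this
  rw [this, h.ψ_eq hv, h.ψ_eq hv]

theorem ψ_tt {t : G} (ht : t ∈ V ⊔ X.S) : ψ X V φ (tt X t) = ψ X V φ t := by
  obtain ⟨v, hv, a, b, rfl⟩ := h.mem_T.1 ht
  rw [tt, h.ψ_fpow hv, h.ψ_fpow hv, h.ψ_fpow hv, h.mulT hv, h.mulT hv, h.vd.ea v hv, one_mul,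
    h.ψ_eq hv, h.ψ_eq hv,
    (by decide +kernel : ∀ a : F8, ω ^ 3 * a + ω ^ 5 * a + ω ^ 6 * a = a)]

theorem fp {g : G} (hg : g ∈ Q) (i : ℕ) : X.f ^ i * g * (X.f ^ i)⁻¹ ∈ Q :=
  conj_mem (pow_mem h.f_N i) hg

theorem tt_T {g : G} (hg : g ∈ Q) : tt X g ∈ V ⊔ X.S := by
  refine h.ker (mul_mem (mul_mem (h.fp hg _) (h.fp hg _)) (h.fp hg _)) ?_
  rw [tt, h.τ_mul' (mul_mem (h.fp hg _) (h.fp hg _)) (h.fp hg _), h.τ_mul' (h.fp hg _) (h.fp hg _),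
    h.τ_fpow hg, h.τ_fpow hg, h.τ_fpow hg]
  exact (by decide +kernel : ∀ a : F8, (ω ^ 5) ^ 3 * a + (ω ^ 5) ^ 5 * a + (ω ^ 5) ^ 6 * a = 0) _

theorem zq {q : G} (hq : q ∈ Q) (b : F8) : X.z b * q = q * X.z b := by
  rw [eq_comm, ← mul_inv_eq_iff_eq_mul, h.zc hq]

theorem z_mem (b : F8) : X.z b ∈ Q := h.T_le (mem_sup_right (X.Z_le_S (X.z_mem_Z b)))

theorem sf_spec {g : G} (hg : g ∈ Q) : g * g = X.z (sf X V g) := by
  obtain ⟨b, e⟩ := h.sqZ g hg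
  rw [sf, e, SzD.z, h.co_u]; rfl

theorem inv_eq {g : G} (hg : g ∈ Q) : g⁻¹ = g * X.z (sf X V g) := by
  rw [inv_eq_iff_mul_eq_one, ← mul_assoc, h.sf_spec hg, X.z_sq]

theorem cm_spec {g k : G} (hg : g ∈ Q) (hk : k ∈ Q) : g * k * g⁻¹ = k * X.z (cm X V g k) := by
  have e : k⁻¹ * (g * k * g⁻¹) = X.z (sf X V k + sf X V (k * g) + sf X V g) := by
    rw [h.inv_eq hk, h.inv_eq hg, ← h.zq hk, ← X.z_mul, ← X.z_mul, ← h.sf_spec (mul_mem hk hg)]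
    simp only [mul_assoc]
  rw [cm, e, show co X V (X.z _) = _ from h.co_u 0 _, ← e, mul_inv_cancel_left]

theorem cm_eq {g k : G} (hg : g ∈ Q) (hk : k ∈ Q) {c : F8} (e : g * k * g⁻¹ = k * X.z c) :
    cm X V g k = c := X.z_inj (mul_left_cancel ((h.cm_spec hg hk).symm.trans e))

theorem cm_right {g k k' : G} (hg : g ∈ Q) (hk : k ∈ Q) (hk' : k' ∈ Q) :
    cm X V g (k * k') = cm X V g k + cm X V g k' := h.cm_eq hg (mul_mem hk hk') (by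
  rw [← conj_mul, h.cm_spec hg hk, h.cm_spec hg hk', mul_assoc, ← mul_assoc (X.z _), h.zq hk',
    ← X.z_mul]
  simp only [mul_assoc])

theorem cm_left {g g' k : G} (hg : g ∈ Q) (hg' : g' ∈ Q) (hk : k ∈ Q) :
    cm X V (g * g') k = cm X V g k + cm X V g' k := h.cm_eq (mul_mem hg hg') hk (by
  rw [show g * g' * k * (g * g')⁻¹ = g * (g' * k * g'⁻¹) * g⁻¹ by group, h.cm_spec hg' hk,
    ← conj_mul, h.cm_spec hg hk, h.zc hg, mul_assoc, X.z_mul])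

theorem cm_zl {g k : G} (hg : g ∈ Q) (hk : k ∈ Q) (b : F8) :
    cm X V (g * X.z b) k = cm X V g k := by
  rw [h.cm_left hg (h.z_mem b) hk, h.cm_eq (h.z_mem b) hk (c := 0)
    (by rw [h.zq hk, X.z_zero, mul_one, mul_inv_cancel_right]), add_zero]

theorem cm_zr {g k : G} (hg : g ∈ Q) (hk : k ∈ Q) (b : F8) :
    cm X V g (k * X.z b) = cm X V g k := by
  rw [h.cm_right hg hk (h.z_mem b), h.cm_eq hg (h.z_mem b) (c := 0)
    (by rw [h.zc hg, X.z_zero, mul_one]), add_zero]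

theorem cm_f {g k : G} (hg : g ∈ Q) (hk : k ∈ Q) :
    cm X V (X.f * g * X.f⁻¹) (X.f * k * X.f⁻¹) = ω ^ 5 * cm X V g k :=
  h.cm_eq (conj_mem h.f_N hg) (conj_mem h.f_N hk) (by
    rw [conj_inv, conj_mul, conj_mul, h.cm_spec hg hk, ← conj_mul, X.f_z])

theorem sf_eq {g : G} (hg : g ∈ Q) {c : F8} (e : g * g = X.z c) : sf X V g = c :=
  X.z_inj ((h.sf_spec hg).symm.trans e)

theorem sf_mul {g k : G} (hg : g ∈ Q) (hk : k ∈ Q) :
    sf X V (k * g) = sf X V k + cm X V g k + sf X V g := h.sf_eq (mul_mem hk hg) (by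
  rw [show k * g * (k * g) = k * (g * k * g⁻¹) * (g * g) by group, h.cm_spec hg hk, ← mul_assoc k,
    h.sf_spec hg, h.sf_spec hk, X.z_mul, X.z_mul])

theorem sf_z {g : G} (hg : g ∈ Q) (b : F8) : sf X V (g * X.z b) = sf X V g :=
  h.sf_eq (mul_mem hg (h.z_mem b)) (by
    rw [mul_assoc, ← mul_assoc (X.z b), h.zq hg, mul_assoc, X.z_sq, mul_one, h.sf_spec hg])

theorem sf_f {g : G} (hg : g ∈ Q) : sf X V (X.f * g * X.f⁻¹) = ω ^ 5 * sf X V g :=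
  h.sf_eq (conj_mem h.f_N hg) (by rw [conj_mul, h.sf_spec hg, X.f_z])

theorem swap {a b c d : G} (hb : b ∈ Q) (hc : c ∈ Q) (hd : d ∈ Q) :
    a * b * (c * d) = a * c * (b * d) * X.z (cm X V b c) := by
  rw [show a * b * (c * d) = a * (b * c * b⁻¹) * (b * d) by group, h.cm_spec hb hc, ← mul_assoc a,
    mul_assoc (a * c), h.zq (mul_mem hb hd), mul_assoc (a * c)]

theorem π_mul {g k : G} (hg : g ∈ Q) (hk : k ∈ Q) :
    pi3 X V φ (g * k) = pi3 X V φ g + pi3 X V φ k := by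
  have : ψ X V φ (tt X (g * k)) = ψ X V φ (tt X g) + ψ X V φ (tt X k) := by
    have m := mul_mem (h.tt_T hg) (h.tt_T hk)
    rw [← h.ψ_mul (h.tt_T hg) (h.tt_T hk), tt, ← conj_mul (a := g) (c := k), ← conj_mul (a := g) (c := k),
      ← conj_mul (a := g) (c := k), h.swap (h.fp hk 3) (h.fp hg 5) (h.fp hk 5), mul_assoc _ (X.z _),
      h.zq (mul_mem (h.fp hg 6) (h.fp hk 6)), ← mul_assoc _ _ (X.z _),
      h.swap (mul_mem (h.fp hk 3) (h.fp hk 5)) (h.fp hg 6) (h.fp hk 6), mul_assoc _ (X.z _),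
      X.z_mul]
    exact h.ψ_z m _
  simp only [pi3, this, h.τ_mul' hg hk]; rfl

theorem π_T {v : G} (hv : v ∈ V) (a b : F8) : pi3 X V φ (v * X.u a b) = (φ v, a, 0) := by
  rw [pi3, h.ψ_tt (h.vu_mem hv a b), h.ψ_eq hv, h.τ_T (h.vu_mem hv a b)]

theorem π_ker {g : G} (hg : g ∈ Q) (e : pi3 X V φ g = 0) : g ∈ X.Z := by
  obtain ⟨v, hv, a, b, rfl⟩ := h.mem_T.1 (h.ker hg (congrArg (·.2.2) e))
  rw [h.π_T hv] at e
  obtain rfl : a = 0 := congrArg (·.2.1) e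
  rw [h.eq_one_of hv (congrArg (·.1) e), one_mul]
  exact X.z_mem_Z b

theorem π_f {g : G} (hg : g ∈ Q) : pi3 X V φ (X.f * g * X.f⁻¹) =
    ((pi3 X V φ g).1, ω * (pi3 X V φ g).2.1, ω ^ 5 * (pi3 X V φ g).2.2) := by
  have : tt X (X.f * g * X.f⁻¹) = X.f * tt X g * X.f⁻¹ := by simp only [tt]; group
  simp only [pi3, this, h.ψ_f (h.tt_T hg), h.τ_f hg]

theorem π_mem {g : G} (hg : g ∈ Q) : ∃ v ∈ V, φ v = (pi3 X V φ g).1 := by
  obtain ⟨v, hv, a, b, e⟩ := h.mem_T.1 (h.tt_T hg)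
  exact ⟨v, hv, by rw [pi3, e, h.ψ_eq hv]⟩

theorem π_surj {v : G} (hv : v ∈ V) (x y : F8) : ∃ g ∈ Q, pi3 X V φ g = (φ v, x, y) := by
  obtain ⟨q, hq, e⟩ := h.onto y
  obtain ⟨w, hw, e1⟩ := h.π_mem hq
  have m := h.T_le (h.vu_mem (mul_mem hv hw) (x + (pi3 X V φ q).2.1) 0)
  refine ⟨_, mul_mem m hq, ?_⟩
  rw [h.π_mul m hq, h.π_T (mul_mem hv hw), h.add hv hw, e1]
  ext
  · simp [add_assoc, F8.add_self]
  · simp [add_assoc, F8.add_self]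
  · simp [pi3, e]

theorem eqz {g k : G} (hg : g ∈ Q) (hk : k ∈ Q) (e : pi3 X V φ g = pi3 X V φ k) :
    ∃ b, g = k * X.z b := by
  obtain ⟨b, e1⟩ := h.π_ker (mul_mem hk hg) (by rw [h.π_mul hk hg, e, add_self3])
  exact ⟨_, by rw [eq_inv_mul_of_mul_eq e1, h.inv_eq hk, mul_assoc, X.z_mul]⟩

theorem exists_qf : ∃ c1 c2, ∀ g ∈ Q, g * g = X.z (qf c1 c2 (pi3 X V φ g)) := by
  have := fun y => h.π_surj (one_mem V) 0 y
  rw [h.one] at this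
  choose w hw ew using this
  have um : ∀ a, X.u a 0 ∈ Q := fun a => h.T_le (mem_sup_right (X.u_mem_S a 0))
  have wf : ∀ y, ∃ b, X.f * w y * X.f⁻¹ = w (ω ^ 5 * y) * X.z b := fun y =>
    h.eqz (conj_mem h.f_N (hw y)) (hw _) (by rw [h.π_f (hw y), ew, ew]; simp)
  have wa : ∀ y y', ∃ b, w (y + y') = w y * w y' * X.z b := fun y y' =>
    h.eqz (hw _) (mul_mem (hw y) (hw y')) (by rw [h.π_mul (hw y) (hw y'), ew, ew, ew]; simp)
  have w0 : ∃ b, w 0 = 1 * X.z b := h.eqz (hw 0) (one_mem Q) (by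
    rw [ew, ← mul_one (1 : G), ← X.u_zero, X.u_zero, ← X.u_zero, X.u_zero]
    conv_rhs => rw [← X.u_zero]
    simpa [X.u_zero, h.one] using (h.π_T (one_mem V) 0 0).symm)
  have k1 : ∀ y, sf X V (w y) = sf X V (w 1) * y := fun y => by
    by_cases h0 : y = 0
    · obtain ⟨b, e⟩ := w0
      rw [h0, e, mul_zero, h.sf_z (one_mem Q), h.sf_eq (one_mem Q) (c := 0) (by simp [X.z_zero])]
    obtain ⟨⟨i, hi⟩, rfl⟩ := exists_pow5 y h0
    clear h0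
    dsimp only
    clear hi
    induction i with
    | zero => simp
    | succ i ih =>
      obtain ⟨b, e⟩ := wf ((ω ^ 5) ^ i)
      rw [pow_succ' (ω ^ 5) i, ← h.sf_z (hw _) b, ← e, h.sf_f (hw _), ih]; ring
  have bf : ∀ x y, cm X V (w (ω ^ 5 * y)) (X.u (ω * x) 0) = ω ^ 5 * cm X V (w y) (X.u x 0) :=
    fun x y => by
      obtain ⟨b, e⟩ := wf y
      rw [← h.cm_f (hw y) (um x), e, h.cm_zl (hw _) (conj_mem h.f_N (um x)), X.f_u, mul_zero]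
  have bp : ∀ (i : ℕ) x, cm X V (w ((ω ^ 5) ^ i)) (X.u x 0) =
      (ω ^ 5) ^ i * cm X V (w 1) (X.u ((ω ^ 6) ^ i * x) 0) := fun i => by
    induction i with
    | zero => simp
    | succ i ih =>
      intro x
      have := bf (ω ^ 6 * x) ((ω ^ 5) ^ i)
      rw [(by decide +kernel : ∀ a : F8, ω * (ω ^ 6 * a) = a), ih] at this
      rw [pow_succ' (ω ^ 5) i, this, pow_succ (ω ^ 6) i, mul_assoc, mul_assoc]
  let β : F8 →+ F8 := AddMonoidHom.mk' (fun x => cm X V (w 1) (X.u x 0)) fun a b => by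
    rw [← h.cm_right (hw 1) (um a) (um b), ← h.cm_zr (hw 1) (um _) (a ^ 4 * b), X.u_mul, SzD.z,
      X.u_mul]
    simp
  have k2 : ∀ a, cm X V (w 1) (X.u a 0) = β 1 * a ^ 2 := fun a =>
    (map_eq_lin3 β a).trans (sq_lin _ _ _ (fun a => by
      simp only [← map_eq_lin3]
      obtain ⟨b, e⟩ := wa 1 (ω ^ 5)
      have e1 := bp 5 a
      have e2 := bp 1 a
      rw [(by decide +kernel : (ω ^ 5) ^ 5 = 1 + ω ^ 5), e, h.cm_zl (mul_mem (hw _) (hw _)) (um a),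
        h.cm_left (hw _) (hw _) (um a), (by decide +kernel : (ω ^ 6) ^ 5 = ω ^ 2),
        (by decide +kernel : 1 + ω ^ 5 = ω ^ 4)] at e1
      rw [pow_one, pow_one] at e2
      rw [e2] at e1
      exact e1) a)
  have k3 : ∀ x y, cm X V (w y) (X.u x 0) = β 1 * x ^ 2 * y ^ 2 := fun x y => by
    by_cases h0 : y = 0
    · obtain ⟨b, e⟩ := w0
      rw [h0, e, h.cm_zl (one_mem Q) (um x), h.cm_eq (one_mem Q) (um x) (c := 0)
        (by simp [X.z_zero])]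
      simp
    obtain ⟨i, rfl⟩ := exists_pow5 y h0
    rw [bp, k2]
    exact (by decide +kernel : ∀ (i : Fin 7) (c x : F8), (ω ^ 5) ^ (i : ℕ) * (c * ((ω ^ 6) ^ (i : ℕ) * x) ^ 2) =
      c * x ^ 2 * ((ω ^ 5) ^ (i : ℕ)) ^ 2) i _ x
  refine ⟨sf X V (w 1), β 1, fun g hg => ?_⟩
  obtain ⟨v, hv, e⟩ := h.π_mem hg
  have m := h.T_le (h.vu_mem hv (pi3 X V φ g).2.1 0)
  have mv := h.T_le (mem_sup_left hv)
  obtain ⟨b, e1⟩ := h.eqz hg (mul_mem m (hw (pi3 X V φ g).2.2)) (by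
    rw [h.π_mul m (hw _), h.π_T hv, ew, e]; simp)
  rw [h.sf_spec hg]
  congr 1
  conv_lhs => rw [e1]
  rw [h.sf_z (mul_mem m (hw _)), h.sf_mul (hw _) m, h.sf_eq m (h.sqT hv _ _), k1,
    h.cm_right (hw _) mv (um _), k3, h.cm_eq (hw _) mv (τ_spec (h.Q_C0 (hw _)) hv), e,
    show τ X V φ (w _) = _ from congrArg (·.2.2) (ew _), qf]
  ring

end QZ

end H17.RC
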