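import Mathlib
import Cfsg.Agent.H17.RC4

/-! # Standard subgroup `Sz(8)`: the structure of `N(E)` -/

set_option autoImplicit false
set_option linter.unusedSectionVars false

namespace H17.RC

open Cfsg H24 Subgroup H14.Ru Ph

variable {G : Type*} [Group G] [Finite G] {L G0 V : Subgroup G}

theorem exists_QD {X : SzD L} (h : St L G0) (hV : VD X V) (hs : QQ.SC X G0) :
    Nonempty (QD X V) := by
  obtain ⟨φ0, h0⟩ := Bs.exists_ph ⟨h, hV⟩
  obtain ⟨φ, Vs, h1, hVs, mV⟩ := h0.exists_Vs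
  obtain ⟨Q, D, h2⟩ := h1.exists_qq
  have k : QZ X V G0 φ Q D := ⟨h2, fun q hq => h2.sq_Z hs hq⟩
  obtain ⟨c1, c2, hc⟩ := k.exists_qf
  have : ∀ c, ∃ v, c ∈ Vs → v ∈ V ∧ φ v = c := fun c => by
    by_cases hc : c ∈ Vs
    · obtain ⟨v, hv, e⟩ := (mV c).1 hc
      exact ⟨v, fun _ => ⟨hv, e⟩⟩
    · exact ⟨1, fun h => absurd h hc⟩
  choose v hv using this
  exact ⟨{
    Q := Q, D := D, Vs := Vs, c1 := c1, c2 := c2, v := v, π := pi3 X V φ, hVs := hVs
    mem_V := fun g => ⟨fun hg => ⟨φ g, (mV _).2 ⟨g, hg, rfl⟩,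
      k.inj hg (hv _ ((mV _).2 ⟨g, hg, rfl⟩)).1 (hv _ ((mV _).2 ⟨g, hg, rfl⟩)).2.symm⟩,
      fun ⟨c, hc, e⟩ => e ▸ (hv c hc).1⟩
    V_le := le_sup_left.trans k.T_le
    S_le := le_sup_right.trans k.T_le
    π_v := fun c hc => by simpa [X.u_zero, (hv c hc).2] using k.π_T (hv c hc).1 0 0
    π_u := fun a b => by simpa [k.one] using k.π_T (one_mem V) a b
    π_mul := fun g hg g' hg' => k.π_mul hg hg'
    π_ker := fun g hg => k.π_ker hg
    π_mem := fun g hg => (mV _).2 (k.π_mem hg)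
    π_surj := fun c hc x y => (hv c hc).2 ▸ k.π_surj (hv c hc).1 x y
    sq := hc
    zc := fun g hg => (k.Q_C0 hg).1
    f_N := k.f_N
    π_f := fun g hg => k.π_f hg
    dd := fun c hc c0 b => k.dd (hv c hc).1 (fun e => c0 (by rw [← (hv c hc).2, e, k.one])) b
    NE := k.NE
    two := fun g hg h2 => k.two hg h2
    oddD := Nat.coprime_two_left.1 ((piNat_compl_iff_coprime Nat.prime_two).1 k.odd)
    D_L := k.D_L
    D_Q := k.D_Q
    CE := k.CE
    CZ := fun hn g hg hz => by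
      obtain ⟨κ, κ0, kp⟩ := k.exists_kp hg hz
      have e : ∀ c ∈ Vs, κ * c ∈ Vs := fun c hc => by
        obtain ⟨w, hw, -, -, e⟩ := kp _ (hv c hc).1
        exact (mV _).2 ⟨w, hw, by rw [e, (hv c hc).2]⟩
      obtain rfl : κ = 1 := by
        rcases hVs with rfl | rfl | rfl
        · exact (by decide +kernel : ∀ κ : F8, κ ≠ 0 →
            (∀ c, c ∈ ({0, 1} : Finset F8) → κ * c ∈ ({0, 1} : Finset F8)) → κ = 1) κ κ0 e
        · exact (by decide +kernel : ∀ κ : F8, κ ≠ 0 →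
            (∀ c, c ∈ ({0, ω, ω ^ 2, ω ^ 4} : Finset F8) →
              κ * c ∈ ({0, ω, ω ^ 2, ω ^ 4} : Finset F8)) → κ = 1) κ κ0 e
        · exact absurd rfl hn
      exact k.dec g (k.of_kp hg hz kp) }⟩

end H17.RC
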