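import Mathlib
import Cfsg.Agent.H14.RuDefs

/-! # Standard subgroup `Sz(8)`: finite checks on the squaring map -/

set_option autoImplicit false

namespace H14.Ru

/-- first coordinate of a vector perpendicular to `(c, x, 1)` -/
def pc (c2 c x a b : F8) : F8 := x ^ 4 * a + x * a ^ 4 + c * b + c2 * (x ^ 2 * b ^ 2 + a ^ 2)

set_option synthInstance.maxSize 2000 in
set_option synthInstance.maxHeartbeats 200000 in
theorem chk8 : ∀ c1 c2 x : F8, ∀ c, qf c1 c2 (c, x, 1) = 0 →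
    (∀ b a a', qf c1 c2 (pc c2 c x a b, a, b) = a' ^ 5 →
      qf c1 c2 (pc c2 c x a b + pc c2 c x a' 0, a + a', b) = 0) →
    c1 = 0 ∧ c2 = 0 ∧ c = 0 ∧ x = 0 := by decide +kernel

set_option synthInstance.maxSize 2000 in
set_option synthInstance.maxHeartbeats 200000 in
theorem chk4 : ∀ c1 c2 x : F8, ∀ c, c ∈ ({0, ω, ω ^ 2, ω ^ 4} : Finset F8) →
    qf c1 c2 (c, x, 1) = 0 →
    (∀ b a, pc c2 c x a b ∈ ({0, ω, ω ^ 2, ω ^ 4} : Finset F8) →
      ∀ b' a', pc c2 c x a' b' ∈ ({0, ω, ω ^ 2, ω ^ 4} : Finset F8) →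
      qf c1 c2 (pc c2 c x a b, a, b) = qf c1 c2 (pc c2 c x a' b', a', b') →
      qf c1 c2 (pc c2 c x a b + pc c2 c x a' b', a + a', b + b') = 0) →
    (c1 = 0 ∧ c2 = 0 ∧ c = 0 ∧ x = 0) ∨ (c1 = 1 ∧ c2 = 1) := by decide +kernel

end H14.Ru
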