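import Mathlib
import Cfsg.Agent.H17.RB1

/-! # Standard subgroup `Sz(8)`: calculus in `Q` -/

set_option autoImplicit false
set_option linter.unusedSectionVars false

namespace H14.Ru

open Cfsg H24 Subgroup H17.RC

variable {G : Type*} [Group G] [Finite G] {L G0 V : Subgroup G}

theorem F8.two : (2 : F8) = 0 := by rw [← one_add_one_eq_two, F8.add_self]

/-- the commutator map of `Q / Z` -/
def bf (c2 : F8) (p r : F8 × F8 × F8) : F8 :=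
  p.2.1 ^ 4 * r.2.1 + p.2.1 * r.2.1 ^ 4 + p.1 * r.2.2 + r.1 * p.2.2 +
    c2 * (p.2.1 ^ 2 * r.2.2 ^ 2 + r.2.1 ^ 2 * p.2.2 ^ 2)

theorem qf_add (c1 c2 : F8) (p r : F8 × F8 × F8) :
    qf c1 c2 (p + r) = qf c1 c2 p + qf c1 c2 r + bf c2 p r := by
  obtain ⟨c, x, y⟩ := p
  obtain ⟨c', x', y'⟩ := r
  simp only [qf, bf, Prod.mk_add_mk]
  linear_combination (2 * x ^ 4 * x' + 2 * x * x' ^ 4 + 5 * x ^ 3 * x' ^ 2 + 5 * x ^ 2 * x' ^ 3 +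
    c2 * (x ^ 2 * y * y' + x' ^ 2 * y * y' + x * x' * (y + y') ^ 2)) * F8.two

theorem bf_comm (c2 : F8) (p r : F8 × F8 × F8) : bf c2 p r = bf c2 r p := by
  simp only [bf]; ring

theorem add_self3 (p : F8 × F8 × F8) : p + p = 0 := by
  ext <;> simp [F8.add_self]

theorem SzD.two_NS (X : SzD L) {g : G} (hg : g ∈ N[X.S]) (h2 : PiElt {2} g) : g ∈ C[X.Z] := by
  have c : ∀ a : F8, (a ^ 3) ^ 5 = a := by decide +kernel
  have c' : ∀ a : F8, (a ^ 5) ^ 3 = a := by decide +kernel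
  choose A D hA using fun a => conj_mem hg (X.u_mem_S a 0)
  have k : ∀ a, g * X.z (a ^ 5) * g⁻¹ = X.z (A a ^ 5) := fun a => by
    rw [← X.u_sq a 0, ← conj_mul, hA, X.u_sq]
  have add : ∀ a b, A (a + b) = A a + A b := fun a b => by
    have := k (a + b)
    rw [← X.u_sq _ (0 + 0 + a ^ 4 * b), ← X.u_mul, ← conj_mul, ← conj_mul, hA, hA, X.u_mul,
      X.u_sq] at this
    rw [← c' (A (a + b)), ← X.z_inj this, c']
  obtain ⟨l, i, e⟩ := qlemma (AddMonoidHom.mk' A add)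
    (AddMonoidHom.mk' (fun b => A (b ^ 3) ^ 5) fun a b => X.z_inj (by
      rw [← X.z_mul, ← k, ← k, ← k, c, c, c, conj_mul, X.z_mul]))
    (fun a b e => by
      have : A a = A b := e
      have e2 : X.z (a ^ 5) = X.z (b ^ 5) :=
        mul_left_cancel (a := g) (mul_right_cancel (b := g⁻¹) (by rw [k, k, this]))
      rw [← c' a, X.z_inj e2, c'])
    (fun a => by simp [c'])
  replace e : ∀ a, A a = l * a ^ 2 ^ (i : ℕ) := e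
  have l0 : l ≠ 0 := by
    rintro rfl
    have := k 1
    rw [e, zero_mul, zero_pow (by norm_num), X.z_zero, conj_eq_one_iff, one_pow] at this
    exact one_ne_zero (X.z_eq_one.1 this)
  have it : ∀ n : ℕ, ∀ b, g ^ n * X.z b * (g ^ n)⁻¹ =
      X.z ((fun b => (l * (b ^ 3) ^ 2 ^ (i : ℕ)) ^ 5)^[n] b) := by
    intro n
    induction n with
    | zero => simp
    | succ n ih =>
      intro b
      rw [Function.iterate_succ_apply, ← ih, ← e, ← k, c]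
      group
  refine mem_of_pow h2 (n := 21) (by decide) (mem_C'.2 ?_)
  rintro _ ⟨b, rfl⟩
  rw [← mul_inv_eq_iff_eq_mul, it, (by decide +kernel : ∀ l : F8, l ≠ 0 → ∀ i : Fin 3, ∀ b : F8,
    (fun b => (l * (b ^ 3) ^ 2 ^ (i : ℕ)) ^ 5)^[21] b = b) l l0 i b]

theorem SzD.abl_Z (X : SzD L) : Abl X.Z := abl_iff.2 (by
  rintro _ ⟨a, rfl⟩
  refine mem_C.2 ?_
  rintro _ ⟨b, rfl⟩
  exact X.z_u 0 a b)

/-- a strongly closed `Z` forbids members of `DD` in `G0` -/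
theorem St.sc_Z (h : St L G0) (X : SzD L) (zn : ¬ DD L (X.z 1)) {P : Subgroup G} (hP : Syl 2 ⊤ P)
    (h2 : IsStronglyClosed X.Z P) : (∀ t ∈ G0, ¬ DD L t) ∧ ♯(P ⊓ G0) ≠ 512 := by
  obtain ⟨k1, -, k2⟩ := h.sc X hP X.abl_Z h2 (ne_bot_of_mem (x := X.z 1)
    (mem_inf.2 ⟨X.z_mem_Z 1, h.le (X.u_mem 0 1)⟩) fun e => one_ne_zero (X.z_eq_one.1 e))
  refine ⟨fun t ht hd => ?_, k2⟩
  obtain ⟨g, -, e⟩ := k1 t ht hd.1 hd.2.1
  exact zn (e ▸ dd_conj hd g)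

/-- choice of an extremal conjugate -/
theorem exists_ext {P : Subgroup G} (hP : Syl 2 ⊤ P) {z : G} (hz : P ≤ C{z}) (g : G) {A : Subgroup G}
    (hA : IsPi {2} A) (h1 : A ≤ C{g * z * g⁻¹}) :
    ∃ g', g' * z * g'⁻¹ = g * z * g⁻¹ ∧ A ≤ cj g' P := by
  have s := (hP.of_le hz le_top).cj g
  rw [cj_C1] at s
  obtain ⟨c, hc, e⟩ := Sylow_subJ Nat.prime_two s hA h1
  exact ⟨c * g, by rw [← mem_C1_iff_conj.1 hc]; group, by rwa [← cj_cj]⟩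

namespace QD

variable {X : SzD L} (Y : QD X V)

theorem π_z (b : F8) : Y.π (X.z b) = 0 := Y.π_u 0 b

theorem π_one : Y.π 1 = 0 := X.z_zero ▸ Y.π_z 0

theorem u_mem (a b : F8) : X.u a b ∈ Y.Q := Y.S_le (X.u_mem_S a b)

theorem z_mem (b : F8) : X.z b ∈ Y.Q := Y.u_mem 0 b

theorem v_mem {c : F8} (hc : c ∈ Y.Vs) : Y.v c ∈ V := (Y.mem_V _).2 ⟨c, hc, rfl⟩

theorem zq {q : G} (hq : q ∈ Y.Q) (b : F8) : X.z b * q = q * X.z b :=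
  mem_C.1 (Y.zc hq) _ (X.z_mem_Z b)

theorem inv_eq {g : G} (hg : g ∈ Y.Q) : g⁻¹ = g * X.z (qf Y.c1 Y.c2 (Y.π g)) := by
  rw [inv_eq_iff_mul_eq_one, ← mul_assoc, Y.sq g hg, X.z_sq]

theorem π_mz {g : G} (hg : g ∈ Y.Q) (b : F8) : Y.π (g * X.z b) = Y.π g := by
  rw [Y.π_mul g hg _ (Y.z_mem b), Y.π_z, add_zero]

theorem π_inv {g : G} (hg : g ∈ Y.Q) : Y.π g⁻¹ = Y.π g := by rw [Y.inv_eq hg, Y.π_mz hg]

theorem cm {g k : G} (hg : g ∈ Y.Q) (hk : k ∈ Y.Q) :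
    g * k * g⁻¹ = k * X.z (bf Y.c2 (Y.π g) (Y.π k)) := by
  have := Y.sq _ (mul_mem hk hg)
  rw [Y.π_mul k hk g hg, qf_add, ← X.z_mul, ← X.z_mul, ← Y.sq k hk, ← Y.sq g hg, mul_assoc (k * k),
    ← Y.zq (mul_mem hg hg), bf_comm] at this
  rw [← mul_left_inj (g * g), ← mul_right_inj k]
  convert this using 1 <;> group

theorem comm_iff {g k : G} (hg : g ∈ Y.Q) (hk : k ∈ Y.Q) :
    g * k = k * g ↔ bf Y.c2 (Y.π g) (Y.π k) = 0 := by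
  rw [← mul_inv_eq_iff_eq_mul, Y.cm hg hk, mul_eq_left, X.z_eq_one]

theorem π_conj {g k : G} (hg : g ∈ Y.Q) (hk : k ∈ Y.Q) : Y.π (g * k * g⁻¹) = Y.π k := by
  rw [Y.cm hg hk, Y.π_mz hk]

theorem sq_iff {g : G} (hg : g ∈ Y.Q) : g * g = 1 ↔ qf Y.c1 Y.c2 (Y.π g) = 0 := by
  rw [Y.sq g hg, X.z_eq_one]

theorem eqz {g k : G} (hg : g ∈ Y.Q) (hk : k ∈ Y.Q) (e : Y.π g = Y.π k) : ∃ b, g = k * X.z b := by
  obtain ⟨b, e1⟩ := Y.π_ker _ (mul_mem hk hg) (by rw [Y.π_mul k hk g hg, e, add_self3])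
  exact ⟨_, by rw [eq_inv_mul_of_mul_eq e1, Y.inv_eq hk, mul_assoc, X.z_mul]⟩

theorem pi_Q : IsPi {2} Y.Q := isPi_iff_piElt.2 fun g hg =>
  piElt_of_pow_eq_one (piNat_self_pow Nat.prime_two 2) (by
    rw [show g ^ 2 ^ 2 = g * g * (g * g) by rw [← pow_two, ← pow_two, ← pow_mul]; rfl, Y.sq g hg,
      X.z_sq])

theorem E_le : V ⊔ X.Z ≤ Y.Q := sup_le Y.V_le (X.Z_le_S.trans Y.S_le)

theorem π_V {v : G} (hv : v ∈ V) : (Y.π v).2 = 0 := by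
  obtain ⟨c, hc, rfl⟩ := (Y.mem_V v).1 hv
  rw [Y.π_v c hc]; rfl

theorem mem_E {g : G} (hg : g ∈ Y.Q) : g ∈ V ⊔ X.Z ↔ (Y.π g).2 = 0 := by
  constructor
  · intro h
    obtain ⟨v, hv, _, ⟨b, rfl⟩, rfl⟩ := (mem_sup_of_norm (norm_of_cent (cents_symm
      (Y.V_le.trans Y.zc)))).1 h
    rw [Y.π_mz (Y.V_le hv), Y.π_V hv]
  · intro h
    have m := Y.v_mem (Y.π_mem g hg)
    obtain ⟨b, e⟩ := Y.eqz hg (Y.V_le m) (by rw [Y.π_v _ (Y.π_mem g hg)]; exact Prod.ext rfl h)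
    rw [e]
    exact mul_mem (mem_sup_left m) (mem_sup_right (X.z_mem_Z b))

theorem mem_S {g : G} (hg : g ∈ Y.Q) (h1 : (Y.π g).1 = 0) (h2 : (Y.π g).2.2 = 0) : g ∈ X.S := by
  obtain ⟨b, e⟩ := Y.eqz hg (Y.u_mem (Y.π g).2.1 0) (by
    rw [Y.π_u]; exact Prod.ext h1 (Prod.ext rfl h2))
  rw [e]
  exact mul_mem (X.u_mem_S _ _) (X.Z_le_S (X.z_mem_Z b))

include Y in
theorem dd_E {g : G} (hg : g ∈ V ⊔ X.Z) (h : g ∉ X.Z) : DD L g := by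
  have hQ := Y.E_le hg
  have m := Y.π_mem g hQ
  obtain ⟨b, e⟩ := Y.eqz hQ (Y.V_le (Y.v_mem m)) (by
    rw [Y.π_v _ m]; exact Prod.ext rfl ((Y.mem_E hQ).1 hg))
  rw [e]
  exact Y.dd _ m (fun e => h (Y.π_ker g hQ (Prod.ext e ((Y.mem_E hQ).1 hg)))) b

theorem E_of_sq {g : G} (hg : g ∈ Y.Q) (h1 : (Y.π g).2.2 = 0) (h2 : g * g = 1) : g ∈ V ⊔ X.Z := by
  rw [Y.sq_iff hg, qf, h1] at h2
  exact (Y.mem_E hg).2 (Prod.ext (by simpa using h2) h1)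

theorem NQ_NZ : N[Y.Q] ≤ N[X.Z] := fun g hg => mem_N_of_finite <| by
  rintro _ ⟨b, rfl⟩
  rw [Bs.z_eq_sq, ← conj_mul, Y.sq _ (conj_mem hg (Y.u_mem _ _))]
  exact X.z_mem_Z _

theorem π_fpow {g : G} (hg : g ∈ Y.Q) (i : ℕ) : Y.π (X.f ^ i * g * (X.f ^ i)⁻¹) =
    ((Y.π g).1, ω ^ i * (Y.π g).2.1, (ω ^ 5) ^ i * (Y.π g).2.2) := by
  induction i with
  | zero => simp
  | succ i ih =>
    rw [show X.f ^ (i + 1) * g * (X.f ^ (i + 1))⁻¹ = X.f * (X.f ^ i * g * (X.f ^ i)⁻¹) * X.f⁻¹ by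
      group, Y.π_f _ (conj_mem (pow_mem Y.f_N i) hg), ih, pow_succ' ω i, pow_succ' (ω ^ 5) i,
      mul_assoc, mul_assoc]

theorem comm_f (h : St L G0) {q : G} (hq : q ∈ Y.Q) : X.f * q * X.f⁻¹ * q⁻¹ ∈ Y.Q ⊓ G0 ∧
    Y.π (X.f * q * X.f⁻¹ * q⁻¹) = (0, (ω + 1) * (Y.π q).2.1, (ω ^ 5 + 1) * (Y.π q).2.2) := by
  have m1 := conj_mem Y.f_N hq
  refine ⟨mem_inf.2 ⟨mul_mem m1 (inv_mem hq), ?_⟩, ?_⟩
  · rw [show X.f * q * X.f⁻¹ * q⁻¹ = X.f * (q * X.f⁻¹ * q⁻¹) by group]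
    exact mul_mem (h.le X.f_mem) (h.nrm.conj_mem _ (inv_mem (h.le X.f_mem)) q)
  · rw [Y.π_mul _ m1 _ (inv_mem hq), Y.π_f q hq, Y.π_inv hq]
    ext <;> simp [F8.add_self, add_mul]

theorem zero_mem : 0 ∈ Y.Vs := by simpa [Y.π_one] using Y.π_mem 1 (one_mem _)

include Y in
theorem sc (h : St L G0) (hV : VD X V) (h1 : Syl 2 ⊤ Y.Q) (h2 : IsStronglyClosed X.Z Y.Q) :
    False := by
  obtain ⟨k1, k2⟩ := h.sc_Z X (hV.zn 1) h1 h2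
  have SG := X.S_le.trans h.le
  let ρ : ↥(Y.Q ⊓ G0) →* Multiplicative F8 := MonoidHom.mk'
    (fun g => Multiplicative.ofAdd (Y.π g).2.2) fun a b => by
      rw [← ofAdd_add, coe_mul, Y.π_mul _ a.2.1 _ b.2.1]; rfl
  have e1 : ρ.ker = X.S.subgroupOf _ := by
    ext g
    rw [MonoidHom.mem_ker, mem_subgroupOf]
    refine ⟨fun e => Y.mem_S g.2.1 ?_ (congrArg Multiplicative.toAdd e), ?_⟩
    · have m := mul_mem g.2.1 (Y.u_mem (Y.π g).2.1 0)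
      have e0 : (Y.π g).2.2 = 0 := congrArg Multiplicative.toAdd e
      have e2 := Y.π_mul _ g.2.1 _ (Y.u_mem (Y.π g).2.1 0)
      rw [Y.π_u] at e2
      by_contra h0
      refine k1 _ (mul_mem g.2.2 (SG (X.u_mem_S (Y.π g).2.1 0))) (Y.dd_E ((Y.mem_E m).2 ?_) ?_)
      · rw [e2]; ext <;> simp [e0, F8.add_self]
      · rintro ⟨b, e3⟩
        rw [e3, Y.π_z] at e2
        exact h0 (by simpa using (congrArg Prod.fst e2).symm)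
    · rintro ⟨a, b, e⟩
      exact congrArg Multiplicative.ofAdd (by rw [e, Y.π_u])
  have e2 : ρ.range = ⊤ := by
    rw [eq_top_iff]
    intro m _
    obtain ⟨q, hq, e⟩ := Y.π_surj 0 Y.zero_mem 0 (m.toAdd / (ω ^ 5 + 1))
    refine ⟨⟨_, (Y.comm_f h hq).1⟩, Multiplicative.toAdd.injective ?_⟩
    change (Y.π _).2.2 = _
    rw [(Y.comm_f h hq).2, e]
    field_simp [(by decide +kernel : ω ^ 5 + 1 ≠ 0)]
  apply k2
  rw [← ρ.ker.card_mul_index, index_ker, e1, e2, card_top, card_subgroupOf_of_le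
    (le_inf Y.S_le SG), X.card_S, Nat.card_eq_fintype_card, Fintype.card_multiplicative, F8.card]

theorem Z_le {g : G} (h : ∀ b, X.z b ∈ cj g X.Z) : cj g X.Z = X.Z :=
  (eq_of_card_eq (by rintro _ ⟨b, rfl⟩; exact h b) (card_cj _ _).symm).symm

end QD

end H14.Ru
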