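import Mathlib
import Cfsg.Agent.H17.RQ0
import Cfsg.Agent.H17.RQ1

/-! # Standard subgroup `Sz(8)`: conjugates of `V` in `Q` -/

set_option autoImplicit false
set_option linter.unusedSectionVars false

namespace H14.Ru

open Cfsg H24 Subgroup H17.RC

variable {G : Type*} [Group G] [Finite G] {L G0 V : Subgroup G}

theorem bf_pc (c2 c x a b : F8) : bf c2 (c, x, 1) (pc c2 c x a b, a, b) = 0 := by
  simp only [bf, pc]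
  linear_combination (x ^ 4 * a + x * a ^ 4 + c * b + c2 * (x ^ 2 * b ^ 2 + a ^ 2)) * F8.two

namespace QD

variable {X : SzD L} (Y : QD X V)

theorem π_V' {v : G} (hv : v ∈ V) (h1 : v ≠ 1) (hV : VD X V) : ∃ c, c ≠ 0 ∧ Y.π v = (c, 0, 0) := by
  refine ⟨(Y.π v).1, fun e => h1 (X.eq_one (X.S_le (X.Z_le_S (Y.π_ker v (Y.V_le hv)
    (Prod.ext e (Y.π_V hv))))) (hV.syl.le hv)), Prod.ext rfl (Y.π_V hv)⟩

theorem trD (hV : VD X V) {n v : G} (hn : n ∈ N[Y.Q]) (hv : v ∈ V) (h1 : v ≠ 1)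
    {r s : F8 × F8 × F8} (hr : r.1 ∈ Y.Vs) (hs : s.1 ∈ Y.Vs)
    (er : bf Y.c2 (Y.π (n * v * n⁻¹)) r = 0) (es : bf Y.c2 (Y.π (n * v * n⁻¹)) s = 0)
    (e : qf Y.c1 Y.c2 r = qf Y.c1 Y.c2 s) : qf Y.c1 Y.c2 (r + s) = 0 := by
  obtain ⟨c, c0, ev⟩ := Y.π_V' hv h1 hV
  have k : ∀ r : F8 × F8 × F8, r.1 ∈ Y.Vs → bf Y.c2 (Y.π (n * v * n⁻¹)) r = 0 →
      ∃ a ∈ Y.Q, Y.π (n * a * n⁻¹) = r ∧ (Y.π a).2.2 = 0 := fun r hr er => by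
    obtain ⟨a, ha, ea⟩ := Y.π_surj r.1 hr r.2.1 r.2.2
    obtain ⟨a, ha', rfl⟩ := mem_cj'.1 ((cj_of_mem_N hn).ge ha)
    refine ⟨a, ha', ea, ?_⟩
    have := (Y.comm_iff (conj_mem hn (Y.V_le hv)) ha).2 (ea ▸ er)
    rw [conj_mul, conj_mul] at this
    simpa [bf, ev, c0] using
      (Y.comm_iff (Y.V_le hv) ha').1 (mul_left_cancel (mul_right_cancel this))
  obtain ⟨a, ha, rfl, a0⟩ := k r hr er
  obtain ⟨b, hb, rfl, b0⟩ := k s hs es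
  have e1 := congrArg X.z e
  rw [← Y.sq _ (conj_mem hn ha), ← Y.sq _ (conj_mem hn hb), conj_mul, conj_mul, Y.sq a ha,
    Y.sq b hb] at e1
  have e2 := X.z_inj (mul_left_cancel (mul_right_cancel e1))
  simp only [qf, a0, b0, mul_zero, ne_eq, OfNat.ofNat_ne_zero, not_false_eq_true, zero_pow,
    add_zero] at e2
  rw [← Y.π_mul _ (conj_mem hn ha) _ (conj_mem hn hb), ← Y.sq_iff (mul_mem (conj_mem hn ha)
    (conj_mem hn hb)), conj_mul, conj_mul, conj_eq_one_iff, Y.sq_iff (mul_mem ha hb),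
    Y.π_mul a ha b hb]
  simp [qf, a0, b0, (by decide +kernel : ∀ a c : F8, a ^ 5 = c ^ 5 → a = c) _ _ e2, F8.add_self]

theorem trB (hV : VD X V) {n v : G} (hn : n ∈ N[Y.Q]) (hv : v ∈ V) (h1 : v ≠ 1) (d : F8) :
    ∃ r : F8 × F8 × F8, r.1 ∈ Y.Vs ∧ bf Y.c2 (Y.π (n * v * n⁻¹)) r = d := by
  obtain ⟨c, c0, ev⟩ := Y.π_V' hv h1 hV
  obtain ⟨_, ⟨d', rfl⟩, e⟩ := mem_cj'.1 ((cj_of_mem_N (Y.NQ_NZ hn)).ge (X.z_mem_Z d))
  obtain ⟨a, ha, ea⟩ := Y.π_surj 0 Y.zero_mem 0 (d' / c)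
  have m := conj_mem hn ha
  refine ⟨_, Y.π_mem _ m, X.z_inj (mul_left_cancel (a := n * a * n⁻¹) ?_)⟩
  rw [← Y.cm (conj_mem hn (Y.V_le hv)) m, conj_inv, conj_mul, conj_mul, Y.cm (Y.V_le hv) ha, e,
    conj_mul, ev, ea]
  simp [bf, mul_div_cancel₀ _ c0]

theorem vtype (hV : VD X V) {n v : G} (hn : n ∈ N[Y.Q]) (hv : v ∈ V) (h1 : v ≠ 1)
    (hE : n * v * n⁻¹ ∉ V ⊔ X.Z) : (Y.Vs = {0, ω, ω ^ 2, ω ^ 4} → Y.c1 = 1 ∧ Y.c2 = 1) ∧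
      (Y.Vs = Finset.univ → Y.c1 = 0 ∧ Y.c2 = 0 ∧ (Y.π (n * v * n⁻¹)).1 = 0 ∧
        (Y.π (n * v * n⁻¹)).2.1 = 0) := by
  have m := conj_mem hn (Y.V_le hv)
  have y0 : (Y.π (n * v * n⁻¹)).2.2 ≠ 0 := fun e =>
    hE (Y.E_of_sq m e (by rw [conj_mul, hV.ea v hv]; simp))
  obtain ⟨i, hi⟩ := exists_pow5 _ (inv_ne_zero y0)
  have e := Y.π_fpow m i
  rw [← hi, inv_mul_cancel₀ y0, show X.f ^ (i : ℕ) * (n * v * n⁻¹) * (X.f ^ (i : ℕ))⁻¹ =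
    X.f ^ (i : ℕ) * n * v * (X.f ^ (i : ℕ) * n)⁻¹ by group] at e
  have hn' := mul_mem (pow_mem Y.f_N (i : ℕ)) hn
  have q0 := (Y.sq_iff (conj_mem hn' (Y.V_le hv))).1 (by rw [conj_mul, hV.ea v hv]; simp)
  have D := fun {r s} => Y.trD hV hn' hv h1 (r := r) (s := s)
  have B := Y.trB hV hn' hv h1 1
  have mV := Y.π_mem _ m
  rw [e] at q0 D B
  refine ⟨fun hs => ?_, fun hs => ?_⟩
  · rw [hs] at D B mV
    refine (chk4 _ _ _ _ mV q0 fun b a h1 b' a' h2 h3 => by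
      simpa only [Prod.mk_add_mk] using D (r := (pc .., a, b)) (s := (pc .., a', b')) h1 h2 (bf_pc ..)
        (bf_pc ..) h3).resolve_left ?_
    rintro ⟨-, e2, e3, e4⟩
    obtain ⟨r, hr, e5⟩ := B
    simp only [bf, e2, e3, e4] at e5
    rw [show r.1 = 1 by simpa using e5] at hr
    exact absurd hr (by decide +kernel)
  · rw [hs] at D
    obtain ⟨e1, e2, e3, e4⟩ := chk8 _ _ _ _ q0 fun b a a' h3 => by
      simpa using D (r := (_, a, b)) (s := (_, a', 0)) (Finset.mem_univ _) (Finset.mem_univ _)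
        (bf_pc ..) (bf_pc ..) (by rw [h3]; simp [qf])
    exact ⟨e1, e2, e3, (mul_eq_zero.1 e4).resolve_left (pow_ne_zero _ (by decide +kernel))⟩

theorem exists_out {g : G} (hg : g ∈ N[Y.Q]) (hn : g ∉ N[V ⊔ X.Z]) :
    ∃ v ∈ V, v ≠ 1 ∧ g * v * g⁻¹ ∉ V ⊔ X.Z := by
  by_contra h
  push Not at h
  refine hn (mem_N_of_cj_le ?_)
  rw [cj_sup, cj_of_mem_N (Y.NQ_NZ hg)]
  refine sup_le (fun x hx => ?_) le_sup_right
  obtain ⟨v, hv, rfl⟩ := mem_cj'.1 hx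
  by_cases h1 : v = 1
  · simp [h1]
  · exact h v hv h1

end QD

end H14.Ru
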