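import Mathlib
import Cfsg.Agent.H17.RQ1

/-! # Standard subgroup `Sz(8)` with centraliser of order two: finite checks -/

set_option autoImplicit false
set_option synthInstance.maxSize 4000

namespace H14.Ru

/-- vectors of `Q / Z` -/
def WD2 (r : F8 × F8 × F8) : Prop := r.1 = 0 ∨ r.1 = 1

instance (r : F8 × F8 × F8) : Decidable (WD2 r) := inferInstanceAs (Decidable (_ ∨ _))

instance decAll3 (p : F8 × F8 × F8 → Prop) [DecidablePred p] : Decidable (∀ r, WD2 r → p r) :=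
  decidable_of_iff (∀ a, a = 0 ∨ a = 1 → ∀ b c, p (a, b, c))
    ⟨fun h r hr => h r.1 hr r.2.1 r.2.2, fun h a ha b c => h (a, b, c) ha⟩

instance decEx3 (p : F8 × F8 × F8 → Prop) [DecidablePred p] : Decidable (∃ r, WD2 r ∧ p r) :=
  decidable_of_iff (∃ a, (a = 0 ∨ a = 1) ∧ ∃ b c, p (a, b, c))
    ⟨fun ⟨a, ha, b, c, h⟩ => ⟨(a, b, c), ha, h⟩, fun ⟨r, hr, h⟩ => ⟨r.1, hr, r.2.1, r.2.2, h⟩⟩

theorem chk_v : ∀ c1 c2 c x : F8, c = 0 ∨ c = 1 → qf c1 c2 (c, x, 1) = 0 →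
    (∀ r, WD2 r → qf c1 c2 r = 0 → bf c2 (c, x, 1) r = 0 → r = 0 ∨ r = (c, x, 1)) →
    (∃ r, WD2 r ∧ bf c2 (c, x, 1) r = 0 ∧ ∃ s, WD2 s ∧ bf c2 (c, x, 1) s = 0 ∧ bf c2 r s ≠ 0) →
    (∀ r, WD2 r → qf c1 c2 r = 0 → bf c2 (c, x, 1) r ≠ 0 → ∀ s, WD2 s → qf c1 c2 s = 0 →
      bf c2 (c, x, 1) s = bf c2 (c, x, 1) r → s ≠ r → ∀ z, z ≠ 0 →
        ∃ r, WD2 r ∧ qf c1 c2 r = 0 ∧ bf c2 (c, x, 1) r = z ∧
          ∃ s, WD2 s ∧ qf c1 c2 s = 0 ∧ bf c2 (c, x, 1) s = z ∧ s ≠ r) →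
    c2 = 0 ∧ (c1 = 0 ∨ c1 = 1) ∧ c = 1 := by decide +kernel

/-- the commutator form of `S / Z` -/
def Bf (s x : F8) : F8 := s ^ 4 * x + s * x ^ 4

theorem chk_U : ∀ r, WD2 r → ((∀ p, WD2 p → ∀ p', WD2 p' → bf 0 r p ≠ 0 → bf 0 r p' ≠ 0 →
    bf 0 r p = bf 0 r p') ↔ r.1 = 0 ∧ r.2.1 = 0) := by decide +kernel

theorem chk_l : ∀ s a b c : F8, s ≠ 0 → (∃ r, ∀ x, lin3 a b c (Bf s x) = Bf r x) →
    (∃ e, (e = 0 ∨ e = 1) ∧ ∀ y, lin3 a b c (ω ^ 15 * y) + ω ^ 5 * lin3 a b c (ω ^ 10 * y) +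
      ω ^ 15 * lin3 a b c y = e * (ω ^ 15 * y)) →
    (∀ y, lin3 a b c y = 0) ∨ ∀ y, lin3 a b c y = y := by decide +kernel

theorem chk_c : ∀ a b c : F8, (∀ x y, x ^ 5 + lin3 a b c x = y ^ 5 + lin3 a b c y → x = y) →
    ∃ r, ∀ x, lin3 a b c x = Bf r x := by decide +kernel

theorem chk_a : ∀ a b c : F8, a = 0 → (∀ y, lin3 a b c (ω ^ 25 * y) + ω ^ 5 * lin3 a b c (ω ^ 20 * y) =
    ω ^ 25 * lin3 a b c y) → ∀ y, lin3 a b c y = 0 := by decide +kernel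

theorem Bf_zero : ∀ s : F8, (∀ x, Bf s x = 0) → s = 0 := by decide +kernel

end H14.Ru
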