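import Mathlib
import Cfsg.Agent.H14.RuM
import Cfsg.Agent.H17.RQ1

/-! # Standard subgroup `Sz(8)`: codes for the elements of `Q` -/

set_option autoImplicit false
set_option linter.unusedSectionVars false

namespace H14.Ru

open Cfsg H24 H29 H7.Cay Subgroup H17.RC

variable {G : Type*} [Group G] [Finite G] {L G0 V : Subgroup G}

/-- the vector of a code of `Q / Z` -/
def vec (w : ℕ) : F8 × F8 × F8 :=
  (F8.mk ((2 * (w % 2)) ^^^ (4 * (w / 2 % 2))), F8.mk (w / 4), F8.mk (w / 32))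

/-- the code of a vector -/
def unv (p : F8 × F8 × F8) : ℕ := p.1.val / 2 + 4 * p.2.1.val + 32 * p.2.2.val

/-- squares and commutators of the generators -/
def qb (i j : ℕ) : ℕ :=
  pk 3142736433534020249795682057397232186905383908055050158080 3 (Nat.add (Nat.mul 8 i) j)

/-- the cocycle -/
noncomputable def bt (a b : ℕ) : ℕ := pk (pk BT 768 a) 3 b

/-- ordered products of generators -/
def En (e : ℕ → G) : ℕ → ℕ → G
  | 0, _ => 1
  | n + 1, w => En e n w * (if w.testBit n then e n else 1)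

/-- the cocycle of right multiplication by a generator -/
def βn : ℕ → ℕ → ℕ → ℕ
  | 0, _, _ => 0
  | n + 1, a, j => (if j = n then 0 else βn n a j) ^^^ (if a.testBit n then qb n j else 0)

theorem F8.mk_xor (a b : ℕ) : F8.mk (a ^^^ b) = F8.mk a + F8.mk b := by
  refine F8.val_inj ?_
  rw [F8.val_add]
  exact Nat.xor_mod_two_pow (n := 3)

theorem F8.mk_mod (a : ℕ) : F8.mk (a % 8) = F8.mk a := F8.val_inj (Nat.mod_mod _ _)

/-- the elements of `Z` by codes -/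
def SzD.zz (X : SzD L) (n : ℕ) : G := X.z (F8.mk n)

namespace SzD
variable (X : SzD L)
theorem zz_xor (a b : ℕ) : X.zz (a ^^^ b) = X.zz a * X.zz b := by
  rw [zz, F8.mk_xor, ← X.z_mul]; rfl
theorem zz_zero : X.zz 0 = 1 := X.z_zero
theorem zz_mod (a : ℕ) : X.zz (a % 8) = X.zz a := by rw [zz, F8.mk_mod]; rfl
theorem zz_val (a : F8) : X.zz a.val = X.z a := by rw [zz, F8.mk_val]
theorem zz_mem (a : ℕ) : X.zz a ∈ X.Z := X.z_mem_Z _
theorem zz_inj {a b : ℕ} (ha : a < 8) (hb : b < 8) (e : X.zz a = X.zz b) : a = b := by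
  rw [← F8.val_mk ha, ← F8.val_mk hb, X.z_inj e]
theorem zz_comm (a b : ℕ) : X.zz a * X.zz b = X.zz b * X.zz a := by
  rw [← zz_xor, ← zz_xor, Nat.xor_comm]
theorem zz_inv (a : ℕ) : (X.zz a)⁻¹ = X.zz a := X.z_inv _
theorem exists_zz {g : G} (h : g ∈ X.Z) : ∃ b < 8, g = X.zz b := by
  obtain ⟨b, rfl⟩ := h
  exact ⟨b.val, b.val_lt, (X.zz_val b).symm⟩
end SzD

theorem En_congr (e : ℕ → G) {a b : ℕ} : ∀ n, (∀ i < n, a.testBit i = b.testBit i) →
    En e n a = En e n b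
  | 0, _ => rfl
  | n + 1, h => by
    rw [En, En, En_congr e n fun i hi => h i (by omega), h n (by omega)]

theorem En_mem {e : ℕ → G} {H : Subgroup G} {w : ℕ} : ∀ n, (∀ i < n, e i ∈ H) → En e n w ∈ H
  | 0, _ => one_mem _
  | n + 1, h => mul_mem (En_mem n fun i hi => h i (by omega)) (by
      split_ifs
      exacts [h n (by omega), one_mem _])

theorem En_zero (e : ℕ → G) : ∀ n, En e n 0 = 1
  | 0 => rfl
  | n + 1 => by simp [En, En_zero e n]

theorem chk_qb : ∀ i : Fin 8, qf 1 1 (vec (2 ^ (i : ℕ))) = F8.mk (qb i i) ∧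
    ∀ j : Fin 8, j < i → bf 1 (vec (2 ^ (i : ℕ))) (vec (2 ^ (j : ℕ))) = F8.mk (qb i j) := by
  decide +kernel

theorem chk_β : (allF 256 fun a => allF 8 fun j => Nat.beq (bt a (Nat.pow 2 j)) (βn 8 a j)) = true := by
  decide +kernel

theorem chk_bt : (allF 256 fun b => imp2 (lt 0 b) (lit (Nat.log2 b) fun n => lit (Nat.pow 2 n) fun m =>
    lit (Nat.xor b m) fun c => and2 (and2 (lt n 8) (and2 (lt c b) (Nat.beq (bt c m) 0)))
      (allF 256 fun a => Nat.beq (bt a b) (Nat.xor (bt a c) (bt (Nat.xor a c) m))))) = true := by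
  decide +kernel

theorem chk_vec : ∀ b < 256, unv (vec b) = b ∧ (0 < b →
    vec b = vec (b ^^^ 2 ^ Nat.log2 b) + vec (2 ^ Nat.log2 b)) := by
  decide +kernel

theorem chk_unv : ∀ c ∈ ({0, ω, ω ^ 2, ω ^ 4} : Finset F8), ∀ x y : F8,
    unv (c, x, y) < 256 ∧ vec (unv (c, x, y)) = (c, x, y) := by
  decide +kernel

theorem vec_inj {a b : ℕ} (ha : a < 256) (hb : b < 256) (e : vec a = vec b) : a = b := by
  rw [← (chk_vec a ha).1, e, (chk_vec b hb).1]

/-- the case of the Rudvalis group -/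
def QD.IsRu {X : SzD L} (Y : QD X V) : Prop :=
  Y.Vs = {0, ω, ω ^ 2, ω ^ 4} ∧ Y.c1 = 1 ∧ Y.c2 = 1

/-- codes for the elements of `Q` -/
structure Fr {X : SzD L} (Y : QD X V) (ψ : ℕ → G) : Prop where
  mem : ∀ c, ψ c ∈ Y.Q
  mul : ∀ {a b}, a < 2048 → b < 2048 → ψ (mq a b) = ψ a * ψ b
  inj : ∀ {a b}, a < 2048 → b < 2048 → ψ a = ψ b → a = b
  surj : ∀ g ∈ Y.Q, ∃ c < 2048, g = ψ c
  pi : ∀ {c}, c < 2048 → Y.π (ψ c) = vec (c / 8)
  z : ∀ {b}, b < 8 → ψ b = X.zz b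
  e0 : ψ 8 = Y.v ω
  e1 : ψ 16 = Y.v (ω ^ 2)
  e2 : ψ 32 = X.u 1 0
  e3 : ψ 64 = X.u ω 0
  e4 : ψ 128 = X.u (ω ^ 2) 0
  e6 : ψ 512 = X.f ^ 3 * ψ 256 * (X.f ^ 3)⁻¹
  e7 : ψ 1024 = X.f ^ 6 * ψ 256 * (X.f ^ 6)⁻¹

namespace QD
variable {X : SzD L} (Y : QD X V)

theorem zzq {q : G} (hq : q ∈ Y.Q) (b : ℕ) : X.zz b * q = q * X.zz b := Y.zq hq _

section
variable {Y} (hr : Y.IsRu) {e : ℕ → G} (h1 : ∀ i < 8, e i ∈ Y.Q)
  (h2 : ∀ i < 8, Y.π (e i) = vec (2 ^ i))
include hr h1 h2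

theorem En_e {a : ℕ} : ∀ n ≤ 8, ∀ j < n, En e n a * e j = X.zz (βn n a j) * En e n (a ^^^ 2 ^ j)
  | 0, _, _, h => absurd h (by omega)
  | n + 1, hn, j, hj => by
    have m : ∀ w, En e n w ∈ Y.Q := fun w => En_mem n fun i hi => h1 i (by omega)
    rw [En, En, βn, Nat.testBit_xor, Nat.testBit_two_pow]
    rcases Nat.lt_succ_iff_lt_or_eq.1 hj with h | rfl
    · have ih := En_e (a := a) n (by omega) j h
      rw [if_neg h.ne, decide_eq_false h.ne, Bool.xor_false]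
      split_ifs
      · have := Y.cm (h1 n (by omega)) (h1 j (by omega))
        rw [h2 n (by omega), h2 j (by omega), hr.2.2,
          (chk_qb ⟨n, by omega⟩).2 ⟨j, by omega⟩ h, mul_inv_eq_iff_eq_mul] at this
        rw [mul_assoc, this, ← mul_assoc, ← mul_assoc, ih, X.zz_xor, mul_assoc (X.zz _),
          ← mul_assoc (X.zz _ * X.zz _), mul_assoc (X.zz _) (X.zz _), Y.zzq (m _) (qb n j)]
        rfl
      · rw [mul_one, ih, mul_one, Nat.xor_zero]
    · rw [if_pos rfl, Nat.zero_xor, En_congr e (a := a ^^^ 2 ^ j) (b := a) j fun i hi => by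
        rw [Nat.testBit_xor, Nat.testBit_two_pow, decide_eq_false hi.ne', Bool.xor_false]]
      cases a.testBit j
      · simp [X.zz_zero]
      · have := Y.sq _ (h1 j (by omega))
        rw [h2 j (by omega), hr.2.1, hr.2.2, (chk_qb ⟨j, by omega⟩).1] at this
        simp only [↓reduceIte, decide_true, Bool.xor_self, Bool.false_eq_true, mul_one]
        rw [mul_assoc, this, Y.zzq (m _)]
        rfl

theorem E_e {a j : ℕ} (ha : a < 256) (hj : j < 8) :
    En e 8 a * e j = X.zz (bt a (2 ^ j)) * En e 8 (a ^^^ 2 ^ j) := by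
  rw [En_e hr h1 h2 8 le_rfl j hj, ← nbeq.1 (allF_true.1 (allF_true.1 chk_β a ha) j hj)]
  rfl

theorem E_mul (b : ℕ) (hb : b < 256) : Y.π (En e 8 b) = vec b ∧ ∀ a < 256,
    En e 8 a * En e 8 b = X.zz (bt a b) * En e 8 (a ^^^ b) := by
  induction b using Nat.strong_induction_on with
  | _ b ih =>
    rcases Nat.eq_zero_or_pos b with rfl | h0
    · refine ⟨by rw [En_zero, Y.π_one]; decide +kernel, fun a ha => ?_⟩
      have := allF_true.1 chk_b0 a ha
      rw [and2_true, nbeq] at this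
      rw [En_zero, bt, this.1, X.zz_zero, Nat.xor_zero, mul_one, one_mul]
    · have := allF_true.1 chk_bt b hb
      simp only [imp2_true, lit_eq, and2_true, lt_true, nbeq, allF_true, xor_def, Nat.pow_eq] at this
      obtain ⟨⟨k1, k2, k3⟩, k4⟩ := this h0
      obtain ⟨i1, i2⟩ := ih _ k2 (by omega)
      have e1 := E_e hr h1 h2 (show b ^^^ 2 ^ b.log2 < 256 by omega) k1
      rw [k3, X.zz_zero, one_mul, Nat.xor_assoc, Nat.xor_self, Nat.xor_zero] at e1
      refine ⟨?_, fun a ha => ?_⟩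
      · rw [← e1, Y.π_mul _ (En_mem 8 h1) _ (h1 _ k1), i1, h2 _ k1, ← (chk_vec b hb).2 h0]
      · rw [← e1, ← mul_assoc, i2 a ha, mul_assoc, E_e hr h1 h2
          (Nat.xor_lt_two_pow (n := 8) ha (by omega)) k1, k4 a ha, X.zz_xor, mul_assoc,
          Nat.xor_assoc, Nat.xor_assoc, Nat.xor_self, Nat.xor_zero]
end

theorem exists_fr (hr : Y.IsRu) {u0 : G} (hu : u0 ∈ Y.Q) (hπ : Y.π u0 = (0, 0, 1)) :
    ∃ ψ, Fr Y ψ ∧ ψ 256 = u0 := by
  let e : ℕ → G := fun i => [Y.v ω, Y.v (ω ^ 2), X.u 1 0, X.u ω 0, X.u (ω ^ 2) 0, u0,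
    X.f ^ 3 * u0 * (X.f ^ 3)⁻¹, X.f ^ 6 * u0 * (X.f ^ 6)⁻¹].getD i 1
  have v1 : ω ∈ Y.Vs := by rw [hr.1]; decide +kernel
  have v2 : ω ^ 2 ∈ Y.Vs := by rw [hr.1]; decide +kernel
  have h1 : ∀ i < 8, e i ∈ Y.Q := fun i hi => by
    interval_cases i
    exacts [Y.V_le (Y.v_mem v1), Y.V_le (Y.v_mem v2), Y.u_mem _ _, Y.u_mem _ _, Y.u_mem _ _, hu,
      conj_mem (pow_mem Y.f_N 3) hu, conj_mem (pow_mem Y.f_N 6) hu]
  have h2 : ∀ i < 8, Y.π (e i) = vec (2 ^ i) := fun i hi => by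
    interval_cases i
    exacts [(Y.π_v _ v1).trans (by decide +kernel), (Y.π_v _ v2).trans (by decide +kernel),
      (Y.π_u _ _).trans (by decide +kernel), (Y.π_u _ _).trans (by decide +kernel),
      (Y.π_u _ _).trans (by decide +kernel), hπ.trans (by decide +kernel),
      (Y.π_fpow hu 3).trans (by rw [hπ]; decide +kernel),
      (Y.π_fpow hu 6).trans (by rw [hπ]; decide +kernel)]
  have m : ∀ w, En e 8 w ∈ Y.Q := fun w => En_mem 8 h1
  have pi : ∀ {c}, c < 2048 → Y.π (X.zz c * En e 8 (c / 8)) = vec (c / 8) := fun {c} hc => by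
    rw [Y.zzq (m _), SzD.zz, Y.π_mz (m _), (E_mul hr h1 h2 _ (by omega)).1]
  have ee : ∀ j < 8, X.zz (8 * 2 ^ j) * En e 8 (8 * 2 ^ j / 8) = e j := fun j hj => by
    have := E_e hr h1 h2 (a := 0) (by norm_num) hj
    have k := allF_true.1 chk_b0 (2 ^ j) (Nat.pow_lt_pow_right (a := 2) (n := 8) (by norm_num) hj)
    rw [and2_true, nbeq, nbeq] at k
    rw [En_zero, one_mul, bt, k.2, X.zz_zero, one_mul, Nat.zero_xor] at this
    rw [← X.zz_mod, Nat.mul_mod_right, X.zz_zero, one_mul, Nat.mul_div_cancel_left _ (by norm_num),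
      this]
  refine ⟨fun c => X.zz c * En e 8 (c / 8), ⟨fun c => mul_mem (Y.z_mem _) (m _),
    fun {a b} ha hb => ?_, fun {a b} ha hb h => ?_, fun g hg => ?_, pi, fun {b} hb => ?_,
    ee 0 (by norm_num), ee 1 (by norm_num), ee 2 (by norm_num), ee 3 (by norm_num),
    ee 4 (by norm_num), (ee 6 (by norm_num)).trans ?_, (ee 7 (by norm_num)).trans ?_⟩,
    ee 5 (by norm_num)⟩
  · rw [mq_div, mq, xor_def, xor_def, X.zz_xor, X.zz_xor, shr3, shr3, mul_assoc, mul_assoc,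
      mul_assoc, ← mul_assoc (En _ _ _), ← Y.zzq (m _), mul_assoc,
      (E_mul hr h1 h2 _ (by omega)).2 _ (by omega)]
    rfl
  · have e1 := vec_inj (by omega) (by omega) ((pi ha).symm.trans ((congrArg Y.π h).trans (pi hb)))
    rw [e1, mul_left_inj, ← X.zz_mod, ← X.zz_mod b] at h
    have := X.zz_inj (Nat.mod_lt _ (by norm_num)) (Nat.mod_lt _ (by norm_num)) h
    omega
  · obtain ⟨k1, k2⟩ := chk_unv _ (hr.1 ▸ Y.π_mem g hg) (Y.π g).2.1 (Y.π g).2.2
    obtain ⟨b, e1⟩ := Y.eqz hg (m _) (k2.symm.trans (E_mul hr h1 h2 _ k1).1.symm)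
    generalize unv _ = w at k1 e1
    have := b.val_lt
    refine ⟨8 * w + b.val, by omega, e1.trans ?_⟩
    rw [← X.zz_mod, show (8 * w + b.val) % 8 = b.val by omega,
      show (8 * w + b.val) / 8 = w by omega, Y.zzq (m _), X.zz_val]
  · rw [Nat.div_eq_of_lt hb, En_zero, mul_one]
  · exact congrArg (fun x => X.f ^ 3 * x * (X.f ^ 3)⁻¹) (ee 5 (by norm_num)).symm
  · exact congrArg (fun x => X.f ^ 6 * x * (X.f ^ 6)⁻¹) (ee 5 (by norm_num)).symm

end QD

end H14.Ru
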