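import Mathlib
import Cfsg.Agent.H14.RuM

/-! # Standard subgroup `Sz(8)`: automorphisms of `Q` on codes -/

set_option autoImplicit false

namespace H14.Ru

open H29 H7.Cay

/-- an endomorphism of the codes acting on `Z` as `R(k)` -/
structure Hm (θ : ℕ → ℕ) (k : ℕ) : Prop where
  lt : ∀ {c}, c < 2048 → θ c < 2048
  mul : ∀ {a b}, a < 2048 → b < 2048 → θ (mq a b) = mq (θ a) (θ b)
  z : ∀ {b}, b < 8 → θ b = za k b

/-- product of the members of a list selected by the bits of `w` -/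
noncomputable def au (l : List ℕ) : ℕ → ℕ → ℕ :=
  List.rec (motive := fun _ => ℕ → ℕ → ℕ) (fun _ a => a)
    (fun x _ ih w a => lit (Bool.rec a (mq a x) (tb w 0)) fun a' => lit (Nat.shiftRight w 1) fun w' =>
      ih w' a') l

/-- the endomorphism with given images of the generators -/
noncomputable def aut (l : List ℕ) (k c : ℕ) : ℕ :=
  lit c fun c => Nat.xor (za k (Nat.land c 7)) (au l (Nat.shiftRight c 3) 0)

/-- the generators -/
def ES : List ℕ := [8, 16, 32, 64, 128, 256, 512, 1024]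

/-- commutator test -/
noncomputable def cc (k a b x y : ℕ) : Bool :=
  Nat.beq (mq x y) (Nat.xor (za k (Nat.xor (mq a b) (mq b a))) (mq y x))

/-- square test -/
noncomputable def sq (k a x : ℕ) : Bool := Nat.beq (mq x x) (za k (mq a a))

/-- conjugation -/
noncomputable def cjq (q c : ℕ) : ℕ := mq (mq q c) (Nat.xor q (mq q q))

/-- membership test -/
noncomputable def inL (l : List ℕ) (a : ℕ) : Bool := anyL l fun b => Nat.beq a b

theorem inL_true {l : List ℕ} {a : ℕ} : inL l a = true ↔ a ∈ l := by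
  simp [inL, anyL_true]

/-- evaluate the members of a list -/
noncomputable def mapL (f : ℕ → ℕ) (l : List ℕ) : (List ℕ → Bool) → Bool :=
  List.rec (motive := fun _ => (List ℕ → Bool) → Bool) (fun k => k [])
    (fun x _ ih k => lit (f x) fun y => ih fun r => k (y :: r)) l

theorem mapL_eq (f : ℕ → ℕ) : ∀ (l : List ℕ) (k : List ℕ → Bool), mapL f l k = k (l.map f)
  | [], _ => rfl
  | x :: l, k => mapL_eq f l fun r => k (f x :: r)

theorem ES_lt : ∀ x ∈ ES, x < 2048 := by decide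

theorem xor_lt {a b : ℕ} (ha : a < 2048) (hb : b < 2048) : a ^^^ b < 2048 :=
  Nat.xor_lt_two_pow (n := 11) ha hb

theorem cq_lt {q c : ℕ} (hq : q < 2048) (hc : c < 2048) : cjq q c < 2048 :=
  mq_lt (mq_lt hq hc) (xor_lt hq (mq_lt hq hq))

theorem cm_lt (a b : ℕ) : mq a b ^^^ mq b a < 8 := by
  have := xor_div8 (mq a b) (mq b a)
  rw [mq_div, mq_div, Nat.xor_comm (a / 8), Nat.xor_self] at this
  omega

theorem sq_lt (a : ℕ) : mq a a < 8 := by
  have := mq_div a a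
  rw [Nat.xor_self] at this
  omega

theorem xor_split (c : ℕ) : c % 8 ^^^ 8 * (c / 8) = c := by
  refine Nat.eq_of_testBit_eq fun j => ?_
  have e := Nat.testBit_two_pow_mul_add (c / 8) (i := 3) (b := c % 8) (Nat.mod_lt _ (by norm_num)) j
  have e0 := Nat.testBit_two_pow_mul_add (c / 8) (i := 3) (b := 0) (by norm_num) j
  rw [show 2 ^ 3 = 8 from rfl] at e e0
  rw [Nat.div_add_mod] at e
  rw [Nat.add_zero] at e0
  rw [Nat.testBit_xor, e0, e]
  split_ifs with hj
  · simp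
  · have : (c % 8).testBit j = false := Nat.testBit_lt_two_pow (lt_of_lt_of_le
      (Nat.mod_lt _ (by norm_num)) (Nat.pow_le_pow_right (n := 2) (by norm_num) (show 3 ≤ j by omega)))
    simp [this]

theorem chk_es : (allF 256 fun w => Nat.beq (au ES w 0) (Nat.mul 8 w)) = true := by decide +kernel

namespace Hm
variable {θ : ℕ → ℕ} {k : ℕ} (h : Hm θ k)
include h

theorem zero : θ 0 = 0 := by
  have := h.mul (a := 0) (b := 0) (by norm_num) (by norm_num)
  rw [mq_z_left (by norm_num) (by norm_num), mq_z_left (h.z (b := 0) (by norm_num) ▸ za_lt _ _)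
    (h.lt (by norm_num))] at this
  simpa using this

theorem xz {b y : ℕ} (hb : b < 8) (hy : y < 2048) : θ (b ^^^ y) = za k b ^^^ θ y := by
  rw [← mq_z_left hb hy, h.mul (by omega) hy, h.z hb, mq_z_left (za_lt _ _) (h.lt hy)]

theorem au : ∀ (l : List ℕ), (∀ x ∈ l, x < 2048) → ∀ w a, a < 2048 →
    θ (au l w a) = au (l.map θ) w (θ a)
  | [], _, _, _, _ => rfl
  | x :: l, hl, w, a, ha => by
    have hx := hl x List.mem_cons_self
    change θ (Ru.au l _ (Bool.rec a (mq a x) (tb w 0))) =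
      Ru.au (l.map θ) _ (Bool.rec (θ a) (mq (θ a) (θ x)) (tb w 0))
    cases tb w 0
    · exact au l (fun y hy => hl y (List.mem_cons_of_mem _ hy)) _ _ ha
    · rw [← h.mul ha hx]
      exact au l (fun y hy => hl y (List.mem_cons_of_mem _ hy)) _ _ (mq_lt ha hx)

theorem aut {c : ℕ} (hc : c < 2048) : θ c = aut (ES.map θ) k c := by
  have e := h.au ES ES_lt (c / 8) 0 (by norm_num)
  rw [nbeq.1 (allF_true.1 chk_es (c / 8) (by omega)), h.zero] at e
  rw [Ru.aut, lit_eq, land7, shr3, ← e, xor_def, ← h.xz (by omega) (by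
    change 8 * (c / 8) < 2048; omega)]
  exact congrArg θ (xor_split c).symm

theorem cc {a b : ℕ} (ha : a < 2048) (hb : b < 2048) : cc k a b (θ a) (θ b) = true := by
  rw [Ru.cc, nbeq, xor_def, xor_def, ← h.mul ha hb, ← h.mul hb ha, ← h.xz (cm_lt a b) (mq_lt hb ha),
    Nat.xor_assoc, Nat.xor_self, Nat.xor_zero]

theorem sq {a : ℕ} (ha : a < 2048) : sq k a (θ a) = true := by
  rw [Ru.sq, nbeq, ← h.mul ha ha, h.z (sq_lt a)]

theorem eq_act {l : List ℕ} (e : ES.map θ = l)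
    (hl : (allF 2048 fun c => Nat.beq (Ru.aut l k c) (act k c)) = true) {c : ℕ} (hc : c < 2048) :
    θ c = act k c := by
  rw [h.aut hc, e, nbeq.1 (allF_true.1 hl c hc)]

end Hm

/-! ### the element of order `7` -/

theorem chk_F : (allF 2048 fun c => Nat.beq (aut [8, 16, 64, 128, 98, 1795, 1282, 256] 1 c)
    (act 1 c)) = true := by decide +kernel

theorem chk_F1 : (allF 8 fun a => allF 8 fun b => mapL id [8, 16, 64, 128, 98, Nat.add 1792 a,
    Nat.add 1280 b, 256] fun l => imp2 (and2 (Nat.beq (aut l 1 (aut l 1 (aut l 1 256))) 512)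
      (Nat.beq (aut l 1 (aut l 1 (aut l 1 512))) 1024)) (and2 (Nat.beq a 3) (Nat.beq b 2))) = true := by
  decide +kernel

theorem Hm.pinF {θ : ℕ → ℕ} (h : Hm θ 1) (e0 : θ 8 = 8) (e1 : θ 16 = 16) (e2 : θ 32 = 64)
    (e3 : θ 64 = 128) (e4 : θ 128 = 98) (e5 : θ 256 / 8 = 224) (e6 : θ 512 / 8 = 160)
    (e7 : θ 1024 = 256) (r1 : θ (θ (θ 256)) = 512) (r2 : θ (θ (θ 512)) = 1024) {c : ℕ}
    (hc : c < 2048) : θ c = act 1 c := by
  have e : ES.map θ = [8, 16, 64, 128, 98, 1792 + θ 256 % 8, 1280 + θ 512 % 8, 256] := by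
    simp only [ES, List.map, e0, e1, e2, e3, e4, e7]
    congr 5
    congr 1
    · omega
    · congr 1; omega
  have := allF_true.1 (allF_true.1 chk_F1 (θ 256 % 8) (by omega)) (θ 512 % 8) (by omega)
  simp only [mapL_eq, List.map_id, imp2_true, and2_true, nbeq, Nat.add_eq, ← e] at this
  have a3 : ∀ c < 2048, Ru.aut (ES.map θ) 1 (Ru.aut (ES.map θ) 1 (Ru.aut (ES.map θ) 1 c)) =
      θ (θ (θ c)) := fun c hc => by
    rw [← h.aut hc, ← h.aut (h.lt hc), ← h.aut (h.lt (h.lt hc))]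
  rw [a3 _ (by norm_num), a3 _ (by norm_num)] at this
  rw [(this ⟨r1, r2⟩).1, (this ⟨r1, r2⟩).2] at e
  exact h.eq_act e chk_F hc

/-! ### the element of order `3` -/

theorem chk_S : (allF 2048 fun c => Nat.beq (aut [16, 24, 32, 128, 197, 256, 1024, 1543] 7 c)
    (act 7 c)) = true := by decide +kernel

theorem chk_2 : (allF 2048 fun c => and2 (Nat.beq (act 1 (act 1 c)) (act 2 c))
    (Nat.beq (act 7 (act 7 c)) (act 14 c))) = true := by decide +kernel

theorem chk_S1 : (allF 2048 fun a => lit (act 2 a) fun a2 => and2 (and2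
    (imp2 (and2 (sq 7 32 a) (Nat.beq (act 2 (act 2 a2)) (Nat.xor 4 (mq a a2)))) (Nat.beq a 32))
    (imp2 (and2 (sq 7 256 a) (lit (act 2 (act 2 a2)) fun a6 =>
      Nat.beq a2 (Nat.xor 5 (mq (mq a a6) (act 2 (act 2 (act 2 a6))))))) (Nat.beq (Nat.div a 8) 32)))
    (imp2 (Nat.beq a2 a) (and2 (imp2 (cc 7 8 256 a 256) (Nat.beq a 16))
      (imp2 (cc 7 16 256 a 256) (Nat.beq a 24))))) = true := by decide +kernel

theorem cF : act 1 8 = 8 ∧ act 1 16 = 16 ∧ act 1 32 = 64 ∧ act 1 64 = 128 ∧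
    act 1 128 = 2 ^^^ mq 32 64 ∧ act 1 (act 1 (act 1 256)) = 512 ∧ act 1 (act 1 (act 1 512)) = 1024 ∧
    act 1 256 = 3 ^^^ mq (mq 256 512) 1024 ∧ za 7 2 = 4 ∧ za 7 3 = 5 ∧ act 2 32 = 128 ∧
    act 2 128 = 197 ∧ act 2 (act 2 (act 2 256)) = 1024 ∧ act 2 (act 2 (act 2 1024)) = 1543 := by
  decide +kernel

theorem chk_S2 : ∀ c < 8, za 7 (za 7 c) ^^^ (za 7 c ^^^ c) = 0 → ∃ b < 8, za 7 b ^^^ c = b := by
  decide +kernel

section
variable {θ : ℕ → ℕ} (h : Hm θ 7) (r : ∀ c < 2048, θ (act 1 c) = act 1 (act 1 (θ c)))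
include h r

theorem Hm.r2 {c : ℕ} (hc : c < 2048) : θ (act 1 c) = act 2 (θ c) := by
  have := allF_true.1 chk_2 _ (h.lt hc)
  rw [and2_true, nbeq] at this
  rw [r c hc, this.1]

theorem Hm.r6 {c : ℕ} (hc : c < 2048) : θ (act 1 (act 1 (act 1 c))) = act 2 (act 2 (act 2 (θ c))) := by
  rw [h.r2 r (act_lt _ _), h.r2 r (act_lt _ _), h.r2 r hc]

theorem Hm.pinS1 (r3 : θ (θ (θ 256)) = 256) : ∃ b < 8, θ (b ^^^ 256) = b ^^^ 256 := by
  obtain ⟨-, -, -, -, -, c6, c7, c8, -, c10, -⟩ := cF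
  have := allF_true.1 chk_S1 _ (h.lt (c := 256) (by norm_num))
  simp only [lit_eq, and2_true, imp2_true, nbeq, xor_def] at this
  have e := this.1.2 ⟨h.sq (by norm_num), by
    rw [← h.r6 r (c := 256) (by norm_num), c6, ← h.r6 r (c := 512) (by norm_num), c7,
      ← h.r2 r (c := 256) (by norm_num), c8,
      h.xz (by norm_num) (mq_lt (mq_lt (by norm_num) (by norm_num)) (by norm_num)), c10,
      h.mul (mq_lt (by norm_num) (by norm_num)) (by norm_num), h.mul (by norm_num) (by norm_num)]⟩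
  have e1 := xor_split (θ 256)
  rw [show θ 256 / 8 = 32 from e] at e1
  have lt : θ 256 % 8 < 8 := by omega
  generalize θ 256 % 8 = c at e1 lt
  replace e1 : θ 256 = c ^^^ 256 := e1.symm
  rw [e1, h.xz lt (by norm_num), e1, ← Nat.xor_assoc, h.xz (Nat.xor_lt_two_pow (n := 3) (za_lt _ _) lt)
    (by norm_num), ← h.z (Nat.xor_lt_two_pow (n := 3) (za_lt _ _) lt), h.xz (za_lt _ _) (by omega),
    h.z lt, e1, ← Nat.xor_assoc] at r3
  obtain ⟨b, hb, e2⟩ := chk_S2 c lt (by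
    rw [← Nat.xor_assoc, ← Nat.xor_self 256, ← r3, Nat.xor_assoc _ 256, r3, Nat.xor_self, Nat.xor_zero])
  exact ⟨b, hb, by rw [h.xz hb (by norm_num), e1, ← Nat.xor_assoc, e2]⟩

theorem Hm.pinS (e5 : θ 256 = 256) {c : ℕ} (hc : c < 2048) : θ c = act 7 c := by
  obtain ⟨c1, c2, c3, c4, c5, c6, c7, -, c9, -, c11, c12, c13, c14⟩ := cF
  have k0 := allF_true.1 chk_S1 _ (h.lt (c := 8) (by norm_num))
  have k1 := allF_true.1 chk_S1 _ (h.lt (c := 16) (by norm_num))
  have k2 := allF_true.1 chk_S1 _ (h.lt (c := 32) (by norm_num))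
  simp only [lit_eq, and2_true, imp2_true, nbeq, xor_def] at k0 k1 k2
  have cc : ∀ a < 2048, Ru.cc 7 a 256 (θ a) 256 = true := fun a ha => by
    have := h.cc ha (b := 256) (by norm_num)
    rwa [e5] at this
  have e0 := (k0.2 (by rw [← h.r2 r (by norm_num), c1])).1 (cc _ (by norm_num))
  have e1 := (k1.2 (by rw [← h.r2 r (by norm_num), c2])).2 (cc _ (by norm_num))
  have e2 := k2.1.1 ⟨h.sq (by norm_num), by
    rw [← h.r6 r (by norm_num), ← h.r2 r (by norm_num), c3, c4, c5,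
      h.xz (by norm_num) (mq_lt (by norm_num) (by norm_num)), c9, h.mul (by norm_num) (by norm_num)]⟩
  have e3 : θ 64 = 128 := by rw [← c3, h.r2 r (by norm_num), e2, c11]
  have e4 : θ 128 = 197 := by rw [← c4, h.r2 r (by norm_num), e3, c12]
  have e6 : θ 512 = 1024 := by rw [← c6, h.r6 r (by norm_num), e5, c13]
  have e7 : θ 1024 = 1543 := by rw [← c7, h.r6 r (by norm_num), e6, c14]
  exact h.eq_act (by simp only [ES, List.map, e0, e1, e2, e3, e4, e5, e6, e7]) chk_S hc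
end

/-! ### the involution -/

/-- the action of `w` -/
def IW : List ℕ := [1105, 716, 256, 1609, 1241, 32, 1748, 1164]
/-- change of coordinates -/
noncomputable def IC (e : ℕ) : List ℕ := [8, 16, 32, 64, 128, Nat.xor e 256,
  act 1 (act 1 (act 1 (Nat.xor e 256))), act 1 (act 1 (act 1 (act 1 (act 1 (act 1 (Nat.xor e 256))))))]
/-- candidates -/
def Q8 : List ℕ := [0, 1, 32, 33, 256, 257, 288, 289]
/-- candidates -/
def A0 : List ℕ := [0, 2, 4, 6, 8, 10, 12, 14, 16, 18, 20, 22, 24, 26, 28, 30, 592, 594, 596, 598, 648,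
  650, 652, 654, 712, 714, 716, 718, 1105, 1107, 1109, 1111, 1176, 1178, 1180, 1182, 1233, 1235, 1237,
  1239, 1625, 1627, 1629, 1631, 1688, 1690, 1692, 1694, 1736, 1738, 1740, 1742]
/-- candidates -/
def B0 : List ℕ := [192, 194, 196, 198, 200, 202, 204, 206, 208, 210, 212, 214, 216, 218, 220, 222, 537,
  539, 541, 543, 1096, 1098, 1100, 1102, 1153, 1155, 1157, 1159, 1224, 1226, 1228, 1230, 1609, 1611,
  1613, 1615, 1672, 1674, 1676, 1678, 1752, 1754, 1756, 1758]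
/-- candidates -/
def C0 : List ℕ := [512, 514, 516, 518, 1041, 1043, 1045, 1047, 1601, 1603, 1605, 1607, 1664, 1666,
  1668, 1670, 1744, 1746, 1748, 1750]

theorem chk_W : (allF 2048 fun c => Nat.beq (aut IW 21 c) (act 21 c)) = true := by decide +kernel

theorem chk_W1 : (allF 2048 fun a => lit (act 14 a) fun b => lit (act 14 b) fun c => lit (mq a b) fun d =>
    and2 (and2 (imp2 (Nat.beq b a) (inL Q8 a)) (imp2 (and2 (Nat.beq c d) (sq 21 8 a)) (inL A0 a)))
      (and2 (imp2 (and2 (Nat.beq c (Nat.xor 7 d)) (sq 21 64 a)) (inL B0 a))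
        (imp2 (and2 (Nat.beq c (Nat.xor 5 d)) (sq 21 512 a)) (inL C0 a)))) = true := by
  decide +kernel

theorem chk_W2 : (allL Q8 fun x => allL Q8 fun u =>
    allL A0 fun a => imp2 (and2 (cc 21 8 32 a x) (cc 21 8 256 a u)) <|
    allL B0 fun b => imp2 (and2 (cc 21 64 32 b x) (cc 21 64 256 b u)) <|
    allL C0 fun c => imp2 (and2 (cc 21 512 32 c x) (cc 21 512 256 c u)) <|
    mapL id [a, act 14 a, x, b, act 14 b, u, c, act 14 c] fun l =>
    mapL (fun e => Nat.add (Nat.mul 2048 e)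
      (aut l 21 (act 1 (aut l 21 (act 1 (aut l 21 (act 1 e))))))) ES fun T =>
    allF 256 fun q => lit (Nat.mul 8 q) fun q =>
      imp2 (allL T fun p => Nat.beq (mq q (hi p)) (mq (lo p) q)) <|
      anyL [0, 1] fun e => mapL id (IC e) fun m => anyL Q8 fun q =>
        and2 (and2 (and2 (lt e 8) (Nat.beq (act 7 (Nat.xor e 256)) (Nat.xor e 256)))
          (and2 (lt q 2048) (Nat.beq (act 7 q) q)))
          (allL IW.zipIdx fun p => Nat.beq (aut l 21 (cjq q (nth 0 m p.2))) (aut m 0 p.1))) = true := by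
  decide +kernel

theorem cS : act 7 8 = 16 ∧ act 7 16 = mq 8 16 ∧ act 7 32 = 32 ∧ act 7 64 = 128 ∧
    act 7 128 = 5 ^^^ mq 64 128 ∧ act 7 256 = 256 ∧ act 7 512 = 1024 ∧ act 7 1024 = 7 ^^^ mq 512 1024 ∧
    za 21 5 = 7 ∧ za 21 7 = 5 := by decide +kernel

theorem Hm.pinW {θ : ℕ → ℕ} (h : Hm θ 21) (r : ∀ c < 2048, θ (act 7 c) = act 7 (act 7 (θ c)))
    {q : ℕ} (hq : q < 256) (hi : ∀ c < 2048,
      mq (8 * q) c = mq (θ (act 1 (θ (act 1 (θ (act 1 c)))))) (8 * q)) :
    ∃ e < 8, act 7 (e ^^^ 256) = e ^^^ 256 ∧ ∃ q < 2048, act 7 q = q ∧ ∀ p ∈ IW.zipIdx,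
      Ru.aut (ES.map θ) 21 (cjq q (nth 0 (IC e) p.2)) = Ru.aut (IC e) 0 p.1 := by
  obtain ⟨c1, c2, c3, c4, c5, c6, c7, c8, c9, c10⟩ := cS
  have r2 : ∀ c < 2048, θ (act 7 c) = act 14 (θ c) := fun c hc => by
    have := allF_true.1 chk_2 _ (h.lt hc)
    rw [and2_true, nbeq, nbeq] at this
    rw [r c hc, this.2]
  have k := fun c (hc : c < 2048) => allF_true.1 chk_W1 _ (h.lt hc)
  simp only [lit_eq, and2_true, imp2_true, nbeq, xor_def, inL_true] at k
  have e1 := r2 8 (by norm_num)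
  have e4 := r2 64 (by norm_num)
  have e7 := r2 512 (by norm_num)
  rw [c1] at e1
  rw [c4] at e4
  rw [c7] at e7
  have m0 := (k 8 (by norm_num)).1.2 ⟨by
    rw [← e1, ← r2 _ (by norm_num), c2, h.mul (by norm_num) (by norm_num)], h.sq (by norm_num)⟩
  have m2 := (k 32 (by norm_num)).1.1 (by rw [← r2 _ (by norm_num), c3])
  have m3 := (k 64 (by norm_num)).2.1 ⟨by
    rw [← e4, ← r2 _ (by norm_num), c5, h.xz (by norm_num) (mq_lt (by norm_num) (by norm_num)), c9,
      h.mul (by norm_num) (by norm_num)], h.sq (by norm_num)⟩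
  have m5 := (k 256 (by norm_num)).1.1 (by rw [← r2 _ (by norm_num), c6])
  have m6 := (k 512 (by norm_num)).2.2 ⟨by
    rw [← e7, ← r2 _ (by norm_num), c8, h.xz (by norm_num) (mq_lt (by norm_num) (by norm_num)), c10,
      h.mul (by norm_num) (by norm_num)], h.sq (by norm_num)⟩
  have := chk_W2
  simp only [allL_true, imp2_true, and2_true, mapL_eq, List.map_id, allF_true, lit_eq, nbeq, anyL_true,
    lt_true, Nat.add_eq, Nat.mul_eq, xor_def] at this
  have := this _ m2 _ m5 _ m0 ⟨h.cc (by norm_num) (by norm_num), h.cc (by norm_num) (by norm_num)⟩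
    _ m3 ⟨h.cc (by norm_num) (by norm_num), h.cc (by norm_num) (by norm_num)⟩
    _ m6 ⟨h.cc (by norm_num) (by norm_num), h.cc (by norm_num) (by norm_num)⟩ q hq
  rw [← e1, ← e4, ← e7] at this
  obtain ⟨e, -, q', -, ⟨⟨a1, a2⟩, a3, a4⟩, a5⟩ := this fun p hp => by
    obtain ⟨c, hc, rfl⟩ := List.mem_map.1 hp
    rw [show [θ 8, θ 16, θ 32, θ 64, θ 128, θ 256, θ 512, θ 1024] = ES.map θ from rfl]
    rw [← h.aut (act_lt _ _), ← h.aut (act_lt _ _), ← h.aut (act_lt _ _), hi_eq, lo_eq]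
    have := h.lt (act_lt 1 (θ (act 1 (θ (act 1 c)))))
    rw [show ∀ t < 2048, (2048 * c + t) / 2048 = c by omega, show ∀ t < 2048, (2048 * c + t) % 2048 = t by omega]
    exacts [hi c (ES_lt c hc), this, this]
  exact ⟨e, a1, a2, q', a3, a4, a5⟩

theorem chk_cz : (allF 2048 fun c => imp2 (allL ES fun e => Nat.beq (mq c e) (mq e c)) (lt c 8)) = true := by
  decide +kernel

theorem chk_rel : (∀ e ∈ ES, act 21 (act 21 e) = e ∧
    act 21 (act 1 (act 21 (act 1 (act 21 (act 1 e))))) = e) ∧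
    ∀ c < 8, (act 7 c = c → c = 0 ∨ c = 1) ∧ (act 21 (act 1 c) = c → c = 0 ∨ c = 6) := by
  decide +kernel

end H14.Ru
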