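import Mathlib
import Cfsg.Agent.H17.RM1
import Cfsg.Agent.H17.RM2

/-! # Standard subgroup `Sz(8)`: actions on `Z` and `Q` -/

set_option autoImplicit false
set_option linter.unusedSectionVars false

namespace H14.Ru

open Cfsg H24 H29 H7.Cay Subgroup H17.RC

variable {G : Type*} [Group G] [Finite G] {L G0 V : Subgroup G}

/-- the index of an automorphism of `Z` -/
def KT : ℕ := 0x466e023900000021007e5a0095000062a60000189000002b7200000a53000013004332007a0000008b9d255f00000000000000000000000099571e820000000000000000000088000029009a5c00760050002f0007004a000006006b3d00a3008d0066001500000077361040000000000000000000000005003c6a0049002e00000d004f750000000000000000000f3500003f7d00006500001b008ca2000028005ba00087001d56000081980000000000000000000000784100001137005d009b0089002300168e0000a4670000000000000000000000938300001f58003e006c004b00000008510000703000000000000000000000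0085600000269e009600002200547f007b0000140033440000473a0000036f0000000000000000004d730b2c0000000091a71963000000000000000000000000001a00a192006400450034007c000e00000c00744e002d008000550097001c009f612786000000000000000000000000693b044800000000000000000000000000002a52097100000000688f17a50000016d0000384c0000249c00005e8a0000314212790000000059842094000000000000000000000000000000000000000000000000000000000000000000000000000000000000000000000000000000000000000000000000000000000000000000000000000000000000000000000000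

/-- the index of an automorphism of `Z` -/
def kt (x y z : ℕ) : ℕ := pk KT 8 (Nat.add x (Nat.add (Nat.mul 8 y) (Nat.mul 64 z)))

set_option synthInstance.maxSize 2000 in
theorem chk_kt : ∀ x < 8, ∀ y < 8, ∀ z < 8,
    (∀ a ∈ [x, y, x ^^^ y, z, x ^^^ z, y ^^^ z, x ^^^ y ^^^ z], a ≠ 0) → kt x y z < 168 ∧
      ∀ b < 8, za (kt x y z) b = [0, x, y, x ^^^ y, z, x ^^^ z, y ^^^ z, x ^^^ y ^^^ z].getD b 0 := by
  decide +kernel

theorem chk_mk : (allF 168 fun k => and2 (Nat.beq (kt (za k 1) (za k 2) (za k 4)) k)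
    (allF 168 fun l => lit (Ru.mk k l) fun m => allF 8 fun b => Nat.beq (za m b) (za k (za l b)))) = true := by
  decide +kernel

theorem za_zero0 : ∀ b < 8, za 0 b = b := by decide +kernel

/-- `g` acts on `Z` as `R(k)` -/
def SzD.ZA (X : SzD L) (g : G) (k : ℕ) : Prop :=
  k < 168 ∧ ∀ b < 8, g * X.zz b * g⁻¹ = X.zz (za k b)

namespace SzD
variable {X : SzD L} {g x y : G} {k l : ℕ}

theorem exists_za (hg : g ∈ N[X.Z]) : ∃ k, X.ZA g k := by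
  choose θ h1 h2 using fun b => X.exists_zz (conj_mem hg (X.zz_mem b))
  have a : ∀ a b, θ (a ^^^ b) = θ a ^^^ θ b := fun a b => X.zz_inj (h1 _)
    (Nat.xor_lt_two_pow (n := 3) (h1 _) (h1 _)) (by rw [← h2, X.zz_xor, X.zz_xor, ← h2, ← h2, conj_mul])
  have n : ∀ b < 8, b ≠ 0 → θ b ≠ 0 := fun b hb h0 e => h0 (X.zz_inj hb (by norm_num) (by
    have := h2 b
    rwa [e, X.zz_zero, conj_eq_one_iff, ← X.zz_zero] at this))
  have e3 : θ 3 = θ 1 ^^^ θ 2 := a 1 2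
  have e5 : θ 5 = θ 1 ^^^ θ 4 := a 1 4
  have e6 : θ 6 = θ 2 ^^^ θ 4 := a 2 4
  have e7 : θ 7 = θ 1 ^^^ θ 2 ^^^ θ 4 := e3 ▸ a 3 4
  have e0 : θ 0 = 0 := (a 0 0).trans (Nat.xor_self _)
  obtain ⟨k, k0⟩ := chk_kt _ (h1 1) _ (h1 2) _ (h1 4) (by
    rw [← e7, ← e3, ← e5, ← e6]
    simp only [List.forall_mem_cons, List.not_mem_nil, false_imp_iff, implies_true, and_true]
    refine ⟨n _ ?_ ?_, n _ ?_ ?_, n _ ?_ ?_, n _ ?_ ?_, n _ ?_ ?_, n _ ?_ ?_, n _ ?_ ?_⟩ <;> norm_num)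
  refine ⟨_, k, fun b hb => (h2 b).trans (congrArg X.zz ?_)⟩
  rw [k0 b hb]
  interval_cases b
  exacts [e0, rfl, rfl, e3, rfl, e5, e6, e7]

theorem ZA.mul (h1 : X.ZA x k) (h2 : X.ZA y l) : X.ZA (x * y) (Ru.mk k l) :=
  ⟨mk_lt h1.1 h2.1, fun b hb => by
    have := allF_true.1 chk_mk k h1.1
    simp only [and2_true, allF_true, lit_eq, nbeq] at this
    rw [this.2 l h2.1 b hb, ← h1.2 _ (za_lt _ _), ← h2.2 b hb]
    group⟩

theorem ZA.uniq (h1 : X.ZA x k) (h2 : X.ZA x l) : k = l := by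
  have e : ∀ b < 8, za k b = za l b := fun b hb =>
    X.zz_inj (za_lt _ _) (za_lt _ _) ((h1.2 b hb).symm.trans (h2.2 b hb))
  have k1 := allF_true.1 chk_mk k h1.1
  have k2 := allF_true.1 chk_mk l h2.1
  rw [and2_true, nbeq] at k1 k2
  rw [← k1.1, ← k2.1, e 1 (by norm_num), e 2 (by norm_num), e 4 (by norm_num)]

theorem za_of_C (h : x ∈ C[X.Z]) : X.ZA x 0 := ⟨by norm_num, fun b hb => by
  rw [conj_eq_of_mem_C h (X.zz_mem b), za_zero0 b hb]⟩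

theorem ZA.cent (h1 : X.ZA x k) (h2 : X.ZA y k) : y⁻¹ * x ∈ C[X.Z] := mem_C'.2 fun z hz => by
  obtain ⟨b, hb, rfl⟩ := X.exists_zz hz
  have := (h1.2 b hb).trans (h2.2 b hb).symm
  calc _ = y⁻¹ * (x * X.zz b * x⁻¹) * x := by group
    _ = _ := by rw [this]; group

theorem ZA.of_eq (h : X.ZA x k) (e : k = l) : X.ZA x l := e ▸ h

theorem ZA.mul_C (h : X.ZA x k) (hy : y ∈ C[X.Z]) : X.ZA (x * y) k := ⟨h.1, fun b hb => by
  rw [← h.2 b hb, ← conj_eq_of_mem_C hy (X.zz_mem b)]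
  rw [conj_eq_of_mem_C hy (X.zz_mem b), show x * y * X.zz b * (x * y)⁻¹ =
    x * (y * X.zz b * y⁻¹) * x⁻¹ by group, conj_eq_of_mem_C hy (X.zz_mem b)]⟩

theorem ZA.C_mul (h : X.ZA x k) (hy : y ∈ C[X.Z]) : X.ZA (y * x) k := ⟨h.1, fun b hb => by
  rw [show y * x * X.zz b * (y * x)⁻¹ = y * (x * X.zz b * x⁻¹) * y⁻¹ by group, h.2 b hb,
    conj_eq_of_mem_C hy (X.zz_mem _)]⟩

theorem za_f (X : SzD L) : X.ZA X.f 1 := ⟨by norm_num, fun b hb => by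
  rw [zz, X.f_z, zz, (by decide +kernel : ∀ b < 8, ω ^ 5 * F8.mk b = F8.mk (za 1 b)) b hb]⟩

end SzD

/-- words for `σ` -/
def W7 : List (List ℕ) := [[0, 1, 1, 0, 0, 0, 1], [0, 1, 1, 0, 0, 0, 1, 0], [0, 1, 1, 0, 1, 0, 0, 1], [0, 1, 1, 1, 0, 0, 1, 1], [0, 1, 1, 1, 0, 0, 1, 1, 0], [0, 1, 1, 1, 0, 0, 1, 1, 0, 0], [0, 1, 1, 1, 0, 1, 1], [0, 1, 1, 1, 0, 1, 1, 0], [0, 1, 1, 1, 0, 1, 1, 0, 0], [1, 0, 1, 1, 1, 1, 0, 1, 1], [1, 1, 0, 0, 0, 1], [1, 1, 0, 0, 0, 1, 0], [1, 1, 0, 1, 0, 0, 1], [1, 1, 0, 1, 0, 0, 1, 0], [1, 1, 1, 0, 0, 1, 1], [1, 1, 1, 0, 0, 1, 1, 0], [1, 1, 1, 0, 0, 1, 1, 0, 0], [1, 1, 1, 0, 0, 1, 1, 0, 0, 0], [1, 1, 1, 0, 1, 1], [1, 1, 1, 0, 1, 1, 0], [1, 1, 1, 0, 1, 1, 0, 0]]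
/-- words for `w` -/
def W21 : List (List ℕ) := [[0, 0, 0, 0, 1, 0, 0, 0, 1], [0, 0, 0, 0, 1, 1, 1, 0], [0, 0, 0, 1, 1, 1, 0, 0], [0, 0, 1], [0, 0, 1, 0, 1, 1, 0, 0], [0, 0, 1, 1], [0, 0, 1, 1, 0, 1, 0, 0], [0, 0, 1, 1, 1, 0, 0, 0], [0, 0, 1, 1, 1, 1], [0, 1, 0], [0, 1, 0, 0, 1, 1, 0, 0, 0], [0, 1, 0, 1, 1, 0, 1], [0, 1, 1, 0], [0, 1, 1, 1, 0, 0, 0, 0], [0, 1, 1, 1, 1, 0], [1, 0, 0], [1, 0, 0, 0, 0, 1, 1, 1], [1, 0, 1, 1, 0, 1, 0], [1, 1, 0, 0], [1, 1, 1, 0, 0, 0, 0, 1], [1, 1, 1, 1, 0, 0]]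

/-- index of a word -/
noncomputable def wi (c : ℕ) (u : List ℕ) : ℕ :=
  List.rec (motive := fun _ => ℕ) 0 (fun y _ ih => lit ih fun m => Ru.mk (Bool.rec c 1 (Nat.beq y 0)) m) u

theorem wi_cons (c y : ℕ) (u : List ℕ) :
    wi c (y :: u) = Ru.mk (Bool.rec c 1 (Nat.beq y 0)) (wi c u) := by
  rw [wi, wi]; exact lit_eq _ _

theorem chk_wi : (allF 168 fun k => imp2 (and2 (lt 0 k) (Nat.beq (Ru.mk k k) 0)) <| allF 168 fun c =>
    imp2 (Nat.beq (Ru.mk c k) (Ru.mk k 1)) (and2 (anyL W7 fun u => Nat.beq (wi c u) 7)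
      (anyL W21 fun u => Nat.beq (wi c u) 21))) = true := by decide +kernel

theorem SzD.exists_sw (X : SzD L) {H : Subgroup G} {g : G} (hf : X.f ∈ H) (h1 : g * X.f * g⁻¹ ∈ H)
    (hg : g ∈ N[X.Z]) (h2 : g ∉ C[X.Z]) (h3 : g * g ∈ C[X.Z]) :
    (∃ s ∈ H, X.ZA s 7) ∧ ∃ w ∈ H, X.ZA w 21 := by
  obtain ⟨k, hk⟩ := SzD.exists_za hg
  obtain ⟨c, hc⟩ := SzD.exists_za (mul_mem (mul_mem hg X.f_mem_NZ.2) (inv_mem hg))
  have w : ∀ u, ∃ y ∈ H, X.ZA y (wi c u) := fun u => by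
    induction u with
    | nil => exact ⟨1, one_mem _, SzD.za_of_C (one_mem _)⟩
    | cons y u ih =>
      obtain ⟨x, x1, x2⟩ := ih
      rw [wi_cons]
      cases Nat.beq y 0
      exacts [⟨_, mul_mem h1 x1, hc.mul x2⟩, ⟨_, mul_mem hf x1, X.za_f.mul x2⟩]
  have := allF_true.1 chk_wi k hk.1
  simp only [imp2_true, and2_true, lt_true, nbeq, allF_true, anyL_true] at this
  obtain ⟨⟨u, -, e1⟩, u', -, e2⟩ := this ⟨Nat.pos_of_ne_zero fun e => h2 (by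
    simpa using (hk.of_eq e).cent (SzD.za_of_C (one_mem _))), (hk.mul hk).uniq (SzD.za_of_C h3)⟩ c hc.1
    ((hc.mul hk).uniq (by simpa using hk.mul X.za_f))
  exact ⟨e1 ▸ w u, e2 ▸ w u'⟩

/-- `g` acts on codes as `θ` -/
def Ac (ψ : ℕ → G) (g : G) (θ : ℕ → ℕ) : Prop := ∀ c < 2048, g * ψ c * g⁻¹ = ψ (θ c)

theorem Ac.mul {ψ : ℕ → G} {g h : G} {θ : ℕ → ℕ} {k : ℕ} (h1 : Ac ψ g θ) (h2 : Ac ψ h (act k)) :
    Ac ψ (g * h) fun c => θ (act k c) := fun c hc => by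
  rw [← h1 _ (act_lt _ _), ← h2 c hc]; group

namespace Fr
variable {X : SzD L} {Y : QD X V} {ψ ψ' : ℕ → G} (h : Fr Y ψ)
include h

theorem exists_hm (h' : Fr Y ψ') {g : G} {k : ℕ} (hg : g ∈ N[Y.Q]) (hk : X.ZA g k) :
    ∃ θ, Hm θ k ∧ ∀ c < 2048, g * ψ' c * g⁻¹ = ψ (θ c) := by
  choose θ h1 h2 using fun c => h.surj _ (conj_mem hg (h'.mem c))
  refine ⟨θ, ⟨fun _ => h1 _, fun ha hb => h.inj (h1 _) (mq_lt (h1 _) (h1 _)) ?_,
    fun hb => h.inj (h1 _) ((za_lt _ _).trans (by norm_num)) ?_⟩, fun c _ => h2 c⟩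
  · rw [h.mul (h1 _) (h1 _), ← h2, ← h2, ← h2, h'.mul ha hb, conj_mul]
  · rw [← h2, h'.z hb, hk.2 _ hb, h.z (za_lt _ _)]

theorem zero : ψ 0 = 1 := (h.z (by norm_num)).trans X.zz_zero

theorem xz {b c : ℕ} (hb : b < 8) (hc : c < 2048) : ψ (b ^^^ c) = X.zz b * ψ c := by
  rw [← mq_z_left hb hc, h.mul (by omega) hc, h.z hb]

theorem cq {q c : ℕ} (hq : q < 2048) (hc : c < 2048) : ψ (cjq q c) = ψ q * ψ c * (ψ q)⁻¹ := by
  have k : Nat.xor q (mq q q) < 2048 := xor_lt hq (mq_lt hq hq)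
  have e := h.mul hq k
  rw [nbeq.1 (allF_true.1 chk_qi _ hq), h.zero] at e
  rw [Ru.cjq, h.mul (mq_lt hq hc) k, h.mul hq hc, eq_inv_of_mul_eq_one_right e.symm]

theorem za_of_ac {g : G} {k : ℕ} (hk : k < 168) (a : Ac ψ g (act k)) : X.ZA g k :=
  ⟨hk, fun b hb => by
    rw [← h.z hb, a b (by omega), (r0_spec false hk).2.1 b hb, h.z (za_lt _ _)]⟩

theorem mem_N {g : G} {θ : ℕ → ℕ} (a : Ac ψ g θ) : g ∈ N[Y.Q] := mem_N_of_finite fun x hx => by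
  obtain ⟨c, hc, rfl⟩ := h.surj x hx
  rw [a c hc]; exact h.mem _

/-- the relation `g h g⁻¹ = h²` on codes -/
theorem rel2 {g x : G} {θ : ℕ → ℕ} {k l : ℕ} (hθ : Hm θ l) (h1 : Ac ψ g θ) (h2 : Ac ψ x (act k))
    (e : g * x * g⁻¹ = x * x) : ∀ c < 2048, θ (act k c) = act k (act k (θ c)) := fun c hc =>
  h.inj (hθ.lt (act_lt _ _)) (act_lt _ _) (by
    rw [← h1 _ (act_lt _ _), ← h2 c hc, ← h2 _ (act_lt _ _), ← h2 _ (hθ.lt hc), ← h1 c hc]
    calc _ = g * x * g⁻¹ * (g * ψ c * g⁻¹) * (g * x * g⁻¹)⁻¹ := by group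
      _ = _ := by rw [e]; group)

theorem ac_f (hV : VD X V) (hr : Y.IsRu) : Ac ψ X.f (act 1) := by
  obtain ⟨θ, h1, h2⟩ := h.exists_hm h Y.f_N X.za_f
  have v : ∀ c ∈ Y.Vs, X.f * Y.v c * X.f⁻¹ = Y.v c := fun c hc => by
    rw [mem_C.1 (hV.syl.le (Y.v_mem hc)) _ X.f_mem, mul_inv_cancel_right]
  have i : ∀ a < 2048, ∀ b < 2048, X.f * ψ a * X.f⁻¹ = ψ b → θ a = b := fun a ha b hb e =>
    h.inj (h1.lt ha) hb ((h2 a ha).symm.trans e)
  have p : ∀ a < 2048, ∀ b < 256, ((vec (a / 8)).1, ω * (vec (a / 8)).2.1, ω ^ 5 * (vec (a / 8)).2.2) =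
      vec b → θ a / 8 = b := fun a ha b hb e => vec_inj (by have := h1.lt ha; omega) hb (by
    rw [← h.pi (h1.lt ha), ← h2 a ha, Y.π_f _ (h.mem _), h.pi ha, e])
  have c3 : ∀ a < 2048, ψ (θ (θ (θ a))) = X.f ^ 3 * ψ a * (X.f ^ 3)⁻¹ := fun a ha => by
    rw [← h2 _ (h1.lt (h1.lt ha)), ← h2 _ (h1.lt ha), ← h2 _ ha, pow_three]; group
  refine fun c hc => (h2 c hc).trans (congrArg ψ (h1.pinF
    (i _ (by norm_num) _ (by norm_num) ?_) (i _ (by norm_num) _ (by norm_num) ?_)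
    (i _ (by norm_num) _ (by norm_num) ?_) (i _ (by norm_num) _ (by norm_num) ?_)
    (i _ (by norm_num) _ (by norm_num) ?_) (p _ (by norm_num) _ (by norm_num) (by decide +kernel))
    (p _ (by norm_num) _ (by norm_num) (by decide +kernel)) (i _ (by norm_num) _ (by norm_num) ?_)
    (h.inj (h1.lt (h1.lt (h1.lt (by norm_num)))) (by norm_num) ?_)
    (h.inj (h1.lt (h1.lt (h1.lt (by norm_num)))) (by norm_num) ?_) hc))
  · rw [h.e0, v _ (by rw [hr.1]; decide +kernel)]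
  · rw [h.e1, v _ (by rw [hr.1]; decide +kernel)]
  · rw [h.e2, h.e3, X.f_u, mul_one, mul_zero]
  · rw [h.e3, h.e4, X.f_u, mul_zero, pow_two]
  · rw [← cF.2.2.2.2.1.symm.trans (by decide +kernel : act 1 128 = 98),
      h.xz (by norm_num) (mq_lt (by norm_num) (by norm_num)), h.mul (by norm_num) (by norm_num),
      h.e2, h.e3, h.e4, X.f_u, SzD.zz, SzD.z, X.u_mul, X.u_mul]
    congr 1
  · rw [h.e7]
    calc _ = X.f ^ 7 * ψ 256 * (X.f ^ 7)⁻¹ := by group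
      _ = _ := by rw [X.f7]; group
  · rw [c3 _ (by norm_num), h.e6]
  · rw [c3 _ (by norm_num), h.e6, h.e7]; group

end Fr

end H14.Ru
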