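import Mathlib
import Cfsg.Agent.H17.RM3

/-! # Standard subgroup `Sz(8)`: the model from the relations -/

set_option autoImplicit false
set_option linter.unusedSectionVars false

namespace H14.Ru

open Cfsg H24 H29 H7.Cay Subgroup H17.RC

variable {G : Type*} [Group G] [Finite G] {L G0 V : Subgroup G}

/-- the tree of normal forms -/
def TR : Tab := ⟨168, 3, 8, 2, 0, 0x9291908f8e8d8c8b8a898887868584838281807f7e7d7c7b7a797877767574737271706f6e6d6c6b6a696867666564636261605f5e5d5c5b5a595857565554535251504f4e4d4c4b4a494847464544434241403f3e3d3c3b3a393837363534333231302f2e2d2c2b2a292827262524232221201f1e1d1c1b1a191817161514131211100f0e0d0c0b0a090807060504030201000d0c0b0a0908070605040302010005040302010000,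
  0xaaaaaaaaaa95555554000, 0⟩

/-- indices of the letters -/
def gk (y : ℕ) : ℕ := pk 1378049 8 y

/-- the relators -/
def REL : List (List ℕ) := [[0, 0, 0, 0, 0, 0, 0], [1, 1, 1], [2, 2], [2, 0, 2, 0, 2, 0],
  [1, 0, 1, 1, 0, 0, 0, 0, 0], [2, 1, 2, 1], [0, 1, 0, 0, 0, 1, 1]]

/-- their values -/
noncomputable def rv (ε t r : ℕ) : ℕ := nth 0 [0, 0, ε, t, 0, ε, 0] r

/-- the tags -/
def T6 : ℕ := 0x607008100c050101404030380408060301404030380408050100c0e01020180c050100c0e010200c0e01020180a02028080607008100c06028080607008100607008100c05010180a020181c02040181c02040301404050100c0e01020180607008100c05010140403038040806030140403038040806028080607008100607008100c05010140403038040806000000000000000000000000000000000000000000000000000000000000000000000000000000000000000000000000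
/-- the tags -/
def U0 : ℕ := 0x4030380408060281c0203038040806008100c050100c0e020181c0204030140204030140403038080607008100c05030140403038040803038040806028080c050100c0e010200408060280806070100c0e01020180a07008100c050100c0c050100c0e01020180a020181c02040181c0204030140403038040806028080a020181c0204030180a020181c0204020180a020181c0204030140403038040806028080607008000000000000000000000000000000000000000000000000
/-- the tags -/
def U6 : ℕ := 0x204030140403038080600000000000038040806028080607008100c050100c0e01020180a020180408060280806070181c02040301404050100c0e01020180a020181c02040301c0204030140403008100c050100c0e020181c0204030140a020181c02040300c0e01020180a02028080607008100c050100c0e01020180c050100c0e010200c0e01020180a02020180a020181c0204030140403038040806028080607008000000000000000000000000000000000000000000000000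
/-- the tree edges -/
def M0 : ℕ := 0x4924924924924924924924924924924924924924924924924924924924924924924924924924924924924924924924c924936db6dbffff
/-- the deductions -/
def DS : ℕ := 0x300011000a0011010a0111020a0211030a0311040a0411050a050c0511060a060c060a070d070a080d080a090d090a0a0d0a0a0b0d0b0a0c0d0c0a0d0d0d0a0e0d0e060e0a0f0d0f060f0a100d1006100a110d1106110a120d1206120a1324130d1306130a140d14301501152315301601162316301701172317301801182318301901192319301a011a231a301b011b231b301c0e1c301d0e1d301e0e1e301f0e1f30200e20302123210e21302223220e22302323231c230e23302423241c240e24302523251c250e25302623261c260e26302723271c270e27302823281c280e28302923291c290e290a2a0a2b0a2c0a2d0a2e0a2f0a3011310a310e3111320a320e3211330e3311340e3411350e3511360e3611370e370a380a390a3a0a3b0a3c0a3d0a3e043f0440044104420443044404451c4d0e4d1c4e0e4e1c4f0e4f1c500e501c510e511c520e521c530e531c690e691c6a0e6a1c6b0e6b1c6c0e6c1c6d0e6d1c6e0e6e1c6f0e6f01700570017105710172057201730573017405740175057501760576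0177147705770e770178147805780e780179147905790e79017a147a057a0e7a017b147b057b0e7b017c147c057c0e7c017d147d057d0e7d097e027e157e0e7e097f027f157f0e7f0980028015800e800981028115810e810982028215820e820983028315830e830984028415840e840285138515850e850286138615860e860287138715870e870288138815880e880289138915890e89028a138a158a0e8a028b138b158b0e8b118c0a8c158c118d0a8d158d118e0a8e158e118f0a8f158f11900a90159011910a91159111920a921592039a039b039c039d039e0c000c010c02160216031309130a130b130c130d152a152b152c152d152e152f1530153115321533153415351536153715381539153a153b153c153d153e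

/-- index of an edge -/
def ed (p y : ℕ) : ℕ := Nat.add (Nat.mul 3 p) y

/-- right multiplication by a letter -/
noncomputable def st (T c y : ℕ) : ℕ := lit (Nat.div c 8) fun p =>
  Nat.add (Nat.mul 8 (Ru.mk p (gk y))) (Nat.xor (Nat.mod c 8) (pk T 3 (ed p y)))

/-- walk along known edges -/
noncomputable def wk (T m : ℕ) (u : List ℕ) : ℕ → ℕ :=
  List.rec (motive := fun _ => ℕ → ℕ) (fun c => c)
    (fun y _ ih c => Bool.rec 1344 (lit (st T c y) ih) (and2 (lt y 3) (tb m (ed (Nat.div c 8) y)))) u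

/-- one deduction -/
noncomputable def dd1 (T ε t m k r i : ℕ) (f : ℕ → Bool) : Bool :=
  List.rec (motive := fun _ => Bool) false (fun y u _ =>
    lit (wk T m ((nth [] REL r).take i) (Nat.mul 8 k)) fun c =>
      and2 (and2 (and2 (lt k 168) (lt c 1344)) (and2 (lt y 3)
        (Nat.beq (wk T m u (st T c y)) (Nat.add (Nat.mul 8 k) (za k (rv ε t r))))))
        (lit (sb m (ed (Nat.div c 8) y)) f)) ((nth [] REL r).drop i)

/-- all deductions -/
noncomputable def run (T ε t : ℕ) (f : ℕ → Bool) (n : ℕ) : ℕ → Bool :=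
  Nat.rec (motive := fun _ => ℕ → Bool) f (fun i ih m => lit (pk DS 16 i) fun s =>
    lit (Nat.mod s 256) fun k => lit (Nat.mod (Nat.div s 256) 8) fun r => lit (Nat.div s 2048) fun j =>
      dd1 T ε t m k r j ih) n

/-- the tree edges have trivial tags -/
noncomputable def tr0 (T : ℕ) : Bool := allF 168 fun p => allF 3 fun y => imp2 (tb M0 (ed p y)) <|
  lit (Ru.mk p (gk y)) fun k => and2 (and2 (Nat.beq (TR.par k) p) (Nat.beq (TR.let' k) y))
    (and2 (lt p k) (Nat.beq (pk T 3 (ed p y)) 0))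

theorem chk_run (t : Bool) : and2 (tr0 (Bool.rec 0 T6 t)) (run (Bool.rec 0 T6 t) 0 (Bool.rec 0 6 t)
    (fun m => allF 504 (tb m)) 337 M0) = true := by cases t <;> decide +kernel

theorem chk_bad (t : Bool) : and2 (tr0 (Bool.rec U0 U6 t)) (run (Bool.rec U0 U6 t) 1 (Bool.rec 0 6 t)
    (fun m => lit (wk (Bool.rec U0 U6 t) m [2, 2] 408) fun c => and2 (Nat.beq (Nat.div c 8) 51)
      (lt 0 (Nat.xor (Nat.mod c 8) (za 51 1)))) 337 M0) = true := by cases t <;> decide +kernel

theorem chk_act : (allF 168 fun k => imp2 (lt 0 k) <| lit (TR.par k) fun p => lit (TR.let' k) fun y =>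
    lit (gk y) fun g => and2 (and2 (lt p k) (lt y 3))
      (allF 2048 fun c => Nat.beq (act k c) (act p (act g c)))) = true := by decide +kernel

theorem chk_rr2 (t : Bool) : (allF 168 fun l => imp2 (lt 0 l) <| lit (TR.par l) fun p =>
    lit (TR.let' l) fun y => allF 168 fun k => lit (Ru.mk k p) fun m =>
      and2 (Nat.beq (lo (rr t k l)) (Nat.xor (lo (rr t k p)) (pk (Bool.rec 0 T6 t) 3 (ed m y))))
        (Nat.beq (Ru.mk m (gk y)) (Ru.mk k l))) = true := by cases t <;> decide +kernel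

theorem gk_lt : ∀ y < 3, gk y < 168 := by decide +kernel

theorem lo_xor {x : ℕ} (hx : x < 2048) (e : ℕ) : lo (x ^^^ e) = x ^^^ lo e := by
  rw [lo_eq, lo_eq, show 2048 = 2 ^ 11 from rfl, Nat.xor_mod_two_pow, Nat.mod_eq_of_lt hx]

/-- known edges -/
def Kn (X : SzD L) (e : ℕ → G) (T m : ℕ) : Prop := ∀ p < 168, ∀ y < 3, tb m (ed p y) = true →
  TR.val e p * e y = X.zz (pk T 3 (ed p y)) * TR.val e (Ru.mk p (gk y))

section
variable {X : SzD L} {e : ℕ → G} {T m : ℕ}

theorem st_spec {c y : ℕ} (hc : c < 1344) (hy : y < 3) : st T c y < 1344 ∧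
    X.zz (st T c y) * TR.val e (st T c y / 8) =
      X.zz c * (X.zz (pk T 3 (ed (c / 8) y)) * TR.val e (Ru.mk (c / 8) (gk y))) := by
  have h1 := mk_lt (show c / 8 < 168 by omega) (gk_lt y hy)
  have h2 : c % 8 ^^^ pk T 3 (ed (c / 8) y) < 8 :=
    Nat.xor_lt_two_pow (n := 3) (by omega) (pk_lt _ _ _)
  have e1 : st T c y = 8 * Ru.mk (c / 8) (gk y) + (c % 8 ^^^ pk T 3 (ed (c / 8) y)) := lit_eq _ _
  refine ⟨by omega, ?_⟩
  rw [← X.zz_mod, show st T c y / 8 = Ru.mk (c / 8) (gk y) by omega,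
    show st T c y % 8 = c % 8 ^^^ pk T 3 (ed (c / 8) y) by omega, X.zz_xor, X.zz_mod, mul_assoc]

theorem wk_spec (h : Kn X e T m) : ∀ (u : List ℕ) (c : ℕ), c < 1344 → wk T m u c < 1344 →
    X.zz c * TR.val e (c / 8) * ev e u = X.zz (wk T m u c) * TR.val e (wk T m u c / 8)
  | [], c, _, _ => by rw [ev_nil, mul_one]; rfl
  | y :: u, c, hc, h1 => by
    have e1 : wk T m (y :: u) c = Bool.rec 1344 (lit (st T c y) (wk T m u))
      (and2 (lt y 3) (tb m (ed (c / 8) y))) := by rw [wk, wk]; rfl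
    rw [e1] at h1 ⊢
    cases h2 : and2 (lt y 3) (tb m (ed (c / 8) y)) with
    | false => rw [h2] at h1; exact absurd h1 (lt_irrefl _)
    | true =>
      rw [h2] at h1
      rw [and2_true, lt_true] at h2
      obtain ⟨k1, k2⟩ := st_spec (X := X) (e := e) (T := T) hc h2.1
      simp only [lit_eq] at h1 ⊢
      rw [← wk_spec h u _ k1 h1, k2, ev_cons, ← mul_assoc, mul_assoc (X.zz c),
        h _ (by omega) y h2.1 h2.2]

variable {ε t : ℕ} (hz : ∀ k < 168, X.ZA (TR.val e k) k)
  (hR : ∀ r, ev e (nth [] REL r) = X.zz (rv ε t r) ∧ rv ε t r < 8)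
include hz hR

theorem dd1_spec (h : Kn X e T m) {k r i : ℕ} {f : ℕ → Bool} (h1 : dd1 T ε t m k r i f = true) :
    ∃ m', Kn X e T m' ∧ f m' = true := by
  have e0 := List.take_append_drop i (nth [] REL r)
  rw [dd1] at h1
  generalize (nth [] REL r).drop i = v at e0 h1
  cases v with
  | nil => exact absurd h1 (by simp)
  | cons y u =>
    simp only [lit_eq, and2_true, lt_true, nbeq, Nat.mul_eq, Nat.add_eq] at h1
    obtain ⟨⟨⟨hk, hc⟩, hy, h2⟩, h3⟩ := h1
    have z := za_lt k (rv ε t r)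
    have w1 := wk_spec h _ _ (by omega) hc
    generalize wk T m ((nth [] REL r).take i) (8 * k) = c at hc h2 h3 w1
    obtain ⟨k1, k2⟩ := st_spec (X := X) (e := e) (T := T) hc hy
    have w2 := wk_spec h u _ k1 (by omega)
    rw [h2, k2, ← X.zz_mod (8 * k + _), show (8 * k + za k (rv ε t r)) % 8 = za k (rv ε t r) by omega,
      show (8 * k + za k (rv ε t r)) / 8 = k by omega, ← (hz k hk).2 _ (hR r).2, inv_mul_cancel_right,
      ← (hR r).1, ← e0, ev_append, ev_cons, ← mul_assoc (TR.val e k), ← mul_assoc _ (e y),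
      mul_left_inj] at w2
    rw [← X.zz_mod, Nat.mul_mod_right, X.zz_zero, one_mul, Nat.mul_div_cancel_left _ (by norm_num)] at w1
    rw [w1, mul_assoc (X.zz c) (TR.val _ _), mul_right_inj] at w2
    refine ⟨_, fun p hp y' hy' hb => ?_, h3⟩
    rcases (tb_sb _ _ _).1 hb with hb | hb
    · exact h p hp y' hy' hb
    · simp only [ed, Nat.add_eq, Nat.mul_eq, show c.div 8 = c / 8 from rfl] at hb
      obtain rfl : c / 8 = p := by omega
      obtain rfl : y = y' := by omega
      exact w2.symm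

theorem run_spec {f : ℕ → Bool} : ∀ n m, Kn X e T m → run T ε t f n m = true →
    ∃ m', Kn X e T m' ∧ f m' = true
  | 0, m, h, h1 => ⟨m, h, h1⟩
  | n + 1, m, h, h1 => by
    have e1 : run T ε t f (n + 1) m = lit (pk DS 16 n) fun s =>
      lit (Nat.mod s 256) fun k => lit (Nat.mod (Nat.div s 256) 8) fun r => lit (Nat.div s 2048) fun j =>
        dd1 T ε t m k r j (run T ε t f n) := by rw [run, run]
    simp only [e1, lit_eq] at h1
    obtain ⟨m', h2, h3⟩ := dd1_spec hz hR h h1
    exact run_spec n m' h2 h3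

omit hz hR in
theorem tr0_spec (h : tr0 T = true) : Kn X e T M0 := fun p hp y hy hb => by
  have := allF_true.1 (allF_true.1 h p hp) y hy
  simp only [imp2_true, lit_eq, and2_true, nbeq, lt_true] at this
  obtain ⟨⟨a1, a2⟩, a3, a4⟩ := this hb
  rw [a4, X.zz_zero, one_mul, Tab.val.eq_1 _ _ (Ru.mk _ _), a1, a2, if_pos a3]
end

/-- the generators of the model -/
structure Pr {X : SzD L} (Y : QD X V) (ψ : ℕ → G) (F σ w : G) : Prop extends Fr Y ψ where
  aF : Ac ψ F (act 1)
  aσ : Ac ψ σ (act 7)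
  aw : Ac ψ w (act 21)
  F7 : F ^ 7 = 1
  σ3 : σ ^ 3 = 1
  σF : σ * F * σ⁻¹ = F * F
  wσ : w * σ * w⁻¹ = σ * σ
  w2 : w * w ∈ Y.Q
  wF : w * F * (w * F) * (w * F) ∈ Y.Q

/-- the letters -/
def lt3 (F σ w : G) (y : ℕ) : G := [F, σ, w].getD y 1

namespace Pr
variable {X : SzD L} {Y : QD X V} {ψ : ℕ → G} {F σ w : G} (h : Pr Y ψ F σ w)
include h

theorem ac_R (k : ℕ) (hk : k < 168) : Ac ψ (TR.val (lt3 F σ w) k) (act k) := by
  induction k using Nat.strong_induction_on with
  | _ k ih =>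
    rcases Nat.eq_zero_or_pos k with rfl | h0
    · intro c hc
      rw [Tab.val_zero, act_zero hc, one_mul, inv_one, mul_one]
    · have := allF_true.1 chk_act k hk
      simp only [imp2_true, lit_eq, and2_true, nbeq, lt_true, allF_true] at this
      obtain ⟨⟨a1, a2⟩, a3⟩ := this h0
      have : Ac ψ (lt3 F σ w (TR.let' k)) (act (gk (TR.let' k))) := by
        generalize TR.let' k = y at a2
        interval_cases y
        exacts [h.aF, h.aσ, h.aw]
      intro c hc
      rw [Tab.val.eq_1, if_pos a1, (ih _ a1 (by omega)).mul this c hc, a3 c hc]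

theorem exists_z {g x : G} {θ η : ℕ → ℕ} (hg : g ∈ Y.Q) (a : Ac ψ g θ) (h1 : ∀ e ∈ ES, θ e = e)
    (b : Ac ψ x η) (hη : ∀ c, η c < 2048) (h2 : x * g * x⁻¹ = g) : ∃ c < 8, η c = c ∧ g = X.zz c := by
  obtain ⟨c, hc, rfl⟩ := h.surj g hg
  have := allF_true.1 chk_cz c hc
  simp only [imp2_true, allL_true, nbeq, lt_true] at this
  have := this fun e he => h.inj (mq_lt hc (ES_lt e he)) (mq_lt (ES_lt e he) hc) (by
    have := a e (ES_lt e he)
    rw [h1 e he, mul_inv_eq_iff_eq_mul] at this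
    rw [h.mul hc (ES_lt e he), h.mul (ES_lt e he) hc, this])
  exact ⟨c, this, h.inj (hη c) hc ((b c hc).symm.trans h2), h.z this⟩

theorem rels {ε t : ℕ} (h1 : w * w = X.zz ε) (h2 : σ * (w * w) * σ⁻¹ = w * w) (hε : ε < 8)
    (h3 : w * F * (w * F) * (w * F) = X.zz t) (ht : t < 8) (r : ℕ) :
    ev (lt3 F σ w) (nth [] REL r) = X.zz (rv ε t r) ∧ rv ε t r < 8 := by
  have i : σ⁻¹ = σ * σ := by rw [inv_eq_iff_mul_eq_one, ← h.σ3, pow_three]
  have f7 : F * (F * (F * (F * (F * (F * F))))) = 1 := by simpa [pow_succ, mul_assoc] using h.F7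
  have s3 : σ * (σ * σ) = 1 := by simpa [pow_succ, mul_assoc] using h.σ3
  rcases r with _ | _ | _ | _ | _ | _ | _ | r
  · exact ⟨(show ev _ [0, 0, 0, 0, 0, 0, 0] = _ by simpa [lt3] using f7).trans X.zz_zero.symm,
      (by norm_num : 0 < 8)⟩
  · exact ⟨(show ev _ [1, 1, 1] = _ by simpa [lt3] using s3).trans X.zz_zero.symm,
      (by norm_num : 0 < 8)⟩
  · exact ⟨(show ev _ [2, 2] = _ by simp [lt3]).trans h1, hε⟩
  · exact ⟨(show ev _ [2, 0, 2, 0, 2, 0] = _ by simp [lt3, mul_assoc]).trans h3, ht⟩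
  · refine ⟨(show ev _ [1, 0, 1, 1, 0, 0, 0, 0, 0] = _ from ?_).trans X.zz_zero.symm,
      (by norm_num : 0 < 8)⟩
    simp only [ev_cons, ev_nil, lt3, List.getD_cons_zero, List.getD_cons_succ]
    calc _ = σ * F * (σ * σ) * (F * (F * (F * (F * F)))) := by simp only [mul_assoc, mul_one]
      _ = _ := by rw [← i, h.σF, ← f7, mul_assoc]
  · refine ⟨(show ev _ [2, 1, 2, 1] = _ from ?_).trans h1, hε⟩
    simp only [ev_cons, ev_nil, lt3, List.getD_cons_zero, List.getD_cons_succ]
    calc _ = w * σ * w⁻¹ * (w * w * σ) := by group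
      _ = _ := by
        rw [h.wσ, ← mul_inv_eq_iff_eq_mul.1 h2, ← mul_assoc, mul_assoc σ σ σ, s3, one_mul]
  · refine ⟨(show ev _ [0, 1, 0, 0, 0, 1, 1] = _ from ?_).trans X.zz_zero.symm,
      (by norm_num : 0 < 8)⟩
    simp only [ev_cons, ev_nil, lt3, List.getD_cons_zero, List.getD_cons_succ]
    calc _ = F * (σ * F * σ⁻¹) * (σ * F * σ⁻¹) * (σ * F * (σ * σ)) := by group
      _ = _ := by rw [← i, h.σF, ← f7]; simp only [mul_assoc]
  · exact ⟨X.zz_zero.symm, (by norm_num : 0 < 8)⟩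

theorem edges : ∃ t : Bool, ∀ p < 168, ∀ y < 3, TR.val (lt3 F σ w) p * lt3 F σ w y =
    X.zz (pk (Bool.rec 0 T6 t) 3 (ed p y)) * TR.val (lt3 F σ w) (Ru.mk p (gk y)) := by
  have hz := fun k hk => h.za_of_ac hk (h.ac_R k hk)
  have i : σ⁻¹ = σ * σ := by rw [inv_eq_iff_mul_eq_one, ← h.σ3, pow_three]
  have h2 : σ * (w * w) * σ⁻¹ = w * w := by
    have : w * w * σ * (w * w)⁻¹ = σ := calc
      _ = w * (w * σ * w⁻¹) * w⁻¹ := by group
      _ = (w * σ * w⁻¹)⁻¹ := by rw [mul_inv_rev, mul_inv_rev, inv_inv, h.wσ, ← i, mul_assoc]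
      _ = σ := by rw [h.wσ, ← i, inv_inv]
    rw [mul_inv_eq_iff_eq_mul] at this ⊢
    exact this.symm
  obtain ⟨ε, hε, e1, e2⟩ := h.exists_z h.w2 (h.aw.mul h.aw) (fun e he => (chk_rel.1 e he).1) h.aσ
    (fun _ => act_lt _ _) h2
  have aa : Ac ψ (w * F * w * F * w * F) _ := ((((h.aw.mul h.aF).mul h.aw).mul h.aF).mul h.aw).mul h.aF
  obtain ⟨t, ht, e3, e4⟩ := h.exists_z (by simpa only [mul_assoc] using h.wF) aa
    (fun e he => (chk_rel.1 e he).2) (h.aw.mul h.aF) (fun _ => act_lt _ _) (by group)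
  obtain ⟨b, rfl⟩ : ∃ b : Bool, t = Bool.rec 0 6 b :=
    ((chk_rel.2 t ht).2 e3).elim (fun e => ⟨false, e⟩) fun e => ⟨true, e⟩
  have hR := h.rels e2 h2 hε (by simpa only [mul_assoc] using e4) ht
  rcases (chk_rel.2 ε hε).1 e1 with rfl | rfl
  · obtain ⟨m, k1, k2⟩ := run_spec hz hR _ _ (tr0_spec (and2_true.1 (chk_run b)).1)
      (and2_true.1 (chk_run b)).2
    exact ⟨b, fun p hp y hy => k1 p hp y hy (allF_true.1 k2 _ (by
      change 3 * p + y < 504; omega))⟩
  · obtain ⟨m, k1, k2⟩ := run_spec hz hR _ _ (tr0_spec (and2_true.1 (chk_bad b)).1)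
      (and2_true.1 (chk_bad b)).2
    simp only [lit_eq, and2_true, nbeq, lt_true] at k2
    have w1 := wk_spec k1 [2, 2] 408 (by norm_num)
    generalize wk _ m [2, 2] 408 = c at k2 w1
    have e5 : c / 8 = 51 := k2.1
    have := w1 (by omega)
    rw [e5, show ev _ [2, 2] = X.zz 1 from (hR 2).1, ← X.zz_mod, ← X.zz_mod c, X.zz_zero, one_mul,
      ← mul_inv_eq_iff_eq_mul, (hz 51 (by norm_num)).2 1 (by norm_num)] at this
    have e6 : 0 < c % 8 ^^^ za 51 1 := k2.2
    rw [← X.zz_inj (za_lt _ _) (Nat.mod_lt _ (by norm_num)) this, Nat.xor_self] at e6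
    exact absurd e6 (lt_irrefl _)

theorem exists_mi : ∃ (t : Bool) (R : ℕ → G), Mi t (fun c => ψ (lo c) * R (hi c)) ∧ R 0 = 1 ∧
    (∀ k < 168, X.ZA (R k) k) ∧ ∀ H : Subgroup G, F ∈ H → σ ∈ H → w ∈ H → ∀ k, R k ∈ H := by
  obtain ⟨t, ht⟩ := h.edges
  have hz := fun k hk => h.za_of_ac hk (h.ac_R k hk)
  have rr : ∀ k < 168, ∀ l < 168, TR.val (lt3 F σ w) k * TR.val (lt3 F σ w) l =
      X.zz (lo (rr t k l)) * TR.val (lt3 F σ w) (Ru.mk k l) := fun k hk l hl => by
    induction l using Nat.strong_induction_on with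
    | _ l ih =>
      rcases Nat.eq_zero_or_pos l with rfl | h0
      · rw [← (rr_spec t hk hl).1, (r0_spec t hk).1.2, Tab.val_zero, hi_eq, lo_eq, Nat.mul_mod_right,
          X.zz_zero, Nat.mul_div_cancel_left _ (by norm_num), one_mul, mul_one]
      · have k1 := allF_true.1 chk_act l hl
        have k2 := allF_true.1 (chk_rr2 t) l hl
        simp only [imp2_true, lit_eq, and2_true, nbeq, lt_true, allF_true, xor_def] at k1 k2
        obtain ⟨⟨a1, a2⟩, -⟩ := k1 h0
        obtain ⟨a3, a4⟩ := k2 h0 k hk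
        rw [Tab.val.eq_1 _ _ l, if_pos a1, ← mul_assoc, ih _ a1 (by omega), mul_assoc,
          ht _ (mk_lt hk (by omega)) _ a2, a3, a4, X.zz_xor, mul_assoc]
  refine ⟨t, TR.val (lt3 F σ w), ⟨⟨fun a ha b hb => ?_⟩, fun a ha b hb e => ?_⟩, Tab.val_zero _ _, hz,
    fun H h1 h2 h3 k => Tab.val_mem _ (fun y => ?_) k⟩
  · have k := (rr_spec t (hi_lt ha) (hi_lt hb)).2.2
    have m := mq_lt (lo_lt a) (act_lt (hi a) (lo b))
    rw [hi_mu t ha hb, mu_eq, lo_xor m, Nat.xor_comm, h.xz k m, Y.zzq (h.mem _), mul_assoc,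
      ← rr _ (hi_lt ha) _ (hi_lt hb), h.mul (lo_lt a) (act_lt _ _), ← h.ac_R _ (hi_lt ha) _ (lo_lt b)]
    group
  · have e1 := ((hz _ (hi_lt ha)).C_mul (Y.zc (h.mem (lo a)))).uniq
      (e ▸ (hz _ (hi_lt hb)).C_mul (Y.zc (h.mem (lo b))))
    rw [e1, mul_left_inj] at e
    have := h.inj (lo_lt a) (lo_lt b) e
    rw [lo_eq, lo_eq] at this
    rw [hi_eq, hi_eq] at e1
    omega
  · rcases y with _ | _ | _ | y
    exacts [h1, h2, h3, one_mem H]

end Pr

end H14.Ru
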