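import Mathlib
import Cfsg.Agent.H24.Base5

/-! # Lifting the relations of `L₃(2)` -/

set_option autoImplicit false
set_option linter.unusedSectionVars false

namespace H14.Ru

open Cfsg H24 Subgroup

variable {G : Type*} [Group G]

theorem schur {f s w a : G} (cf : Commute f a) (cs : Commute s a) (cw : Commute w a)
    (f7 : f ^ 7 = 1) (s3 : s * s * s = 1) (w2 : w * w = 1) (sf : s * f = f * f * s)
    (sw : s * w * s = w) (wf : w * f * (w * f) * (w * f) = a) : a * a * (a * a) = 1 := by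
  have wi : w⁻¹ = w := inv_eq_of_mul_eq_one_right w2
  have si : s * s = s⁻¹ := eq_inv_of_mul_eq_one_left s3
  have f7' : f * (f * (f * (f * (f * (f * f))))) = 1 := by simpa [pow_succ, mul_assoc] using f7
  have e1 : w * f * w = a * (f⁻¹ * w * f⁻¹) := by
    rw [← wf]
    calc _ = w * f * (w * f) * (w * f) * (f⁻¹ * w⁻¹ * f⁻¹) := by group
      _ = _ := by rw [wi]
  have e2 : w * s * w = s⁻¹ := by
    calc _ = s⁻¹ * (s * w * s) * w := by group
      _ = _ := by rw [sw, mul_assoc, w2, mul_one]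
  have e2' : w * s⁻¹ * w = s := by
    calc _ = w * (w * s * w) * w := by rw [e2]
      _ = w * w * s * (w * w) := by group
      _ = _ := by rw [w2, one_mul, mul_one]
  have e3 : f * f = s * f * s⁻¹ := by rw [sf, mul_inv_cancel_right]
  have e4 : f⁻¹ * s⁻¹ * f⁻¹ = f * f * s⁻¹ := by
    have : s * (f * f * f) * s⁻¹ = f⁻¹ := by
      calc _ = s * f * s⁻¹ * (s * f * s⁻¹) * (s * f * s⁻¹) := by group
        _ = f * (f * (f * (f * (f * (f * f))))) * f⁻¹ := by rw [← e3]; group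
        _ = _ := by rw [f7', one_mul]
    calc _ = f⁻¹ * s⁻¹ * (s * (f * f * f) * s⁻¹) := by rw [this]
      _ = _ := by group
  have A : w * (f * f) * w = a * (s⁻¹ * (f⁻¹ * w * f⁻¹) * s) := by
    calc _ = w * s * w * (w⁻¹ * f * w⁻¹) * (w * s⁻¹ * w) := by rw [e3]; group
      _ = s⁻¹ * (a * (f⁻¹ * w * f⁻¹)) * s := by rw [e2, e2', wi, e1]
      _ = _ := by rw [cs.inv_left.left_comm, mul_assoc]
  have B : w * (f * f * (f * f)) * w = a * (s * (f⁻¹ * w * f⁻¹) * s⁻¹) := by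
    calc _ = w * s * w * (w⁻¹ * (f * f) * w⁻¹) * (w * s⁻¹ * w) := by
          conv_lhs => rw [e3]
          group
      _ = s⁻¹ * (a * (s⁻¹ * (f⁻¹ * w * f⁻¹) * s)) * s := by rw [e2, e2', wi, A]
      _ = a * ((s * s)⁻¹ * (f⁻¹ * w * f⁻¹) * (s * s)) := by rw [cs.inv_left.left_comm]; group
      _ = _ := by rw [si, inv_inv]
  have c : ∀ x y z : G, Commute x a → x * (a * y) * z = a * (x * y * z) := fun x y z h => by
    rw [h.left_comm, mul_assoc]
  have C : w * (f * f * f) * w = a * (a * (a * (f * f * s⁻¹ * w * (f * f)))) := by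
    calc _ = w * f * w * (w⁻¹ * (f * f) * w) * 1 := by group
      _ = a * (f⁻¹ * w * f⁻¹ * (a * (s⁻¹ * (f⁻¹ * w * f⁻¹) * s)) * 1) := by
        rw [wi, e1, A]; simp only [mul_assoc]
      _ = a * (a * (f⁻¹ * w * (f⁻¹ * s⁻¹ * f⁻¹) * w * f⁻¹ * s)) := by
        rw [c _ _ _ ((cf.inv_left.mul_left cw).mul_left cf.inv_left)]; group
      _ = a * (a * (f⁻¹ * (w * (f * f) * w) * (w⁻¹ * s⁻¹ * w * f⁻¹ * s))) := by rw [e4]; group
      _ = a * (a * (a * (f⁻¹ * s⁻¹ * f⁻¹ * w * (f⁻¹ * (s * s) * f⁻¹) * s))) := by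
        rw [wi, e2', A, c _ _ _ cf.inv_left]; group
      _ = _ := by rw [si, e4]; group
  calc _ = a * (a * (a * (a * (f * f * (s * s)⁻¹ * f⁻¹ * s⁻¹)))) := by rw [si, inv_inv, e3]; group
    _ = a * (a * (a * (a * (f * f * s⁻¹ * (w * (f * f * s * f⁻¹) * w) * f⁻¹ * s⁻¹)))) := by
      rw [← sf, mul_inv_cancel_right, e2]; group
    _ = a * (a * (a * (f * f * s⁻¹ * w * (f * f) * (a * (s * (f⁻¹ * w * f⁻¹) * s⁻¹)) * 1))) := by
      rw [c _ _ _ ((((cf.mul_left cf).mul_left cs.inv_left).mul_left cw).mul_left (cf.mul_left cf))]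
      group
    _ = w * (f * f * f) * w * (w * (f * f * (f * f)) * w) := by rw [C, B]; simp only [mul_assoc, mul_one]
    _ = w * (f * f * f) * (w * w) * (f * f * (f * f)) * w := by group
    _ = w * (f * (f * (f * (f * (f * (f * f)))))) * w := by rw [w2]; group
    _ = 1 := by rw [f7', mul_one, w2]

theorem odd_sqrt {B : Subgroup G} (hB : Odd ♯B) {a : G} (ha : a ∈ B) : ∃ b ∈ B, b * b = a := by
  obtain ⟨m, e⟩ := hB
  refine ⟨a ^ (m + 1), pow_mem ha _, ?_⟩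
  rw [← pow_add, show m + 1 + (m + 1) = 2 * m + 1 + 1 by ring, pow_succ, ← e,
    orderOf_dvd_iff_pow_eq_one.1 (orderOf_dvd_card' ha), one_mul]

theorem odd_sq {B : Subgroup G} (hB : Odd ♯B) {a : G} (ha : a ∈ B) (h : a * a = 1) : a = 1 := by
  obtain ⟨m, e⟩ := hB
  have := orderOf_dvd_iff_pow_eq_one.1 (orderOf_dvd_card' ha)
  rwa [e, pow_succ, pow_mul, pow_two, h, one_pow, one_mul] at this

theorem adj {B : Subgroup G} (hB : Odd ♯B) (hc : B ≤ C[B]) {f s w : G} (hf : f ∈ C[B]) (hs : s ∈ C[B])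
    (hw : w ∈ C[B]) (f7 : f ^ 7 = 1) (r1 : (f * f * s)⁻¹ * (s * f) ∈ B) (r2 : s * s * s ∈ B)
    (r3 : w⁻¹ * (s * w * s) ∈ B) (r4 : w * w ∈ B) (r5 : w * f * (w * f) * (w * f) ∈ B) :
    ∃ a ∈ B, ∃ b ∈ B, ∃ c ∈ B, (f * a) ^ 7 = 1 ∧ s * b * (s * b) * (s * b) = 1 ∧ w * c * (w * c) = 1 ∧
      s * b * (f * a) = f * a * (f * a) * (s * b) ∧ s * b * (w * c) * (s * b) = w * c ∧
      w * c * (f * a) * (w * c * (f * a)) * (w * c * (f * a)) = 1 := by
  have k : ∀ {a x : G}, a ∈ B → x ∈ C[B] → Commute a x := fun ha hx => mem_C.1 hx _ ha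
  have m : ∀ {a x : G} (y z : G), a ∈ B → x ∈ C[B] → y * a * (x * z) = y * x * (a * z) :=
    fun y z ha hx => by rw [mul_assoc, (k ha hx).left_comm, mul_assoc]
  obtain ⟨b, hb, eb⟩ := odd_sqrt hB (inv_mem r3)
  obtain ⟨c, hc', ec⟩ := odd_sqrt hB (inv_mem r4)
  generalize ea : (f * f * s)⁻¹ * (s * f) = a at r1
  replace ea : s * f = f * f * s * a := by rw [← ea]; group
  have S : s * b ∈ C[B] := mul_mem hs (hc hb)
  have W : w * c ∈ C[B] := mul_mem hw (hc hc')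
  have F : f * a ∈ C[B] := mul_mem hf (hc r1)
  have e1 : (f * a) ^ 7 = 1 := by
    have e : s * f * s⁻¹ = f * f * a := by rw [ea, mul_assoc (f * f), ← (k r1 hs).eq]; group
    have := conj_pow (i := 7) (a := s) (b := f)
    rw [e, f7, ((k r1 hf).symm.mul_left (k r1 hf).symm).mul_pow, (Commute.refl f).mul_pow, f7] at this
    rw [(k r1 hf).symm.mul_pow, f7]
    simpa using this
  have e3 : w * c * (w * c) = 1 := by rw [m _ _ hc' hw, ec, mul_inv_cancel]
  have e4 : s * b * (f * a) = f * a * (f * a) * (s * b) := by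
    rw [m _ _ hb hf, ea, m _ _ r1 hf, m _ _ (mul_mem r1 r1) hs, (k hb (hc r1)).eq]
    simp only [mul_assoc]
  have e5 : s * b * (w * c) * (s * b) = w * c := by
    rw [m _ _ hb hw, m _ _ (mul_mem hb hc') hs, (k hb (hc hc')).eq, mul_assoc c, ← (k (mul_mem hb hb)
      (hc hc')).eq, eb]
    group
  have e2 : s * b * (s * b) * (s * b) = 1 := by
    have h1 : s * b * (s * b) * (s * b) ∈ B := by
      rw [m _ _ hb hs, m _ _ (mul_mem hb hb) hs]
      exact mul_mem r2 (mul_mem (mul_mem hb hb) hb)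
    refine odd_sq hB h1 ?_
    generalize s * b = S at e5 h1
    generalize w * c = W' at e5 W
    have := (k h1 W).eq
    calc _ = S * S * S * (S * S * S * W') * W'⁻¹ := by group
      _ = S * (S * (S * W' * S) * S) * S * W'⁻¹ := by rw [this]; group
      _ = 1 := by rw [e5, e5, e5, mul_inv_cancel]
  refine ⟨a, r1, b, hb, c, hc', e1, e2, e3, e4, e5, ?_⟩
  have h1 : w * c * (f * a) * (w * c * (f * a)) * (w * c * (f * a)) ∈ B := by
    have := mul_mem hc' r1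
    rw [m _ _ hc' hf, m _ _ this (mul_mem hw hf), m _ _ (mul_mem this this) (mul_mem hw hf)]
    exact mul_mem r5 (mul_mem (mul_mem this this) this)
  exact odd_sq hB h1 (odd_sq hB (mul_mem h1 h1)
    (schur (k h1 F).symm (k h1 S).symm (k h1 W).symm e1 e2 e3 e4 e5 rfl))

theorem conj_of_cs [Finite G] {Q : Subgroup G} (hQ : IsPi {2} Q) {p : ℕ} (hp : p.Prime) (h2 : p ≠ 2)
    {x y : G} (hy : y ∈ N[Q]) (hx : x⁻¹ * y ∈ Q) (h1 : x ^ p = 1) (h3 : y ^ p = 1) :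
    ∃ q ∈ Q, q * x * q⁻¹ = y := by
  have pi : ∀ {x : G}, x ^ p = 1 → IsPi {p} (zpowers x) := fun h =>
    (piElt_of_pow_eq_one (by simpa using piNat_self_pow hp 1) h).isPi
  have n := zpowers_le.2 hy
  have i : Q ⊓ zpowers y = ⊥ := (hQ.compl_of_ne h2.symm).inf_eq_bot' (pi h3)
  have xq : x = y * (x⁻¹ * y)⁻¹ := by group
  obtain ⟨g, hg, e⟩ := Sylow_Jsub hp ((SD.mk_sup n i).hall_right (hQ.compl_of_ne h2.symm) (pi h3))
    (pi h1) (zpowers_le.2 (xq ▸ mul_mem (mem_sup_right (mem_zpowers y)) (mem_sup_left (inv_mem hx))))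
  obtain ⟨a, ha, q, hq, rfl⟩ := (mem_sup_of_norm' n).1 (sup_comm Q _ ▸ hg)
  refine ⟨q, hq, ?_⟩
  have h4 := mul_mem (mul_mem (inv_mem ha) (e (conj_mem_cj _ (mem_zpowers x)))) ha
  have h5 : (q * x * q⁻¹)⁻¹ * y ∈ Q ⊓ zpowers y := mem_inf.2 ⟨?_, mul_mem (inv_mem (by
    convert h4 using 1; group)) (mem_zpowers y)⟩
  · rwa [i, mem_bot, inv_mul_eq_one] at h5
  · rw [show (q * x * q⁻¹)⁻¹ * y = q * (x⁻¹ * y) * (y⁻¹ * q⁻¹ * y⁻¹⁻¹) by group]
    exact mul_mem (mul_mem hq hx) (conj_mem (inv_mem hy) (inv_mem hq))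

end H14.Ru
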