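import Mathlib
import Cfsg.Agent.H17.RM4
import Cfsg.Agent.H17.RM5
import Cfsg.Agent.H17.RQ2

/-! # Standard subgroup `Sz(8)`: generators of `N(Q)` -/

set_option autoImplicit false
set_option linter.unusedSectionVars false

namespace H14.Ru

open Cfsg H24 H29 H7.Cay Subgroup H17.RC

variable {G : Type*} [Group G] [Finite G] {L G0 V : Subgroup G}

theorem chk_lin : ∀ A B C : F8, (∀ x, A * x + B * x ^ 4 + C * x ^ 2 = 0) → C = 0 := by decide +kernel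

theorem chk_vs : ∀ c ∈ ({0, ω, ω ^ 2, ω ^ 4} : Finset F8), ∃ d ∈ ({0, ω, ω ^ 2, ω ^ 4} : Finset F8),
    d ≠ 0 ∧ d ≠ c := by decide +kernel

namespace QD
variable {X : SzD L} (Y : QD X V)

theorem piD : IsPi {2}ᶜ Y.D := (piNat_compl_iff_coprime Nat.prime_two).2 (Nat.coprime_two_left.2 Y.oddD)

theorem N_D : N[Y.Q] ≤ N[Y.D] := fun g hg => mem_N_of_finite fun d hd => by
  obtain ⟨t, ht, d', hd', e⟩ := Y.CE _ (C_anti Y.E_le (conj_mem (N_le_NC _ hg) (Y.D_Q hd)))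
  replace ht := sup_le Y.V_le Y.S_le ht
  rwa [(piElt_decomp_unique (piElt_one _) ((Y.piD.piElt hd).conj g) (Y.pi_Q.piElt ht) (Y.piD.piElt hd')
    (by simp) (mem_C.1 (Y.D_Q hd') t ht) (by rw [one_mul, e])).2]

theorem Q4 {q : G} (hq : q ∈ Y.Q) : q * q * (q * q) = 1 := by rw [Y.sq q hq, X.z_sq]

variable {Y} (hV : VD X V) (hr : Y.IsRu)
include hV hr

theorem CZ_NE {g : G} (hg : g ∈ N[Y.Q]) (hz : g ∈ C[X.Z]) : g ∈ N[V ⊔ X.Z] := by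
  by_contra hn
  obtain ⟨v, hv, v1, h⟩ := Y.exists_out hg hn
  obtain ⟨c, c0, ev⟩ := Y.π_V' hv v1 hV
  obtain ⟨d, hd, d0, dc⟩ := chk_vs c (hr.1 ▸ (show c = (Y.π v).1 by rw [ev]) ▸ Y.π_mem v (Y.V_le hv))
  rw [← hr.1] at hd
  have k : ∀ v ∈ Y.Q, ∀ s ∈ Y.Q, bf 1 (Y.π (g * v * g⁻¹)) (Y.π (g * s * g⁻¹)) = bf 1 (Y.π v) (Y.π s) :=
    fun v hv s hs => by
      have := Y.cm (conj_mem hg hv) (conj_mem hg hs)
      rw [show g * v * g⁻¹ * (g * s * g⁻¹) * (g * v * g⁻¹)⁻¹ = g * (v * s * v⁻¹) * g⁻¹ by group,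
        Y.cm hv hs, ← conj_mul, mul_right_inj, conj_eq_of_mem_C hz (X.z_mem_Z _), hr.2.2] at this
      exact (X.z_inj this).symm
  have k2 : ∀ r : F8 × F8 × F8, r.1 ∈ Y.Vs →
      d * bf 1 (Y.π (g * v * g⁻¹)) r = c * bf 1 (Y.π (g * Y.v d * g⁻¹)) r := fun r hr => by
    obtain ⟨a, ha, ea⟩ := Y.π_surj r.1 hr r.2.1 r.2.2
    obtain ⟨s, hs, rfl⟩ := mem_cj'.1 ((cj_of_mem_N hg).ge ha)
    rw [show r = _ from ea.symm, k _ (Y.V_le hv) _ hs, k _ (Y.V_le (Y.v_mem hd)) _ hs, ev, Y.π_v d hd]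
    simp only [bf]
    ring
  have m := conj_mem hg (Y.V_le hv)
  refine h (Y.E_of_sq m ?_ (by rw [conj_mul, hV.ea v hv, mul_one, mul_inv_cancel]))
  generalize Y.π (g * v * g⁻¹) = p at k2
  generalize Y.π (g * Y.v d * g⁻¹) = p' at k2
  have e1 := k2 (d, 0, 0) hd
  have e2 := chk_lin (d * p.2.1 ^ 4 + c * p'.2.1 ^ 4) (d * p.2.1 + c * p'.2.1)
    (d * p.2.2 ^ 2 + c * p'.2.2 ^ 2) fun x => by
      have := k2 (0, x, 0) Y.zero_mem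
      simp only [bf] at this
      linear_combination this + (c * (p'.2.1 ^ 4 * x + p'.2.1 * x ^ 4 + p'.2.2 ^ 2 * x ^ 2)) * F8.two
  simp only [bf] at e1
  have e3 : d * p.2.2 = c * p'.2.2 := mul_left_cancel₀ d0 (by linear_combination e1)
  have e4 : d * (d - c) * p.2.2 ^ 2 = 0 := by
    linear_combination c * e2 + (d * p.2.2 + c * p'.2.2) * e3 - c * d * p.2.2 ^ 2 * F8.two
  simpa [d0, sub_ne_zero.2 dc] using e4

theorem dec {g : G} (hg : g ∈ N[Y.Q]) (hz : g ∈ C[X.Z]) : ∃ q ∈ Y.Q, ∃ d ∈ Y.D, g = q * d :=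
  Y.CZ (by rw [hr.1]; decide +kernel) g (CZ_NE hV hr hg hz) hz

theorem exists_gens (hs : ¬ Syl 2 ⊤ Y.Q) : ∃ F σ w : G, F ∈ N[Y.Q] ⊓ C[Y.D] ∧ σ ∈ N[Y.Q] ⊓ C[Y.D] ∧
    w ∈ N[Y.Q] ⊓ C[Y.D] ∧ (∀ q ∈ Y.Q, F * q * F⁻¹ = X.f * q * X.f⁻¹) ∧ X.ZA σ 7 ∧ X.ZA w 21 ∧
    F ^ 7 = 1 ∧ σ ^ 3 = 1 ∧ σ * F * σ⁻¹ = F * F ∧ w * σ * w⁻¹ = σ * σ ∧ w * w ∈ Y.Q ∧
    w * F * (w * F) * (w * F) ∈ Y.Q := by
  obtain ⟨R, h3, h4, -, h5⟩ := exists_lt_norm_of_not_syl Nat.prime_two Y.pi_Q le_top hs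
  obtain ⟨g0, g1, g2⟩ := SetLike.exists_of_lt h4
  obtain ⟨n, g3, g4⟩ := exists_inv_pow (x := cs Y.Q g0) ((h3.piElt g1).ap _ (h5 g1))
    (mt (cs_eq_one (h5 g1)).1 g2)
  have mu : ∀ {x y}, x ∈ N[Y.Q] → y ∈ N[Y.Q] → cs Y.Q (x * y) = cs Y.Q x * cs Y.Q y :=
    fun hx hy => ap_mul _ hx hy
  have gN := h5 (pow_mem g1 n)
  rw [show cs Y.Q g0 ^ n = cs Y.Q (g0 ^ n) from (ap_pow _ (h5 g1) n).symm] at g3 g4
  rw [← mu gN gN, cs_eq_one (mul_mem gN gN)] at g4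
  set H := N[Y.Q] ⊓ C[Y.D]
  have HN : H ≤ N[Y.Q] := inf_le_left
  have fH : X.f ∈ H := mem_inf.2 ⟨Y.f_N, cents_symm Y.D_L X.f_mem⟩
  have QH : Y.Q ≤ H := le_inf (norm_self _) (cents_symm Y.D_Q)
  have AH : Y.D ⊓ C[Y.D] ≤ H := le_inf (inf_le_left.trans (Y.D_Q.trans (C_le_N _))) inf_le_right
  have AZ : Y.D ⊓ C[Y.D] ≤ C[X.Z] := inf_le_left.trans (Y.D_Q.trans (C_anti (X.Z_le_S.trans Y.S_le)))
  obtain ⟨⟨s, hs, zs⟩, w, hw, zw⟩ := X.exists_sw fH (mem_inf.2 ⟨conj_mem (norm_self _ gN) Y.f_N,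
    conj_mem (N_le_NC _ (Y.N_D gN)) fH.2⟩) (Y.NQ_NZ gN)
    (fun e => g3 (cs_of_mem (Y.two _ (CZ_NE hV hr gN e) (h3.piElt (pow_mem g1 n))))) (Y.zc g4)
  have zf := X.za_f
  have d2 : ∀ {x y k l}, x ∈ H → y ∈ H → X.ZA x k → X.ZA y l → k = l →
      (cs Y.Q y)⁻¹ * cs Y.Q x ∈ quo (Y.D ⊓ C[Y.D]) Y.Q := fun {x y k l} hx hy h1 h2 e => by
    subst e
    have m := mul_mem (inv_mem hy) hx
    obtain ⟨q, hq, d, hd, e⟩ := dec hV hr (HN m) (h1.cent h2)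
    have dA : d ∈ Y.D ⊓ C[Y.D] := mem_inf.2 ⟨hd, by
      rw [show d = q⁻¹ * (y⁻¹ * x) by rw [e]; group]; exact (mul_mem (inv_mem (QH hq)) m).2⟩
    rw [show (cs Y.Q y)⁻¹ = cs Y.Q y⁻¹ from (ap_inv _ (HN hy)).symm, ← mu (inv_mem (HN hy)) (HN hx), e,
      mu (HN (QH hq)) (HN (AH dA)), cs_of_mem hq, one_mul]
    exact cs_mem_quo dA (HN (AH dA))
  have d1 : ∀ {x k}, x ∈ H → X.ZA x k → k = 0 → cs Y.Q x ∈ quo (Y.D ⊓ C[Y.D]) Y.Q :=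
    fun hx h1 e => by
      have := d2 hx (one_mem _) h1 (SzD.za_of_C (one_mem _)) e
      rwa [cs_of_mem (one_mem _), inv_one, one_mul] at this
  have cc : ∀ {x}, x ∈ H → cs Y.Q x ∈ C[quo (Y.D ⊓ C[Y.D]) Y.Q] := fun hx =>
    quo_cent Y.Q (inf_le_right.trans (C_anti inf_le_left) : H ≤ _) (cs_mem_quo hx (HN hx))
  have fN := HN fH
  have sN := HN hs
  have wN := HN hw
  obtain ⟨a', ha', b', hb', c', hc', e1, e2, e3, e4, e5, e6⟩ := adj (odd_quo (odd_of_le Y.oddD inf_le_left) Y.Q)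
    (quo_cent Y.Q (inf_le_right.trans (C_anti inf_le_left))) (cc fH) (cc hs) (cc hw)
    (by rw [show cs Y.Q X.f ^ 7 = cs Y.Q (X.f ^ 7) from (ap_pow _ fN 7).symm, X.f7,
      cs_of_mem (one_mem _)])
    (by
      rw [← mu fN fN, ← mu (mul_mem fN fN) sN, ← mu sN fN]
      exact d2 (mul_mem hs fH) (mul_mem (mul_mem fH fH) hs) (zs.mul zf) ((zf.mul zf).mul zs)
        (by decide +kernel))
    (by
      rw [← mu sN sN, ← mu (mul_mem sN sN) sN]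
      exact d1 (mul_mem (mul_mem hs hs) hs) ((zs.mul zs).mul zs) (by decide +kernel))
    (by
      rw [← mu sN wN, ← mu (mul_mem sN wN) sN]
      exact d2 (mul_mem (mul_mem hs hw) hs) hw ((zs.mul zw).mul zs) zw (by decide +kernel))
    (by rw [← mu wN wN]; exact d1 (mul_mem hw hw) (zw.mul zw) (by decide +kernel))
    (by
      have := mul_mem hw fH
      rw [← mu wN fN, ← mu (HN this) (HN this), ← mu (HN (mul_mem this this)) (HN this)]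
      exact d1 (mul_mem (mul_mem this this) this) (((zw.mul zf).mul (zw.mul zf)).mul (zw.mul zf))
        (by decide +kernel))
  obtain ⟨a, ha, aN, rfl⟩ := mem_quo.1 ha'
  obtain ⟨b, hb, bN, rfl⟩ := mem_quo.1 hb'
  obtain ⟨c, hc, cN, rfl⟩ := mem_quo.1 hc'
  rw [← mu fN aN] at e1 e4 e6
  rw [← mu sN bN] at e2 e4 e5
  rw [← mu wN cN] at e3 e5 e6
  have FH := mul_mem fH (AH ha)
  have F7 : (X.f * a) ^ 7 = 1 := by
    rw [show cs Y.Q (X.f * a) ^ 7 = cs Y.Q ((X.f * a) ^ 7) from (ap_pow _ (HN FH) 7).symm,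
      cs_eq_one (pow_mem (HN FH) 7)] at e1
    rw [Commute.mul_pow (mem_C.1 (Y.D_L ha.1) _ X.f_mem), X.f7, one_mul] at e1 ⊢
    exact (Y.pi_Q.piElt e1).eq_one (Y.piD.piElt (pow_mem ha.1 7))
  have Ff : ∀ q ∈ Y.Q, X.f * a * q * (X.f * a)⁻¹ = X.f * q * X.f⁻¹ := fun q hq => by
    rw [← conj_eq_of_mem_C (Y.D_Q ha.1) hq]
    rw [conj_eq_of_mem_C (Y.D_Q ha.1) hq, show X.f * a * q * (X.f * a)⁻¹ =
      X.f * (a * q * a⁻¹) * X.f⁻¹ by group, conj_eq_of_mem_C (Y.D_Q ha.1) hq]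
  replace hs := mul_mem hs (AH hb)
  replace zs := zs.mul_C (AZ hb)
  replace hw := mul_mem hw (AH hc)
  replace zw := zw.mul_C (AZ hc)
  generalize X.f * a = F at *
  generalize s * b = s at *
  generalize w * c = w at *
  have cj : ∀ {x y}, x ∈ N[Y.Q] → y ∈ N[Y.Q] →
      cs Y.Q (x * y * x⁻¹) = cs Y.Q x * cs Y.Q y * (cs Y.Q x)⁻¹ := fun hx hy => ap_conj _ hx hy
  have FN := HN FH
  obtain ⟨q, hq, e7⟩ := conj_of_cs Y.pi_Q (p := 7) (by norm_num) (by norm_num) (x := s * F * s⁻¹)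
    (mul_mem FN FN) ((cs_eq_cs (HN (mul_mem (mul_mem hs FH) (inv_mem hs))) (mul_mem FN FN)).1 (by
      rw [cj (HN hs) FN, e4, mu FN FN, mul_inv_cancel_right]))
    (by rw [conj_pow, F7]; group) (by rw [(Commute.refl F).mul_pow, F7, one_mul])
  rw [show q * (s * F * s⁻¹) * q⁻¹ = q * s * F * (q * s)⁻¹ by group] at e7
  have e8 : cs Y.Q (q * s) = cs Y.Q s := by rw [mu (HN (QH hq)) (HN hs), cs_of_mem hq, one_mul]
  rw [← e8] at e2 e5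
  replace hs := mul_mem (QH hq) hs
  replace zs := zs.C_mul (Y.zc hq)
  generalize q * s = s at *
  have s3 : s * s * s ∈ Y.Q := (cs_eq_one (HN (mul_mem (mul_mem hs hs) hs))).1 (by
    rw [mu (HN (mul_mem hs hs)) (HN hs), mu (HN hs) (HN hs), e2])
  have hσ := mul_mem hs (QH s3)
  have σ3 : (s * (s * s * s)) ^ 3 = 1 := by
    rw [← Y.Q4 s3]; simp only [pow_succ, pow_zero, one_mul, mul_assoc]
  have σF : s * (s * s * s) * F * (s * (s * s * s))⁻¹ = F * F := by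
    have k : ∀ x y : G, s * (x * y) * s⁻¹ = s * x * s⁻¹ * (s * y * s⁻¹) := fun _ _ => conj_mul.symm
    calc _ = s * (s * (s * (s * F * s⁻¹) * s⁻¹) * s⁻¹) * s⁻¹ := by group
      _ = F ^ 7 * F ^ 7 * (F * F) := by
        simp only [e7, k]; simp only [pow_succ, pow_zero, one_mul, mul_assoc]
      _ = _ := by rw [F7, one_mul, one_mul]
  have e9 : cs Y.Q (s * (s * s * s)) = cs Y.Q s := by rw [mu (HN hs) (HN (QH s3)), cs_of_mem s3, mul_one]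
  rw [← e9] at e2 e5
  replace zs := zs.mul_C (Y.zc s3)
  generalize s * (s * s * s) = σ at *
  have σN := HN hσ
  obtain ⟨q', hq', e10⟩ := conj_of_cs Y.pi_Q (p := 3) (by norm_num) (by norm_num) (x := w * σ * w⁻¹)
    (mul_mem σN σN) ((cs_eq_cs (HN (mul_mem (mul_mem hw hσ) (inv_mem hw))) (mul_mem σN σN)).1 (by
      rw [cj (HN hw) σN, mu σN σN, eq_inv_of_mul_eq_one_left e2, mul_inv_eq_iff_eq_mul,
        eq_inv_mul_iff_mul_eq, ← mul_assoc, e5]))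
    (by rw [conj_pow, σ3]; group) (by rw [(Commute.refl σ).mul_pow, σ3, one_mul])
  have e11 : cs Y.Q (q' * w) = cs Y.Q w := by rw [mu (HN (QH hq')) (HN hw), cs_of_mem hq', one_mul]
  rw [← e11] at e3 e6
  replace hw := mul_mem (QH hq') hw
  have m := HN (mul_mem hw FH)
  refine ⟨F, σ, q' * w, FH, hσ, hw, Ff, zs, zw.C_mul (Y.zc hq'), F7, σ3, σF, by rw [← e10]; group,
    (cs_eq_one (HN (mul_mem hw hw))).1 (by rw [mu (HN hw) (HN hw), e3]),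
    (cs_eq_one (mul_mem (mul_mem m m) m)).1 (by
      rw [mu (mul_mem m m) m, mu m m, mu (HN hw) FN, e6])⟩

end QD

end H14.Ru
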