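import Mathlib
import Cfsg.Agent.H17.RD0
import Cfsg.Agent.H17.RM6
import Cfsg.Agent.H14.RuB2
import Cfsg.Agent.H14.RuC2
import Cfsg.Agent.H26.S01a

/-! # Standard subgroup `Sz(8)` with centraliser of order two: the class of `v` -/

set_option autoImplicit false
set_option linter.unusedSectionVars false

namespace H14.Ru

open Cfsg H24 Subgroup H17.RC

variable {G : Type*} [Group G] [Finite G] {L G0 V : Subgroup G}

theorem SzD.two_of (X : SzD L) {g : G} (h2 : PiElt {2} g) (A : F8 → F8)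
    (add : ∀ a b, A (a + b) = A a + A b) (k : ∀ a, g * X.z (a ^ 5) * g⁻¹ = X.z (A a ^ 5)) :
    g ∈ C[X.Z] := by
  have c : ∀ a : F8, (a ^ 3) ^ 5 = a := by decide +kernel
  have c' : ∀ a : F8, (a ^ 5) ^ 3 = a := by decide +kernel
  obtain ⟨l, i, e⟩ := qlemma (AddMonoidHom.mk' A add)
    (AddMonoidHom.mk' (fun b => A (b ^ 3) ^ 5) fun a b => X.z_inj (by
      rw [← X.z_mul, ← k, ← k, ← k, c, c, c, conj_mul, X.z_mul]))
    (fun a b e => by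
      have : A a = A b := e
      have e2 : X.z (a ^ 5) = X.z (b ^ 5) :=
        mul_left_cancel (a := g) (mul_right_cancel (b := g⁻¹) (by rw [k, k, this]))
      rw [← c' a, X.z_inj e2, c'])
    (fun a => by simp [c'])
  replace e : ∀ a, A a = l * a ^ 2 ^ (i : ℕ) := e
  have l0 : l ≠ 0 := by
    rintro rfl
    have := k 1
    rw [e, zero_mul, zero_pow (by norm_num), X.z_zero, conj_eq_one_iff, one_pow] at this
    exact one_ne_zero (X.z_eq_one.1 this)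
  have it : ∀ n : ℕ, ∀ b, g ^ n * X.z b * (g ^ n)⁻¹ =
      X.z ((fun b => (l * (b ^ 3) ^ 2 ^ (i : ℕ)) ^ 5)^[n] b) := by
    intro n
    induction n with
    | zero => simp
    | succ n ih =>
      intro b
      rw [Function.iterate_succ_apply, ← ih, ← e, ← k, c]
      group
  refine mem_of_pow h2 (n := 21) (by decide) (mem_C'.2 ?_)
  rintro _ ⟨b, rfl⟩
  rw [← mul_inv_eq_iff_eq_mul, it, (by decide +kernel : ∀ l : F8, l ≠ 0 → ∀ i : Fin 3, ∀ b : F8,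
    (fun b => (l * (b ^ 3) ^ 2 ^ (i : ℕ)) ^ 5)^[21] b = b) l l0 i b]

namespace QD
variable {X : SzD L} (Y : QD X V)

theorem qf_conj {g a : G} (hg : g ∈ N[Y.Q]) (ha : a ∈ Y.Q) :
    X.z (qf Y.c1 Y.c2 (Y.π (g * a * g⁻¹))) = g * X.z (qf Y.c1 Y.c2 (Y.π a)) * g⁻¹ := by
  rw [← Y.sq _ (conj_mem hg ha), ← Y.sq _ ha, conj_mul]

theorem bf_conj {g a b : G} (hg : g ∈ N[Y.Q]) (ha : a ∈ Y.Q) (hb : b ∈ Y.Q) :
    X.z (bf Y.c2 (Y.π (g * a * g⁻¹)) (Y.π (g * b * g⁻¹))) = g * X.z (bf Y.c2 (Y.π a) (Y.π b)) * g⁻¹ := by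
  have := Y.cm (conj_mem hg ha) (conj_mem hg hb)
  rw [show g * a * g⁻¹ * (g * b * g⁻¹) * (g * a * g⁻¹)⁻¹ = g * (a * b * a⁻¹) * g⁻¹ by group,
    Y.cm ha hb, ← conj_mul, mul_right_inj] at this
  exact this.symm

theorem π_congr {g a b : G} (hg : g ∈ N[Y.Q]) (ha : a ∈ Y.Q) (hb : b ∈ Y.Q) (e : Y.π a = Y.π b) :
    Y.π (g * a * g⁻¹) = Y.π (g * b * g⁻¹) := by
  obtain ⟨c, rfl⟩ := Y.eqz ha hb e
  obtain ⟨d, e⟩ := conj_mem (Y.NQ_NZ hg) (X.z_mem_Z c)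
  rw [← conj_mul, e, Y.π_mz (conj_mem hg hb)]

theorem π_conj_inj {g a b : G} (hg : g ∈ N[Y.Q]) (ha : a ∈ Y.Q) (hb : b ∈ Y.Q)
    (e : Y.π (g * a * g⁻¹) = Y.π (g * b * g⁻¹)) : Y.π a = Y.π b := by
  simpa [mul_assoc] using Y.π_congr (inv_mem hg) (conj_mem hg ha) (conj_mem hg hb) e

end QD

/-- the case `|V| = 2` -/
structure A1 {X : SzD L} (Y : QD X V) : Prop where
  st : St L ⊤
  vd : VD X V
  vs : Y.Vs = {0, 1}
  d : Y.D = ⊥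

theorem QD.mem_V2 {X : SzD L} {Y : QD X V} (hV : VD X V) (vs : Y.Vs = {0, 1}) {g : G} (hg : g ∈ V) :
    g = 1 ∨ g = Y.v 1 := by
  obtain ⟨c, hc, rfl⟩ := (Y.mem_V g).1 hg
  have e := Y.π_v c hc
  rw [vs, Finset.mem_insert, Finset.mem_singleton] at hc
  rcases hc with rfl | rfl
  · exact .inl (X.eq_one (X.S_le (X.Z_le_S (Y.π_ker _ (Y.V_le hg) e))) (hV.syl.le hg))
  · exact .inr rfl

theorem QD.a1_of {X : SzD L} (Y : QD X V) (h : St L ⊤) (hV : VD X V) (vs : Y.Vs = {0, 1})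
    (hbal : ∀ t : G, orderOf t = 2 → Cfsg.centralizerPPrimeCore 2 t = ⊥) : A1 Y := by
  refine ⟨h, hV, vs, eq_bot_iff.2 ?_⟩
  have m : (1 : F8) ∈ Y.Vs := by simp [vs]
  have vV := Y.v_mem m
  have v1 : Y.v 1 ≠ 1 := fun e => by
    have := Y.π_v 1 m
    rw [e, Y.π_one] at this
    exact zero_ne_one (congrArg Prod.fst this)
  have sd := H26.Burnside_normal_complement Nat.prime_two hV.syl fun g hg => mem_C'.2 fun x hx => by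
    rcases QD.mem_V2 hV vs hx with rfl | rfl
    · simp
    · rcases QD.mem_V2 hV vs (conj_mem hg.2 hx) with e | e
      · exact absurd (conj_eq_one_iff.1 e) v1
      · exact mul_inv_eq_iff_eq_mul.1 e
  have CN : C{Y.v 1} ≤ N[L] := fun x hx => h.comm_N v1 (hV.ea _ vV) (hV.syl.le vV) (mem_C1.1 hx)
  have n : O[{2}ᶜ, C[L]] ⊓ C{Y.v 1} ⊴ C{Y.v 1} :=
    nml_inf_of_norm' (norm_pcore _ (CN.trans (N_le_NC L)))
  rw [← hbal _ (orderOf_eq_prime (by rw [pow_two, hV.ea _ vV]) v1)]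
  refine (le_inf (Hall.le_of_nml (sd.hall_left (pcore_pi _ _) (by rw [compl_compl]; exact hV.syl.pi))
    sd.nml.norm Y.piD Y.D_L) (Y.D_Q.trans (C_le_C1 (Y.V_le vV)))).trans fun x hx => ?_
  refine ⟨⟨x, hx.2⟩, le_sSup (s := {N : Subgroup C{Y.v 1} | N.Normal ∧ (Nat.card N).Coprime 2})
    (a := (O[{2}ᶜ, C[L]] ⊓ C{Y.v 1}).subgroupOf C{Y.v 1}) ⟨n.normal, ?_⟩ hx, rfl⟩
  rw [card_subgroupOf_of_le inf_le_right]
  exact ((piNat_compl_iff_coprime Nat.prime_two).1 ((pcore_pi _ _).inf_left _)).symm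

namespace A1
variable {X : SzD L} {Y : QD X V} (h : A1 Y)
include h

theorem w2 {r : F8 × F8 × F8} : r.1 ∈ Y.Vs ↔ WD2 r := by simp [h.vs, WD2]
theorem wπ {g : G} (hg : g ∈ Y.Q) : WD2 (Y.π g) := h.w2.1 (Y.π_mem g hg)
theorem m1 : (1 : F8) ∈ Y.Vs := by simp [h.vs]
theorem vV : Y.v 1 ∈ V := Y.v_mem h.m1
theorem vQ : Y.v 1 ∈ Y.Q := Y.V_le h.vV
theorem πv : Y.π (Y.v 1) = (1, 0, 0) := Y.π_v 1 h.m1
theorem vv : Y.v 1 * Y.v 1 = 1 := h.vd.ea _ h.vV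
theorem vi : (Y.v 1)⁻¹ = Y.v 1 := inv_eq_of_mul_eq_one_right h.vv
theorem vK : Y.v 1 ∈ C[L] := h.vd.syl.le h.vV
theorem v1 : Y.v 1 ≠ 1 := fun e => by
  have := h.πv
  rw [e, Y.π_one] at this
  exact zero_ne_one (congrArg Prod.fst this)
theorem ddv : DD L (Y.v 1) := ⟨h.v1, h.vv, 1, by simpa using h.vK⟩
theorem bv (r : F8 × F8 × F8) : bf Y.c2 r (1, 0, 0) = r.2.2 := by simp [bf]
theorem bv' (r : F8 × F8 × F8) : bf Y.c2 (1, 0, 0) r = r.2.2 := by simp [bf]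

theorem lift {g : G} (hg : g ∈ N[Y.Q]) {r : F8 × F8 × F8} (hr : WD2 r) :
    ∃ a ∈ Y.Q, Y.π (g * a * g⁻¹) = r := by
  obtain ⟨a, ha, ea⟩ := Y.π_surj r.1 (h.w2.2 hr) r.2.1 r.2.2
  obtain ⟨s, hs, rfl⟩ := mem_cj'.1 ((cj_of_mem_N hg).ge ha)
  exact ⟨s, hs, ea⟩

theorem CQ {g : G} (hg : g ∈ C[X.Z]) {b : F8} (e : g * Y.v 1 * g⁻¹ = Y.v 1 * X.z b) : g ∈ Y.Q := by
  obtain ⟨q, hq, d, hd, rfl⟩ := Y.CZ (by rw [h.vs]; decide +kernel) g (mem_N_of_cj_le (by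
    rw [cj_sup, cj_of_mem_N (C_le_N _ hg)]
    refine sup_le (fun x hx => ?_) le_sup_right
    obtain ⟨v, hv, rfl⟩ := mem_cj'.1 hx
    rcases QD.mem_V2 h.vd h.vs hv with rfl | rfl
    · simp
    · exact e ▸ mul_mem (mem_sup_left hv) (mem_sup_right (X.z_mem_Z b)))) hg
  rw [h.d, mem_bot] at hd
  rwa [hd, mul_one]

theorem CQ1 {g : G} (hg : g ∈ C[X.Z]) (e : g * Y.v 1 = Y.v 1 * g) : g ∈ Y.Q :=
  h.CQ hg (b := 0) (by rw [e, X.z_zero, mul_inv_cancel_right, mul_one])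

theorem y0 {w : G} (hw : w ∈ Y.Q) (e : w * Y.v 1 = Y.v 1 * w) : (Y.π w).2.2 = 0 := by
  rwa [Y.comm_iff hw h.vQ, h.πv, h.bv] at e

theorem inZ {w : G} (hw : w ∈ C[X.Z]) (h2 : w * w = 1) (e : w * Y.v 1 = Y.v 1 * w) (hd : ¬ DD L w) :
    w ∈ X.Z := by
  by_contra hn
  exact hd (Y.dd_E (Y.E_of_sq (h.CQ1 hw e) (h.y0 (h.CQ1 hw e) e) h2) hn)

theorem sylT : Syl 2 C{Y.v 1} (V ⊔ X.S) := (X.syl_N h.vd.syl).of_le
  (sup_le (fun x hx => by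
    rcases QD.mem_V2 h.vd h.vs hx with rfl | rfl
    exacts [one_mem _, mem_C1.2 rfl]) fun x hx => mem_C1.2 (mem_C.1 h.vK x (X.S_le hx)))
  fun x hx => h.st.comm_N h.v1 h.vv h.vK (mem_C1.1 hx)

theorem CT {P : Subgroup G} (hP : IsPi {2} P) (hQ : Y.Q ≤ P) {w : G} (hw : w ∈ P)
    (e : w * Y.v 1 = Y.v 1 * w) : w ∈ Y.Q :=
  sup_le Y.V_le Y.S_le ((h.sylT.eq_of_le (hP.inf_left C{Y.v 1})
    (le_inf ((sup_le Y.V_le Y.S_le).trans hQ) h.sylT.le) inf_le_right).le (mem_inf.2 ⟨hw, mem_C1.2 e⟩))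

theorem toT {t : G} (ht : DD L t) {A : Subgroup G} (hA : IsPi {2} A) (hC : A ≤ C{t}) :
    ∃ g, t = g * Y.v 1 * g⁻¹ ∧ ∀ a ∈ A, g⁻¹ * a * g ∈ Y.Q := by
  obtain ⟨t1, t2, g, hg⟩ := ht
  obtain ⟨k, -, e⟩ := Sylow_Jsub Nat.prime_two h.vd.syl (Q := zpowers (g * t * g⁻¹))
    (piElt_of_pow_eq_one (piNat_self_pow Nat.prime_two 1)
      (by rw [pow_one, pow_two, conj_mul, t2, mul_one, mul_inv_cancel])).isPi (zpowers_le.2 hg)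
  have e1 := (QD.mem_V2 h.vd h.vs (e (conj_mem_cj k (mem_zpowers _)))).resolve_left
    (by rwa [conj_eq_one_iff, conj_eq_one_iff])
  have TQ : V ⊔ X.S ≤ Y.Q := sup_le Y.V_le Y.S_le
  obtain ⟨c, hc, e2⟩ := Sylow_Jsub Nat.prime_two h.sylT (hA.cj (k * g)) fun x hx => by
      obtain ⟨a, ha, rfl⟩ := mem_cj'.1 hx
      rw [mem_C1, ← e1]
      calc _ = k * g * (a * t) * (k * g)⁻¹ := by group
        _ = _ := by rw [mem_C1.1 (hC ha)]; group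
  refine ⟨(c * (k * g))⁻¹, ?_, fun a ha => TQ (e2 ?_)⟩
  · calc t = (c * (k * g))⁻¹ * (c * (k * (g * t * g⁻¹) * k⁻¹) * c⁻¹) * (c * (k * g))⁻¹⁻¹ := by group
      _ = _ := by rw [e1, mem_C1_iff_conj.1 hc]
  · convert conj_mem_cj c (conj_mem_cj (k * g) ha) using 1
    group

theorem exp4 {t x : G} (ht : DD L t) (h2 : PiElt {2} x) (e : x * t = t * x) : x * x * (x * x) = 1 := by
  obtain ⟨g, -, k⟩ := h.toT ht h2.isPi (zpowers_le.2 (mem_C1.2 e))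
  have := Y.Q4 (k x (mem_zpowers x))
  rwa [show g⁻¹ * x * g * (g⁻¹ * x * g) * (g⁻¹ * x * g * (g⁻¹ * x * g)) =
    g⁻¹ * (x * x * (x * x)) * g⁻¹⁻¹ by group, conj_eq_one_iff] at this

theorem NZ_of {g : G} (hg : g * Y.v 1 * g⁻¹ ∈ C[X.Z]) (k : ∀ b, g⁻¹ * X.z b * g ∈ C[X.Z]) :
    g ∈ N[X.Z] := by
  refine inv_mem_iff.1 (mem_N_of_finite ?_)
  rintro _ ⟨b, rfl⟩
  refine h.inZ (by simpa using k b) (by rw [conj_mul, X.z_sq]; simp) ?_ (not_dd_conj (h.vd.zn b) _)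
  calc _ = g⁻¹ * (X.z b * (g * Y.v 1 * g⁻¹)) * g := by group
    _ = _ := by rw [mem_C.1 hg _ (X.z_mem_Z b)]; group

theorem F2 {t : G} (ht : DD L t) (hz : t ∈ C[X.Z]) : ∃ g ∈ N[X.Z], t = g * Y.v 1 * g⁻¹ := by
  obtain ⟨g, rfl, k⟩ := h.toT ht (Y.pi_Q.of_le (X.Z_le_S.trans Y.S_le)) (mem_C_iff_le_C1.1 hz)
  exact ⟨g, h.NZ_of hz fun b => Y.zc (k _ (X.z_mem_Z b)), rfl⟩

theorem NQ_le {g q : G} (hg : g ∈ N[X.Z]) (hq : q ∈ C[X.Z]) {b : F8}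
    (e : q * (g * Y.v 1 * g⁻¹) * q⁻¹ = g * Y.v 1 * g⁻¹ * X.z b) : g⁻¹ * q * g ∈ Y.Q := by
  obtain ⟨d, e1⟩ := conj_mem' hg (X.z_mem_Z b)
  refine h.CQ (conj_mem' (N_le_NC _ hg) hq) (b := d) ?_
  calc _ = g⁻¹ * (q * (g * Y.v 1 * g⁻¹) * q⁻¹) * g := by group
    _ = _ := by rw [e, ← e1]; group

theorem NQ_of {g : G} (hg : g ∈ N[X.Z]) (m : g * Y.v 1 * g⁻¹ ∈ Y.Q) : g ∈ N[Y.Q] :=
  inv_mem_iff.1 (mem_N_of_finite fun q hq => by simpa using h.NQ_le hg (Y.zc hq) (Y.cm hq m))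

theorem thomp {P P0 : Subgroup G} (hP : Syl 2 ⊤ P) (h1 : Y.v 1 ∈ P)
    (h2 : ∀ p ∈ P, p ∈ P0 ∨ p * Y.v 1 ∈ P0) (h3 : ∀ t ∈ P0, ¬ DD L t) : False := by
  have h4 := fun e => h3 _ e h.ddv
  rcases H3.thompson_transfer P P0 (by
    have := hP.not_dvd Nat.prime_two
    rwa [relIndex_top_right, ← even_iff_two_dvd, Nat.not_even_iff_odd] at this)
    (relIndex_eq_two_iff.2 ⟨_, h1, fun b hb => by
      rcases h2 b hb with e | e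
      · exact .inr ⟨e, by rwa [mul_mem_cancel_left e]⟩
      · exact .inl ⟨e, fun e' => h4 (by rwa [mul_mem_cancel_left e'] at e)⟩⟩) _ h.vv h1 h4
    with ⟨M, n, e, k⟩ | ⟨g, hg⟩
  · have := h.st.simple
    rcases (n.subgroupOf ⊤).eq_bot_or_eq_top with e1 | e1
    · rw [subgroupOf_eq_bot, disjoint_top] at e1
      rw [e1, index_bot] at e
      have := L.card_le_card_group
      rw [X.card] at this
      omega
    · exact k (subgroupOf_eq_top.1 e1 (mem_top _))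
  · exact h3 _ hg (dd_conj h.ddv g)

theorem step1 {g : G} (hg : g ∈ N[Y.Q]) : Y.π (g * Y.v 1 * g⁻¹) = (1, 0, 0) ∨
    Y.c2 = 0 ∧ (Y.c1 = 0 ∨ Y.c1 = 1) ∧ (Y.π (g * Y.v 1 * g⁻¹)).1 = 1 := by
  have m := conj_mem hg h.vQ
  by_cases y0 : (Y.π (g * Y.v 1 * g⁻¹)).2.2 = 0
  · left
    have e := (Y.mem_E m).1 (Y.E_of_sq m y0 (dd_conj h.ddv g).2.1)
    rcases h.wπ m with e1 | e1
    · obtain ⟨b, e2⟩ := Y.π_ker _ m (Prod.ext e1 e)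
      exact absurd (e2 ▸ dd_conj h.ddv g) (h.vd.zn b)
    · exact Prod.ext e1 e
  right
  obtain ⟨i, hi⟩ := exists_pow5 _ (inv_ne_zero y0)
  have e := Y.π_fpow m i
  rw [← hi, inv_mul_cancel₀ y0, show X.f ^ (i : ℕ) * (g * Y.v 1 * g⁻¹) * (X.f ^ (i : ℕ))⁻¹ =
    X.f ^ (i : ℕ) * g * Y.v 1 * (X.f ^ (i : ℕ) * g)⁻¹ by group] at e
  replace hg := mul_mem (pow_mem Y.f_N i) hg
  generalize X.f ^ (i : ℕ) * g = n at e hg
  have bv : ∀ {n}, n ∈ N[Y.Q] → ∀ a ∈ Y.Q, X.z (bf Y.c2 (Y.π (n * Y.v 1 * n⁻¹)) (Y.π (n * a * n⁻¹))) =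
      n * X.z (Y.π a).2.2 * n⁻¹ := fun hn a ha => by rw [Y.bf_conj hn h.vQ ha, h.πv, h.bv']
  have z0 : ∀ {n b c}, X.z b = n * X.z c * n⁻¹ → (b = 0 ↔ c = 0) := fun e => by
    rw [← X.z_eq_one, e, conj_eq_one_iff, X.z_eq_one]
  refine chk_v _ _ _ _ (h.wπ m) (e ▸ (Y.sq_iff (conj_mem hg h.vQ)).1 (dd_conj h.ddv n).2.1) ?_ ?_ ?_ <;>
    rw [← e]
  · intro r hr h1 h2
    obtain ⟨a, ha, rfl⟩ := h.lift hg hr
    have e1 := (Y.mem_E ha).1 (Y.E_of_sq ha ((z0 (bv hg a ha)).1 h2)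
      ((Y.sq_iff ha).2 ((z0 (Y.qf_conj hg ha)).1 h1)))
    rcases h.wπ ha with e2 | e2
    · left
      rw [Y.π_congr hg ha (one_mem _) ((Prod.ext e2 e1).trans Y.π_one.symm), mul_one, mul_inv_cancel,
        Y.π_one]
    · exact .inr (Y.π_congr hg ha h.vQ ((Prod.ext e2 e1).trans h.πv.symm))
  · refine ⟨_, h.wπ (conj_mem hg (Y.u_mem 1 0)), (z0 (bv hg _ (Y.u_mem 1 0))).2 (by rw [Y.π_u]),
      _, h.wπ (conj_mem hg (Y.u_mem ω 0)), (z0 (bv hg _ (Y.u_mem ω 0))).2 (by rw [Y.π_u]), fun e => ?_⟩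
    rw [z0 (Y.bf_conj hg (Y.u_mem 1 0) (Y.u_mem ω 0)), Y.π_u, Y.π_u] at e
    simp only [bf, ne_eq, OfNat.ofNat_ne_zero, not_false_eq_true, zero_pow, mul_zero, add_zero] at e
    exact absurd e (by decide +kernel)
  · intro r hr r1 r2 s hs s1 s2 sr z hz
    obtain ⟨a, ha, rfl⟩ := h.lift hg hr
    obtain ⟨b, hb, rfl⟩ := h.lift hg hs
    have e1 : (Y.π b).2.2 = (Y.π a).2.2 := X.z_inj (by
      have := (bv hg b hb).symm.trans (s2 ▸ bv hg a ha)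
      rwa [mul_left_inj, mul_right_inj] at this)
    obtain ⟨d, e2⟩ := conj_mem' (Y.NQ_NZ hg) (X.z_mem_Z z)
    have d0 : d ≠ 0 := fun e => hz ((z0 (n := n) (by rw [← e2]; group)).2 e)
    have a0 := mt (z0 (bv hg a ha)).2 r2
    obtain ⟨j, hj⟩ := exists_pow5 _ (div_ne_zero d0 a0)
    have hn := mul_mem hg (pow_mem Y.f_N j)
    have e3 : n * X.f ^ (j : ℕ) * Y.v 1 * (n * X.f ^ (j : ℕ))⁻¹ = n * Y.v 1 * n⁻¹ := by
      rw [mul_assoc n, mem_C.1 h.vK _ (pow_mem X.f_mem j)]; group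
    have k : ∀ a ∈ Y.Q, (ω ^ 5) ^ (j : ℕ) * (Y.π a).2.2 = d → bf Y.c2 (Y.π (n * Y.v 1 * n⁻¹))
        (Y.π (n * X.f ^ (j : ℕ) * a * (n * X.f ^ (j : ℕ))⁻¹)) = z := fun a ha e => X.z_inj (by
      rw [← e3, bv hn a ha, show ∀ x, n * X.f ^ (j : ℕ) * x * (n * X.f ^ (j : ℕ))⁻¹ =
        n * (X.f ^ (j : ℕ) * x * (X.f ^ (j : ℕ))⁻¹) * n⁻¹ from fun x => by group, X.fpow_z, e, ← e2]
      group)
    exact ⟨_, h.wπ (conj_mem hn ha), (z0 (Y.qf_conj hn ha)).2 ((z0 (Y.qf_conj hg ha)).1 r1),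
      k a ha (by rw [← hj, div_mul_cancel₀ _ a0]), _, h.wπ (conj_mem hn hb),
      (z0 (Y.qf_conj hn hb)).2 ((z0 (Y.qf_conj hg hb)).1 s1),
      k b hb (by rw [← hj, e1, div_mul_cancel₀ _ a0]),
      fun e => sr (Y.π_congr hg hb ha (Y.π_conj_inj hn hb ha e))⟩

theorem dd_Q {t : G} (ht : DD L t) (hq : t ∈ Y.Q) : (Y.π t).1 = 1 := by
  obtain ⟨g, hg, rfl⟩ := h.F2 ht (Y.zc hq)
  rcases h.step1 (h.NQ_of hg hq) with e | e
  · rw [e]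
  · exact e.2.2

end A1

end H14.Ru
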