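import Mathlib
import Cfsg.Agent.H17.RD1

/-! # Standard subgroup `Sz(8)` with centraliser of order two: the wreath product case -/

set_option autoImplicit false
set_option linter.unusedSectionVars false

namespace H14.Ru

open Cfsg H24 Subgroup H17.RC

variable {G : Type*} [Group G] [Finite G] {L G0 V : Subgroup G}

namespace QD
variable {X : SzD L} (Y : QD X V)

/-- first coordinate zero -/
def Q0 : Subgroup G where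
  carrier := {g | g ∈ Y.Q ∧ (Y.π g).1 = 0}
  mul_mem' := fun ha hb => ⟨mul_mem ha.1 hb.1, by rw [Y.π_mul _ ha.1 _ hb.1]; simp [ha.2, hb.2]⟩
  one_mem' := ⟨one_mem _, by rw [Y.π_one]; rfl⟩
  inv_mem' := fun ha => ⟨inv_mem ha.1, by rw [Y.π_inv ha.1]; exact ha.2⟩

/-- first two coordinates zero -/
def U0 : Subgroup G where
  carrier := {g | g ∈ Y.Q ∧ (Y.π g).1 = 0 ∧ (Y.π g).2.1 = 0}
  mul_mem' := fun ha hb => ⟨mul_mem ha.1 hb.1, by rw [Y.π_mul _ ha.1 _ hb.1]; simp [ha.2, hb.2]⟩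
  one_mem' := ⟨one_mem _, by rw [Y.π_one]; exact ⟨rfl, rfl⟩⟩
  inv_mem' := fun ha => ⟨inv_mem ha.1, by rw [Y.π_inv ha.1]; exact ha.2⟩

theorem mem_Q0 {g : G} : g ∈ Y.Q0 ↔ g ∈ Y.Q ∧ (Y.π g).1 = 0 := Iff.rfl
theorem mem_U0 {g : G} : g ∈ Y.U0 ↔ g ∈ Y.Q ∧ (Y.π g).1 = 0 ∧ (Y.π g).2.1 = 0 := Iff.rfl
theorem π_U0 {g : G} (h : g ∈ Y.U0) : Y.π g = (0, 0, (Y.π g).2.2) := Prod.ext h.2.1 (Prod.ext h.2.2 rfl)
theorem exists_U0 (y : F8) : ∃ u ∈ Y.U0, Y.π u = (0, 0, y) := by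
  obtain ⟨u, hu, e⟩ := Y.π_surj 0 Y.zero_mem 0 y
  exact ⟨u, ⟨hu, by rw [e], by rw [e]⟩, e⟩
theorem u_Q0 (a b : F8) : X.u a b ∈ Y.Q0 := ⟨Y.u_mem a b, by rw [Y.π_u]⟩
theorem Z_U0 : X.Z ≤ Y.U0 := by
  rintro _ ⟨b, rfl⟩
  exact ⟨Y.z_mem b, by rw [Y.π_z]; exact ⟨rfl, rfl⟩⟩
theorem U0_Q0 : Y.U0 ≤ Y.Q0 := fun _ h => ⟨h.1, h.2.1⟩
theorem Q0_Q : Y.Q0 ≤ Y.Q := fun _ h => h.1
theorem f_U0 {u : G} (h : u ∈ Y.U0) (i : ℕ) : X.f ^ i * u * (X.f ^ i)⁻¹ ∈ Y.U0 :=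
  ⟨conj_mem (pow_mem Y.f_N i) h.1, by rw [Y.π_fpow h.1]; simp [h.2]⟩

end QD

namespace A1
variable {X : SzD L} {Y : QD X V} (h : A1 Y)
include h

theorem not_syl : ¬ Syl 2 ⊤ Y.Q := fun hs => h.thomp (P0 := Y.Q0) hs h.vQ (fun p hp => by
  rcases h.wπ hp with e | e
  · exact .inl ⟨hp, e⟩
  · exact .inr ⟨mul_mem hp h.vQ, by rw [Y.π_mul _ hp _ h.vQ, h.πv]; simp [e, F8.add_self]⟩)
  fun t ht hd => zero_ne_one (ht.2.symm.trans (h.dd_Q hd ht.1))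

theorem c2 : Y.c2 = 0 ∧ (Y.c1 = 0 ∨ Y.c1 = 1) := by
  obtain ⟨R, h3, h4, -, h5⟩ := exists_lt_norm_of_not_syl Nat.prime_two Y.pi_Q le_top h.not_syl
  obtain ⟨g, g1, g2⟩ := SetLike.exists_of_lt h4
  obtain ⟨v, hv, v1, e⟩ := Y.exists_out (h5 g1) fun e => g2 (Y.two g e (h3.piElt g1))
  obtain rfl := (QD.mem_V2 h.vd h.vs hv).resolve_left v1
  rcases h.step1 (h5 g1) with e1 | e1
  · exact absurd ((Y.mem_E (conj_mem (h5 g1) h.vQ)).2 (by rw [e1]; rfl)) e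
  · exact ⟨e1.1, e1.2.1⟩

theorem bU (r : F8 × F8 × F8) (y : F8) : bf Y.c2 r (0, 0, y) = r.1 * y := by simp [bf, h.c2.1]
theorem bS (r : F8 × F8 × F8) (x : F8) : bf Y.c2 r (0, x, 0) = Bf r.2.1 x := by simp [bf, Bf, h.c2.1]

theorem cU {q u : G} (hq : q ∈ Y.Q) (hu : u ∈ Y.U0) :
    q * u * q⁻¹ = u * X.z ((Y.π q).1 * (Y.π u).2.2) := by
  rw [Y.cm hq hu.1, Y.π_U0 hu, h.bU]

theorem Q0_eq : Y.Q0 = Y.Q ⊓ C[Y.U0] := by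
  ext q
  refine ⟨fun hq => mem_inf.2 ⟨hq.1, mem_C'.2 fun u hu => ?_⟩, fun hq => ⟨hq.1, ?_⟩⟩
  · rw [← mul_inv_eq_iff_eq_mul, h.cU hq.1 hu, hq.2, zero_mul, X.z_zero, mul_one]
  · obtain ⟨u, hu, e⟩ := Y.exists_U0 1
    have := h.cU hq.1 hu
    rwa [conj_eq_of_mem_C hq.2 hu, left_eq_mul, X.z_eq_one, e, mul_one] at this

theorem NQ_U : N[Y.Q] ≤ N[Y.U0] := fun g hg => mem_N_of_finite fun u hu => by
  refine ⟨conj_mem hg hu.1, (chk_U _ (h.wπ (conj_mem hg hu.1))).1 fun p hp p' hp' e e' => ?_⟩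
  obtain ⟨a, ha, rfl⟩ := h.lift hg hp
  obtain ⟨b, hb, rfl⟩ := h.lift hg hp'
  have k1 := Y.bf_conj hg hu.1 ha
  have k2 := Y.bf_conj hg hu.1 hb
  rw [h.c2.1] at k1 k2
  rw [Ne, ← X.z_eq_one, k1, conj_eq_one_iff, X.z_eq_one] at e
  rw [Ne, ← X.z_eq_one, k2, conj_eq_one_iff, X.z_eq_one] at e'
  exact X.z_inj (by rw [k1, k2, (chk_U _ (h.wπ hu.1)).2 hu.2 _ (h.wπ ha) _ (h.wπ hb) e e'])

theorem NQ_Q0 : N[Y.Q] ≤ N[Y.Q0] := h.Q0_eq ▸ norm_inf le_rfl (norm_C h.NQ_U)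

section
variable (c1 : Y.c1 = 0)
include c1

theorem q0 (r : F8 × F8 × F8) : qf Y.c1 Y.c2 r = r.2.1 ^ 5 + r.1 * r.2.2 := by simp [qf, c1, h.c2.1]

theorem two {g : G} (hg : g ∈ N[Y.Q]) (h2 : PiElt {2} g) : g ∈ C[X.Z] :=
  X.two_of h2 (fun a => (Y.π (g * X.u a 0 * g⁻¹)).2.1) (fun a b => by
    rw [Y.π_congr hg (Y.u_mem _ _) (mul_mem (Y.u_mem a 0) (Y.u_mem b 0)) (by
      rw [X.u_mul, Y.π_u, Y.π_u]), ← conj_mul, Y.π_mul _ (conj_mem hg (Y.u_mem _ _)) _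
      (conj_mem hg (Y.u_mem _ _))]
    rfl) fun a => by
      have := Y.qf_conj hg (Y.u_mem a 0)
      rw [h.q0 c1, h.q0 c1, (conj_mem (h.NQ_Q0 hg) (Y.u_Q0 a 0)).2, Y.π_u] at this
      simpa using this.symm

variable {p : G} (hp : p ∈ N[Y.Q] ⊓ C[X.Z])
include hp

theorem πt : Y.π (p * Y.v 1 * p⁻¹) =
    (1, (Y.π (p * Y.v 1 * p⁻¹)).2.1, (Y.π (p * Y.v 1 * p⁻¹)).2.1 ^ 5) := by
  have m := conj_mem hp.1 h.vQ
  have e1 := h.dd_Q (dd_conj h.ddv p) m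
  have e2 := (Y.sq_iff m).1 (dd_conj h.ddv p).2.1
  rw [h.q0 c1, e1, one_mul] at e2
  exact Prod.ext e1 (Prod.ext rfl (by
    change _ = _ ^ 5
    linear_combination e2 - (Y.π (p * Y.v 1 * p⁻¹)).2.1 ^ 5 * F8.two))

theorem actQ {q : G} (hq : q ∈ Y.Q0) : Y.π (p * q * p⁻¹) =
    (0, (Y.π q).2.1, (Y.π q).2.2 + Bf (Y.π (p * Y.v 1 * p⁻¹)).2.1 (Y.π q).2.1) := by
  have m := conj_mem (h.NQ_Q0 hp.1) hq
  have e1 := Y.qf_conj hp.1 hq.1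
  have e2 := Y.bf_conj hp.1 h.vQ hq.1
  rw [conj_eq_of_mem_C hp.2 (X.z_mem_Z _)] at e1 e2
  replace e1 := X.z_inj e1
  replace e2 := X.z_inj e2
  rw [h.q0 c1, h.q0 c1, m.2, hq.2, zero_mul, zero_mul, add_zero, add_zero] at e1
  replace e1 := (by decide +kernel : ∀ a b : F8, a ^ 5 = b ^ 5 → a = b) _ _ e1
  rw [h.πv, h.bv', h.πt c1 hp, bf, h.c2.1, m.2, e1] at e2
  refine Prod.ext m.2 (Prod.ext e1 ?_)
  simp only [Bf]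
  linear_combination e2 - ((Y.π (p * Y.v 1 * p⁻¹)).2.1 ^ 4 * (Y.π q).2.1 +
    (Y.π (p * Y.v 1 * p⁻¹)).2.1 * (Y.π q).2.1 ^ 4) * F8.two

theorem s_mul {p' : G} (hp' : p' ∈ N[Y.Q] ⊓ C[X.Z]) : (Y.π (p * p' * Y.v 1 * (p * p')⁻¹)).2.1 =
    (Y.π (p * Y.v 1 * p⁻¹)).2.1 + (Y.π (p' * Y.v 1 * p'⁻¹)).2.1 := by
  have m := conj_mem hp'.1 h.vQ
  have e := Y.π_mul _ h.vQ _ m
  rw [h.πv, h.πt c1 hp'] at e
  have m' : Y.v 1 * (p' * Y.v 1 * p'⁻¹) ∈ Y.Q0 := ⟨mul_mem h.vQ m, by rw [e]; simp [F8.add_self]⟩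
  rw [show p * p' * Y.v 1 * (p * p')⁻¹ = p * Y.v 1 * p⁻¹ * (p * (Y.v 1 * (p' * Y.v 1 * p'⁻¹)) * p⁻¹) by
    rw [conj_mul, ← mul_assoc (Y.v 1), h.vv]; group, Y.π_mul _ (conj_mem hp.1 h.vQ) _
    (conj_mem hp.1 m'.1), h.actQ c1 hp m', e]
  simp

theorem s_zero (e : (Y.π (p * Y.v 1 * p⁻¹)).2.1 = 0) : p ∈ Y.Q := by
  obtain ⟨b, e1⟩ := Y.eqz (conj_mem hp.1 h.vQ) h.vQ (by rw [h.πt c1 hp, e, h.πv]; simp)
  exact h.CQ hp.2 e1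

theorem sq_Q : p * p ∈ Y.Q := h.s_zero c1 (mul_mem hp hp) (by rw [h.s_mul c1 hp hp, F8.add_self])

theorem exists_l : ∃ l : F8 →+ F8, ∀ u ∈ Y.U0, p * u * p⁻¹ = u * X.z (l (Y.π u).2.2) := by
  choose uu h1 h2 using Y.exists_U0
  have k : ∀ u ∈ Y.U0, ∃ b, p * u * p⁻¹ = u * X.z b := fun u hu =>
    Y.eqz (conj_mem hp.1 hu.1) hu.1 (by
      rw [h.actQ c1 hp (Y.U0_Q0 hu), hu.2.2, Y.π_U0 hu]; simp [Bf])
  choose l hl using fun y => k _ (h1 y)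
  have k2 : ∀ u ∈ Y.U0, p * u * p⁻¹ = u * X.z (l (Y.π u).2.2) := fun u hu => by
    obtain ⟨b, e⟩ := Y.eqz hu.1 (h1 (Y.π u).2.2).1 ((Y.π_U0 hu).trans (h2 _).symm)
    generalize (Y.π u).2.2 = y at e
    rw [e, ← conj_mul, hl, conj_eq_of_mem_C hp.2 (X.z_mem_Z _), mul_assoc, mul_assoc, X.z_mul, X.z_mul,
      add_comm]
  refine ⟨AddMonoidHom.mk' l fun a b => X.z_inj ?_, k2⟩
  have := k2 _ (mul_mem (h1 a) (h1 b))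
  rw [← conj_mul, hl, hl, Y.π_mul _ (h1 a).1 _ (h1 b).1, h2, h2, mul_assoc, ← mul_assoc (X.z _),
    Y.zq (h1 b).1, mul_assoc, X.z_mul, mul_assoc, mul_right_inj, mul_right_inj] at this
  exact this.symm

theorem dich : p ∈ C[Y.U0] ∨ p * Y.v 1 ∈ C[Y.U0] ∧ (p * p = 1 → p ∈ Y.Q) := by
  obtain ⟨l, hl⟩ := h.exists_l c1 hp
  have H : ∀ x, l (Bf (Y.π (p * Y.v 1 * p⁻¹)).2.1 x) = Bf (Y.π (p * p)).2.1 x := fun x => by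
    have m := conj_mem hp.1 (Y.u_mem x 0)
    have e := Y.π_mul _ (inv_mem (Y.u_mem x 0)) _ m
    rw [Y.π_inv (Y.u_mem x 0), h.actQ c1 hp (Y.u_Q0 x 0), Y.π_u] at e
    simp only [Prod.mk_add_mk, F8.add_self, zero_add] at e
    have m' : (X.u x 0)⁻¹ * (p * X.u x 0 * p⁻¹) ∈ Y.U0 :=
      ⟨mul_mem (inv_mem (Y.u_mem x 0)) m, by rw [e], by rw [e]⟩
    have e1 := Y.cm (h.sq_Q c1 hp) (Y.u_mem x 0)
    have e2 := hl _ m'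
    have e3 := Y.sq _ m'.1
    rw [e] at e2 e3
    rw [h.q0 c1, zero_mul, zero_pow (by norm_num), add_zero, X.z_zero] at e3
    rw [Y.π_u, h.bS, show p * p * X.u x 0 * (p * p)⁻¹ = X.u x 0 * ((X.u x 0)⁻¹ * (p * X.u x 0 * p⁻¹) *
      (p * ((X.u x 0)⁻¹ * (p * X.u x 0 * p⁻¹)) * p⁻¹)) by group, e2, ← mul_assoc _ _ (X.z _), e3, one_mul,
      mul_right_inj] at e1
    exact X.z_inj e1
  have : (∀ y, l y = 0) ∨ ∀ y, l y = y := by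
    by_cases s0 : (Y.π (p * Y.v 1 * p⁻¹)).2.1 = 0
    · have k : ∀ y, l y = (Y.π p).1 * y := fun y => by
        obtain ⟨u, hu, e⟩ := Y.exists_U0 y
        have := (hl u hu).symm.trans (h.cU (h.s_zero c1 hp s0) hu)
        rw [mul_right_inj, e] at this
        exact X.z_inj this
      rcases h.wπ (h.s_zero c1 hp s0) with e | e <;> simp [k, e]
    · have m : ∀ i : ℕ, X.f ^ i * p * (X.f ^ i)⁻¹ ∈ N[Y.Q] ⊓ C[X.Z] := fun i => mem_inf.2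
        ⟨conj_mem (norm_self _ (pow_mem Y.f_N i)) hp.1,
          conj_mem (N_le_NC _ (pow_mem X.f_mem_NZ.2 i)) hp.2⟩
      have es : ∀ i : ℕ, (Y.π (X.f ^ i * p * (X.f ^ i)⁻¹ * Y.v 1 * (X.f ^ i * p * (X.f ^ i)⁻¹)⁻¹)).2.1 =
          ω ^ i * (Y.π (p * Y.v 1 * p⁻¹)).2.1 := fun i => by
        rw [show X.f ^ i * p * (X.f ^ i)⁻¹ * Y.v 1 * (X.f ^ i * p * (X.f ^ i)⁻¹)⁻¹ =
          X.f ^ i * (p * ((X.f ^ i)⁻¹ * Y.v 1 * X.f ^ i) * p⁻¹) * (X.f ^ i)⁻¹ by group,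
          mem_C.1 h.vK _ (inv_mem (pow_mem X.f_mem i)), inv_mul_cancel_right,
          Y.π_fpow (conj_mem hp.1 h.vQ)]
      have el : ∀ i : ℕ, ∀ u ∈ Y.U0, X.f ^ i * p * (X.f ^ i)⁻¹ * (X.f ^ i * u * (X.f ^ i)⁻¹) *
          (X.f ^ i * p * (X.f ^ i)⁻¹)⁻¹ = X.f ^ i * u * (X.f ^ i)⁻¹ * X.z ((ω ^ 5) ^ i * l (Y.π u).2.2) :=
        fun i u hu => by rw [← X.fpow_z, conj_mul (a := u), ← hl u hu]; group
      have hq := h.s_zero c1 (mul_mem (mul_mem hp (m 1)) (m 3)) (by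
        rw [h.s_mul c1 (mul_mem hp (m 1)) (m 3), h.s_mul c1 hp (m 1), es, es]
        linear_combination (Y.π (p * Y.v 1 * p⁻¹)).2.1 * (by decide +kernel : 1 + ω ^ 1 + ω ^ 3 = 0))
      rw [show (l : F8 → F8) = lin3 (l 1) (l ω) (l (ω ^ 2)) from funext (map_eq_lin3 l)] at H ⊢
      refine chk_l _ _ _ _ s0 ⟨_, H⟩ ⟨_, h.wπ hq, fun y => X.z_inj ?_⟩
      obtain ⟨u, hu, e⟩ := Y.exists_U0 y
      have e1 := h.cU hq (Y.f_U0 hu 3)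
      have e2 := el 1 _ (Y.f_U0 hu 2)
      rw [show X.f ^ 1 * (X.f ^ 2 * u * (X.f ^ 2)⁻¹) * (X.f ^ 1)⁻¹ = X.f ^ 3 * u * (X.f ^ 3)⁻¹ by group]
        at e2
      have e3 := el 3 _ hu
      have e4 := hl _ (Y.f_U0 hu 3)
      have e5 := fun b => conj_eq_of_mem_C hp.2 (X.z_mem_Z b)
      have e6 := fun b => conj_eq_of_mem_C (m 1).2 (X.z_mem_Z b)
      generalize X.f ^ 1 * p * (X.f ^ 1)⁻¹ = p1 at *
      generalize X.f ^ 3 * p * (X.f ^ 3)⁻¹ = p3 at *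
      rw [show ∀ x, p * p1 * p3 * x * (p * p1 * p3)⁻¹ = p * (p1 * (p3 * x * p3⁻¹) * p1⁻¹) * p⁻¹ from
        fun x => by group, e3, ← conj_mul (b := p1), e2, e6, ← conj_mul, ← conj_mul, e4,
        e5, e5, mul_assoc, mul_assoc, mul_right_inj, X.z_mul, X.z_mul,
        Y.π_fpow hu.1, Y.π_fpow hu.1, e] at e1
      simp only [← map_eq_lin3 l]
      convert e1 using 2 <;> ring_nf
  rcases this with e | e
  · exact .inl (mem_C'.2 fun u hu => by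
      rw [← mul_inv_eq_iff_eq_mul, hl u hu, e, X.z_zero, mul_one])
  · refine .inr ⟨mem_C'.2 fun u hu => ?_, fun e1 => h.s_zero c1 hp (Bf_zero _ fun x => ?_)⟩
    · rw [← mul_inv_eq_iff_eq_mul, show p * Y.v 1 * u * (p * Y.v 1)⁻¹ =
        p * (Y.v 1 * u * (Y.v 1)⁻¹) * p⁻¹ by group, h.cU h.vQ hu, ← conj_mul, hl u hu, e,
        conj_eq_of_mem_C hp.2 (X.z_mem_Z _), h.πv, one_mul, mul_assoc, X.z_sq, mul_one]
    · rw [← e (Bf _ _), H, e1, Y.π_one]; simp [Bf]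

omit hp in
theorem no_dd {t : G} (h1 : t ∈ C[X.Z]) (h2 : t ∈ C[Y.U0]) (ht : DD L t) : False := by
  obtain ⟨g, hg, rfl⟩ := h.F2 ht h1
  obtain ⟨u, hu, e⟩ := Y.exists_U0 1
  have := h.inZ (conj_mem (N_le_NC _ (inv_mem hg)) (Y.zc hu.1)) (by
    rw [conj_mul, (Y.sq_iff hu.1).2 (by rw [e, h.q0 c1]; simp)]; simp) (by
    calc _ = g⁻¹ * (u * (g * Y.v 1 * g⁻¹)) * g := by group
      _ = _ := by rw [mem_C.1 h2 _ hu]; group)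
    (not_dd_conj (fun hd => zero_ne_one (hu.2.1.symm.trans (h.dd_Q hd hu.1))) _)
  obtain ⟨b, e1⟩ := (mem_N.1 (inv_mem hg) u).2 this
  rw [e1, Y.π_z] at e
  exact zero_ne_one (congrArg (·.2.2) e)

omit hp in
theorem false0 : False := by
  have pi : IsPi {2} (N[Y.Q] ⊓ C[X.Z]) := isPi_iff_piElt.2 fun p hp =>
    piElt_of_pow_eq_one (piNat_self_pow Nat.prime_two 3) (by
      rw [← Y.Q4 (h.sq_Q c1 hp)]; simp only [pow_succ, pow_zero, one_mul, mul_assoc, Nat.reduceMul])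
  have QP : Y.Q ≤ N[Y.Q] ⊓ C[X.Z] := le_inf (norm_self _) Y.zc
  refine h.thomp (P0 := N[Y.Q] ⊓ C[X.Z] ⊓ C[Y.U0]) (by_contra fun hn => ?_) (QP h.vQ)
    (fun p hp => (h.dich c1 hp).imp (fun e => mem_inf.2 ⟨hp, e⟩)
      fun e => mem_inf.2 ⟨mul_mem hp (QP h.vQ), e.1⟩) fun t ht => h.no_dd c1 ht.1.2 ht.2
  obtain ⟨R, h3, h4, -, h5⟩ := exists_lt_norm_of_not_syl Nat.prime_two pi le_top hn
  obtain ⟨g, g1, g2⟩ := SetLike.exists_of_lt h4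
  have m := conj_mem (h5 g1) (QP h.vQ)
  have := h.NQ_of (h.NZ_of m.2 fun b => (conj_mem' (h5 g1) (QP (Y.z_mem b))).2)
    (((h.dich c1 m).resolve_left fun e => h.no_dd c1 m.2 e (dd_conj h.ddv g)).2 (dd_conj h.ddv g).2.1)
  exact g2 (mem_inf.2 ⟨this, h.two c1 this (h3.piElt g1)⟩)

end

end A1

end H14.Ru
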