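import Mathlib
import Cfsg.Agent.H17.RD2

/-! # Standard subgroup `Sz(8)` with centraliser of order two: the homocyclic case, I -/

set_option autoImplicit false
set_option linter.unusedSectionVars false

namespace H14.Ru

open Cfsg H24 Subgroup H17.RC

variable {G : Type*} [Group G] [Finite G] {L G0 V : Subgroup G}

theorem exists_det {U : Subgroup G} (e : (Fin 3 → ZMod 4) → G) (h1 : ∀ a b, e (a + b) = e a * e b)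
    (h2 : Function.Injective e) (h3 : ∀ g, g ∈ U ↔ ∃ a, g = e a) {v : G} (hv : v ∈ N[U])
    (h4 : ∀ u ∈ U, v * u * v⁻¹ = u⁻¹) : ∃ K : Subgroup G, (∀ g ∈ N[U], g ∈ K ∨ g * v ∈ K) ∧
      ∀ t ∈ K, ¬ ∀ u ∈ U, t * u * t⁻¹ = u⁻¹ := by
  choose φ hφ using fun (g : N[U]) a => (h3 _).1 (conj_mem g.2 ((h3 _).2 ⟨a, rfl⟩))
  let Φ : N[U] →* Module.End (ZMod 4) (Fin 3 → ZMod 4) :=
    { toFun := fun g => (AddMonoidHom.mk' (φ g) fun a b => h2 (by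
        rw [h1, ← hφ, ← hφ, ← hφ, h1, conj_mul])).toZModLinearMap 4
      map_one' := LinearMap.ext fun a => h2 ((hφ 1 a).symm.trans (by simp))
      map_mul' := fun g k => LinearMap.ext fun a => h2 ((hφ (g * k) a).symm.trans (by
        change _ = e (φ g (φ k a))
        rw [← hφ, ← hφ, coe_mul]; group)) }
  have e0 : e 0 = 1 := mul_left_cancel ((h1 0 0).symm.trans (by simp))
  have k : ∀ t : N[U], (∀ u ∈ U, t * u * (t : G)⁻¹ = u⁻¹) → LinearMap.det (Φ t) = -1 := fun t ht => by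
    have : Φ t = (-1 : ZMod 4) • LinearMap.id := LinearMap.ext fun a => h2 (by
      change e (φ t a) = _
      rw [← hφ, ht _ ((h3 _).2 ⟨a, rfl⟩), inv_eq_iff_mul_eq_one, ← h1, ← e0]
      simp)
    have i4 : Fact (1 < 4) := ⟨by norm_num⟩
    rw [this, LinearMap.det_smul, LinearMap.det_id, Module.finrank_pi]
    decide
  refine ⟨(LinearMap.det.comp Φ).ker.map N[U].subtype, fun g hg => ?_, ?_⟩
  · have := (by decide : ∀ a b : ZMod 4, a * b = 1 → a = 1 ∨ a * -1 = 1)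
      (LinearMap.det (Φ ⟨g, hg⟩)) (LinearMap.det (Φ ⟨g, hg⟩⁻¹)) (by rw [← map_mul, ← map_mul]; simp)
    refine this.imp (fun e => ⟨⟨g, hg⟩, e, rfl⟩) fun e => ⟨⟨g, hg⟩ * ⟨v, hv⟩, ?_, rfl⟩
    change LinearMap.det (Φ _) = 1
    rw [map_mul, map_mul, k ⟨v, hv⟩ h4, e]
  · rintro _ ⟨t, ht, rfl⟩ h
    exact absurd ((k t h).symm.trans ht) (by decide)

theorem chk_B : ∀ a b c : F8, (∀ x y, Bf (lin3 a b c x) (lin3 a b c y) = Bf x y) →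
    ∀ x, lin3 a b c x = x := by decide +kernel

theorem chk_d1 : ∀ y : F8, ∃ i j k : Fin 2, y = (i : ℕ) • (1 : F8) + (j : ℕ) • ω + (k : ℕ) • ω ^ 2 := by
  decide +kernel

theorem chk_d2 : ∀ i j k : Fin 4, (i : ℕ) • (1 : F8) + (j : ℕ) • ω + (k : ℕ) • ω ^ 2 = 0 →
    (i : ℕ) = 2 * (i / 2) ∧ (j : ℕ) = 2 * (j / 2) ∧ (k : ℕ) = 2 * (k / 2) ∧
      (((i : ℕ) / 2) • (1 : F8) + ((j : ℕ) / 2) • ω + ((k : ℕ) / 2) • ω ^ 2 = 0 → i = 0 ∧ j = 0 ∧ k = 0) := by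
  decide +kernel

namespace A1
variable {X : SzD L} {Y : QD X V} (h : A1 Y) (c1 : Y.c1 = 1)
include h

theorem bQ {r s : F8 × F8 × F8} (hs : s.1 = 0) : bf Y.c2 r s = Bf r.2.1 s.2.1 + r.1 * s.2.2 := by
  simp [bf, Bf, h.c2.1, hs]

theorem C0_Z : C[Y.Q0] ≤ C[X.Z] := C_anti (Y.Z_U0.trans Y.U0_Q0)

theorem U0_C : Y.U0 ≤ C[Y.Q0] := cents_symm (h.Q0_eq.le.trans inf_le_right)

theorem QC0 {w : G} (h1 : w ∈ Y.Q) (h2 : w ∈ C[Y.Q0]) : w ∈ Y.U0 :=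
  ⟨h1, (h.Q0_eq.ge (mem_inf.2 ⟨h1, C_anti Y.U0_Q0 h2⟩)).2, Bf_zero _ fun x => by
    have := (Y.comm_iff h1 (Y.u_mem x 0)).1 (mem_C'.1 h2 _ (Y.u_Q0 x 0))
    rwa [Y.π_u, h.bS] at this⟩

theorem CZ0 {w : G} (h2 : w ∈ C[Y.Q0]) (e : w * Y.v 1 = Y.v 1 * w) : w ∈ X.Z := by
  have h1 := h.CQ1 (h.C0_Z h2) e
  exact Y.π_ker _ h1 (by rw [Y.π_U0 (h.QC0 h1 h2), h.y0 h1 e]; rfl)

theorem N0_U : N[Y.Q0] ≤ N[Y.U0] := by
  rw [show Y.U0 = Y.Q0 ⊓ C[Y.Q0] from le_antisymm (le_inf Y.U0_Q0 h.U0_C) fun w hw =>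
    h.QC0 hw.1.1 hw.2]
  exact norm_Z le_rfl

theorem idx0 : Y.Q0.relIndex Y.Q = 2 := relIndex_eq_two_iff.2 ⟨_, h.vQ, fun b hb => by
  have e := Y.π_mul _ hb _ h.vQ
  rw [h.πv] at e
  rcases h.wπ hb with e1 | e1
  · exact .inr ⟨⟨hb, e1⟩, fun k => by simpa [e, e1] using k.2⟩
  · exact .inl ⟨⟨mul_mem hb h.vQ, by simp [e, e1, F8.add_self]⟩, fun k => by simpa [e1] using k.2⟩⟩

include c1

theorem q1 {r : F8 × F8 × F8} (hr : r.1 = 0) : qf Y.c1 Y.c2 r = r.2.1 ^ 5 + r.2.2 := by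
  simp [qf, c1, h.c2.1, hr]

theorem sqU {u : G} (hu : u ∈ Y.U0) : u * u = X.z (Y.π u).2.2 := by
  rw [Y.sq u hu.1, h.q1 c1 hu.2.1, hu.2.2]; simp

theorem vU {u : G} (hu : u ∈ Y.U0) : Y.v 1 * u * (Y.v 1)⁻¹ = u⁻¹ := by
  rw [h.cU h.vQ hu, h.πv, one_mul, ← h.sqU c1 hu, eq_inv_iff_mul_eq_one, ← Y.Q4 hu.1]
  group

theorem U2 {u : G} (hu : u ∈ Y.U0) (e : u * u = 1) : u ∈ X.Z := by
  rw [h.sqU c1 hu, X.z_eq_one] at e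
  exact Y.π_ker _ hu.1 (by rw [Y.π_U0 hu, e]; rfl)

theorem NU_Z : N[Y.U0] ≤ N[X.Z] := fun g hg => mem_N_of_finite <| by
  rintro _ ⟨b, rfl⟩
  obtain ⟨u, hu, e⟩ := Y.exists_U0 b
  have := h.sqU c1 hu
  rw [e] at this
  rw [← this, ← conj_mul, h.sqU c1 (conj_mem hg hu)]
  exact X.z_mem_Z _

theorem exists_K : ∃ K : Subgroup G, (∀ g ∈ N[Y.U0], g ∈ K ∨ g * Y.v 1 ∈ K) ∧
    ∀ t ∈ K, ¬ ∀ u ∈ Y.U0, t * u * t⁻¹ = u⁻¹ := by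
  obtain ⟨a, ha, ea⟩ := Y.exists_U0 1
  obtain ⟨b, hb, eb⟩ := Y.exists_U0 ω
  obtain ⟨c, hc, ec⟩ := Y.exists_U0 (ω ^ 2)
  have cm : ∀ {x y}, x ∈ Y.U0 → y ∈ Y.U0 → Commute x y := fun hx hy =>
    mem_C'.1 (h.U0_C hx) _ (Y.U0_Q0 hy)
  have p4 : ∀ {x}, x ∈ Y.U0 → ∀ n : ℕ, x ^ (n % 4) = x ^ n := fun hx n =>
    (pow_eq_pow_mod n (by
      rw [← Y.Q4 hx.1]; simp only [pow_succ, pow_zero, one_mul, mul_assoc])).symm
  have p1 : ∀ {x}, x ∈ Y.U0 → ∀ n : ℕ, (Y.π (x ^ n)).2.2 = n • (Y.π x).2.2 := fun {x} hx n => by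
    induction n with
    | zero => simp [Y.π_one]
    | succ n ih => rw [pow_succ, Y.π_mul _ (pow_mem hx.1 n) _ hx.1, succ_nsmul, ← ih]; rfl
  have p2 : ∀ {x}, x ∈ Y.U0 → ∀ n : ℕ, x ^ (2 * n) = X.z (n • (Y.π x).2.2) := fun {x} hx n => by
    rw [pow_mul, pow_two, h.sqU c1 hx]
    induction n with
    | zero => simp [X.z_zero]
    | succ n ih => rw [pow_succ, ih, X.z_mul, succ_nsmul]
  have m : ∀ i j k : ℕ, a ^ i * b ^ j * c ^ k ∈ Y.U0 := fun i j k =>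
    mul_mem (mul_mem (pow_mem ha i) (pow_mem hb j)) (pow_mem hc k)
  have π1 : ∀ i j k : ℕ, (Y.π (a ^ i * b ^ j * c ^ k)).2.2 = i • (1 : F8) + j • ω + k • ω ^ 2 :=
    fun i j k => by
      rw [Y.π_mul _ (mul_mem (pow_mem ha.1 i) (pow_mem hb.1 j)) _ (pow_mem hc.1 k),
        Y.π_mul _ (pow_mem ha.1 i) _ (pow_mem hb.1 j)]
      simp only [Prod.snd_add, p1 ha, p1 hb, p1 hc, ea, eb, ec]
  have π2 : ∀ i j k : ℕ, a ^ (2 * i) * b ^ (2 * j) * c ^ (2 * k) =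
      X.z (i • (1 : F8) + j • ω + k • ω ^ 2) := fun i j k => by
    rw [p2 ha, p2 hb, p2 hc, ea, eb, ec, X.z_mul, X.z_mul]
  have ad : ∀ i j k i' j' k' : ℕ, a ^ (i + i') * b ^ (j + j') * c ^ (k + k') =
      a ^ i * b ^ j * c ^ k * (a ^ i' * b ^ j' * c ^ k') := fun i j k i' j' k' => by
    rw [pow_add, pow_add, pow_add, (cm (pow_mem ha i') (pow_mem hb j)).mul_mul_mul_comm,
      (cm (mul_mem (pow_mem ha i') (pow_mem hb j')) (pow_mem hc k)).mul_mul_mul_comm]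
  have add : ∀ x y : Fin 3 → ZMod 4, a ^ ((x + y) 0).val * b ^ ((x + y) 1).val * c ^ ((x + y) 2).val =
      a ^ (x 0).val * b ^ (x 1).val * c ^ (x 2).val * (a ^ (y 0).val * b ^ (y 1).val * c ^ (y 2).val) :=
    fun x y => by simp only [Pi.add_apply, ZMod.val_add, p4 ha, p4 hb, p4 hc, ad]
  refine exists_det (fun x => a ^ (x 0).val * b ^ (x 1).val * c ^ (x 2).val) add (fun x y e => ?_)
    (fun g => ⟨fun hg => ?_, by rintro ⟨x, rfl⟩; exact m _ _ _⟩) (h.NQ_U (norm_self _ h.vQ))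
    fun u hu => h.vU c1 hu
  · have e1 := add (x - y) y
    beta_reduce at e
    rw [sub_add_cancel, e, right_eq_mul] at e1
    obtain ⟨k1, k2, k3, k4⟩ := chk_d2 ((x - y) 0) ((x - y) 1) ((x - y) 2) (by
      have := π1 ((x - y) 0).val ((x - y) 1).val ((x - y) 2).val
      rw [e1, Y.π_one] at this
      exact this.symm)
    rw [show ((x - y) 0).val = _ from k1, show ((x - y) 1).val = _ from k2,
      show ((x - y) 2).val = _ from k3, π2, X.z_eq_one] at e1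
    obtain ⟨k5, k6, k7⟩ := k4 e1
    refine sub_eq_zero.1 (funext fun i => ?_)
    fin_cases i
    exacts [k5, k6, k7]
  · obtain ⟨i, j, k, e⟩ := chk_d1 (Y.π g).2.2
    obtain ⟨d, e1⟩ := Y.eqz hg.1 (m i j k).1 (by rw [Y.π_U0 hg, Y.π_U0 (m i j k), π1, e])
    obtain ⟨i', j', k', rfl⟩ := chk_d1 d
    refine ⟨![((i + 2 * i' : ℕ) : ZMod 4), ((j + 2 * j' : ℕ) : ZMod 4), ((k + 2 * k' : ℕ) : ZMod 4)], ?_⟩
    simp only [Matrix.cons_val_zero, Matrix.cons_val_one, Matrix.cons_val, ZMod.val_natCast, p4 ha,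
      p4 hb, p4 hc, ad, π2, e1]

theorem M_triv {m q : G} (h1 : m ∈ N[Y.Q0]) (h2 : m ∈ C[X.Z]) (hq : q ∈ Y.Q0) :
    Y.π (m * q * m⁻¹) = Y.π q := by
  have pm : ∀ {a b}, a ∈ Y.Q0 → b ∈ Y.Q0 → Y.π (m * (a * b) * m⁻¹) =
      Y.π (m * a * m⁻¹) + Y.π (m * b * m⁻¹) := fun ha hb => by
    rw [← conj_mul, Y.π_mul _ (conj_mem h1 ha).1 _ (conj_mem h1 hb).1]
  have pU : ∀ {a}, a ∈ Y.U0 → (Y.π (m * a * m⁻¹)).2.1 = 0 := fun ha => (conj_mem (h.N0_U h1) ha).2.2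
  let A : F8 →+ F8 := AddMonoidHom.mk' (fun a => (Y.π (m * X.u a 0 * m⁻¹)).2.1) fun a b => by
    have e : X.u (a + b) 0 = X.u a 0 * X.u b 0 * X.z (a ^ 4 * b) := by
      rw [X.u_mul, SzD.z, X.u_mul]; simp [F8.add_self]
    rw [e, pm (mul_mem (Y.u_Q0 _ _) (Y.u_Q0 _ _)) (Y.U0_Q0 (Y.Z_U0 (X.z_mem_Z _))),
      pm (Y.u_Q0 _ _) (Y.u_Q0 _ _)]
    simp [pU (Y.Z_U0 (X.z_mem_Z _))]
  have hA := chk_B (A 1) (A ω) (A (ω ^ 2)) fun x y => X.z_inj (by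
    have e1 := Y.cm (conj_mem h1 (Y.u_Q0 x 0)).1 (conj_mem h1 (Y.u_Q0 y 0)).1
    rw [show m * X.u x 0 * m⁻¹ * (m * X.u y 0 * m⁻¹) * (m * X.u x 0 * m⁻¹)⁻¹ =
      m * (X.u x 0 * X.u y 0 * (X.u x 0)⁻¹) * m⁻¹ by group, Y.cm (Y.u_mem _ _) (Y.u_mem _ _),
      ← conj_mul, mul_right_inj, conj_eq_of_mem_C h2 (X.z_mem_Z _), h.bQ (conj_mem h1 (Y.u_Q0 y 0)).2,
      (conj_mem h1 (Y.u_Q0 x 0)).2, Y.π_u, Y.π_u, h.bS, zero_mul, add_zero] at e1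
    rw [← map_eq_lin3, ← map_eq_lin3]
    exact e1.symm)
  have e1 : (Y.π (m * q * m⁻¹)).2.1 = (Y.π q).2.1 := by
    have m1 : (X.u (Y.π q).2.1 0)⁻¹ * q ∈ Y.U0 := ⟨mul_mem (inv_mem (Y.u_mem _ _)) hq.1, by
      rw [Y.π_mul _ (inv_mem (Y.u_mem _ _)) _ hq.1, Y.π_inv (Y.u_mem _ _), Y.π_u]
      simp [hq.2, F8.add_self]⟩
    have := pm (Y.u_Q0 (Y.π q).2.1 0) (Y.U0_Q0 m1)
    rw [mul_inv_cancel_left] at this
    rw [this, Prod.snd_add, Prod.fst_add, pU m1, add_zero]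
    exact (map_eq_lin3 A _).trans (hA _)
  have m' := conj_mem h1 hq
  have e2 := Y.sq _ m'.1
  rw [conj_mul, Y.sq _ hq.1, conj_eq_of_mem_C h2 (X.z_mem_Z _), h.q1 c1 hq.2, h.q1 c1 m'.2, e1] at e2
  exact Prod.ext (m'.2.trans hq.2.symm) (Prod.ext e1 (add_left_cancel (X.z_inj e2)).symm)

theorem N0_of {g : G} (hg : g ∈ N[X.Z]) (ht : g * Y.v 1 * g⁻¹ ∈ N[Y.Q0]) : g ∈ N[Y.Q0] := by
  have tz := conj_mem (N_le_NC _ hg) (Y.zc h.vQ)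
  have WQ : cj g⁻¹ Y.Q0 ≤ Y.Q := fun x hx => by
    obtain ⟨q, hq, rfl⟩ := mem_cj'.1 hx
    obtain ⟨b, e⟩ := Y.eqz (conj_mem (inv_mem ht) hq).1 hq.1 (h.M_triv c1 (inv_mem ht) (inv_mem tz) hq)
    rw [inv_inv]
    refine h.NQ_le hg (Y.zc hq.1) (b := b) ?_
    generalize g * Y.v 1 * g⁻¹ = t at e
    calc _ = t * (t⁻¹ * q * t⁻¹⁻¹) * q⁻¹ := by group
      _ = _ := by rw [e, ← Y.zq hq.1]; group
  have idx : (cj g⁻¹ Y.Q0).relIndex Y.Q = 2 := by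
    have e1 := card_mul_relIndex WQ
    rw [← card_mul_relIndex Y.Q0_Q, h.idx0, card_cj] at e1
    exact Nat.eq_of_mul_eq_mul_left (card_pos _) e1
  obtain ⟨u, hu, eu⟩ := Y.exists_U0 1
  have m := conj_mem_cj g⁻¹ (Y.U0_Q0 hu)
  have cw : ∀ w ∈ cj g⁻¹ Y.Q0, g⁻¹ * u * g⁻¹⁻¹ * w = w * (g⁻¹ * u * g⁻¹⁻¹) := fun w hw => by
    obtain ⟨q, hq, rfl⟩ := mem_cj'.1 hw
    rw [conj_mul, conj_mul, mem_C'.1 (h.U0_C hu) q hq]
  have mU : g⁻¹ * u * g⁻¹⁻¹ ∈ Y.U0 := ⟨WQ m, (chk_U _ (h.wπ (WQ m))).1 fun p hp p' hp' e e' => by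
    obtain ⟨a, ha, rfl⟩ := h.lift (one_mem _) hp
    obtain ⟨b, hb, rfl⟩ := h.lift (one_mem _) hp'
    simp only [one_mul, inv_one, mul_one] at e e' ⊢
    have := cw (a * b) ((mul_mem_iff_of_index_two (H := (cj g⁻¹ Y.Q0).subgroupOf Y.Q) idx
      (a := ⟨a, ha⟩) (b := ⟨b, hb⟩)).2 (iff_of_false
        (fun k => e (h.c2.1 ▸ (Y.comm_iff (WQ m) ha).1 (cw a k)))
        fun k => e' (h.c2.1 ▸ (Y.comm_iff (WQ m) hb).1 (cw b k))))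
    rw [← mul_inv_eq_iff_eq_mul, ← conj_mul, Y.cm (WQ m) ha, Y.cm (WQ m) hb, mul_assoc,
      mul_right_inj, ← mul_assoc, Y.zq hb, mul_assoc, X.z_mul, mul_eq_left, X.z_eq_one, h.c2.1] at this
    linear_combination this - bf 0 (Y.π (g⁻¹ * u * g⁻¹⁻¹)) (Y.π b) * F8.two⟩
  refine inv_mem_iff.1 (mem_N_of_cj_le fun w hw => ⟨WQ hw, ?_⟩)
  have := h.cU (WQ hw) mU
  rw [← cw w hw, mul_inv_cancel_right, left_eq_mul, X.z_eq_one, mul_eq_zero] at this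
  refine this.resolve_right fun e => ?_
  have e1 := h.sqU c1 mU
  rw [e, X.z_zero, conj_mul, conj_eq_one_iff, h.sqU c1 hu, eu] at e1
  exact one_ne_zero (X.z_eq_one.1 e1)

theorem dd_inv {t : G} (ht : DD L t) (h1 : t ∈ N[Y.Q0]) (h2 : t ∈ C[X.Z]) {u : G} (hu : u ∈ Y.U0) :
    t * u * t⁻¹ = u⁻¹ := by
  obtain ⟨g, hg, rfl⟩ := h.F2 ht h2
  have := h.vU c1 (conj_mem' (h.N0_U (h.N0_of c1 hg h1)) hu)
  calc _ = g * (Y.v 1 * (g⁻¹ * u * g) * (Y.v 1)⁻¹) * g⁻¹ := by group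
    _ = _ := by rw [this]; group

end A1

end H14.Ru
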