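import Mathlib
import Cfsg.Agent.H17.RD3

/-! # Standard subgroup `Sz(8)` with centraliser of order two: the homocyclic case, II -/

set_option autoImplicit false
set_option linter.unusedSectionVars false

namespace H14.Ru

open Cfsg H24 Subgroup H17.RC

variable {G : Type*} [Group G] [Finite G] {L G0 V : Subgroup G}

theorem beta_zero (β : F8 → F8 → F8) (h1 : ∀ x x' y, β (x + x') y = β x y + β x' y)
    (h2 : ∀ x y y', β x (y + y') = β x y + β x y') (h3 : ∀ x, β x x = 0)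
    (h4 : ∀ x y, β (ω ^ 5 * x) (ω ^ 5 * y) = ω ^ 5 * β x y) (x y : F8) : β x y = 0 := by
  have h5 : ∀ (i : ℕ) x y, β ((ω ^ 5) ^ i * x) ((ω ^ 5) ^ i * y) = (ω ^ 5) ^ i * β x y := fun i x y => by
    induction i with
    | zero => simp
    | succ i ih => rw [pow_succ' _ i, mul_assoc, mul_assoc, mul_assoc, h4, ih]
  let l : F8 →+ F8 := AddMonoidHom.mk' (β 1) (h2 1)
  have l0 : ∀ y, β 1 y = 0 := fun y => (map_eq_lin3 l y).trans (chk_a (l 1) _ _ (h3 1) (fun y => by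
    simp only [← map_eq_lin3 l]
    change β 1 _ + _ * β 1 _ = _ * β 1 _
    have e1 := h5 5 1 y
    have e2 := h4 1 (ω ^ 20 * y)
    rw [mul_one, ← mul_assoc, ← pow_add] at e2
    rw [mul_one, ← pow_mul] at e1
    rw [← e2, ← h1, ← e1, (by decide +kernel : 1 + ω ^ 5 = ω ^ (5 * 5))]) y)
  by_cases x0 : x = 0
  · have := h1 0 0 y
    rw [add_zero, left_eq_add] at this
    rw [x0, this]
  · obtain ⟨i, hi⟩ := exists_pow5 x x0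
    have := h5 i 1 (x⁻¹ * y)
    rwa [l0, mul_zero, ← hi, mul_one, mul_inv_cancel_left₀ x0] at this

namespace A1
variable {X : SzD L} {Y : QD X V} (h : A1 Y) (c1 : Y.c1 = 1)
include h

theorem vN0 : Y.v 1 ∈ N[Y.Q0] := h.NQ_Q0 (norm_self _ h.vQ)

theorem inv4 {w : G} (hw : w ∈ C[Y.Q0]) (e : Y.v 1 * w * (Y.v 1)⁻¹ = w⁻¹) (e4 : w * w * (w * w) = 1) :
    w ∈ Y.U0 := by
  obtain ⟨b, e1⟩ := h.CZ0 (mul_mem hw hw) (by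
    rw [eq_comm, ← mul_inv_eq_iff_eq_mul, ← conj_mul, e, ← mul_inv_rev, inv_eq_iff_mul_eq_one, e4])
  refine h.QC0 (h.CQ (h.C0_Z hw) (b := b) ?_) hw
  calc _ = Y.v 1 * ((Y.v 1)⁻¹ * w * Y.v 1 * w⁻¹) := by group
    _ = _ := by rw [← X.z_inv, ← e1, show (Y.v 1)⁻¹ * w * Y.v 1 = w⁻¹ by rw [← e, h.vi]]; group

theorem vA {a : G} (ha : a ∈ C[Y.Q0] ⊓ N[Y.Q]) : Y.v 1 * (a * Y.v 1 * a⁻¹) ∈ Y.U0 :=
  h.QC0 (mul_mem h.vQ (conj_mem ha.2 h.vQ)) (by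
    have := mul_mem (conj_mem (N_le_NC _ h.vN0) ha.1) (inv_mem ha.1)
    rwa [h.vi, mul_assoc, mul_assoc, ← mul_assoc a] at this)

theorem πA {a : G} (ha : a ∈ C[Y.Q0] ⊓ N[Y.Q]) : Y.π (Y.v 1 * (a * Y.v 1 * a⁻¹)) =
    (0, 0, (Y.π (a * Y.v 1 * a⁻¹)).2.2) := by
  rw [Y.π_U0 (h.vA ha), Y.π_mul _ h.vQ _ (conj_mem ha.2 h.vQ), h.πv]
  simp

theorem mulA {a b : G} (ha : a ∈ C[Y.Q0] ⊓ N[Y.Q]) (hb : b ∈ C[Y.Q0] ⊓ N[Y.Q]) :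
    a * b * Y.v 1 * (a * b)⁻¹ = a * Y.v 1 * a⁻¹ * (Y.v 1 * (b * Y.v 1 * b⁻¹)) := by
  rw [← conj_eq_of_mem_C ha.1 (Y.U0_Q0 (h.vA hb)), conj_mul, ← mul_assoc (Y.v 1), h.vv]
  group

theorem sA_mul {a b : G} (ha : a ∈ C[Y.Q0] ⊓ N[Y.Q]) (hb : b ∈ C[Y.Q0] ⊓ N[Y.Q]) :
    (Y.π (a * b * Y.v 1 * (a * b)⁻¹)).2.2 =
      (Y.π (a * Y.v 1 * a⁻¹)).2.2 + (Y.π (b * Y.v 1 * b⁻¹)).2.2 := by
  rw [h.mulA ha hb, Y.π_mul _ (conj_mem ha.2 h.vQ) _ (h.vA hb).1, h.πA hb]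
  rfl

theorem sA_zero {a : G} (ha : a ∈ C[Y.Q0] ⊓ N[Y.Q]) (e : (Y.π (a * Y.v 1 * a⁻¹)).2.2 = 0) :
    a ∈ Y.U0 := by
  obtain ⟨b, e1⟩ := Y.π_ker _ (h.vA ha).1 (by rw [h.πA ha, e]; rfl)
  exact h.QC0 (h.CQ (h.C0_Z ha.1) (b := b) (by rw [← e1, ← mul_assoc, h.vv, one_mul])) ha.1

theorem sqA {a : G} (ha : a ∈ C[Y.Q0] ⊓ N[Y.Q]) : a * a ∈ Y.U0 :=
  h.sA_zero (mul_mem ha ha) (by rw [h.sA_mul ha ha, F8.add_self])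

theorem fA {a : G} (ha : a ∈ C[Y.Q0] ⊓ N[Y.Q]) (i : ℕ) : X.f ^ i * a * (X.f ^ i)⁻¹ ∈ C[Y.Q0] ⊓ N[Y.Q] :=
  mem_inf.2 ⟨conj_mem (N_le_NC _ (h.NQ_Q0 (pow_mem Y.f_N i))) ha.1,
    conj_mem (norm_self _ (pow_mem Y.f_N i)) ha.2⟩

theorem sA_f {a : G} (ha : a ∈ C[Y.Q0] ⊓ N[Y.Q]) (i : ℕ) :
    (Y.π (X.f ^ i * a * (X.f ^ i)⁻¹ * Y.v 1 * (X.f ^ i * a * (X.f ^ i)⁻¹)⁻¹)).2.2 =
      (ω ^ 5) ^ i * (Y.π (a * Y.v 1 * a⁻¹)).2.2 := by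
  rw [show X.f ^ i * a * (X.f ^ i)⁻¹ * Y.v 1 * (X.f ^ i * a * (X.f ^ i)⁻¹)⁻¹ =
    X.f ^ i * (a * ((X.f ^ i)⁻¹ * Y.v 1 * X.f ^ i) * a⁻¹) * (X.f ^ i)⁻¹ by group,
    mem_C.1 h.vK _ (inv_mem (pow_mem X.f_mem i)), inv_mul_cancel_right,
    Y.π_fpow (conj_mem ha.2 h.vQ)]

theorem sA_surj {a : G} (ha : a ∈ C[Y.Q0] ⊓ N[Y.Q]) (hn : a ∉ Y.U0) (y : F8) :
    ∃ b ∈ C[Y.Q0] ⊓ N[Y.Q], (Y.π (b * Y.v 1 * b⁻¹)).2.2 = y := by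
  by_cases y0 : y = 0
  · exact ⟨1, one_mem _, by simp [h.πv, y0]⟩
  · have a0 := mt (h.sA_zero ha) hn
    obtain ⟨i, hi⟩ := exists_pow5 _ (div_ne_zero y0 a0)
    exact ⟨_, h.fA ha i, by rw [h.sA_f ha, ← hi, div_mul_cancel₀ _ a0]⟩

theorem cmA {a b : G} (ha : a ∈ C[Y.Q0] ⊓ N[Y.Q]) (hb : b ∈ C[Y.Q0] ⊓ N[Y.Q]) :
    ∃ c, a * b * a⁻¹ = b * X.z c := by
  have k : ∀ {a}, a * Y.v 1 * a⁻¹ = Y.v 1 * (Y.v 1 * (a * Y.v 1 * a⁻¹)) := fun {a} => by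
    rw [← mul_assoc (Y.v 1), h.vv, one_mul]
  have e : a * b * Y.v 1 * (a * b)⁻¹ = b * a * Y.v 1 * (b * a)⁻¹ := by
    rw [h.mulA ha hb, h.mulA hb ha]
    nth_rewrite 1 [k (a := a)]
    nth_rewrite 2 [k (a := b)]
    rw [mul_assoc, mul_assoc (Y.v 1) (Y.v 1 * _), mem_C'.1 (h.U0_C (h.vA ha)) _ (Y.U0_Q0 (h.vA hb))]
  obtain ⟨c, e1⟩ := h.CZ0 (mul_mem (inv_mem (mul_mem hb.1 ha.1)) (mul_mem ha.1 hb.1)) (by
    calc _ = (b * a)⁻¹ * (a * b * Y.v 1 * (a * b)⁻¹) * (a * b) := by group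
      _ = _ := by rw [e]; group)
  exact ⟨c, by rw [← conj_eq_of_mem_C (h.C0_Z ha.1) (X.z_mem_Z c), ← e1]; group⟩

theorem commA {a0 : G} (h0 : a0 ∈ C[Y.Q0] ⊓ N[Y.Q]) (hn : a0 ∉ Y.U0) {a b : G}
    (ha : a ∈ C[Y.Q0] ⊓ N[Y.Q]) (hb : b ∈ C[Y.Q0] ⊓ N[Y.Q]) : a * b = b * a := by
  choose aa m1 m2 using h.sA_surj h0 hn
  choose β hβ using fun x y => h.cmA (m1 x) (m1 y)
  have dec : ∀ {a}, a ∈ C[Y.Q0] ⊓ N[Y.Q] → ∃ u ∈ Y.U0, a = aa (Y.π (a * Y.v 1 * a⁻¹)).2.2 * u :=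
    fun {a} ha => ⟨_, h.sA_zero (mul_mem (inv_mem (m1 (Y.π (a * Y.v 1 * a⁻¹)).2.2)) ha) (by
      have := h.sA_mul (m1 (Y.π (a * Y.v 1 * a⁻¹)).2.2)
        (mul_mem (inv_mem (m1 (Y.π (a * Y.v 1 * a⁻¹)).2.2)) ha)
      rwa [mul_inv_cancel_left, m2, left_eq_add] at this), (mul_inv_cancel_left _ _).symm⟩
  have k : ∀ {a b}, a ∈ C[Y.Q0] ⊓ N[Y.Q] → b ∈ C[Y.Q0] ⊓ N[Y.Q] → a * b * a⁻¹ =
      b * X.z (β (Y.π (a * Y.v 1 * a⁻¹)).2.2 (Y.π (b * Y.v 1 * b⁻¹)).2.2) := fun {a b} ha hb => by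
    obtain ⟨u, hu, e1⟩ := dec ha
    obtain ⟨w, hw, e2⟩ := dec hb
    generalize (Y.π (a * Y.v 1 * a⁻¹)).2.2 = x at e1
    generalize (Y.π (b * Y.v 1 * b⁻¹)).2.2 = y at e2
    have e3 : u * b * u⁻¹ = b := by rw [mem_C.1 hb.1 _ (Y.U0_Q0 hu), mul_inv_cancel_right]
    rw [e1, show aa x * u * b * (aa x * u)⁻¹ = aa x * (u * b * u⁻¹) * (aa x)⁻¹ by group, e3, e2,
      ← conj_mul, hβ, conj_eq_of_mem_C (m1 x).1 (Y.U0_Q0 hw), mul_assoc, Y.zq hw.1, mul_assoc]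
  have zc : ∀ x c, aa x * X.z c * (aa x)⁻¹ = X.z c := fun x c =>
    conj_eq_of_mem_C (h.C0_Z (m1 x).1) (X.z_mem_Z c)
  rw [← mul_inv_eq_iff_eq_mul, k ha hb, beta_zero β (fun x x' y => ?_) (fun x y y' => ?_)
    (fun x => ?_) (fun x y => ?_), X.z_zero, mul_one]
  · have := k (mul_mem (m1 x) (m1 x')) (m1 y)
    rw [h.sA_mul (m1 x) (m1 x'), m2, m2, m2, show aa x * aa x' * aa y * (aa x * aa x')⁻¹ =
      aa x * (aa x' * aa y * (aa x')⁻¹) * (aa x)⁻¹ by group, hβ, ← conj_mul, hβ, zc, mul_assoc,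
      mul_right_inj, X.z_mul] at this
    exact (X.z_inj this).symm
  · have := k (m1 x) (mul_mem (m1 y) (m1 y'))
    rw [h.sA_mul (m1 y) (m1 y'), m2, m2, m2, ← conj_mul, hβ, hβ, mul_assoc, mul_assoc, mul_right_inj,
      ← mul_assoc, mem_C.1 (h.C0_Z (m1 y').1) _ (X.z_mem_Z _), mul_assoc, mul_right_inj, X.z_mul] at this
    exact (X.z_inj this).symm
  · have := hβ x x
    rwa [mul_inv_cancel_right, left_eq_mul, X.z_eq_one] at this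
  · have := k (h.fA (m1 x) 1) (h.fA (m1 y) 1)
    rw [h.sA_f (m1 x), h.sA_f (m1 y), m2, m2, pow_one, pow_one, show X.f * aa x * X.f⁻¹ *
      (X.f * aa y * X.f⁻¹) * (X.f * aa x * X.f⁻¹)⁻¹ = X.f * (aa x * aa y * (aa x)⁻¹) * X.f⁻¹ by group,
      hβ, ← conj_mul, mul_right_inj, X.f_z] at this
    exact (X.z_inj this).symm

include c1

theorem p4A {a : G} (ha : a ∈ C[Y.Q0] ⊓ N[Y.Q]) :
    a * a * (a * a) = X.z (Y.π (a * Y.v 1 * a⁻¹)).2.2 := by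
  have e := h.mulA ha ha
  have e1 := h.sqU c1 (h.vA ha)
  rw [h.πA ha] at e1
  rw [Y.cm (h.sqA ha).1 h.vQ, h.πv, h.bv, ← mul_right_inj (Y.v 1), ← mul_assoc, h.vv, one_mul,
    ← mul_assoc (Y.v 1), e1] at e
  rw [h.sqU c1 (h.sqA ha), e]

section
variable {B : Subgroup G} (hB : IsPi {2} B) (hC : B ≤ C[Y.Q0]) (hv : Y.v 1 ∈ N[B])
include hB hC hv

theorem Y1 {y : G} (hy : y ∈ B) (e : y * y ∈ X.Z) : y ∈ Y.U0 := by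
  obtain ⟨b, e⟩ := e
  have m : y * (Y.v 1 * y * (Y.v 1)⁻¹) ∈ B := mul_mem hy (conj_mem hv hy)
  have yi : y⁻¹ = y * X.z b := by rw [inv_eq_iff_mul_eq_one, ← mul_assoc, e, X.z_sq]
  have zy := mem_C.1 (h.C0_Z (hC hy)) _ (X.z_mem_Z b)
  have zy' := mem_C.1 (h.C0_Z (hC (conj_mem hv hy))) _ (X.z_mem_Z b)
  have yi' : (Y.v 1 * y * (Y.v 1)⁻¹)⁻¹ = Y.v 1 * y * (Y.v 1)⁻¹ * X.z b := by
    rw [inv_eq_iff_mul_eq_one, ← mul_assoc, conj_mul, e, conj_eq_of_mem_C (Y.zc h.vQ) (X.z_mem_Z b),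
      X.z_sq]
  have e0 : (y * (Y.v 1 * y * (Y.v 1)⁻¹))⁻¹ = Y.v 1 * y * (Y.v 1)⁻¹ * y := by
    rw [mul_inv_rev, yi', yi, mul_assoc, ← zy, ← mul_assoc (X.z b), X.z_sq, one_mul]
  have e1 : Y.v 1 * (y * (Y.v 1 * y * (Y.v 1)⁻¹)) * (Y.v 1)⁻¹ = (y * (Y.v 1 * y * (Y.v 1)⁻¹))⁻¹ := by
    rw [e0, ← conj_mul, h.vi, show Y.v 1 * (Y.v 1 * y * Y.v 1) * Y.v 1 =
      Y.v 1 * Y.v 1 * y * (Y.v 1 * Y.v 1) by group, h.vv, one_mul, mul_one]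
  have e2 : y * (y * (Y.v 1 * y * (Y.v 1)⁻¹)) * y⁻¹ = (y * (Y.v 1 * y * (Y.v 1)⁻¹))⁻¹ := by
    rw [e0, yi, ← mul_assoc y y, e, zy', mul_assoc, ← zy, ← mul_assoc (X.z b), X.z_sq, one_mul]
  have hρ : y * (Y.v 1 * y * (Y.v 1)⁻¹) ∈ X.Z := by
    generalize y * (Y.v 1 * y * (Y.v 1)⁻¹) = ρ at m e1 e2
    by_cases e3 : ρ * ρ = 1
    · exact h.CZ0 (hC m) (by rw [eq_comm, ← mul_inv_eq_iff_eq_mul, e1, inv_eq_of_mul_eq_one_right e3])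
    · obtain ⟨n, n1, n2⟩ := exists_inv_pow (hB.piElt (mul_mem m m)) e3
      rw [(Commute.refl ρ).mul_pow] at n1 n2
      have := h.inv4 (hC (pow_mem m n)) (by rw [← conj_pow, e1, inv_pow]) n2
      refine absurd (mul_eq_one_iff_eq_inv.2 ?_) n1
      rw [← inv_pow, ← e2, conj_pow, conj_eq_of_mem_C (hC hy) (Y.U0_Q0 this)]
  obtain ⟨d, e4⟩ := hρ
  refine h.QC0 (h.CQ (h.C0_Z (hC hy)) (b := d + b) ?_) (hC hy)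
  rw [← X.z_mul, ← mul_assoc, ← Y.zq h.vQ, ← e4, yi]
  group

theorem Y2 {y : G} (hy : y ∈ B) : Y.v 1 * y * (Y.v 1 * y) ∈ X.Z := by
  have m : Y.v 1 * y * (Y.v 1 * y) ∈ B := by
    have := mul_mem (conj_mem hv hy) hy
    rwa [h.vi, mul_assoc] at this
  have k : ∀ w ∈ B, w * w = 1 → w ∈ X.Z := fun w hw e =>
    h.U2 c1 (h.Y1 c1 hB hC hv hw (e ▸ one_mem _)) e
  refine k _ m (by_contra fun e3 => ?_)
  obtain ⟨n, n1, n2⟩ := exists_inv_pow (hB.piElt (mul_mem m m)) e3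
  rw [(Commute.refl _).mul_pow] at n1 n2
  have := h.Y1 c1 hB hC hv (pow_mem m n) (k _ (mul_mem (pow_mem m n) (pow_mem m n)) n2)
  refine n1 (mul_eq_one_iff_eq_inv.2 ?_)
  rw [← h.vU c1 this]
  nth_rewrite 2 [← conj_eq_of_mem_C (hC hy) (Y.U0_Q0 this)]
  rw [show ∀ x, Y.v 1 * (y * x * y⁻¹) * (Y.v 1)⁻¹ = Y.v 1 * y * x * (Y.v 1 * y)⁻¹ from fun x => by group,
    (((Commute.refl _).mul_right (Commute.refl _)).pow_right n).eq, mul_inv_cancel_right]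

theorem Y3 {y : G} (hy : y ∈ B) (e : y * y ∈ Y.U0) : y ∈ C[Y.Q0] ⊓ N[Y.Q] := by
  refine mem_inf.2 ⟨hC hy, h.NQ_of (C_le_N _ (h.C0_Z (hC hy))) ?_⟩
  have := mul_mem (mul_mem (inv_mem h.vQ) (Y.Z_U0 (h.Y2 c1 hB hC hv hy)).1) (inv_mem e.1)
  rwa [show (Y.v 1)⁻¹ * (Y.v 1 * y * (Y.v 1 * y)) * (y * y)⁻¹ = y * Y.v 1 * y⁻¹ by group] at this

end

section
variable {P : Subgroup G} (hP : Syl 2 N[Y.Q0] P) (hQ : Y.Q ≤ P)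
include hP hQ

theorem Y3' {y : G} (hy : y ∈ P ⊓ C[Y.Q0]) (e : y * y ∈ Y.U0) : y ∈ C[Y.Q0] ⊓ N[Y.Q] :=
  h.Y3 c1 (hP.pi.inf_left _) inf_le_right
    (norm_inf (norm_self P) (hP.le.trans (N_le_NC _)) (hQ h.vQ)) hy e

theorem exA {t : G} (ht : t ∈ P) (hd : DD L t) (hz : t ∉ C[X.Z]) :
    ∃ a ∈ C[Y.Q0] ⊓ N[Y.Q], a ∉ Y.U0 := by
  have h1 := hP.le ht
  have hU := h.N0_U h1
  have m := fun a => conj_mem h1 (Y.u_Q0 a 0)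
  have ad : ∀ a b, Y.π (t * X.u (a + b) 0 * t⁻¹) = Y.π (t * X.u a 0 * t⁻¹) + Y.π (t * X.u b 0 * t⁻¹) :=
    fun a b => by
      have e : X.u (a + b) 0 = X.u a 0 * X.u b 0 * X.z (a ^ 4 * b) := by
        rw [X.u_mul, SzD.z, X.u_mul]; simp [F8.add_self]
      obtain ⟨d, e1⟩ := conj_mem (h.NU_Z c1 hU) (X.z_mem_Z (a ^ 4 * b))
      rw [e, ← conj_mul, ← conj_mul, e1, Y.π_mz (mul_mem (m a).1 (m b).1), Y.π_mul _ (m a).1 _ (m b).1]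
  let A : F8 →+ F8 := AddMonoidHom.mk' (fun a => (Y.π (t * X.u a 0 * t⁻¹)).2.1) fun a b => by
    rw [ad]; rfl
  let Γ : F8 →+ F8 := AddMonoidHom.mk' (fun a => (Y.π (t * X.u a 0 * t⁻¹)).2.2) fun a b => by
    rw [ad]; rfl
  have sq : ∀ a, t * X.z (a ^ 5) * t⁻¹ = X.z (A a ^ 5 + Γ a) := fun a => by
    rw [← X.u_sq a 0, ← conj_mul, Y.sq _ (m a).1, h.q1 c1 (m a).2]; rfl
  have inj : Function.Injective A := (injective_iff_map_eq_zero A).2 fun a e => by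
    have := ((mem_N.1 hU _).2 (show t * X.u a 0 * t⁻¹ ∈ Y.U0 from ⟨(m a).1, (m a).2, e⟩)).2.2
    rwa [Y.π_u] at this
  let A' := AddEquiv.ofBijective A (Finite.injective_iff_bijective.1 inj)
  let γ : F8 →+ F8 := Γ.comp A'.symm.toAddMonoidHom
  have eγ : ∀ a, γ (A a) = Γ a := fun a => congrArg Γ (A'.symm_apply_apply a)
  obtain ⟨r, hr⟩ := chk_c (γ 1) (γ ω) (γ (ω ^ 2)) fun x y e => by
    obtain ⟨a, rfl⟩ : ∃ a, A a = x := A'.surjective x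
    obtain ⟨b, rfl⟩ : ∃ a, A a = y := A'.surjective y
    rw [← map_eq_lin3, ← map_eq_lin3, eγ, eγ] at e
    have := (sq a).trans (e ▸ (sq b).symm)
    rw [mul_left_inj, mul_right_inj] at this
    rw [(by decide +kernel : ∀ a b : F8, a ^ 5 = b ^ 5 → a = b) _ _ (X.z_inj this)]
  replace hr : ∀ a, Γ a = Bf r (A a) := fun a => by rw [← hr, ← map_eq_lin3, eγ]
  have r0 : r ≠ 0 := fun e => hz (X.two_of (hP.pi.piElt ht) A A.map_add fun a => by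
    rw [sq, hr, e]; simp [Bf])
  have wQ := mul_mem h.vQ (Y.u_mem r 0)
  have hc : (Y.v 1 * X.u r 0)⁻¹ * (t * Y.v 1 * t⁻¹) ∈ P ⊓ C[Y.Q0] := by
    refine mem_inf.2 ⟨mul_mem (inv_mem (hQ wQ)) (conj_mem (norm_self _ ht) (hQ h.vQ)),
      mem_C'.2 fun q hq => ?_⟩
    obtain ⟨a, ea⟩ : ∃ a, A a = (Y.π q).2.1 := A'.surjective _
    have m1 : (t * X.u a 0 * t⁻¹)⁻¹ * q ∈ Y.U0 := ⟨mul_mem (inv_mem (m a).1) hq.1, by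
      rw [Y.π_mul _ (inv_mem (m a).1) _ hq.1, Y.π_inv (m a).1, Prod.fst_add, (m a).2, hq.2,
        Prod.snd_add, Prod.fst_add, ← ea]
      exact ⟨add_zero _, F8.add_self _⟩⟩
    have e1 : Y.v 1 * X.u r 0 * (t * X.u a 0 * t⁻¹) * (Y.v 1 * X.u r 0)⁻¹ = t * X.u a 0 * t⁻¹ := by
      rw [Y.cm wQ (m a).1, h.bQ (m a).2, Y.π_mul _ h.vQ _ (Y.u_mem _ _), h.πv, Y.π_u, mul_eq_left,
        X.z_eq_one]
      simp only [Prod.mk_add_mk, add_zero, zero_add, one_mul]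
      exact (congrArg _ (hr a)).trans (F8.add_self _)
    have e2 : t * Y.v 1 * t⁻¹ * (t * X.u a 0 * t⁻¹) * (t * Y.v 1 * t⁻¹)⁻¹ = t * X.u a 0 * t⁻¹ := by
      rw [conj_mul, ← mem_C.1 h.vK _ (X.u_mem a 0)]; group
    rw [← mul_inv_cancel_left (t * X.u a 0 * t⁻¹) q]
    generalize (t * X.u a 0 * t⁻¹)⁻¹ * q = u at m1
    have e3 : Y.v 1 * X.u r 0 * u * (Y.v 1 * X.u r 0)⁻¹ = u⁻¹ := by
      rw [← h.vU c1 m1, mul_assoc (Y.v 1), mem_C.1 (h.U0_C m1) _ (Y.u_Q0 r 0)]; group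
    have e4 : t * Y.v 1 * t⁻¹ * u * (t * Y.v 1 * t⁻¹)⁻¹ = u⁻¹ := by
      calc _ = t * (Y.v 1 * (t⁻¹ * u * t) * (Y.v 1)⁻¹) * t⁻¹ := by group
        _ = _ := by rw [h.vU c1 (conj_mem' hU m1)]; group
    generalize t * X.u a 0 * t⁻¹ = p at e1 e2
    generalize t * Y.v 1 * t⁻¹ = v' at e2 e4
    generalize Y.v 1 * X.u r 0 = w at e1 e3
    calc _ = w⁻¹ * (v' * p * v'⁻¹ * (v' * u * v'⁻¹)) * v' := by group
      _ = w⁻¹ * (w * p * w⁻¹ * (w * u * w⁻¹)) * v' := by rw [e1, e2, e3, e4]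
      _ = _ := by group
  have cn : (Y.v 1 * X.u r 0)⁻¹ * (t * Y.v 1 * t⁻¹) ∉ Y.U0 := fun hu => by
    have e1 := h.vU c1 hu
    have e2 := mem_C'.1 hc.2 _ (Y.u_Q0 r 0)
    have e3 := mem_C.1 h.vK _ (X.u_mem r 0)
    have e4 := (dd_conj h.ddv t).2.1
    have e5 : X.u r 0 * X.u r 0 = 1 := by
      generalize t * Y.v 1 * t⁻¹ = v' at *
      obtain ⟨c, rfl⟩ : ∃ c, v' = Y.v 1 * X.u r 0 * c := ⟨_, (mul_inv_cancel_left _ _).symm⟩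
      rw [inv_mul_cancel_left] at e1 e2
      rw [← e4]
      calc _ = X.u r 0 * (c⁻¹ * (c * X.u r 0)) := by group
        _ = X.u r 0 * Y.v 1 * c * (Y.v 1 * X.u r 0 * c) := by rw [← e1, e2, h.vi]; group
        _ = _ := by rw [e3]
    rw [X.u_sq, X.z_eq_one] at e5
    exact r0 (pow_eq_zero_iff (by norm_num) |>.1 e5)
  generalize (Y.v 1 * X.u r 0)⁻¹ * (t * Y.v 1 * t⁻¹) = c at hc cn
  have cN := h.N0_U (hP.le hc.1)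
  obtain ⟨n, n1, n2⟩ := exists_inv_pow (x := cs Y.U0 c) ((hP.pi.piElt hc.1).ap _ cN)
    (mt (cs_eq_one cN).1 cn)
  rw [cs, ← ap_pow _ cN] at n1 n2
  rw [← ap_mul _ (pow_mem cN n) (pow_mem cN n)] at n2
  exact ⟨_, h.Y3' c1 hP hQ (pow_mem hc n) ((cs_eq_one (mul_mem (pow_mem cN n) (pow_mem cN n))).1 n2),
    mt (cs_eq_one (pow_mem cN n)).2 n1⟩

theorem claimX {t : G} (ht : t ∈ P) (hd : DD L t) : t ∈ C[X.Z] := by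
  by_contra hz
  obtain ⟨a0, h0, hn⟩ := h.exA c1 hP hQ ht hd hz
  refine hz (mem_C'.2 ?_)
  rintro _ ⟨b, rfl⟩
  obtain ⟨a, ha, ea⟩ := h.sA_surj h0 hn b
  have e4 := h.p4A c1 ha
  rw [ea] at e4
  obtain ⟨k, hk, e⟩ := Sylow_Jsub Nat.prime_two (hP.inf_nml (C_nml_N _)) (Q := zpowers a)
    (piElt_of_pow_eq_one (piNat_self_pow Nat.prime_two 3) (by
      rw [← X.z_sq b, ← e4]; simp only [pow_succ, pow_zero, one_mul, mul_assoc, Nat.reduceMul])).isPi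
    (zpowers_le.2 ha.1)
  have m1 := e (conj_mem_cj k (mem_zpowers a))
  have e1 : k * a * k⁻¹ * (k * a * k⁻¹) = a * a := by
    rw [conj_mul, conj_eq_of_mem_C hk (Y.U0_Q0 (h.sqA ha))]
  generalize k * a * k⁻¹ = a1 at m1 e1
  have m2 : t * a1 * t⁻¹ ∈ P ⊓ C[Y.Q0] :=
    conj_mem (norm_inf (norm_self P) (hP.le.trans (N_le_NC _)) ht) m1
  have cm : Commute a1 (t * a1 * t⁻¹) := h.commA h0 hn (h.Y3' c1 hP hQ m1 (e1 ▸ h.sqA ha))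
    (h.Y3' c1 hP hQ m2 (by rw [conj_mul, e1]; exact conj_mem (h.N0_U (hP.le ht)) (h.sqA ha)))
  have := h.exp4 hd (hP.pi.piElt (mul_mem m1.1 m2.1)) (by
    rw [eq_comm, ← mul_inv_eq_iff_eq_mul, ← conj_mul, cm.eq, show t * (t * a1 * t⁻¹) * t⁻¹ =
      t * t * a1 * (t * t)⁻¹ by group, hd.2.1]
    simp)
  rw [cm.symm.mul_mul_mul_comm, ((cm.mul_left cm).mul_right (cm.mul_left cm)).symm.mul_mul_mul_comm,
    conj_mul, conj_mul, e1, e4, mul_eq_one_iff_inv_eq, X.z_inv] at this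
  exact mul_inv_eq_iff_eq_mul.1 this.symm

end

theorem false1 : False := by
  obtain ⟨P, hP, hQ⟩ := Sylow_superset Nat.prime_two Y.pi_Q ((norm_self _).trans h.NQ_Q0)
  obtain ⟨K, k1, k2⟩ := h.exists_K c1
  refine h.thomp (P0 := P ⊓ K) (by_contra fun hn => ?_) (hQ h.vQ)
    (fun p hp => (k1 p (h.N0_U (hP.le hp))).imp (fun e => mem_inf.2 ⟨hp, e⟩)
      fun e => mem_inf.2 ⟨mul_mem hp (hQ h.vQ), e⟩)
    fun t ht hd => k2 t ht.2 fun u hu => h.dd_inv c1 hd (hP.le ht.1) (h.claimX c1 hP hQ ht.1 hd) hu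
  obtain ⟨R, h3, h4, -, h5⟩ := exists_lt_norm_of_not_syl Nat.prime_two hP.pi le_top hn
  obtain ⟨g, g1, g2⟩ := SetLike.exists_of_lt h4
  have m := conj_mem (h5 g1) (hQ h.vQ)
  have tz := h.claimX c1 hP hQ m (dd_conj h.ddv g)
  have := h.N0_of c1 (h.NZ_of tz fun b => Y.zc (h.CT hP.pi hQ (conj_mem' (h5 g1) (hQ (Y.z_mem b))) (by
    calc _ = g⁻¹ * (X.z b * (g * Y.v 1 * g⁻¹)) * g := by group
      _ = _ := by rw [mem_C.1 tz _ (X.z_mem_Z b)]; group))) (hP.le m)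
  exact g2 ((hP.eq_of_le (h3.inf_left N[Y.Q0]) (le_inf h4.le hP.le) inf_le_right).le
    (mem_inf.2 ⟨g1, this⟩))

end A1

end H14.Ru
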