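import Mathlib
import Cfsg.Agent.H17.RM6

/-! # Standard subgroup `Sz(8)`: the action of the generators on `Q` -/

set_option autoImplicit false
set_option linter.unusedSectionVars false

namespace H14.Ru

open Cfsg H24 H29 H7.Cay Subgroup H17.RC

variable {G : Type*} [Group G] [Finite G] {L G0 V : Subgroup G} {X : SzD L} {Y : QD X V}

theorem Fr.shift {ψ : ℕ → G} (h : Fr Y ψ) (hr : Y.IsRu) {b : ℕ} (hb : b < 8) :
    ∃ ψ', Fr Y ψ' ∧ ψ' 256 = ψ (b ^^^ 256) :=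
  Y.exists_fr hr (h.mem _) (by
    rw [h.pi (xor_lt (by omega) (by norm_num)), xor_div8, Nat.div_eq_of_lt hb, Nat.zero_xor]
    decide +kernel)

theorem QD.exists_pr (hV : VD X V) (hr : Y.IsRu) (hs : ¬ Syl 2 ⊤ Y.Q) :
    ∃ ψ F σ w, Pr Y ψ F σ w ∧ F ∈ C[Y.D] ∧ σ ∈ C[Y.D] ∧ w ∈ C[Y.D] := by
  obtain ⟨F, σ, w, hF, hσ, hw, Ff, zσ, zw, F7, σ3, σF, wσ, w2, wF⟩ := QD.exists_gens hV hr hs
  have aF : ∀ {ψ}, Fr Y ψ → Ac ψ F (act 1) := fun h c hc => (Ff _ (h.mem c)).trans (h.ac_f hV hr c hc)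
  have aσ : ∀ {ψ}, Fr Y ψ → σ * ψ 256 * σ⁻¹ = ψ 256 → Ac ψ σ (act 7) := fun h e c hc => by
    obtain ⟨θ, h1, h2⟩ := h.exists_hm h hσ.1 zσ
    rw [h2 c hc, h1.pinS (h.rel2 h1 h2 (aF h) σF) (h.inj (h1.lt (by norm_num)) (by norm_num)
      ((h2 _ (by norm_num)).symm.trans e)) hc]
  obtain ⟨u0, hu, eu⟩ := Y.π_surj 0 Y.zero_mem 0 1
  obtain ⟨ψ0, h0, -⟩ := Y.exists_fr hr hu eu
  obtain ⟨θ0, k1, k2⟩ := h0.exists_hm h0 hσ.1 zσ
  have l0 : (256 : ℕ) < 2048 := by norm_num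
  obtain ⟨b, hb, eb⟩ := k1.pinS1 (h0.rel2 k1 k2 (aF h0) σF) (h0.inj (k1.lt (k1.lt (k1.lt l0))) l0 (by
    rw [← k2 _ (k1.lt (k1.lt l0)), ← k2 _ (k1.lt l0), ← k2 _ l0]
    calc _ = σ ^ 3 * ψ0 256 * (σ ^ 3)⁻¹ := by rw [pow_three]; group
      _ = _ := by rw [σ3]; group))
  obtain ⟨ψ, h, e1⟩ := h0.shift hr hb
  have a7 := aσ h (by rw [e1, k2 _ (xor_lt (by omega) l0), eb])
  obtain ⟨θ, h1, h2⟩ := h.exists_hm h hw.1 zw
  obtain ⟨q0, hq0, e2⟩ := h.surj _ wF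
  have a1 := Ac.mul h2 (aF h)
  have l1 : 8 * (q0 / 8) < 2048 := by omega
  obtain ⟨e, he, e3, q, hq, e4, e5⟩ := h1.pinW (h.rel2 h1 h2 a7 wσ) (q := q0 / 8) (by omega)
    fun c hc => h.inj (mq_lt l1 hc) (mq_lt (h1.lt (act_lt _ _)) l1) (by
      rw [h.mul l1 hc, h.mul (h1.lt (act_lt _ _)) l1, ← a1 _ (h1.lt (act_lt _ _)),
        ← a1 _ (h1.lt (act_lt _ _)), ← a1 _ hc]
      rw [← xor_split q0, h.xz (by omega) l1] at e2
      calc _ = X.zz (q0 % 8) * ψ (8 * (q0 / 8)) * ψ c * (X.zz (q0 % 8) * ψ (8 * (q0 / 8)))⁻¹ *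
          ψ (8 * (q0 / 8)) := by
            rw [mul_assoc (X.zz _), Y.zzq (mul_mem (h.mem _) (h.mem _)), Y.zzq (h.mem _)]; group
        _ = _ := by rw [← e2]; group)
  obtain ⟨ψ', h', e6⟩ := h.shift hr he
  obtain ⟨τ, t1, t2⟩ := h.exists_hm h' (one_mem _) (SzD.za_of_C (one_mem _))
  simp only [one_mul, inv_one, mul_one] at t2
  have l2 : e ^^^ 256 < 2048 := xor_lt (by omega) l0
  have i : ∀ a < 2048, ∀ b < 2048, ψ' a = ψ b → τ a = b := fun a ha b hb e =>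
    h.inj (t1.lt ha) hb ((t2 a ha).symm.trans e)
  have f3 : ∀ a < 2048, ψ (act 1 (act 1 (act 1 a))) = X.f ^ 3 * ψ a * (X.f ^ 3)⁻¹ := fun a ha => by
    rw [← h.ac_f hV hr _ (act_lt _ _), ← h.ac_f hV hr _ (act_lt _ _), ← h.ac_f hV hr _ ha, pow_three]
    group
  have e7 : ES.map τ = IC e := by
    simp only [ES, IC, List.map, xor_def]
    rw [i 8 (by norm_num) 8 (by norm_num) (h'.e0.trans h.e0.symm),
      i 16 (by norm_num) 16 (by norm_num) (h'.e1.trans h.e1.symm),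
      i 32 (by norm_num) 32 (by norm_num) (h'.e2.trans h.e2.symm),
      i 64 (by norm_num) 64 (by norm_num) (h'.e3.trans h.e3.symm),
      i 128 (by norm_num) 128 (by norm_num) (h'.e4.trans h.e4.symm), i 256 l0 _ l2 e6,
      i 512 (by norm_num) _ (act_lt _ _) (by rw [h'.e6, e6, ← f3 _ l2]),
      i 1024 (by norm_num) _ (act_lt _ _) (by
        rw [h'.e7, e6, f3 _ (act_lt _ _), f3 _ l2]; group)]
  have qN := norm_self _ (h.mem q)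
  have wN := mul_mem hw.1 qN
  obtain ⟨θ', s1, s2⟩ := h'.exists_hm h' wN (zw.mul_C (Y.zc (h.mem q)))
  have key : ∀ p ∈ IW.zipIdx, θ' (nth 0 ES p.2) = p.1 := fun p hp => by
    have l3 : nth 0 ES p.2 < 2048 := nth_forall (p := (· < 2048)) (by norm_num) ES_lt _
    have l4 : p.1 < 2048 := (by decide : ∀ p ∈ IW.zipIdx, p.1 < 2048) p hp
    have e8 : nth 0 (IC e) p.2 = τ (nth 0 ES p.2) := by
      rw [← e7, nth_eq, nth_eq, ← List.getD_map _ _ τ, t1.zero]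
    have := e5 p hp
    rw [e8, ← h1.aut (cq_lt hq (t1.lt l3)), ← e7, ← t1.aut l4] at this
    refine h'.inj (s1.lt l3) l4 ?_
    rw [← s2 _ l3, t2 _ l3, t2 _ l4, ← this, ← h2 _ (cq_lt hq (t1.lt l3)), h.cq hq (t1.lt l3)]
    group
  have mu : ∀ {x y}, x ∈ N[Y.Q] → y ∈ N[Y.Q] → cs Y.Q (x * y) = cs Y.Q x * cs Y.Q y :=
    fun hx hy => ap_mul _ hx hy
  have e9 : cs Y.Q (w * ψ q) = cs Y.Q w := by rw [mu hw.1 qN, cs_of_mem (h.mem q), mul_one]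
  have m := mul_mem wN hF.1
  have m' := mul_mem hw.1 hF.1
  refine ⟨ψ', F, σ, w * ψ q, ⟨h', aF h', aσ h' (by rw [e6, a7 _ l2, e3]), fun c hc => ?_, F7, σ3, σF, ?_,
    (cs_eq_one (mul_mem wN wN)).1 (by rw [mu wN wN, e9, ← mu hw.1 hw.1, cs_of_mem w2]),
    (cs_eq_one (mul_mem (mul_mem m m) m)).1 (by
      rw [mu (mul_mem m m) m, mu m m, mu wN hF.1, e9, ← mu hw.1 hF.1, ← mu m' m',
        ← mu (mul_mem m' m') m', cs_of_mem wF])⟩, hF.2, hσ.2,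
    mul_mem hw.2 (cents_symm Y.D_Q (h.mem q))⟩
  · rw [s2 c hc, s1.eq_act ?_ chk_W hc]
    change [θ' (nth 0 ES 0), θ' (nth 0 ES 1), θ' (nth 0 ES 2), θ' (nth 0 ES 3), θ' (nth 0 ES 4),
      θ' (nth 0 ES 5), θ' (nth 0 ES 6), θ' (nth 0 ES 7)] = _
    rw [key (1105, 0) (by decide), key (716, 1) (by decide), key (256, 2) (by decide),
      key (1609, 3) (by decide), key (1241, 4) (by decide), key (32, 5) (by decide),
      key (1748, 6) (by decide), key (1164, 7) (by decide)]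
    rfl
  · have := a7 q hq
    rw [e4, mul_inv_eq_iff_eq_mul] at this
    rw [← wσ, mul_assoc w, ← this]
    group

end H14.Ru
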