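import Mathlib
import Cfsg.Agent.H4.K3CS
import Cfsg.Agent.H8.K3G
import Cfsg.Agent.H12.NGFin
import Cfsg.Agent.H12.NGE1

/-!
# Conclusions in the thin case
-/

set_option autoImplicit false
set_option linter.unusedSectionVars false
set_option linter.unusedVariables false

open Cfsg H8.K3

namespace H17.K3

universe u

variable {G : Type u} [Group G] [Finite G]

theorem concl_sy (ht : H27.K3A.Th G) (h : K3N (Nat.card G)) {z : G} (hs : H27.K3A.Sy z) :
    Concl G := by
  haveI := ht.simple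
  obtain ⟨h1, h2, h3⟩ := H4.K3.sy_out ht hs
  exact of_sympl ht.na h h1 h2 h3

theorem of_sol2 [IsSimpleGroup G] (hG : ¬ IsMulCommutative G) (h : K3N (Nat.card G))
    (hs : H12.NG.Sol2 G) : Concl G := by
  rcases H12.NG.main_tits G hG hs with
    (⟨F, _, _, h4, ⟨e⟩⟩ | e | ⟨F, _, _, n, hn, hF, ⟨e⟩⟩ | ⟨F, _, _, -, ⟨e⟩⟩ | ⟨F, _, _, hF, ⟨e⟩⟩ |
      e | e) | e
  · exact l2 h h4 e
  · exact (not_sz h (H12.NG.isSuzuki_of_isoSuzuki e)).elim
  · refine u3 h hF (fun e2 => ?_) e
    have := Nat.pow_le_pow_right two_pos hn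
    omega
  · exact l3 h e
  · exact u3 h (q := 3) hF (by norm_num) e
  · exact (not_alt h le_rfl e).elim
  · exact (not_eq h e.2 5 11 (by norm_num)).elim
  · exact (not_eq h e.2 5 5 (by norm_num)).elim

end H17.K3
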