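import Mathlib
import Cfsg.Agent.H9.FA7

/-! Standard subgroup `2 · Fi₂₂`: definitions. -/

set_option autoImplicit false

namespace H17.F35

open H0 hiding CC
open H29 Subgroup H9.FB

variable {G F : Type*} [Group G] [Group F]

/-- A set of `3`-transpositions. -/
structure TS (E : Set G) : Prop where
  sq : ∀ x ∈ E, x * x = 1
  braid : ∀ x ∈ E, ∀ y ∈ E, ¬ Commute x y → cj x y = cj y x
  cl : ∀ x ∈ E, ∀ y ∈ E, cj x y ∈ E

/-- A maximal set of commuting members of `E`. -/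
structure MC (E P : Set G) : Prop where
  sub : P ⊆ E
  comm : ∀ x ∈ P, ∀ y ∈ P, Commute x y
  max : ∀ w ∈ E, (∀ x ∈ P, Commute w x) → w ∈ P

def T4 (E : Set G) (a b c d : G) : Prop := a ∈ E ∧ T3 (Dx E a) b c d

/-- Products of two, three, four distinct commuting members of `E`. -/
def P2 (E : Set G) (u : G) : Prop := ∃ a ∈ E, ∃ b ∈ Dx E a, u = a * b
def P3 (E : Set G) (u : G) : Prop := ∃ a b c, T3 E a b c ∧ u = a * b * c
def P4 (E : Set G) (u : G) : Prop := ∃ a b c d, T4 E a b c d ∧ u = a * b * c * d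

/-- `closure Δ` is a copy of `2 · Fi₂₂` with central involution `z`. -/
def DL (z : G) (Δ : Set G) : Prop :=
  ∃ ι : CC t23 →* G, Function.Injective ι ∧ ι (pt t23) = z ∧ Rs ι = Δ

/-- An embedding of `Fi₂₄'` that contains the centraliser of `Φ t0`. -/
structure EG (D : Set F) (χ : F →* ℤˣ) (Φ : χ.ker →* G) (t0 : χ.ker) : Prop where
  inj : Function.Injective Φ
  p2 : P2 D (t0 : F)
  cen : ∀ g, Commute g (Φ t0) → g ∈ Φ.range
  n4 : ∀ u : χ.ker, P4 D (u : F) → ¬ IsConj (Φ t0) (Φ u)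

end H17.F35
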