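import Mathlib
import Cfsg.Agent.H17.F35D

/-! Sets of `3`-transpositions: commuting products and maximal commuting subsets. -/

set_option autoImplicit false
set_option linter.unusedVariables false
set_option linter.unusedSectionVars false

namespace H17.F35

open H0 hiding CC
open H29 hiding dec
open Subgroup H9.FB

variable {G F : Type*} [Group G] [Group F]

section
variable {E P P' : Set G} {a b c u v w x : G}

theorem ts_lq (L : LQ E) : TS E :=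
  ⟨fun _ h => L.sq h, fun _ h _ h' k => L.braid h h' k, fun _ h _ h' => L.cj_mem h h'⟩

theorem ts_tt (T : TT E) : TS E :=
  ⟨T.sq, fun _ h _ h' k => T.braid h h' k, fun _ _ _ h' => T.conj _ h' _⟩

theorem TS.res (T : TS E) (x : G) : TS (Dx E x) :=
  ⟨fun _ h => T.sq _ h.1, fun _ h _ h' k => T.braid _ h.1 _ h'.1 k, fun y h w h' =>
    ⟨T.cl _ h.1 _ h'.1, fun e => h'.2.1 (cj_injective y (by rw [e, cj_of_commute h.2.2.symm])),
      (commute_cj_right h.2.2.symm).2 h'.2.2⟩⟩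

theorem TS.inv (T : TS E) (h : x ∈ E) : x⁻¹ = x := inv_eq_of_sq (T.sq x h)

theorem TS.same (T : TS E) (h : x ∈ E) (y : G) : cj x (cj x y) = y := by
  rw [cj_cj, T.sq x h, cj_one]

theorem TS.conj (T : TS E) (hx : x ∈ E) {g : G} (hg : g ∈ closure E) : cj g x ∈ E := by
  induction hg using closure_induction'' generalizing x with
  | mem g hg => exact T.cl g hg x hx
  | inv_mem g hg => rw [T.inv hg]; exact T.cl g hg x hx
  | one => rwa [cj_one]
  | mul g k _ _ h1 h2 => rw [← cj_cj]; exact h1 (h2 hx)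

theorem TS.c2 (T : TS E) (ha : a ∈ E) (hb : b ∈ Dx E a) (hw : w ∈ E) (h : Commute w (a * b)) :
    Commute w a ∧ Commute w b :=
  com2 (T.sq a ha) (T.sq b hb.1) (T.braid w hw a ha) (T.braid w hw b hb.1) hb.2.1.symm h hb.2.2

theorem t3_iff : T3 E a b c ↔ (a ∈ E ∧ b ∈ E ∧ c ∈ E) ∧ (a ≠ b ∧ a ≠ c ∧ b ≠ c) ∧
    Commute a b ∧ Commute a c ∧ Commute b c :=
  ⟨fun ⟨h1, ⟨h2, h3, h4⟩, ⟨h5, h6, h7⟩, h8, h9⟩ => ⟨⟨h1, h2, h5⟩, ⟨h3.symm, h6.symm, h8.symm⟩, h4, h7, h9⟩,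
    fun ⟨⟨h1, h2, h5⟩, ⟨h3, h6, h8⟩, h4, h7, h9⟩ =>
      ⟨h1, ⟨h2, h3.symm, h4⟩, ⟨h5, h6.symm, h7⟩, h8.symm, h9⟩⟩

theorem t4_iff : T4 E a b c x ↔ (a ∈ E ∧ b ∈ E ∧ c ∈ E ∧ x ∈ E) ∧
    (a ≠ b ∧ a ≠ c ∧ a ≠ x ∧ b ≠ c ∧ b ≠ x ∧ c ≠ x) ∧ Commute a b ∧ Commute a c ∧ Commute a x ∧
    Commute b c ∧ Commute b x ∧ Commute c x := by
  rw [T4, t3_iff]
  exact ⟨fun ⟨h0, ⟨⟨h1, h2, h3⟩, ⟨h4, h5, h6⟩, h7, h8, h9⟩, ⟨k1, k2, k3⟩, k4, k5, k6⟩ =>
    ⟨⟨h0, h1, h4, h7⟩, ⟨h2.symm, h5.symm, h8.symm, k1, k2, k3⟩, h3, h6, h9, k4, k5, k6⟩,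
    fun ⟨⟨h0, h1, h4, h7⟩, ⟨h2, h5, h8, k1, k2, k3⟩, h3, h6, h9, k4, k5, k6⟩ =>
    ⟨h0, ⟨⟨h1, h2.symm, h3⟩, ⟨h4, h5.symm, h6⟩, h7, h8.symm, h9⟩, ⟨k1, k2, k3⟩, k4, k5, k6⟩⟩

theorem t3_s12 (t : T3 E a b c) : T3 E b a c ∧ b * a * c = a * b * c := by
  obtain ⟨⟨h1, h2, h3⟩, ⟨h4, h5, h6⟩, h7, h8, h9⟩ := t3_iff.1 t
  exact ⟨t3_iff.2 ⟨⟨h2, h1, h3⟩, ⟨h4.symm, h6, h5⟩, h7.symm, h9, h8⟩, by rw [h7.eq]⟩

theorem t3_rot (t : T3 E a b c) : T3 E b c a ∧ b * c * a = a * b * c := by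
  obtain ⟨⟨h1, h2, h3⟩, ⟨h4, h5, h6⟩, h7, h8, h9⟩ := t3_iff.1 t
  exact ⟨t3_iff.2 ⟨⟨h2, h3, h1⟩, ⟨h6, h4.symm, h5.symm⟩, h9, h7.symm, h8.symm⟩, by
    rw [← (h7.mul_right h8).eq, mul_assoc]⟩

theorem TS.c31 (T : TS E) (t : T3 E a b c) (hw : w ∈ E) (h : Commute w (a * b * c)) : Commute w a := by
  obtain ⟨⟨h1, h2, h3⟩, ⟨h4, h5, h6⟩, h7, h8, h9⟩ := t3_iff.1 t
  exact com3 (T.sq a h1) (T.sq b h2) (T.sq c h3) (T.braid w hw a h1) (T.braid w hw b h2)
    (T.braid w hw c h3) h4 h5 h7 h8 h9 h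

theorem TS.c3 (T : TS E) (t : T3 E a b c) (hw : w ∈ E) (h : Commute w (a * b * c)) :
    Commute w a ∧ Commute w b ∧ Commute w c :=
  ⟨T.c31 t hw h, T.c31 (t3_rot t).1 hw ((t3_rot t).2 ▸ h),
    T.c31 (t3_rot (t3_rot t).1).1 hw ((t3_rot (t3_rot t).1).2 ▸ (t3_rot t).2 ▸ h)⟩

theorem rad2 [Finite G] (ha : a ∈ E) (hb : b ∈ Dx E a) (L : LQ (Dx E a)) (hu : u ∈ E)
    (h : ∀ w ∈ E, Commute w a → Commute w b → Commute w u) : u = a ∨ u = b := by
  by_cases k : u = a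
  · exact Or.inl k
  · exact Or.inr (L.eq_of_comm hb ⟨hu, k, h a ha (Commute.refl a) hb.2.2⟩
      fun w hw _ h1 => h w hw.1 hw.2.2.symm h1).symm

theorem TS.uniq2 [Finite G] (T : TS E) (ha : a ∈ E) (hb : b ∈ Dx E a) (L : LQ (Dx E a)) (hu : u ∈ E)
    (hv : v ∈ Dx E u) (e : a * b = u * v) : (u = a ∧ v = b) ∨ (u = b ∧ v = a) := by
  rcases rad2 ha hb L hu fun w hw h1 h2 => (T.c2 hu hv hw (e ▸ h1.mul_right h2)).1 with rfl | rfl
  · exact Or.inl ⟨rfl, (mul_left_cancel e).symm⟩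
  · exact Or.inr ⟨rfl, (mul_left_cancel (hb.2.2.eq.symm.trans e)).symm⟩

theorem TS.uniq3 [Finite G] (T : TS E) (t : T3 E a b c) (L : LQ (Dx (Dx E a) b)) (t' : T3 E u v w)
    (e : a * b * c = u * v * w) : u = a ∨ u = b ∨ u = c := by
  have k : ∀ y ∈ E, Commute y a → Commute y b → Commute y c → Commute y u := fun y hy h1 h2 h3 =>
    T.c31 t' hy (e ▸ (h1.mul_right h2).mul_right h3)
  by_cases h : u = a
  · exact Or.inl h
  by_cases h' : u = b
  · exact Or.inr (Or.inl h')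
  · exact Or.inr (Or.inr (L.eq_of_comm t.2.2
      ⟨⟨t'.1, h, k a t.1 (Commute.refl a) t.2.1.2.2 t.2.2.1.2.2⟩, h',
        k b t.2.1.1 t.2.1.2.2.symm (Commute.refl b) t.2.2.2.2⟩
      fun y hy _ h1 => k y hy.1.1 hy.1.2.2.symm hy.2.2.symm h1).symm)

theorem exists_max [Finite G] (Q : Set G → Prop) {S : Set G} (h : Q S) :
    ∃ P, Q P ∧ S ⊆ P ∧ ∀ P', Q P' → P ⊆ P' → P' ⊆ P := by
  obtain ⟨P, h1, h2⟩ := Finite.exists_le_maximal (p := Q) h
  exact ⟨P, h2.1, h1, fun P' k1 k2 => h2.2 k1 k2⟩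

theorem exists_mc_ge [Finite G] {S : Set G} (h1 : S ⊆ E) (h2 : ∀ x ∈ S, ∀ y ∈ S, Commute x y) :
    ∃ P, MC E P ∧ S ⊆ P := by
  obtain ⟨P, ⟨k1, k2⟩, k3, k4⟩ := exists_max (fun P => P ⊆ E ∧ ∀ x ∈ P, ∀ y ∈ P, Commute x y) ⟨h1, h2⟩
  refine ⟨P, ⟨k1, k2, fun w hw h => k4 (insert w P) ⟨Set.insert_subset hw k1, ?_⟩
    (Set.subset_insert _ _) (Set.mem_insert _ _)⟩, k3⟩
  rintro x (rfl | hx) y (rfl | hy)
  exacts [Commute.refl _, h y hy, (h x hx).symm, k2 x hx y hy]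

theorem TS.comm_iff (T : TS E) (τ : G → G) (h1 : ∀ x ∈ E, τ x ∈ E) (h2 : ∀ x ∈ E, τ (τ x) = x)
    (h3 : ∀ x ∈ E, ∀ y ∈ E, τ (cj x y) = cj (τ x) (τ y)) {x y : G} (hx : x ∈ E) (hy : y ∈ E) :
    Commute (τ x) (τ y) ↔ Commute x y := by
  rw [← cj_eq_self, ← cj_eq_self, ← h3 x hx y hy]
  exact ⟨fun e => by rw [← h2 _ (T.cl x hx y hy), e, h2 y hy], fun e => by rw [e]⟩

theorem exists_mc_inv [Finite G] (T : TS E) (τ : G → G) (h1 : ∀ x ∈ E, τ x ∈ E)
    (h2 : ∀ x ∈ E, τ (τ x) = x) (h3 : ∀ x ∈ E, ∀ y ∈ E, τ (cj x y) = cj (τ x) (τ y)) :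
    ∃ P, MC E P ∧ ∀ x ∈ P, τ x ∈ P := by
  obtain ⟨P, ⟨k1, k2, k3⟩, -, k4⟩ := exists_max
    (fun P => P ⊆ E ∧ (∀ x ∈ P, ∀ y ∈ P, Commute x y) ∧ ∀ x ∈ P, τ x ∈ P) (S := ∅) (by simp)
  have ci := @T.comm_iff _ _ _ τ h1 h2 h3
  have key : ∀ w ∈ E, (∀ x ∈ P, Commute w x) → Commute w (τ w) → w ∈ P := fun w hw h hc => by
    have h' : ∀ x ∈ P, Commute (τ w) x := fun x hx => by
      rw [← h2 x (k1 hx), ci hw (k1 (k3 x hx))]; exact h _ (k3 x hx)
    refine k4 (insert w (insert (τ w) P)) ⟨Set.insert_subset hw (Set.insert_subset (h1 w hw) k1), ?_, ?_⟩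
      ((Set.subset_insert _ _).trans (Set.subset_insert _ _)) (Set.mem_insert _ _)
    · rintro x (rfl | rfl | hx) y (rfl | rfl | hy)
      exacts [Commute.refl _, hc, h y hy, hc.symm, Commute.refl _, h' y hy, (h x hx).symm,
        (h' x hx).symm, k2 x hx y hy]
    · rintro x (rfl | rfl | hx)
      exacts [Or.inr (Or.inl rfl), Or.inl (h2 _ hw), Or.inr (Or.inr (k3 x hx))]
  refine ⟨P, ⟨k1, k2, fun w hw h => ?_⟩, k3⟩
  by_cases hc : Commute w (τ w)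
  · exact key w hw h hc
  have h' : ∀ x ∈ P, Commute (τ w) x := fun x hx => by
    rw [← h2 x (k1 hx), ci hw (k1 (k3 x hx))]; exact h _ (k3 x hx)
  have e : τ (cj w (τ w)) = cj w (τ w) := by
    rw [h3 w hw _ (h1 w hw), h2 w hw, T.braid w hw _ (h1 w hw) hc]
  have := key _ (T.cl w hw _ (h1 w hw)) (fun x hx => (commute_cj_left (h x hx)).2 (h' x hx))
    (by rw [e])
  exact absurd ((commute_cj_right (Commute.refl w)).1 (h _ this)) hc

theorem MC.res (h : MC E P) (hx : x ∈ P) : MC (Dx E x) (P \ {x}) :=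
  ⟨fun y hy => ⟨h.sub hy.1, hy.2, h.comm x hx y hy.1⟩, fun y hy w hw => h.comm y hy.1 w hw.1,
    fun w hw k => ⟨h.max w hw.1 fun y hy => by
      by_cases e : y = x
      exacts [e ▸ hw.2.2.symm, k y ⟨hy, e⟩], hw.2.1⟩⟩

theorem MC.nonempty (h : MC E P) (hE : E.Nonempty) : P.Nonempty := by
  obtain ⟨w, hw⟩ := hE
  by_contra k
  exact k ⟨w, h.max w hw fun x hx => absurd ⟨x, hx⟩ k⟩

theorem clo_sq {S : Set G} (h1 : ∀ x ∈ S, x * x = 1) (h2 : ∀ x ∈ S, ∀ y ∈ S, Commute x y) {g : G}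
    (hg : g ∈ closure S) : g * g = 1 := by
  have hc : ∀ g ∈ closure S, ∀ k ∈ closure S, Commute g k := fun g hg k hk =>
    A2.cen_clo (fun w hw => (A2.cen_clo (h2 w hw) hg).symm) hk
  induction hg using closure_induction'' with
  | mem g hg => exact h1 g hg
  | inv_mem g hg => rw [← mul_inv_rev, h1 g hg, inv_one]
  | one => exact mul_one 1
  | mul g k hg hk e1 e2 => rw [(hc k hk g hg).mul_mul_mul_comm, e1, e2, mul_one]

theorem TS.comm_of_pg (T : TS E) {S : Subgroup G} (hS : IsPGroup 2 S) (hx : x ∈ E) (hw : w ∈ E)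
    (h1 : x ∈ S) (h2 : w ∈ S) : Commute x w := by
  by_contra k
  have h3 := cube_of_braid (T.sq x hx) (T.sq w hw) (T.braid x hx w hw k)
  obtain ⟨n, hn⟩ := hS ⟨x * w, mul_mem h1 h2⟩
  have h4 : (x * w) ^ 2 ^ n = 1 := congrArg Subtype.val hn
  have h5 : x * w = 1 := by
    rw [← pow_one (x * w), ← show Nat.gcd 3 (2 ^ n) = 1 from
      Nat.Coprime.pow_right n (by norm_num), pow_gcd_eq_one]
    exact ⟨h3, h4⟩
  rw [eq_inv_of_mul_eq_one_left h5, T.inv hw] at k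
  exact k (Commute.refl w)

theorem MC.conj [Finite G] (T : TS E) (h : MC E P) (h' : MC E P') :
    ∃ g ∈ closure E, cj g '' P = P' := by
  have : Fact (Nat.Prime 2) := ⟨Nat.prime_two⟩
  have key : ∀ {P}, MC E P → ∃ S : Sylow 2 (closure E), ∀ x (hx : x ∈ E),
      x ∈ P ↔ (⟨x, subset_closure hx⟩ : closure E) ∈ S := fun {P} h => by
    obtain ⟨S, hS⟩ := (show IsPGroup 2 ((closure P).subgroupOf (closure E)) from fun g =>
      ⟨1, Subtype.ext (Subtype.ext (by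
        simpa [pow_two] using clo_sq (fun x hx => T.sq x (h.sub hx)) h.comm g.2))⟩).exists_le_sylow
    refine ⟨S, fun x hx => ⟨fun k => hS (subset_closure k : x ∈ closure P), fun k =>
      h.max x hx fun y hy => T.comm_of_pg (S.2.map (closure E).subtype) hx (h.sub hy) ⟨_, k, rfl⟩
        ⟨⟨y, subset_closure (h.sub hy)⟩, hS (subset_closure hy : y ∈ closure P), rfl⟩⟩⟩
  obtain ⟨S, hS⟩ := key h
  obtain ⟨S', hS'⟩ := key h'
  obtain ⟨g, rfl⟩ := MulAction.exists_smul_eq (closure E) S S'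
  refine ⟨g, g.2, Set.ext fun x => ⟨?_, fun hx => ?_⟩⟩
  · rintro ⟨y, hy, rfl⟩
    refine (hS' _ (T.conj (h.sub hy) g.2)).2 ?_
    exact Subgroup.smul_mem_pointwise_smul _ (MulAut.conj g) _ ((hS y (h.sub hy)).1 hy)
  · have k := (hS' x (h'.sub hx)).1 hx
    have k2 := T.conj (h'.sub hx) (inv_mem g.2)
    refine ⟨_, (hS _ k2).2 ?_, cj_cj_inv _ _⟩
    have := Subgroup.mem_pointwise_smul_iff_inv_smul_mem.1 k
    rw [← map_inv] at this
    exact this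

def pl21 : List ℕ := [5, 80, 85, 90, 95, 1280, 1285, 1290, 1295, 1360, 1365, 1370, 1375, 1440, 1445,
  1450, 1455, 1520, 1525, 1530, 1535]

theorem pl_a : (∀ a ∈ pl21, Iso (dec a)) ∧ (∀ a ∈ pl21, ∀ b ∈ pl21, hb (dec a) (dec b) = 0) ∧
    (∀ a ∈ pl21, ∀ b ∈ pl21, ∀ c : F4, dec a = c • dec b → a = b) ∧ pl21.Nodup := by decide +kernel

theorem pl_b : allN 4096 (fun n => decide (hb (dec 5) (dec n) = 0 → hb (dec 80) (dec n) = 0 →
    hb (dec 1280) (dec n) = 0 → n = 0 ∨ ∃ a ∈ pl21, ∃ c : F4, dec n = c • dec a)) = true := by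
  decide +kernel

theorem MC.card21 [Finite G] (L : LQ E) (U : MU E 6) (h : MC E P) : P.ncard = 21 := by
  classical
  obtain ⟨π, hπ⟩ := L.exists_um U
  obtain ⟨a1, a2, a3, a4⟩ := pl_a
  have h0 : MC E ((fun a => π (dec a)) '' {a | a ∈ pl21}) := by
    refine ⟨?_, ?_, fun w hw k => ?_⟩
    · rintro _ ⟨a, ha, rfl⟩; exact hπ.mem (a1 a ha)
    · rintro _ ⟨a, ha, rfl⟩ _ ⟨b, hb, rfl⟩; exact (hπ.comm (a1 a ha) (a1 b hb)).2 (a2 a ha b hb)
    · obtain ⟨v, hv, rfl⟩ := hπ.surj hw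
      have k' : ∀ a ∈ pl21, hb (dec a) (dec (enc v)) = 0 := fun a ha => by
        rw [dec_enc]; exact (hπ.comm (a1 a ha) hv).1 (k _ ⟨a, ha, rfl⟩).symm
      rcases of_decide_eq_true (allN_true.1 pl_b _ (enc_lt v)) (k' 5 (by decide)) (k' 80 (by decide))
        (k' 1280 (by decide)) with e | ⟨a, ha, c, e⟩
      · exact absurd (by rw [← dec_enc v, e]; decide) hv.1
      · rw [dec_enc] at e
        exact ⟨a, ha, by rw [e, hπ.smul (a1 a ha) fun e' => hv.1 (by rw [e, e', zero_smul])]⟩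
  obtain ⟨g, -, rfl⟩ := h0.conj (ts_lq L) h
  rw [Set.ncard_image_of_injective _ (cj_injective g), Set.InjOn.ncard_image fun a ha b hb e => by
    obtain ⟨c, hc⟩ := hπ.inj (a1 a ha) (a1 b hb) e
    exact a3 a ha b hb c hc, show {a | a ∈ pl21} = ↑pl21.toFinset by simp, Set.ncard_coe_finset,
    List.toFinset_card_of_nodup a4]
  rfl

theorem iso_count : ((Finset.range 4096).filter fun n => Iso (dec n)).card = 2079 := by
  decide +kernel

theorem card693 [Finite G] (L : LQ E) (U : MU E 6) : E.ncard = 693 := by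
  classical
  obtain ⟨π, h⟩ := L.exists_um U
  have h1 : (Finset.univ.filter fun v : V6 => Iso v).card = 2079 := by
    rw [← iso_count]
    symm
    refine Finset.card_bij' (fun n _ => dec n) (fun v _ => enc v) (fun n hn => ?_) (fun v hv => ?_)
      (fun n hn => ?_) fun v _ => dec_enc v
    · simpa using (Finset.mem_filter.1 hn).2
    · rw [Finset.mem_filter, Finset.mem_range, dec_enc]
      exact ⟨enc_lt v, (Finset.mem_filter.1 hv).2⟩
    · have := Finset.mem_range.1 (Finset.mem_filter.1 hn).1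
      simp only [enc, dec]
      norm_num
      omega
  have h2 : E = ↑((Finset.univ.filter fun v : V6 => Iso v).image π) := by
    ext x
    simp only [Finset.coe_image, Finset.coe_filter, Finset.mem_univ, true_and, Set.mem_image,
      Set.mem_ofPred_eq]
    exact ⟨fun hx => h.surj hx, fun ⟨v, hv, e⟩ => e ▸ h.mem hv⟩
  have h3 := Finset.card_eq_sum_card_image π (Finset.univ.filter fun v : V6 => Iso v)
  rw [Finset.sum_congr rfl (g := fun _ => 3), Finset.sum_const, h1, smul_eq_mul] at h3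
  · rw [h2, Set.ncard_coe_finset]; omega
  · intro x hx
    obtain ⟨v, hv, rfl⟩ := Finset.mem_image.1 hx
    have hv' : Iso v := (Finset.mem_filter.1 hv).2
    have h4 : (Finset.univ.filter fun c : F4 => c ≠ 0).card = 3 := by decide
    rw [← h4]
    symm
    refine Finset.card_bij (fun c _ => c • v) (fun c hc => ?_) (fun c _ c' _ e => ?_) fun w hw => ?_
    · have hc' : c ≠ 0 := (Finset.mem_filter.1 hc).2
      simp only [Finset.mem_filter, Finset.mem_univ, true_and]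
      exact ⟨hv'.smul hc', h.smul hv' hc'⟩
    · exact smul_left_injective F4 hv'.1 e
    · simp only [Finset.mem_filter, Finset.mem_univ, true_and] at hw
      obtain ⟨c, hc⟩ := h.inj hw.1 hv' hw.2
      refine ⟨c, ?_, hc.symm⟩
      simp only [Finset.mem_filter, Finset.mem_univ, true_and]
      rintro rfl
      exact hw.1.1 (by rw [hc, zero_smul])

theorem ln5 [Finite G] (L : LQ E) (U : MU E 6) (ha : a ∈ E) (hb' : b ∈ Dx E a) :
    (Ln E a b).ncard ≤ 5 := by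
  classical
  obtain ⟨π, h⟩ := L.exists_um U
  obtain ⟨u, hu, rfl⟩ := h.surj ha
  obtain ⟨v, hv, rfl⟩ := h.surj hb'.1
  have h0 := (h.comm hu hv).1 hb'.2.2
  refine (Set.ncard_le_ncard (t := ↑(insert (π u) (Finset.univ.image fun c : F4 => π (c • u + v))))
    (fun z hz => ?_)).trans ?_
  · obtain ⟨w, hw, rfl⟩ := h.surj hz.1
    obtain ⟨a, b, e⟩ := (h.ln hu hv hw h0).1 hz
    by_cases k : b = 0
    · rw [k, zero_smul, add_zero] at e
      rw [e, h.smul hu fun e' => hw.1 (by rw [e, e', zero_smul])]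
      simp
    · have : π w = π ((b⁻¹ * a) • u + v) := by
        rw [← h.smul hw (inv_ne_zero k), e, smul_add, smul_smul, smul_smul, inv_mul_cancel₀ k, one_smul]
      rw [this]
      simp
  · rw [Set.ncard_coe_finset]
    refine (Finset.card_insert_le _ _).trans (Nat.succ_le_succ (Finset.card_image_le.trans ?_))
    rw [Finset.card_univ, F4.card]; norm_num

theorem t3_tr [Finite G] (L : LQ E) (U : F22q E) {a' b' c' : G} (t : T3 E a b c) (t' : T3 E a' b' c') :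
    ∃ k ∈ closure E, cj k a = a' ∧ cj k b = b' ∧ cj k c = c' := by
  obtain ⟨k, hk, rfl⟩ := L.trans t.1 t'.1
  have t1 := t.cj fun x hx => L.conj hx hk
  obtain ⟨j, hj, e1, e2⟩ := (U _ t'.1).1.comm_pair_trans t1.2.1 t'.2.1 t1.2.2 t'.2.2
  exact ⟨j * k, mul_mem (closure_mono (fun _ h => h.1) hj) hk, by
    rw [← cj_cj, cj_of_commute (PTT.commute_of_mem_closure hj)], by rw [← cj_cj, e1], by rw [← cj_cj, e2]⟩

/-- counting products of commuting pairs -/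
theorem card_p2 [Finite G] (T : TS E) (L : ∀ a ∈ E, LQ (Dx E a)) {k : ℕ}
    (hk : ∀ a ∈ E, (Dx E a).ncard = k) : 2 * {u | P2 E u}.ncard = E.ncard * k := by
  classical
  have := Fintype.ofFinite G
  let S : Finset (G × G) := Finset.univ.filter fun p => p.1 ∈ E ∧ p.2 ∈ Dx E p.1
  have h1 : S.card = E.ncard * k := by
    rw [Finset.card_eq_sum_card_fiberwise (f := Prod.fst) (t := E.toFinset) (by
      intro p hp; simpa using (Finset.mem_filter.1 hp).2.1), Finset.sum_congr rfl (g := fun _ => k),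
      Finset.sum_const, smul_eq_mul, Set.ncard_eq_toFinset_card']
    intro a ha
    rw [← hk a (by simpa using ha), Set.ncard_eq_toFinset_card']
    refine Finset.card_bij (fun p _ => p.2) (fun p hp => ?_) (fun p hp q hq e => ?_) fun b hb => ?_
    · simp only [S, Finset.mem_filter, Finset.mem_univ, true_and] at hp
      simpa [← hp.2] using hp.1.2
    · exact Prod.ext ((Finset.mem_filter.1 hp).2.trans (Finset.mem_filter.1 hq).2.symm) e
    · exact ⟨(a, b), by simpa [S] using ⟨by simpa using ha, by simpa using hb⟩, rfl⟩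
  rw [← h1, Finset.card_eq_sum_card_fiberwise (f := fun p => p.1 * p.2) (t := {u | P2 E u}.toFinset) (by
      intro p hp
      simp only [S, Finset.coe_filter, Finset.mem_univ, true_and] at hp
      simpa using ⟨p.1, hp.1, p.2, hp.2, rfl⟩), Finset.sum_congr rfl (g := fun _ => 2),
      Finset.sum_const, smul_eq_mul, Set.ncard_eq_toFinset_card', mul_comm]
  intro u hu
  obtain ⟨a, ha, b, hb, rfl⟩ : P2 E u := by simpa using hu
  rw [Finset.card_eq_two]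
  refine ⟨(a, b), (b, a), fun e => hb.2.1 (congrArg Prod.snd e), Finset.ext fun p => ?_⟩
  simp only [S, Finset.mem_filter, Finset.mem_univ, true_and, Finset.mem_insert, Finset.mem_singleton]
  constructor
  · rintro ⟨⟨h1, h2⟩, h3⟩
    exact (T.uniq2 ha hb (L a ha) h1 h2 h3.symm).imp (fun k => Prod.ext k.1 k.2) fun k => Prod.ext k.1 k.2
  · rintro (rfl | rfl)
    exacts [⟨⟨ha, hb⟩, rfl⟩, ⟨⟨hb.1, ha, hb.2.1.symm, hb.2.2.symm⟩, hb.2.2.eq.symm⟩]

end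

end H17.F35
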