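import Mathlib
import Cfsg.Agent.H17.F35A

/-! Configurations of transpositions in `Fi₂₃` and `Fi₂₂`. -/

set_option autoImplicit false
set_option linter.unusedVariables false

namespace H17.F35

open H0 hiding CC
open H29 hiding dec
open Subgroup H9.FB H9.FB.A2

local notation "ee" => Fi23.P.e

theorem ts23 : TS D23 := ts_tt ptt.toTT

theorem ne32 {u : F23} (h : P3 D23 u) : ¬ P2 D23 u := by
  have := fin23
  obtain ⟨a, b, c, t, rfl⟩ := h
  rintro ⟨p, hp, q, hq, e⟩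
  have k : ∀ {p q}, p ∈ D23 → q ∈ D23 → a * b * c = p * q → a ≠ p := fun {p q} _ hq e h => by
    rw [← h, mul_assoc, mul_right_inj] at e
    exact nmul t.2.1.1 ⟨t.2.2.1.1, t.2.2.2.1, t.2.2.2.2⟩ (e ▸ hq)
  rcases rad2 hp hq (d23.2 p hp).1 t.1 fun w hw h1 h2 => ts23.c31 t hw (e ▸ h1.mul_right h2) with h | h
  exacts [k hp hq.1 e h, k hq.1 hp (e.trans hq.2.2.eq) h]

theorem nw : ∀ w ∈ [wp ++ wq, rG ++ wp, rG ++ wq, wp ++ [0], wp ++ [2], wp ++ [4], wp ++ [6], wp ++ [8],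
    wq ++ [0], wq ++ [2], wq ++ [4], wq ++ [6], wq ++ [8], powW 2 [0, 2, 1, 3], powW 3 [0, 2, 1, 3],
    powW 2 [0, 2, 4, 1, 3, 5], powW 3 [0, 2, 4, 1, 3, 5]], ev ee w ≠ 1 := fun w hw =>
  nrel (by revert w; decide +kernel)

theorem ne_l : ∀ s < 9, ∀ t < 9, s ≠ t → ee s ≠ ee t := fun s hs t ht h =>
  ne_e (by revert s t; decide +kernel)

theorem cm_l {s t : ℕ} (h : s < 10 ∧ t < 10 ∧ (s, t) ∉ A342 ∧ (t, s) ∉ A342) : Commute (ee s) (ee t) :=
  (dg23 s h.1 t h.2.1).2 h.2.2.1 h.2.2.2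

theorem br_l {s t : ℕ} (h : s < 10 ∧ t < 10 ∧ (s, t) ∈ A342) : cj (ee s) (ee t) = cj (ee t) (ee s) :=
  (dg23 s h.1 t h.2.1).1 h.2.2

/-- the heptad -/
theorem cfg23 : ∃ p ∈ Dx D23 t23, ∃ q ∈ Dx (Dx D23 t23) p, p * q = t23 * (ee 0 * ee 2 * ee 4 * ee 6) ∧
    ∀ c ∈ [0, 2, 4, 6, 8], (Commute (ee c) p ∧ ee c ≠ p) ∧ Commute (ee c) q ∧ ee c ≠ q := by
  have hx := hex23
  have ne := nw
  have mp : ev ee wp ∈ D23 := by rw [wp, ev_cw Fi23.hiv0]; exact ptt.conj _ (e_mem 0 (by decide)) _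
  have mq : ev ee wq ∈ D23 := by rw [wq, ev_cw Fi23.hiv0]; exact ptt.conj _ (e_mem 0 (by decide)) _
  simp only [List.forall_mem_cons, ev_append, ev_cons, ev_nil, mul_one] at ne hx
  generalize ev ee wp = p at *
  generalize ev ee wq = q at *
  obtain ⟨n1, n2, n3, a0, a2, a4, a6, a8, b0, b2, b4, b6, b8, -⟩ := ne
  change t23 * p ≠ 1 at n2
  change t23 * q ≠ 1 at n3
  change t23 * _ = 1 at hx
  have ct : ∀ c < 9, Commute t23 (ee c) := fun c hc => (e_dx hc).2.2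
  have c02 := cm_l (s := 0) (t := 2) (by decide)
  have c04 := cm_l (s := 0) (t := 4) (by decide)
  have c06 := cm_l (s := 0) (t := 6) (by decide)
  have c24 := cm_l (s := 2) (t := 4) (by decide)
  have c26 := cm_l (s := 2) (t := 6) (by decide)
  have c46 := cm_l (s := 4) (t := 6) (by decide)
  have cA : Commute t23 (ee 0 * ee 2 * ee 4 * ee 6) :=
    (((ct 0 (by decide)).mul_right (ct 2 (by decide))).mul_right (ct 4 (by decide))).mul_right (ct 6 (by decide))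
  have sA : ee 0 * ee 2 * ee 4 * ee 6 * (ee 0 * ee 2 * ee 4 * ee 6) = 1 := by
    rw [((c06.mul_left c26).mul_left c46).symm.mul_mul_mul_comm, (c04.mul_left c24).symm.mul_mul_mul_comm,
      c02.symm.mul_mul_mul_comm, esq, esq, esq, esq]; simp
  have sB : t23 * (ee 0 * ee 2 * ee 4 * ee 6) * (t23 * (ee 0 * ee 2 * ee 4 * ee 6)) = 1 := by
    rw [cA.symm.mul_mul_mul_comm, sA, ptt.sq _ t_mem, one_mul]
  have pq : p * q = t23 * (ee 0 * ee 2 * ee 4 * ee 6) := by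
    rw [← mul_assoc, mul_eq_one_iff_inv_eq] at hx
    rw [← hx, inv_eq_iff_mul_eq_one, ← mul_assoc (ee 0), ← mul_assoc (ee 0 * ee 2), sB]
  have ne : ∀ {x y : F23}, y * y = 1 → x * y ≠ 1 → y ≠ x := fun h1 h2 e => h2 (e ▸ h1)
  have cpq : Commute p q := by
    rw [← pq, mul_eq_one_iff_eq_inv, mul_inv_rev, ts23.inv mp, ts23.inv mq] at sB
    exact sB
  have dq : q ∈ Dx D23 p := ⟨mq, ne (ptt.sq _ mq) n1, cpq⟩
  have cc : ∀ x ∈ D23, Commute x t23 → Commute x (ee 0) → Commute x (ee 2) → Commute x (ee 4) →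
      Commute x (ee 6) → Commute x p ∧ Commute x q := fun x hx k a b c d =>
    ts23.c2 mp dq hx (by rw [pq]; exact k.mul_right (((a.mul_right b).mul_right c).mul_right d))
  have d := cc _ t_mem (Commute.refl _) (ct 0 (by decide)) (ct 2 (by decide)) (ct 4 (by decide))
    (ct 6 (by decide))
  have dc : ∀ c ∈ [0, 2, 4, 6, 8], Commute (ee c) p ∧ Commute (ee c) q := fun c hc =>
    cc _ (e_mem c (by revert c; decide)) (ct c (by revert c; decide)).symm (cm_l (by revert c; decide))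
      (cm_l (by revert c; decide)) (cm_l (by revert c; decide)) (cm_l (by revert c; decide))
  refine ⟨p, ⟨mp, ne (ptt.sq _ mp) n2, d.1⟩, q, ⟨⟨mq, ne (ptt.sq _ mq) n3, d.2⟩, dq.2⟩, pq, fun c hc => ?_⟩
  have := dc c hc
  simp only [List.mem_cons, List.not_mem_nil, or_false] at hc
  rcases hc with rfl | rfl | rfl | rfl | rfl
  exacts [⟨⟨this.1, ne (esq _) a0⟩, this.2, ne (esq _) b0⟩, ⟨⟨this.1, ne (esq _) a2⟩, this.2, ne (esq _) b2⟩,
    ⟨⟨this.1, ne (esq _) a4⟩, this.2, ne (esq _) b4⟩, ⟨⟨this.1, ne (esq _) a6⟩, this.2, ne (esq _) b6⟩,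
    ⟨⟨this.1, ne (esq _) a8⟩, this.2, ne (esq _) b8⟩]

theorem dx_l {s c : ℕ} (h : s < 9 ∧ c < 9 ∧ s ≠ c ∧ (s, c) ∉ A342 ∧ (c, s) ∉ A342) :
    ee c ∈ Dx D23 (ee s) :=
  ⟨e_mem c (by omega), ne_l c h.2.1 s h.1 h.2.2.1.symm, cm_l ⟨by omega, by omega, h.2.2.2⟩⟩

theorem hex0 : ∃ a b c g k i, T3 (Dx D23 t23) a b c ∧ T3 (Dx D23 t23) g k i ∧ a * b * c * (g * k * i) = t23 ∧
    ∀ x ∈ [a, b, c], ∀ y ∈ [g, k, i], Commute x y ∧ x ≠ y := by
  obtain ⟨p, hp, q, hq, e, h⟩ := cfg23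
  simp only [List.forall_mem_cons] at h
  obtain ⟨h0, h2, h4, h6, -⟩ := h
  have d02 := dx_l (s := 0) (c := 2) (by decide)
  have d04 := dx_l (s := 0) (c := 4) (by decide)
  have d06 := dx_l (s := 0) (c := 6) (by decide)
  have d24 := dx_l (s := 2) (c := 4) (by decide)
  have d26 := dx_l (s := 2) (c := 6) (by decide)
  have d46 := dx_l (s := 4) (c := 6) (by decide)
  refine ⟨ee 0, ee 2, ee 4, ee 6, p, q, ⟨e_dx (by decide), ⟨e_dx (by decide), d02.2⟩,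
    ⟨e_dx (by decide), d04.2⟩, d24.2⟩, ⟨e_dx (by decide), ⟨hp, h6.1.2.symm, h6.1.1⟩,
    ⟨hq.1, h6.2.2.symm, h6.2.1⟩, hq.2⟩, ?_, ?_⟩
  · have cA : Commute t23 (ee 0 * ee 2 * ee 4 * ee 6) :=
      (((e_dx (c := 0) (by decide)).2.2.mul_right (e_dx (c := 2) (by decide)).2.2).mul_right
        (e_dx (c := 4) (by decide)).2.2).mul_right (e_dx (c := 6) (by decide)).2.2
    have : p * q * (p * q) = 1 := by
      rw [hq.2.2.symm.mul_mul_mul_comm, ptt.sq _ hp.1, ptt.sq _ hq.1.1, one_mul]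
    rw [e, cA.symm.mul_mul_mul_comm, ptt.sq _ t_mem, one_mul] at this
    rw [mul_assoc (ee 6), e, ← mul_assoc (ee 0 * ee 2 * ee 4), cA.eq, ← mul_assoc, this, one_mul]
  · simp only [List.forall_mem_cons, List.not_mem_nil, IsEmpty.forall_iff, implies_true, and_true]
    exact ⟨⟨⟨d06.2.2, d06.2.1.symm⟩, h0.1, h0.2⟩, ⟨⟨d26.2.2, d26.2.1.symm⟩, h2.1, h2.2⟩,
      ⟨d46.2.2, d46.2.1.symm⟩, h4.1, h4.2⟩

theorem hept8 : ∃ a b c l, T3 (Dx D23 (ee 8)) a b c ∧ (∀ x ∈ l, x ∈ Dx D23 (ee 8)) ∧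
    (a :: b :: c :: l).Pairwise Commute ∧ l.length = 4 ∧ a * b * c = l.prod ∧
    ∃ x, Commute x (ee 8) ∧ x * x = a * b * c := by
  obtain ⟨p, hp, q, hq, e, h⟩ := cfg23
  simp only [List.forall_mem_cons] at h
  obtain ⟨h0, h2, h4, h6, h8, -⟩ := h
  have ct : ∀ c < 9, Commute t23 (ee c) := fun c hc => (e_dx hc).2.2
  have e' : t23 * p * q = ee 0 * ee 2 * ee 4 * ee 6 := by
    rw [mul_assoc, e, ← mul_assoc, ptt.sq _ t_mem, one_mul]
  have cm : ∀ s < 10, ∀ t < 10, (s, t) ∉ A342 → (t, s) ∉ A342 → Commute (ee s) (ee t) :=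
    fun s hs t ht a b => cm_l ⟨hs, ht, a, b⟩
  have c02 := cm 0 (by decide) 2 (by decide) (by decide) (by decide)
  have c04 := cm 0 (by decide) 4 (by decide) (by decide) (by decide)
  have c06 := cm 0 (by decide) 6 (by decide) (by decide) (by decide)
  have c24 := cm 2 (by decide) 4 (by decide) (by decide) (by decide)
  have c26 := cm 2 (by decide) 6 (by decide) (by decide) (by decide)
  have c46 := cm 4 (by decide) 6 (by decide) (by decide) (by decide)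
  refine ⟨t23, p, q, [ee 0, ee 2, ee 4, ee 6], ⟨⟨t_mem, (e_dx (c := 8) (by decide)).2.1.symm,
    (ct 8 (by decide)).symm⟩, ⟨⟨hp.1, h8.1.2.symm, h8.1.1⟩, hp.2⟩,
    ⟨⟨hq.1.1, h8.2.2.symm, h8.2.1⟩, hq.1.2⟩, hq.2⟩, ?_, ?_, rfl, by simp [e', mul_assoc], ?_⟩
  · simp only [List.forall_mem_cons, List.not_mem_nil, IsEmpty.forall_iff, implies_true, and_true]
    exact ⟨dx_l (by decide), dx_l (by decide), dx_l (by decide), dx_l (by decide)⟩
  · simp [c02, c04, c06, c24, c26, c46, hp.2.2, hq.1.2.2, hq.2.2, ct, h0.1.1.symm, h2.1.1.symm,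
      h4.1.1.symm, h6.1.1.symm, h0.2.1.symm, h2.2.1.symm, h4.2.1.symm, h6.2.1.symm]
  · have k1 : ∀ {x}, Commute x (ee 4) → Commute x (ee 5) → Commute x (ee 6) →
        Commute x (cj (ee 5) (ee 4 * ee 5 * ee 6)) := fun a b c =>
      (commute_cj_right b.symm).2 ((a.mul_right b).mul_right c)
    have k2 := k1 (cm 1 (by decide) 4 (by decide) (by decide) (by decide))
      (cm 1 (by decide) 5 (by decide) (by decide) (by decide))
      (cm 1 (by decide) 6 (by decide) (by decide) (by decide))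
    have k3 := (commute_cj_left k2).2 (((k1 c04 (cm 0 (by decide) 5 (by decide) (by decide) (by decide))
      c06).mul_left k2).mul_left (k1 c24 (cm 2 (by decide) 5 (by decide) (by decide) (by decide)) c26))
    refine ⟨cj (ee 1) (ee 0 * ee 1 * ee 2) * cj (ee 5) (ee 4 * ee 5 * ee 6), ?_, ?_⟩
    · have k : ∀ c ∈ [0, 1, 2, 4, 5, 6], Commute (ee 8) (ee c) := fun c hc => cm_l (by revert c; decide)
      simp only [List.forall_mem_cons] at k
      obtain ⟨k0, k1', k2', k4, k5, k6, -⟩ := k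
      exact (((commute_cj_right k1'.symm).2 ((k0.mul_right k1').mul_right k2')).mul_right (k1 k4 k5 k6)).symm
    · rw [e', mul_assoc (ee 0 * ee 2),
        sq_A3 (esq 1) (br_l (s := 0) (by decide)) (br_l (t := 2) (by decide)).symm (esq 0) (esq 2) c02,
        sq_A3 (esq 5) (br_l (s := 4) (by decide)) (br_l (t := 6) (by decide)).symm (esq 4) (esq 6) c46]
      exact (k3.symm.mul_mul_mul_comm _ _)

theorem f22a : (∀ x ∈ Cl (Fi22.P.e 0), ¬ IsSquare x) ∧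
    ∃ θ : CC (Fi22.P.e 0) →* Cfsg.PSU 6 H9.F4 2, CE θ (pt _) := by
  obtain ⟨h1, P, h3⟩ := fi22_facts
  have := Fi22.simple
  have := Fi22.bd.1
  have := Cfsg.Agent.S0283.result (F := H9.F4) (q := 2) H9.F4.card 6 (by norm_num) (by norm_num)
  have cov : Cfsg.IsNonsplitDoubleCover (CC (Fi22.P.e 0)) (Cfsg.PSU 6 H9.F4 2) := by
    rw [CC, h1]; exact H9.U62M.cover
  have c : Cen (CC (Fi22.P.e 0)).subtype (pt _) := ⟨Subtype.val_injective, fun g hg =>
    ⟨⟨g, mem_CC.2 hg⟩, rfl⟩⟩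
  obtain ⟨θ, h⟩ := ce_of_cover (psu_cen H9.F4.card) cov (δ := pt _)
    (fun k => commute_coe.1 (mem_CC.1 k.2).symm) fun e => by
      obtain ⟨y, -, hy⟩ := P.adj_ne (Cl.self _)
      exact hy (by rw [show Fi22.P.e 0 = 1 from congrArg Subtype.val e]; exact Commute.one_left y)
  obtain ⟨Δ, C, k, U, e⟩ := loc22 c H9.F4.card h (P.Dx_ne (Cl.self _))
  exact ⟨fun x hx => c.nsq k hx, θ, h⟩

end H17.F35
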