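import Mathlib
import Cfsg.Agent.H17.F35B0

/-! Facts on `2 · Fi₂₂`. -/

set_option autoImplicit false
set_option linter.unusedVariables false
set_option linter.unusedSectionVars false

namespace H17.F35

open H0 hiding CC
open H29 hiding dec
open Subgroup H9.FB H9.FB.A2

variable {G : Type*} [Group G]

local notation "ee" => Fi23.P.e
local notation "Δ₀" => Dx D23 t23

structure Xc (X : F23 → G) (z : G) (Δ : Set G) : Prop where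
  mul : ∀ {a b}, Commute a t23 → Commute b t23 → X (a * b) = X a * X b
  inj : ∀ {a b}, Commute a t23 → Commute b t23 → X a = X b → a = b
  xz : X t23 = z
  im : X '' Δ₀ = Δ
  clo : ∀ g, g ∈ closure Δ ↔ ∃ a, Commute a t23 ∧ X a = g

theorem DL.chart {z : G} {Δ : Set G} (h : DL z Δ) : ∃ X, Xc X z Δ := by
  obtain ⟨ι, hι, rfl, rfl⟩ := h
  refine ⟨H25.FA.ex ι, fun {a b} ha hb => ?_, fun {a b} ha hb e => ?_, H25.FA.ex_coe ι (pt t23),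
    (H25.FA.rs_eq).symm, fun g => ?_⟩
  · rw [H25.FA.ex_eq ι (mem_CC.2 ha), H25.FA.ex_eq ι (mem_CC.2 hb), H25.FA.ex_eq ι (mem_CC.2 (ha.mul_left hb)),
      ← map_mul]; rfl
  · rw [H25.FA.ex_eq ι (mem_CC.2 ha), H25.FA.ex_eq ι (mem_CC.2 hb)] at e
    exact congrArg Subtype.val (hι e)
  · rw [← H25.FA.rs_range t_mem]
    exact ⟨fun ⟨k, e⟩ => ⟨k, mem_CC.1 k.2, (H25.FA.ex_coe ι k).trans e⟩,
      fun ⟨a, ha, e⟩ => ⟨⟨a, mem_CC.2 ha⟩, (H25.FA.ex_eq ι _).symm.trans e⟩⟩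

theorem c0 {a : F23} (h : a ∈ Δ₀) : Commute a t23 := h.2.2.symm

namespace Xc
variable {X : F23 → G} {z : G} {Δ : Set G} (h : Xc X z Δ) {a b c : F23}
include h

theorem one : X 1 = 1 := by
  have := h.mul (Commute.one_left _) (Commute.one_left _)
  rw [mul_one] at this
  exact left_eq_mul.1 this

theorem inv (ha : Commute a t23) : X a⁻¹ = (X a)⁻¹ :=
  eq_inv_of_mul_eq_one_left (by rw [← h.mul ha.inv_left ha, inv_mul_cancel, h.one])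

theorem cj (ha : Commute a t23) (hb : Commute b t23) : X (cj a b) = cj (X a) (X b) := by
  rw [H0.cj, H0.cj, h.mul (ha.mul_left hb) ha.inv_left, h.mul ha hb, h.inv ha]

theorem comm (ha : Commute a t23) (hb : Commute b t23) : Commute (X a) (X b) ↔ Commute a b := by
  rw [commute_iff_eq, commute_iff_eq, ← h.mul ha hb, ← h.mul hb ha]
  exact ⟨h.inj (ha.mul_left hb) (hb.mul_left ha), congrArg X⟩

theorem mem (ha : a ∈ Δ₀) : X a ∈ Δ := h.im ▸ ⟨a, ha, rfl⟩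

theorem mem' (ha : Commute a t23) (k : X a ∈ Δ) : a ∈ Δ₀ := by
  rw [← h.im] at k
  obtain ⟨b, hb, e⟩ := k
  exact h.inj (c0 hb) ha e ▸ hb

theorem pull {d : G} (hd : d ∈ Δ) : ∃ a ∈ Δ₀, X a = d := by rwa [← h.im] at hd

theorem dx (ha : a ∈ Δ₀) (hb : b ∈ Δ₀) : X b ∈ Dx Δ (X a) ↔ b ∈ Dx Δ₀ a :=
  ⟨fun k => ⟨hb, fun e => k.2.1 (e ▸ rfl), (h.comm (c0 ha) (c0 hb)).1 k.2.2⟩,
    fun k => ⟨h.mem hb, fun e => k.2.1 (h.inj (c0 hb) (c0 ha) e), (h.comm (c0 ha) (c0 hb)).2 k.2.2⟩⟩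

theorem t3 (ha : a ∈ Δ₀) (hb : b ∈ Δ₀) (hc : c ∈ Δ₀) : T3 Δ (X a) (X b) (X c) ↔ T3 Δ₀ a b c :=
  ⟨fun k => ⟨ha, (h.dx ha hb).1 k.2.1, (h.dx ha hc).1 k.2.2.1, ((h.dx hb hc).1 ⟨k.2.2.1.1, k.2.2.2⟩).2⟩,
    fun k => ⟨h.mem ha, (h.dx ha hb).2 k.2.1, (h.dx ha hc).2 k.2.2.1,
      ((h.dx hb hc).2 ⟨k.2.2.1.1, k.2.2.2⟩).2⟩⟩

theorem mul3 (ha : a ∈ Δ₀) (hb : b ∈ Δ₀) (hc : c ∈ Δ₀) : X (a * b * c) = X a * X b * X c := by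
  rw [h.mul ((c0 ha).mul_left (c0 hb)) (c0 hc), h.mul (c0 ha) (c0 hb)]

theorem p2 {u : G} : P2 Δ u ↔ ∃ u0, P2 Δ₀ u0 ∧ Commute u0 t23 ∧ X u0 = u := by
  constructor
  · rintro ⟨a, ha, b, hb, rfl⟩
    obtain ⟨a, ha', rfl⟩ := h.pull ha
    obtain ⟨b, hb', rfl⟩ := h.pull hb.1
    exact ⟨_, ⟨a, ha', b, (h.dx ha' hb').1 hb, rfl⟩, (c0 ha').mul_left (c0 hb'), h.mul (c0 ha') (c0 hb')⟩
  · rintro ⟨_, ⟨a, ha, b, hb, rfl⟩, -, rfl⟩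
    exact ⟨_, h.mem ha, _, (h.dx ha hb.1).2 hb, h.mul (c0 ha) (c0 hb.1)⟩

theorem p3 {u : G} : P3 Δ u ↔ ∃ u0, P3 Δ₀ u0 ∧ Commute u0 t23 ∧ X u0 = u := by
  constructor
  · rintro ⟨a, b, c, t, rfl⟩
    obtain ⟨a, ha, rfl⟩ := h.pull t.1
    obtain ⟨b, hb, rfl⟩ := h.pull t.2.1.1
    obtain ⟨c, hc, rfl⟩ := h.pull t.2.2.1.1
    exact ⟨_, ⟨a, b, c, (h.t3 ha hb hc).1 t, rfl⟩, ((c0 ha).mul_left (c0 hb)).mul_left (c0 hc),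
      h.mul3 ha hb hc⟩
  · rintro ⟨_, ⟨a, b, c, t, rfl⟩, -, rfl⟩
    exact ⟨_, _, _, (h.t3 t.1 t.2.1.1 t.2.2.1.1).2 t, h.mul3 t.1 t.2.1.1 t.2.2.1.1⟩

theorem prod : ∀ l : List F23, (∀ x ∈ l, Commute x t23) → X l.prod = (l.map X).prod
  | [], _ => h.one
  | a :: l, hl => by
    rw [List.prod_cons, List.map_cons, List.prod_cons, h.mul (hl a (by simp))
      (Commute.list_prod_left _ _ fun x hx => hl x (by simp [hx])), prod l fun x hx => hl x (by simp [hx])]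

end Xc

theorem t3_sub {E : Set G} {x a b c : G} (t : T3 (Dx E x) a b c) : T3 E a b c :=
  ⟨t.1.1, ⟨t.2.1.1.1, t.2.1.2⟩, ⟨t.2.2.1.1.1, t.2.2.1.2⟩, t.2.2.2⟩

theorem P2.sub {E : Set G} {x u : G} (h : P2 (Dx E x) u) : P2 E u :=
  let ⟨a, ha, b, hb, e⟩ := h; ⟨a, ha.1, b, ⟨hb.1.1, hb.2⟩, e⟩

theorem P3.sub {E : Set G} {x u : G} (h : P3 (Dx E x) u) : P3 E u :=
  let ⟨a, b, c, t, e⟩ := h; ⟨a, b, c, t3_sub t, e⟩

theorem DL.cjg {z : G} {Δ : Set G} (h : DL z Δ) (g : G) : DL (cj g z) (cj g '' Δ) :=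
  let ⟨ι, h1, h2, h3⟩ := h
  ⟨(H25.FA.cjH g).comp ι, (cj_injective g).comp h1, congrArg (cj g) h2, h3 ▸ H25.FA.rs_cj g⟩

theorem dl23 {x : F23} (hx : x ∈ D23) : DL x (Dx D23 x) := by
  obtain ⟨g, rfl⟩ := hx
  rw [← img1]
  exact DL.cjg ⟨(CC t23).subtype, Subtype.val_injective, rfl, im0.symm⟩ g

theorem hept0 : ∃ a b c l, T3 Δ₀ a b c ∧ (∀ x ∈ l, x ∈ Δ₀) ∧
    (a :: b :: c :: l).Pairwise Commute ∧ l.length = 4 ∧ a * b * c = l.prod ∧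
    ∃ x, Commute x t23 ∧ x * x = a * b * c := by
  obtain ⟨a, b, c, l, h1, h2, h3, h4, h5, x, h6, h7⟩ := hept8
  obtain ⟨g, hg⟩ := ptt.trans _ (e_mem 8 (by decide)) _ t_mem
  have k : ∀ x ∈ Dx D23 (ee 8), cj g x ∈ Δ₀ := fun x hx => hg ▸ ptt.toTT.mem_Dx_cj.2 hx
  refine ⟨cj g a, cj g b, cj g c, l.map (cj g), ?_, ?_, ?_, by simpa using h4, ?_, cj g x,
    hg ▸ commute_cj.2 h6, by rw [← cj_mul, h7, cj_mul, cj_mul]⟩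
  · obtain ⟨⟨a1, a2, a3⟩, a4, a5⟩ := t3_iff.1 h1
    exact t3_iff.2 ⟨⟨k _ a1, k _ a2, k _ a3⟩, by simpa using a4, by simpa using a5⟩
  · simpa using fun x hx => k x (h2 x hx)
  · rw [← List.map_cons, ← List.map_cons, ← List.map_cons, List.pairwise_map]
    exact h3.imp commute_cj.2
  · rw [← cj_mul, ← cj_mul, h5]
    exact map_list_prod (H25.FA.cjH g) l

namespace DL
variable {z : G} {Δ : Set G} (h : DL z Δ) {d e f u x : G}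
include h

theorem lq : LQ Δ := let ⟨_, h1, _, h3⟩ := h; h3 ▸ (H25.FA.rs_lq t_mem h1).1
theorem f22 : F22q Δ := let ⟨_, h1, _, h3⟩ := h; h3 ▸ (H25.FA.rs_lq t_mem h1).2
theorem ts : TS Δ := ts_lq h.lq
theorem sq : z * z = 1 := let ⟨_, h1, h2, _⟩ := h; h2 ▸ H25.FA.pt_sq t_mem h1
theorem zz (x : G) : z * (z * x) = x := by rw [← mul_assoc, h.sq, one_mul]
theorem nm0 : z ∉ Δ := let ⟨_, h1, h2, h3⟩ := h; h3 ▸ h2 ▸ H25.FA.pt_not t_mem h1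
theorem nm (hd : d ∈ Δ) : z * d ∉ Δ := by
  obtain ⟨_, h1, rfl, rfl⟩ := h; exact H25.FA.pt_mul t_mem h1 hd
theorem ne : z ≠ 1 := fun e => by
  obtain ⟨d, hd⟩ := h.lq.nonempty
  exact h.nm hd (by rwa [e, one_mul])
theorem mem : z ∈ closure Δ := by
  obtain ⟨X, k⟩ := h.chart; exact (k.clo _).2 ⟨_, Commute.refl _, k.xz⟩
theorem cen (hx : x ∈ closure Δ) : Commute z x := by
  obtain ⟨X, k⟩ := h.chart
  obtain ⟨a, ha, rfl⟩ := (k.clo _).1 hx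
  exact k.xz ▸ (k.comm (Commute.refl _) ha).2 ha.symm
theorem cen1 (hd : d ∈ Δ) : Commute z d := h.cen (subset_closure hd)
theorem zen (hx : x ∈ closure Δ) (k : ∀ d ∈ Δ, Commute x d) : x = 1 ∨ x = z := by
  obtain ⟨ι, h1, rfl, rfl⟩ := h
  exact H25.FA.rs_zen t_mem h1 (H25.FA.rs_range (φ := ι) t_mem ▸ hx) k
theorem gen1 (hd : d ∈ Δ) (hx : x ∈ closure Δ) (k : Commute x d) : x ∈ closure (Dx Δ d) := by
  obtain ⟨ι, h1, rfl, rfl⟩ := h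
  exact H25.FA.mem_closure_dx t_mem h1 hd (H25.FA.rs_range (φ := ι) t_mem ▸ hx) k
theorem perf1 (hd : d ∈ Δ) : ⁅closure (Dx Δ d), closure (Dx Δ d)⁆ = closure (Dx Δ d) := by
  obtain ⟨_, h1, rfl, rfl⟩ := h
  exact H25.FA.perf_dx t_mem h1 hd

theorem zen1 (hd : d ∈ Δ) (hx : x ∈ closure Δ) (k : ∀ w ∈ Dx Δ d, Commute x w) :
    x = 1 ∨ x = z ∨ x = d ∨ x = z * d := by
  obtain ⟨X, c⟩ := h.chart
  obtain ⟨a, ha, rfl⟩ := (c.clo _).1 hx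
  obtain ⟨b, hb, rfl⟩ := c.pull hd
  rcases H9.FB.zen1 (z := a) t_mem hb fun w hw => (c.comm ha (c0 hw.1)).1 (k _ ((c.dx hb hw.1).2 hw))
    with e | e | e | e <;> rw [e]
  exacts [Or.inl c.one, Or.inr (Or.inl c.xz), Or.inr (Or.inr (Or.inl rfl)),
    Or.inr (Or.inr (Or.inr (by rw [c.mul (Commute.refl _) (c0 hb), c.xz])))]

theorem nsq (hx : x ∈ closure Δ) : x * x ≠ z := fun e => by
  obtain ⟨ι, h1, rfl, rfl⟩ := h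
  obtain ⟨k, rfl⟩ : x ∈ ι.range := H25.FA.rs_range (φ := ι) t_mem ▸ hx
  obtain ⟨C, p⟩ := base.2.1
  exact p.nsq ⟨k, h1 (by rw [map_mul, e])⟩

theorem nsqT (hx : x ∈ closure Δ) (hd : d ∈ Δ) : x * x ≠ d ∧ x * x ≠ z * d := by
  obtain ⟨ι, h1, rfl, rfl⟩ := h
  obtain ⟨k, rfl⟩ : x ∈ ι.range := H25.FA.rs_range (φ := ι) t_mem ▸ hx
  obtain ⟨y, hy, rfl⟩ := hd
  obtain ⟨θ, c, e, -⟩ := th0
  have n := f22a.1 _ ((lift0 c e).im.le ⟨y, hy, rfl⟩)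
  exact ⟨fun e => n ⟨θ k, by rw [← map_mul, h1 (a₁ := k * k) (a₂ := y) (by rw [map_mul, e])]⟩,
    fun e => n ⟨θ k, by rw [← map_mul, h1 (a₁ := k * k) (a₂ := pt t23 * y) (by rw [map_mul, e, map_mul]),
      c.map_δ_mul]⟩⟩

theorem inv (hx : x ∈ closure Δ) (h2 : x * x = 1) :
    ∃ y, (x = y ∨ x = z * y) ∧ (y = 1 ∨ y ∈ Δ ∨ P2 Δ y ∨ P3 Δ y) := by
  obtain ⟨ι, h1, rfl, rfl⟩ := h
  obtain ⟨k, rfl⟩ : x ∈ ι.range := H25.FA.rs_range (φ := ι) t_mem ▸ hx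
  obtain ⟨C, p⟩ := base.2.1
  have F := p.lq.fiso ι h1.injOn
  have q2 : ∀ {e f}, e ∈ Δ0 → f ∈ Dx Δ0 e → P2 (Rs ι) (ι (e * f)) := fun {e f} he hf =>
    ⟨_, ⟨e, he, rfl⟩, _, (F.image_Dx he).le ⟨f, hf, rfl⟩, map_mul ..⟩
  have q3 : ∀ {e f g}, T3 Δ0 e f g → P3 (Rs ι) (ι (e * f * g)) := fun {e f g} t =>
    ⟨_, _, _, t.map ι h1 le_rfl, by rw [map_mul, map_mul]⟩
  rcases p.inv k (h1 (by rw [map_mul, h2, map_one])) with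
    rfl | rfl | e | e | ⟨e, he, f, hf, rfl | rfl⟩ | e
  · exact ⟨1, Or.inl (map_one ι), Or.inl rfl⟩
  · exact ⟨1, Or.inr (mul_one _).symm, Or.inl rfl⟩
  · exact ⟨_, Or.inl rfl, Or.inr (Or.inl ⟨k, e, rfl⟩)⟩
  · exact ⟨_, Or.inr (by rw [← map_mul, p.δδ]), Or.inr (Or.inl ⟨_, e, rfl⟩)⟩
  · exact ⟨_, Or.inl rfl, Or.inr (Or.inr (Or.inl (q2 he hf)))⟩
  · exact ⟨_, Or.inr (map_mul ..), Or.inr (Or.inr (Or.inl (q2 he hf)))⟩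
  · obtain ⟨e, he, f, hf, g, hg, rfl | rfl⟩ := p.c3 k e
    exacts [⟨_, Or.inl rfl, Or.inr (Or.inr (Or.inr (q3 ⟨he, hf, hg⟩)))⟩,
      ⟨_, Or.inr (map_mul ..), Or.inr (Or.inr (Or.inr (q3 ⟨he, hf, hg⟩)))⟩]

theorem ne32 (h3 : P3 Δ u) : ¬ P2 Δ u := fun h2 => by
  obtain ⟨X, c⟩ := h.chart
  obtain ⟨a, a1, a2, rfl⟩ := c.p3.1 h3
  obtain ⟨b, b1, b2, e⟩ := c.p2.1 h2
  exact H17.F35.ne32 a1.sub (c.inj b2 a2 e ▸ b1.sub)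

theorem nez2 (h2 : P2 Δ u) : ¬ P2 Δ (z * u) := fun h3 => by
  obtain ⟨X, c⟩ := h.chart
  obtain ⟨_, ⟨a, ha, b, hb, rfl⟩, a2, rfl⟩ := c.p2.1 h2
  obtain ⟨w, b1, b2, e⟩ := c.p2.1 h3
  rw [← c.xz, ← c.mul (Commute.refl _) a2] at e
  exact H17.F35.ne32 ⟨_, a, b, ⟨t_mem, ha, hb⟩, (mul_assoc _ _ _).symm⟩
    (c.inj b2 ((Commute.refl _).mul_left a2) e ▸ b1.sub)

theorem p2_nm (h2 : P2 Δ u) : u ≠ 1 ∧ u ≠ z ∧ u ∉ Δ ∧ z * u ∉ Δ := by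
  obtain ⟨X, c⟩ := h.chart
  obtain ⟨_, ⟨a, ha, b, hb, rfl⟩, a2, rfl⟩ := c.p2.1 h2
  have n := nmul ha.1 ⟨hb.1.1, hb.2⟩
  refine ⟨fun e => hb.2.1 ?_, fun e => n ?_, fun e => n (c.mem' a2 e).1, fun e => ?_⟩
  · rw [eq_inv_of_mul_eq_one_right (c.inj a2 (Commute.one_left _) (e.trans c.one.symm)), ts23.inv ha.1]
  · rw [c.inj a2 (Commute.refl _) (e.trans c.xz.symm)]; exact t_mem
  · rw [← c.xz, ← c.mul (Commute.refl _) a2, ← mul_assoc] at e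
    exact nmul3 ⟨t_mem, ha, hb⟩ (c.mem' (((Commute.refl _).mul_left (c0 ha)).mul_left (c0 hb.1)) e).1

theorem p3_nm (h3 : P3 Δ u) : u ≠ 1 ∧ u ∉ Δ := by
  obtain ⟨X, c⟩ := h.chart
  obtain ⟨_, ⟨a, b, d, t, rfl⟩, a2, rfl⟩ := c.p3.1 h3
  refine ⟨fun e => nmul t.1.1 ⟨t.2.1.1.1, t.2.1.2⟩ ?_, fun e => nmul3 (t3_sub t) (c.mem' a2 e).1⟩
  rw [eq_inv_of_mul_eq_one_left (c.inj a2 (Commute.one_left _) (e.trans c.one.symm)), ts23.inv t.2.2.1.1.1]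
  exact t.2.2.1.1.1

theorem uniq3 {a b c v w : G} (t : T3 Δ a b c) (t' : T3 Δ u v w) (e : a * b * c = u * v * w) :
    u = a ∨ u = b ∨ u = c := by
  have := fin23
  obtain ⟨X, k⟩ := h.chart
  obtain ⟨a, ha, rfl⟩ := k.pull t.1
  obtain ⟨b, hb, rfl⟩ := k.pull t.2.1.1
  obtain ⟨c, hc, rfl⟩ := k.pull t.2.2.1.1
  obtain ⟨u, hu, rfl⟩ := k.pull t'.1
  obtain ⟨v, hv, rfl⟩ := k.pull t'.2.1.1
  obtain ⟨w, hw, rfl⟩ := k.pull t'.2.2.1.1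
  rw [← k.mul3 ha hb hc, ← k.mul3 hu hv hw] at e
  have t1 := t3_sub ((k.t3 ha hb hc).1 t)
  rcases ts23.uniq3 t1 ((d23.2 a ha.1).2 b t1.2.1).1 (t3_sub ((k.t3 hu hv hw).1 t'))
    (k.inj (((c0 ha).mul_left (c0 hb)).mul_left (c0 hc)) (((c0 hu).mul_left (c0 hv)).mul_left (c0 hw)) e)
    with rfl | rfl | rfl <;> simp

variable [Finite G]

theorem uniq2 {a b v : G} (ha : a ∈ Δ) (hb : b ∈ Dx Δ a) (hu : u ∈ Δ) (hv : v ∈ Dx Δ u)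
    (e : a * b = u * v) : (u = a ∧ v = b) ∨ (u = b ∧ v = a) := h.ts.uniq2 ha hb (h.f22 a ha).1 hu hv e

theorem hex (t : T3 Δ d e f) :
    ∃ g k i, T3 Δ g k i ∧ d * e * f * (g * k * i) = z ∧
      (∀ x ∈ [d, e, f], ∀ y ∈ [g, k, i], Commute x y ∧ x ≠ y) := by
  obtain ⟨X, c⟩ := h.chart
  obtain ⟨a, b, c', g, k, i, t1, t2, e1, e2⟩ := hex0
  obtain ⟨m, hm, rfl, rfl, rfl⟩ := t3_tr h.lq h.f22 ((c.t3 t1.1 t1.2.1.1 t1.2.2.1.1).2 t1) t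
  refine ⟨_, _, _, ((c.t3 t2.1 t2.2.1.1 t2.2.2.1.1).2 t2).cj (k := m) fun x hx => h.lq.conj hx hm, ?_, ?_⟩
  · rw [← cj_mul, ← cj_mul, ← cj_mul, ← cj_mul, ← cj_mul, ← c.mul3 t1.1 t1.2.1.1 t1.2.2.1.1,
      ← c.mul3 t2.1 t2.2.1.1 t2.2.2.1.1, ← c.mul (((c0 t1.1).mul_left (c0 t1.2.1.1)).mul_left (c0 t1.2.2.1.1))
      (((c0 t2.1).mul_left (c0 t2.2.1.1)).mul_left (c0 t2.2.2.1.1)), e1, c.xz, cj_of_commute (h.cen hm).symm]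
  · have k1 : ∀ x ∈ [a, b, c'], x ∈ Δ₀ := by simp [t1.1, t1.2.1.1, t1.2.2.1.1]
    have k2 : ∀ x ∈ [g, k, i], x ∈ Δ₀ := by simp [t2.1, t2.2.1.1, t2.2.2.1.1]
    intro x hx' y hy'
    obtain ⟨x, hx, rfl⟩ := (List.mem_map (f := fun x => cj m (X x)) (l := [a, b, c'])).1 hx'
    obtain ⟨y, hy, rfl⟩ := (List.mem_map (f := fun x => cj m (X x)) (l := [g, k, i])).1 hy'
    exact ⟨commute_cj.2 ((c.comm (c0 (k1 x hx)) (c0 (k2 y hy))).2 (e2 x hx y hy).1),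
      fun e => (e2 x hx y hy).2 (c.inj (c0 (k1 x hx)) (c0 (k2 y hy)) (cj_inj.1 e))⟩

theorem p3_sq (t : P3 Δ u) : u * u = 1 ∧ u ∈ closure Δ := by
  obtain ⟨a, b, c, t, rfl⟩ := t
  exact ⟨h.lq.q3 t.1 t.2.1 t.2.2, mul_mem (mul_mem (subset_closure t.1) (subset_closure t.2.1.1))
    (subset_closure t.2.2.1.1)⟩

theorem p2_sq (t : P2 Δ u) : u * u = 1 ∧ u ∈ closure Δ := by
  obtain ⟨a, ha, b, hb, rfl⟩ := t
  exact ⟨h.lq.q2 ha hb, mul_mem (subset_closure ha) (subset_closure hb.1)⟩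

theorem zp3 (t : P3 Δ u) : P3 Δ (z * u) := by
  have s := (h.p3_sq t).1
  have m := h.cen (h.p3_sq t).2
  obtain ⟨a, b, c, t, rfl⟩ := t
  obtain ⟨g, k, i, t', e, -⟩ := h.hex t
  exact ⟨g, k, i, t', by rw [m.eq, ← e, ← mul_assoc, s, one_mul]⟩

theorem p3_tr {v : G} (t : P3 Δ u) (t' : P3 Δ v) : ∃ k ∈ closure Δ, cj k u = v := by
  obtain ⟨a, b, c, t, rfl⟩ := t
  obtain ⟨a', b', c', t', rfl⟩ := t'
  obtain ⟨k, hk, rfl, rfl, rfl⟩ := t3_tr h.lq h.f22 t t'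
  exact ⟨k, hk, by rw [cj_mul, cj_mul]⟩

theorem sq3 (t : P3 Δ u) : ∃ x ∈ closure Δ, x * x = u := by
  obtain ⟨X, c⟩ := h.chart
  obtain ⟨a, b, d, l, h1, -, -, -, -, x, h6, h7⟩ := hept0
  obtain ⟨k, hk, rfl⟩ := h.p3_tr (c.p3.2 ⟨_, ⟨a, b, d, h1, rfl⟩, h7 ▸ h6.mul_left h6, rfl⟩) t
  exact ⟨cj k (X x), mul_mem (mul_mem hk ((c.clo _).2 ⟨x, h6, rfl⟩)) (inv_mem hk), by
    rw [← cj_mul, ← c.mul h6 h6, h7]⟩

theorem sq2 (t : P2 Δ u) : (∃ x ∈ closure Δ, x * x = u) ∧ ∃ x ∈ closure Δ, x * x = z * u := by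
  obtain ⟨ι, h1, rfl, rfl⟩ := h
  obtain ⟨C, p⟩ := base.2.1
  have F := p.lq.fiso ι h1.injOn
  obtain ⟨_, ⟨a, ha, rfl⟩, b, hb', rfl⟩ := t
  obtain ⟨b, hb, rfl⟩ := (F.image_Dx ha).ge hb'
  obtain ⟨⟨x, hx⟩, y, hy⟩ := p.s2 a ha b hb
  rw [← H25.FA.rs_range t_mem]
  exact ⟨⟨_, ⟨x, rfl⟩, by rw [← map_mul, ← hx, map_mul]⟩, _, ⟨y, rfl⟩, by rw [← map_mul, ← hy, map_mul, map_mul]⟩

/-- the non-squares among the involutions -/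
theorem of_nsq (hx : x ∈ closure Δ) (h2 : x * x = 1) (h1 : x ≠ z) (h3 : ∀ y ∈ closure Δ, y * y ≠ x) :
    x ∈ Δ ∨ z * x ∈ Δ := by
  obtain ⟨y, rfl | rfl, k⟩ := h.inv hx h2
  · rcases k with rfl | k | k | k
    · exact absurd (mul_one 1) (h3 1 (one_mem _))
    · exact Or.inl k
    · obtain ⟨y, hy, e⟩ := (h.sq2 k).1; exact absurd e (h3 y hy)
    · obtain ⟨y, hy, e⟩ := h.sq3 k; exact absurd e (h3 y hy)
  · rcases k with rfl | k | k | k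
    · exact absurd (mul_one z) h1
    · exact Or.inr (by rwa [h.zz])
    · obtain ⟨y, hy, e⟩ := (h.sq2 k).2; exact absurd e (h3 y hy)
    · obtain ⟨y, hy, e⟩ := h.sq3 (h.zp3 k); exact absurd e (h3 y hy)

theorem hept (hd : d ∈ Δ) (he : e ∈ Dx Δ d) : ∃ l : List G, (∀ x ∈ l, x ∈ Δ) ∧ (d :: e :: l).Pairwise Commute ∧
    l.length = 5 ∧ d * e * l.prod = 1 := by
  obtain ⟨X, c⟩ := h.chart
  obtain ⟨a, b, f, l, h1, h2, h3, h4, h5, -⟩ := hept0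
  have t := (c.t3 h1.1 h1.2.1.1 h1.2.2.1.1).2 h1
  obtain ⟨k, hk, rfl, rfl⟩ := h.lq.comm_pair_trans t.1 hd t.2.1 he
  have m : ∀ x ∈ a :: b :: f :: l, x ∈ Δ₀ := by simpa [h1.1, h1.2.1.1, h1.2.2.1.1] using h2
  refine ⟨(f :: l).map fun x => cj k (X x), fun x hx' => ?_, ?_, by simp [h4], ?_⟩
  · obtain ⟨x, hx, rfl⟩ := List.mem_map.1 hx'
    exact h.lq.conj (c.mem (m x (List.mem_cons_of_mem _ (List.mem_cons_of_mem _ hx)))) hk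
  · rw [← List.map_cons (f := fun x => cj k (X x)), ← List.map_cons (f := fun x => cj k (X x)),
      List.pairwise_map]
    exact h3.imp_of_mem fun hx hy e => commute_cj.2 ((c.comm (c0 (m _ hx)) (c0 (m _ hy))).2 e)
  · have e1 := c.prod l fun x hx => c0 (h2 x hx)
    have e2 := map_list_prod (H25.FA.cjH k) (l.map X)
    rw [List.map_map] at e2
    rw [List.map_cons, List.prod_cons, ← mul_assoc, ← cj_mul, ← cj_mul]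
    erw [← e2]
    rw [← e1, ← h5, c.mul3 h1.1 h1.2.1.1 h1.2.2.1.1, H25.FA.cjH_apply, ← cj_mul, h.lq.q3 t.1 t.2.1 t.2.2,
      H25.FA.cj_one']

/-- the hexad is the radical -/
theorem hexL {g k i w : G} (t : T3 Δ d e f) (t' : T3 Δ g k i) (e1 : d * e * f * (g * k * i) = z)
    (e2 : ∀ x ∈ [d, e, f], ∀ y ∈ [g, k, i], Commute x y ∧ x ≠ y) (hw : w ∈ Δ)
    (h1 : ∀ v ∈ Δ, Commute v d → Commute v e → Commute v f → Commute v w) : w ∈ [d, e, f, g, k, i] := by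
  by_contra n
  simp only [List.mem_cons, List.not_mem_nil, or_false, not_or] at n
  simp only [List.forall_mem_cons, List.not_mem_nil, IsEmpty.forall_iff, implies_true, and_true] at e2
  obtain ⟨⟨d1, d2, d3⟩, ⟨e1', e2', e3⟩, f1, f2, f3⟩ := e2
  obtain ⟨-, ⟨g1, g2, g3⟩, -⟩ := t3_iff.1 t'
  have e3' : g * k * i = d * e * f * z := by rw [← e1, ← mul_assoc, h.lq.q3 t.1 t.2.1 t.2.2, one_mul]
  have c3 : ∀ v ∈ Dx Δ d, Commute v e → Commute v f → Commute v g ∧ Commute v k ∧ Commute v i :=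
    fun v hv a b => h.ts.c3 t' hv.1 (by
      rw [e3']; exact ((hv.2.2.symm.mul_right a).mul_right b).mul_right (h.cen1 hv.1).symm)
  have := (Set.ncard_le_ncard (s := {e, f, g, k, i, w}) ?_).trans
    (ln5 (h.f22 d t.1).1 (h.f22 d t.1).2 t.2.1 t.2.2)
  · rw [Set.ncard_insert_of_notMem (by simp [t.2.2.2.1.symm, e1'.2, e2'.2, e3.2, Ne.symm n.2.1]),
      Set.ncard_insert_of_notMem (by simp [f1.2, f2.2, f3.2, Ne.symm n.2.2.1]),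
      Set.ncard_insert_of_notMem (by simp [g1, g2, Ne.symm n.2.2.2.1]),
      Set.ncard_insert_of_notMem (by simp [g3, Ne.symm n.2.2.2.2.1]),
      Set.ncard_pair (Ne.symm n.2.2.2.2.2)] at this
    omega
  · rintro x (rfl | rfl | rfl | rfl | rfl | rfl)
    exacts [left_mem_Ln t.2.1, right_mem_Ln t.2.2.1, ⟨⟨t'.1, d1.2.symm, d1.1⟩, fun v hv a b => (c3 v hv a b).1⟩,
      ⟨⟨t'.2.1.1, d2.2.symm, d2.1⟩, fun v hv a b => (c3 v hv a b).2.1⟩,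
      ⟨⟨t'.2.2.1.1, d3.2.symm, d3.1⟩, fun v hv a b => (c3 v hv a b).2.2⟩,
      ⟨⟨hw, n.1, h1 d t.1 (Commute.refl _) t.2.1.2.2 t.2.2.1.2.2⟩, fun v hv a b => h1 v hv.1 hv.2.2.symm a b⟩]

theorem card : Δ.ncard = 3510 := by
  obtain ⟨ι, h1, rfl, rfl⟩ := h
  obtain ⟨θ, c, e, -⟩ := th0
  have l := lift0 c e
  rw [show Rs ι = ι '' Δ0 from rfl, Set.ncard_image_of_injective _ h1, ← l.inj.ncard_image, l.im,
    ← Nat.card_coe_set_eq, fi22_facts.2.2]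

theorem fi23 (hC : ∀ g, Commute g z → g ∈ closure Δ) {g : G} (h1 : cj g z ≠ z) (h2 : Commute z (cj g z)) :
    Nonempty (G ≃* F23) := by
  obtain ⟨ι, hι, rfl, rfl⟩ := h
  obtain ⟨θ, c⟩ := base.1
  exact fi23_main ⟨hι, fun g hg => (H25.FA.rs_range (φ := ι) t_mem ▸ hC g hg : g ∈ ι.range)⟩ c
    ⟨_, ⟨g, rfl⟩, h1, h2⟩

end DL

end H17.F35
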