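import Mathlib
import Cfsg.Agent.H17.F35B

/-! Facts on the model `Fi₂₄`: products of commuting transpositions. -/

set_option autoImplicit false
set_option linter.unusedVariables false
set_option linter.unusedSectionVars false

namespace H17.F35

open H0 hiding CC
open H29 Subgroup H9.FB

variable {G F : Type*} [Group G] [Group F]

variable {D : Set F} {e : ℕ → F} {χ : F →* ℤˣ} {φ : F23 →* F} {x2 : F} {col : F → ZMod 3}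

section
variable {a : F} {ψ : F23 →* F} (p : H3W.Par D χ a ψ) {x y z : F23} {b c d : F}
include p

theorem pm_pb (hb : b ∈ Dx D a) : ∃ y ∈ D23, b = ψ y * a := by
  obtain ⟨y, hy, e⟩ := (p.res b).1 hb
  exact ⟨y, hy, by rw [e, p.mm]⟩

theorem pm_pf (hy : y ∈ D23) : ψ y * a ∈ Dx D a := (p.res _).2 ⟨y, hy, (p.mm _).symm⟩

theorem pm_dx (hx : x ∈ D23) (hy : y ∈ D23) :
    ψ y * a ∈ Dx (Dx D a) (ψ x * a) ↔ y ∈ Dx D23 x :=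
  ⟨fun h => ⟨hy, fun e => h.2.1 (by rw [e]), (p.fiso.comm hx hy).1 h.2.2⟩,
    fun h => ⟨pm_pf p hy, fun e => h.2.1 (p.fiso.inj hy hx e), (p.fiso.comm hx hy).2 h.2.2⟩⟩

theorem pm_t3 (hx : x ∈ D23) (hy : y ∈ D23) (hz : z ∈ D23) :
    T3 (Dx D a) (ψ x * a) (ψ y * a) (ψ z * a) ↔ T3 D23 x y z :=
  ⟨fun h => ⟨hx, (pm_dx p hx hy).1 h.2.1, (pm_dx p hx hz).1 h.2.2.1,
      ((pm_dx p hy hz).1 (H3W.Dx_swap h.2.2).1).2⟩,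
    fun h => ⟨pm_pf p hx, (pm_dx p hx hy).2 h.2.1, (pm_dx p hx hz).2 h.2.2.1,
      ((pm_dx p hy hz).2 (H3W.Dx_swap h.2.2).1).2⟩⟩

theorem pm_1 (y : F23) : a * (ψ y * a) = ψ y := by rw [← mul_assoc, ← (p.cm y).eq, p.mm]

theorem pm_2 (x y : F23) : ψ x * a * (ψ y * a) = ψ (x * y) := by
  rw [mul_assoc, pm_1 p, map_mul]

theorem pm_4 (x y z : F23) : a * (ψ x * a) * (ψ y * a) * (ψ z * a) = ψ (x * y * z) := by
  rw [pm_1 p, mul_assoc, pm_2 p, ← map_mul, mul_assoc]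

theorem pm_t4 (t : T4 D a b c d) : ∃ x y z, T3 D23 x y z ∧ b = ψ x * a ∧ c = ψ y * a ∧
    d = ψ z * a ∧ a * b * c * d = ψ (x * y * z) := by
  obtain ⟨x, hx, rfl⟩ := pm_pb p t.2.1
  obtain ⟨y, hy, rfl⟩ := pm_pb p t.2.2.1.1
  obtain ⟨z, hz, rfl⟩ := pm_pb p t.2.2.2.1.1
  exact ⟨x, y, z, (pm_t3 p hx hy hz).1 t.2, rfl, rfl, rfl, pm_4 p x y z⟩

end

theorem dx_symm {a b : F} (ha : a ∈ D) (hb : b ∈ Dx D a) : a ∈ Dx D b := ⟨ha, hb.2.1.symm, hb.2.2.symm⟩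

theorem dx_cj {E : Set F} {u w : F} (hw : Commute u w) (h : ∀ x ∈ E, cj u x ∈ E) :
    ∀ x ∈ Dx E w, cj u x ∈ Dx E w := fun x hx =>
  ⟨h x hx.1, fun e => hx.2.1 (cj_inj.1 (e.trans (cj_of_commute hw).symm)),
    (commute_cj_right hw).2 hx.2.2⟩

section
variable [Finite F] (m : FI D e χ φ x2 col) {u v a b c d x y : F} {P : Set F}
include m

theorem m_p2cj (h : P2 D u) (g : F) : P2 D (cj g u) := by
  obtain ⟨a, ha, b, hb, rfl⟩ := h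
  exact ⟨_, m.tt.conj a ha g, _, (H3W.Dx_cj m).2 hb, cj_mul _ _ _⟩

theorem m_t4cj (t : T4 D a b c d) (g : F) : T4 D (cj g a) (cj g b) (cj g c) (cj g d) := by
  simp only [t4_iff, m.tt.mem_cj, ne_eq, cj_inj, commute_cj] at t ⊢
  exact t

theorem m_even (ha : a ∈ D) (hb : b ∈ D) : ∃ g, χ g = 1 ∧ cj g a = b := by
  obtain ⟨g, hg⟩ := m.tt.trans _ ha _ hb
  obtain ⟨g', h1, rfl | rfl⟩ := H3W.even_of m (g := g) ha
  exacts [⟨_, h1, hg⟩, ⟨_, h1, by rw [← cj_cj, cj_self, hg]⟩]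

theorem m_ne (h : P4 D u) : ¬ P2 D u := by
  obtain ⟨a, b, c, d, t, rfl⟩ := h
  rintro ⟨r, hr, s, hs, e⟩
  obtain ⟨ψ, p⟩ := H3W.par m t.1
  obtain ⟨-, -, c1, c2, c3, -⟩ := t4_iff.1 t
  obtain ⟨k1, k2⟩ := (ts_tt m.tt).c2 hr hs t.1
    (e ▸ (((Commute.refl a).mul_right c1).mul_right c2).mul_right c3)
  obtain ⟨x, y, z, t3, -, -, -, e4⟩ := pm_t4 p t
  rw [e4] at e
  have k : ∀ s ∈ Dx D a, ψ (x * y * z) ≠ a * s := fun s hs e => by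
    obtain ⟨s0, h0, rfl⟩ := pm_pb p hs
    rw [pm_1 p] at e
    exact nmul3 t3 (p.inj e ▸ h0)
  by_cases h1 : r = a
  · subst h1; exact k s hs e
  by_cases h2 : s = a
  · subst h2; exact k r (dx_symm hr hs) (e.trans hs.2.2.eq)
  obtain ⟨r0, hr0, rfl⟩ := pm_pb p ⟨hr, h1, k1⟩
  obtain ⟨s0, hs0, rfl⟩ := pm_pb p ⟨hs.1, h2, k2⟩
  rw [pm_2 p] at e
  exact ne32 ⟨x, y, z, t3, rfl⟩ ⟨r0, hr0, s0, (pm_dx p hr0 hs0).1 ⟨pm_pf p hs0, hs.2⟩, p.inj e⟩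

theorem m_p2conj (h : P2 D u) (h' : P2 D v) : ∃ g, χ g = 1 ∧ cj g u = v := by
  obtain ⟨a, ha, b, hb, rfl⟩ := h
  obtain ⟨c, hc, d, hd, rfl⟩ := h'
  obtain ⟨g, h1, rfl⟩ := m_even m ha hc
  obtain ⟨k, hk, rfl⟩ := H3W.trans_Fx m hc ((H3W.Dx_cj m).2 hb) hd
  obtain ⟨k1, k2⟩ := H3W.mem_Fx.1 hk
  exact ⟨k * g, by rw [map_mul, h1, k2, mul_one], by
    rw [← cj_cj, cj_mul, cj_mul, cj_of_commute k1]⟩

theorem m_p4conj (h : P4 D u) (h' : P4 D v) : ∃ g, χ g = 1 ∧ cj g u = v := by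
  obtain ⟨a, b, c, d, t, rfl⟩ := h
  obtain ⟨a', b', c', d', t', rfl⟩ := h'
  obtain ⟨g, h1, rfl⟩ := m_even m t.1 t'.1
  obtain ⟨ψ, p⟩ := H3W.par m t'.1
  obtain ⟨x, y, z, t3, -, -, -, e⟩ := pm_t4 p (m_t4cj m t g)
  obtain ⟨x', y', z', t3', -, -, -, e'⟩ := pm_t4 p t'
  obtain ⟨k, rfl, rfl, rfl⟩ := H3W.t3_trans t3 t3'
  refine ⟨ψ k * g, by rw [map_mul, h1, ((p.rng _).1 ⟨k, rfl⟩).2, mul_one], ?_⟩
  rw [← cj_cj, e', cj_mul g, cj_mul g, cj_mul g, e, ← map_cj, cj_mul, cj_mul]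

theorem m_inv (h1 : χ u = 1) (h2 : u * u = 1) (hx : x ∈ D) (h : Commute u x) :
    u = 1 ∨ P2 D u ∨ P4 D u := by
  obtain ⟨ψ, p⟩ := H3W.par m hx
  obtain ⟨w, rfl⟩ := (p.rng u).2 ⟨h, h1⟩
  rcases inv23 (u := w) (p.inj (by rwa [map_mul, map_one])) with
    rfl | k | ⟨a, ha, b, hb, rfl⟩ | ⟨a, b, c, T, rfl⟩
  · exact .inl (map_one _)
  · exact .inr (.inl ⟨x, hx, _, pm_pf p k, (pm_1 p _).symm⟩)
  · exact .inr (.inl ⟨_, (pm_pf p ha).1, _, (H3W.Dx_swap ((pm_dx p ha hb.1).2 hb)).1,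
      (pm_2 p _ _).symm⟩)
  · exact .inr (.inr ⟨x, _, _, _, ⟨hx, (pm_t3 p T.1 T.2.1.1 T.2.2.1.1).2 T⟩, (pm_4 p _ _ _).symm⟩)

theorem m_prod (h : P2 D u) (h' : P2 D v) (hc : Commute u v) (ne : u ≠ v) :
    P2 D (u * v) ∨ ∃ a b c d, T4 D a b c d ∧ u = a * b ∧ v = c * d := by
  have T := ts_tt m.tt
  obtain ⟨a, ha, b, hb, rfl⟩ := h
  rcases T.uniq2 ha hb (H3W.lqx m ha).1 (m.tt.conj a ha v) ((H3W.Dx_cj m).2 hb)
    (by rw [← cj_mul, cj_of_commute hc.symm]) with ⟨e1, e2⟩ | ⟨e1, -⟩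
  · clear hc
    obtain ⟨c, hc, d, hd, rfl⟩ := h'
    obtain ⟨k1, k2⟩ := T.c2 hc hd ha (cj_eq_self.1 e1).symm
    obtain ⟨k3, k4⟩ := T.c2 hc hd hb.1 (cj_eq_self.1 e2).symm
    have k : ∀ {a b d : F}, a ∈ D → b ∈ D → d ∈ D → Commute a b → Commute b d → a * b ≠ a * d →
        P2 D (a * b * (a * d)) := fun {a b d} ha hb hd c1 c2 ne =>
      ⟨b, hb, d, ⟨hd, fun e => ne (by rw [e]), c2⟩, by
        rw [c1.eq, mul_assoc, ← mul_assoc a, m.tt.sq a ha, one_mul]⟩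
    by_cases h1 : a = c
    · subst h1; exact .inl (k ha hb.1 hd.1 hb.2.2 k4 ne)
    by_cases h2 : a = d
    · subst h2; rw [hd.2.2.eq] at ne ⊢; exact .inl (k ha hb.1 hc hb.2.2 k3 ne)
    by_cases h3 : b = c
    · subst h3; rw [hb.2.2.eq] at ne ⊢; exact .inl (k hb.1 ha hd.1 hb.2.2.symm k2 ne)
    by_cases h4 : b = d
    · subst h4; rw [hb.2.2.eq, hd.2.2.eq] at ne ⊢; exact .inl (k hb.1 ha hc hb.2.2.symm k1 ne)
    exact .inr ⟨a, b, c, d, t4_iff.2 ⟨⟨ha, hb.1, hc, hd.1⟩, ⟨hb.2.1.symm, h1, h2, h3, h4,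
      hd.2.1.symm⟩, hb.2.2, k1, k2, k3, k4, hd.2.2⟩, rfl, rfl⟩
  · left
    have := m_p2cj m h' a
    rwa [cj_def, m.tt.inv ha, mul_assoc, ← inv_mul_cancel_right (v * a) v, ← cj_def, e1,
      ← mul_assoc] at this

theorem m_oct (t : T4 D a b c d) (hy : y ∈ Dx (Dx (Dx (Dx D a) b) c) d) :
    ∃ y2 y3 y4, T4 D y y2 y3 y4 ∧ y * y2 * y3 * y4 = a * b * c * d := by
  obtain ⟨ψ, p⟩ := H3W.par m t.1
  obtain ⟨b0, c0, d0, t3, rfl, rfl, rfl, e4⟩ := pm_t4 p t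
  obtain ⟨y0, h0, rfl⟩ := pm_pb p hy.1.1.1
  have hc := t3.2.1.1
  have hd := t3.2.2.1.1
  have y1 := (pm_dx p t3.1 h0).1 hy.1.1
  have y2 := (pm_dx p hc h0).1 ⟨hy.1.1.1, hy.1.2⟩
  have y3 := (pm_dx p hd h0).1 ⟨hy.1.1.1, hy.2⟩
  have := A2.fin23
  obtain ⟨g, k, i, t', e, h⟩ := (dl23 t3.1).hex (d := c0) (e := d0) (f := y0)
    ⟨t3.2.1, t3.2.2, ⟨y1, y2.2⟩, y3.2⟩
  obtain ⟨⟨m1, m2, m3⟩, ⟨n1, n2, n3⟩, c1, c2, c3⟩ := t3_iff.1 t'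
  have f : ∀ w ∈ [g, k, i], w ∈ D23 → ψ w * a ∈ Dx (Dx D a) (ψ y0 * a) := fun w hw hw' =>
    (pm_dx p h0 hw').2 ⟨hw', (h y0 (by simp) w hw).2.symm, (h y0 (by simp) w hw).1⟩
  have f1 := f g (by simp) m1.1
  have f2 := f k (by simp) m2.1
  have f3 := f i (by simp) m3.1
  have t'' := (pm_t3 p m1.1 m2.1 m3.1).2 (t3_iff.2 ⟨⟨m1.1, m2.1, m3.1⟩, ⟨n1, n2, n3⟩, c1, c2, c3⟩)
  refine ⟨_, _, _, ⟨hy.1.1.1.1, (H3W.Dx_swap f1).1, ⟨(H3W.Dx_swap f2).1, t''.2.1.2⟩,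
    ⟨(H3W.Dx_swap f3).1, t''.2.2.1.2⟩, t''.2.2.2⟩, ?_⟩
  rw [e4, mul_assoc, pm_2 p, pm_2 p, ← map_mul]
  congr 1
  have cb : Commute (c0 * d0) b0 := t3.2.1.2.2.symm.mul_left t3.2.2.1.2.2.symm
  calc _ = (c0 * d0)⁻¹ * (c0 * d0 * y0 * (g * k * i)) := by group
    _ = _ := by
      rw [e, mul_inv_rev, d23.1.inv hc, d23.1.inv hd, ← t3.2.2.2.2.eq, cb.eq, mul_assoc]

theorem m_base (h : MC D P) : P.ncard = 24 := by
  obtain ⟨a, ha⟩ := h.nonempty ⟨_, m.mem 0 (by decide)⟩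
  obtain ⟨L1, Q1⟩ := H3W.lqx m (h.sub ha)
  have h1 := h.res ha
  obtain ⟨b, hb⟩ := h1.nonempty L1.nonempty
  obtain ⟨L2, Q2⟩ := Q1 b (h1.sub hb)
  have h2 := h1.res hb
  obtain ⟨c, hc⟩ := h2.nonempty L2.nonempty
  obtain ⟨L3, Q3⟩ := Q2 c (h2.sub hc)
  have := (h2.res hc).card21 L3 Q3
  rw [← Set.ncard_sdiff_singleton_add_one ha, ← Set.ncard_sdiff_singleton_add_one hb,
    ← Set.ncard_sdiff_singleton_add_one hc, this]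

theorem m_comm (h1 : χ u = 1) (h2 : u * u = 1) : ∃ f, P2 D f ∧ Commute f u := by
  have hx := m.mem 0 (by decide)
  generalize e 0 = x at hx
  by_cases h : ∃ x ∈ D, Commute u x
  · obtain ⟨y, hy, h⟩ := h
    rcases m_inv m h1 h2 hy h with rfl | k | ⟨a, b, c, d, t, rfl⟩
    · obtain ⟨y, hy⟩ := (H3W.lqx m hx).1.nonempty
      exact ⟨_, ⟨x, hx, y, hy, rfl⟩, Commute.one_right _⟩
    · exact ⟨u, k, Commute.refl _⟩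
    · obtain ⟨-, -, c1, c2, c3, c4, c5, -⟩ := t4_iff.1 t
      exact ⟨_, ⟨a, t.1, b, t.2.1, rfl⟩,
        ((Commute.refl _).mul_right (c2.mul_left c4)).mul_right (c3.mul_left c5)⟩
  · have hx' := m.tt.conj x hx u
    have e : cj u (cj u x) = x := by rw [cj_cj, h2, cj_one]
    have c : Commute x (cj u x) := by
      by_contra c
      exact h ⟨_, m.tt.conj _ hx' x, cj_eq_self.1 (by rw [cj_cj_conj, e, m.tt.braid hx hx' c])⟩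
    exact ⟨_, ⟨x, hx, _, ⟨hx', fun e => h ⟨x, hx, cj_eq_self.1 e⟩, c⟩, rfl⟩,
      (cj_eq_self.1 (by rw [cj_mul, e, c.eq])).symm⟩

theorem m_cen (t : T4 D a b c d) (h1 : χ u = 1) (h2 : ∀ x ∈ [a, b, c, d], Commute u x)
    (h3 : ∀ y ∈ Dx (Dx (Dx (Dx D a) b) c) d, Commute u y) : u = 1 ∨ P2 D u ∨ u = a * b * c * d := by
  obtain ⟨ψ, p⟩ := H3W.par m t.1
  obtain ⟨L, U⟩ := ((H3W.lqx m t.1).2 b t.2.1).2 c t.2.2.1
  have ca := h2 a (by simp)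
  have cb := h2 b (by simp)
  have cc := h2 c (by simp)
  obtain ⟨⟨ma, mb, mc, md⟩, ⟨n1, n2, n3, n4, n5, n6⟩, c1, c2, c3, c4, c5, c6⟩ := t4_iff.1 t
  have bc : b * a * (c * a) = b * c := by rw [← c2.eq, ← mul_assoc, p.mm]
  rcases cenU L U t.2.2.2 (g := u) (dx_cj cc (dx_cj cb (dx_cj ca fun x hx => m.tt.conj x hx u)))
    (h2 d (by simp)) h3 with h | h
  · rcases p.z1 t.2.1 t.2.2.1 (H3W.mem_Fx.2 ⟨ca, h1⟩) h with rfl | rfl | rfl | rfl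
    · exact .inl rfl
    · exact .inr (.inl ⟨b, mb, a, ⟨ma, n1, c1.symm⟩, rfl⟩)
    · exact .inr (.inl ⟨c, mc, a, ⟨ma, n2, c2.symm⟩, rfl⟩)
    · exact .inr (.inl ⟨b, mb, c, ⟨mc, n4.symm, c4⟩, bc⟩)
  · have k : ∀ w, u * d * a = w * a → u = w * d := fun w e => by
      rw [← mul_right_cancel e, mul_assoc, m.tt.sq d md, mul_one]
    rcases p.z1 (n := u * d * a) t.2.1 t.2.2.1 (H3W.mem_Fx.2 ⟨(ca.mul_left c3.symm).mul_left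
      (Commute.refl a), by rw [map_mul, map_mul, h1, m.sgn d md, m.sgn a ma]; simp⟩)
      (fun w hw => (h w hw).mul_left hw.1.1.2.2) with e | e | e | e
    · exact .inr (.inl ⟨a, ma, d, ⟨md, n3.symm, c3⟩, k a (e.trans p.sq.symm)⟩)
    · exact .inr (.inl ⟨b, mb, d, ⟨md, n5.symm, c5⟩, k b e⟩)
    · exact .inr (.inl ⟨c, mc, d, ⟨md, n6.symm, c6⟩, k c e⟩)
    · exact .inr (.inr (k _ (e.trans (by rw [← c1.eq, ← mul_assoc]))))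

end

end H17.F35
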