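import Mathlib
import Cfsg.Agent.H17.F35M

/-! No involution acts on the transpositions of `Fi₂₄` without fixed points in a closed way. -/

set_option autoImplicit false
set_option linter.unusedSectionVars false

namespace H17.F35

open H0 hiding CC
open H29 Subgroup H9.FB

variable {G F : Type*} [Group G] [Group F]

variable {D : Set F} {e : ℕ → F} {χ : F →* ℤˣ} {φ : F23 →* F} {x2 : F} {col : F → ZMod 3}

theorem n_sq {a b : G} (ha : a * a = 1) (hb : b * b = 1) (h : Commute a b) : a * b * (a * b) = 1 := by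
  rw [h.symm.mul_mul_mul_comm, ha, hb, mul_one]

theorem n_cj2 {s : G} (hs : s * s = 1) (x : G) : cj s (cj s x) = x := by rw [cj_cj, hs, cj_one]

theorem n_dx {x y : F} (hy : y ∈ Dx D x) (hx : x ∈ D) : x ∈ Dx D y := ⟨hx, hy.2.1.symm, hy.2.2.symm⟩

section
variable [Finite F] (m : FI D e χ φ x2 col) {u v a b c d x y : F} {P : Set F}
include m

theorem n_u2 (ha : a ∈ D) (hb : b ∈ Dx D a) (hu : u ∈ D) (hv : v ∈ Dx D u) (h : a * b = u * v) :
    (u = a ∧ v = b) ∨ (u = b ∧ v = a) :=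
  (ts_tt m.tt).uniq2 ha hb (H3W.lqx m ha).1 hu hv h

theorem n_fs (ha : a ∈ D) (hb : b ∈ Dx D a) (h : Commute u (a * b)) :
    (Commute u a ∧ Commute u b) ∨ (cj u a = b ∧ cj u b = a) :=
  (n_u2 m ha hb (m.tt.conj a ha u) (m.tt.mem_Dx_cj.2 hb) (by rw [← cj_mul, cj_of_commute h])).imp_left
    fun k => ⟨cj_eq_self.1 k.1, cj_eq_self.1 k.2⟩

theorem n_p2sq (h : P2 D u) : u * u = 1 := by
  obtain ⟨a, ha, b, hb, rfl⟩ := h
  exact n_sq (m.tt.sq a ha) (m.tt.sq b hb.1) hb.2.2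

theorem n_p2ne (h : P2 D u) : u ≠ 1 := by
  obtain ⟨a, ha, b, hb, rfl⟩ := h
  exact fun k => hb.2.1 ((eq_inv_of_mul_eq_one_right k).trans (m.tt.inv ha))

theorem n_p2χ (h : P2 D u) : χ u = 1 := by
  obtain ⟨a, ha, b, hb, rfl⟩ := h
  rw [map_mul, m.sgn a ha, m.sgn b hb.1]; rfl

theorem n_p2cj (h : P2 D u) (g : F) : P2 D (cj g u) := by
  obtain ⟨a, ha, b, hb, rfl⟩ := h
  exact ⟨_, m.tt.conj a ha g, _, m.tt.mem_Dx_cj.2 hb, cj_mul _ _ _⟩

theorem nofpf {s : F} (hs : s * s = 1) (h1 : ∀ x ∈ D, ¬ Commute s x)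
    (h2 : ∀ x ∈ D, ∀ y ∈ D, ∀ w ∈ D, Commute x y → Commute x (cj s y) → Commute x w →
      Commute x (cj s w) → Commute y w → Commute y (cj s w) →
      P2 D (x * cj s x * (y * cj s y) * (w * cj s w))) : False := by
  classical
  have T := ts_tt m.tt
  obtain ⟨P, hP, hs'⟩ := exists_mc_inv T (cj s) (fun x hx => m.tt.conj x hx s) (fun x _ => n_cj2 hs x)
    fun x _ y _ => cj_cj_conj s x y
  set z : F → F := fun x => x * cj s x with hz
  have dx : ∀ x ∈ P, cj s x ∈ Dx D x := fun x hx => ⟨hP.sub (hs' x hx),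
    fun k => h1 x (hP.sub hx) (cj_eq_self.1 k), hP.comm x hx _ (hs' x hx)⟩
  have cz : ∀ x ∈ P, ∀ y ∈ P, Commute x (z y) := fun x hx y hy =>
    (hP.comm x hx y hy).mul_right (hP.comm x hx _ (hs' y hy))
  have sz : ∀ x ∈ P, Commute s (z x) := fun x hx =>
    cj_eq_self.1 (by rw [hz, cj_mul, n_cj2 hs]; exact (dx x hx).2.2.eq.symm)
  have zz : ∀ x ∈ P, ∀ y ∈ P, Commute (z x) (z y) := fun x hx y hy =>
    (cz x hx y hy).mul_left (cz _ (hs' x hx) y hy)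
  have z2 : ∀ x ∈ P, z x * z x = 1 := fun x hx =>
    n_sq (T.sq x (hP.sub hx)) (T.sq _ (dx x hx).1) (dx x hx).2.2
  have key : ∀ x ∈ P, ∀ y ∈ P, ∀ w ∈ P, ∃ p ∈ P, z x * z y * z w = z p := fun x hx y hy w hw => by
    obtain ⟨p, hp, q, hq, k⟩ := h2 x (hP.sub hx) y (hP.sub hy) w (hP.sub hw) (hP.comm x hx y hy)
      (hP.comm x hx _ (hs' y hy)) (hP.comm x hx w hw) (hP.comm x hx _ (hs' w hw)) (hP.comm y hy w hw)
      (hP.comm y hy _ (hs' w hw))
    refine ⟨p, hP.max p hp fun v hv => (T.c2 hp hq (hP.sub hv)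
      (k ▸ ((cz v hv x hx).mul_right (cz v hv y hy)).mul_right (cz v hv w hw))).1.symm, k.trans ?_⟩
    rw [← ((n_fs m hp hq (k ▸ ((sz x hx).mul_right (sz y hy)).mul_right (sz w hw))).resolve_left
      fun k => h1 p hp k.1).1]
  obtain ⟨a, ha⟩ := hP.nonempty ⟨_, m.mem 0 (by decide)⟩
  let Y : Subgroup F :=
    { carrier := (z a * ·) '' (z '' P)
      one_mem' := ⟨_, ⟨a, ha, rfl⟩, z2 a ha⟩
      mul_mem' := by
        rintro _ _ ⟨_, ⟨x, hx, rfl⟩, rfl⟩ ⟨_, ⟨y, hy, rfl⟩, rfl⟩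
        obtain ⟨p, hp, k⟩ := key x hx a ha y hy
        exact ⟨_, ⟨p, hp, rfl⟩, by simp only [← k, mul_assoc]⟩
      inv_mem' := by
        rintro _ ⟨_, ⟨x, hx, rfl⟩, rfl⟩
        exact ⟨_, ⟨x, hx, rfl⟩, (inv_eq_of_sq (n_sq (z2 a ha) (z2 x hx) (zz a ha x hx))).symm⟩ }
  have hY : IsPGroup 2 Y := by
    rintro ⟨_, _, ⟨x, hx, rfl⟩, rfl⟩
    exact ⟨1, Subtype.ext ((pow_two _).trans (n_sq (z2 a ha) (z2 x hx) (zz a ha x hx)))⟩
  obtain ⟨k, hk⟩ := IsPGroup.iff_card.1 hY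
  have c1 : Nat.card Y = (z '' P).ncard :=
    Set.ncard_image_of_injective _ (mul_right_injective (z a))
  have c2 : P.ncard = (z '' P).ncard * 2 := by
    have := Fintype.ofFinite F
    rw [Set.ncard_eq_toFinset_card' P, Finset.card_eq_sum_card_image z,
      Finset.sum_congr rfl (g := fun _ => 2), Finset.sum_const, smul_eq_mul, ← Set.toFinset_image,
      Set.ncard_eq_toFinset_card']
    intro _ hu
    obtain ⟨x, hx, rfl⟩ := Finset.mem_image.1 hu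
    rw [Set.mem_toFinset] at hx
    rw [← Finset.card_pair (dx x hx).2.1.symm]
    congr 1
    ext y
    simp only [Finset.mem_filter, Set.mem_toFinset, Finset.mem_insert, Finset.mem_singleton]
    refine ⟨fun k => (n_u2 m (hP.sub hx) (dx x hx) (hP.sub k.1) (dx y k.1) k.2.symm).imp And.left And.left, ?_⟩
    rintro (rfl | rfl)
    · exact ⟨hx, rfl⟩
    · exact ⟨hs' x hx, by rw [hz]; simp only [n_cj2 hs, (dx x hx).2.2.eq]⟩
  rw [m_base m hP, ← c1, hk] at c2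
  have : 3 ∣ 2 ^ (k + 1) := by rw [pow_succ, ← c2]; norm_num
  exact absurd (Nat.prime_three.dvd_of_dvd_pow this) (by norm_num)

end

end H17.F35
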