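import Mathlib
import Cfsg.Agent.H17.F35N

/-! Tetrads of transpositions of `Fi₂₄`. -/

set_option autoImplicit false
set_option linter.unusedSectionVars false

namespace H17.F35

open H0 hiding CC
open H29 Subgroup H9.FB

variable {G F : Type*} [Group G] [Group F]

variable {D : Set F} {e : ℕ → F} {χ : F →* ℤˣ} {φ : F23 →* F} {x2 : F} {col : F → ZMod 3}

namespace O

/-- a tetrad with product `c` -/
structure Te (D : Set F) (c p q r s : F) : Prop where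
  t : T4 D p q r s
  e : p * q * r * s = c

/-- members of one tetrad -/
def Sm (D : Set F) (c x y : F) : Prop := y = x ∨ ∃ r s, Te D c x y r s

/-- equal modulo `c` -/
def Ec (c x y : F) : Prop := x = y ∨ x = y * c

def N (D : Set F) (c u : F) : Prop := Commute u c ∧ ∀ x1 x2 x3 x4, Te D c x1 x2 x3 x4 →
  Sm D c x1 (cj u x1) ∧ Ec c (cj u (x1 * x2)) (x1 * x2)

variable {c p q r s q' r' s' x y z u v g : F}

theorem Ec.mul {x' y' : F} (hc : c * c = 1) (h : Ec c x y) (h' : Ec c x' y') (k : Commute c y') :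
    Ec c (x * x') (y * y') := by
  rcases h with rfl | rfl <;> rcases h' with rfl | rfl
  · exact Or.inl rfl
  · exact Or.inr (mul_assoc _ _ _).symm
  · exact Or.inr (by rw [mul_assoc, k.eq, mul_assoc])
  · exact Or.inl (by rw [mul_assoc, ← mul_assoc c, k.eq, mul_assoc, hc, mul_one])

theorem Ec.mem {B : Subgroup F} (hB : c ∈ B) (h : Ec c x y) : x ∈ B ↔ y ∈ B := by
  rcases h with rfl | rfl
  exacts [Iff.rfl, B.mul_mem_cancel_right hB]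

namespace Te

variable (h : Te D c p q r s)
include h

theorem s12 : Te D c q p r s := by
  obtain ⟨⟨a1, a2, a3, a4⟩, ⟨b1, b2, b3, b4, b5, b6⟩, c1, c2, c3, c4, c5, c6⟩ := t4_iff.1 h.t
  exact ⟨t4_iff.2 ⟨⟨a2, a1, a3, a4⟩, ⟨b1.symm, b4, b5, b2, b3, b6⟩, c1.symm, c4, c5, c2, c3, c6⟩,
    by rw [← c1.eq, h.e]⟩

theorem s23 : Te D c p r q s := by
  obtain ⟨⟨a1, a2, a3, a4⟩, ⟨b1, b2, b3, b4, b5, b6⟩, c1, c2, c3, c4, c5, c6⟩ := t4_iff.1 h.t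
  exact ⟨t4_iff.2 ⟨⟨a1, a3, a2, a4⟩, ⟨b2, b1, b3, b4.symm, b6, b5⟩, c2, c1, c3, c4.symm, c6, c5⟩,
    by rw [c4.symm.right_comm, h.e]⟩

theorem s34 : Te D c p q s r := by
  obtain ⟨⟨a1, a2, a3, a4⟩, ⟨b1, b2, b3, b4, b5, b6⟩, c1, c2, c3, c4, c5, c6⟩ := t4_iff.1 h.t
  exact ⟨t4_iff.2 ⟨⟨a1, a2, a4, a3⟩, ⟨b1, b3, b2, b5, b4, b6.symm⟩, c1, c3, c2, c5, c4, c6.symm⟩,
    by rw [c6.symm.right_comm, h.e]⟩

theorem sw : Te D c r s p q := h.s23.s12.s34.s23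

theorem mem : p ∈ D := h.t.1

theorem dx : q ∈ Dx D p := h.t.2.1

theorem p2 : P2 D (p * q) := ⟨p, h.mem, q, h.dx, rfl⟩

theorem cc : Commute p c := h.e ▸ (((Commute.refl p).mul_right h.dx.2.2).mul_right
  h.s23.dx.2.2).mul_right h.s34.s23.dx.2.2

theorem c2 : Commute (p * q) c := h.cc.mul_left h.s12.cc

variable [Finite F] (m : FI D e χ φ x2 col)
include m

theorem pc : p * c = q * r * s := by
  simp only [← h.e, ← mul_assoc, m.tt.sq p h.mem, one_mul]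

theorem pqc : p * q * c = r * s := by
  rw [← h.e, mul_assoc (p * q) r, ← mul_assoc, n_p2sq m h.p2, one_mul]

theorem sq : c * c = 1 := by
  nth_rw 1 [← h.sw.e]
  rw [mul_assoc (r * s) p, mul_assoc, h.pqc m, n_p2sq m h.sw.p2]

theorem zero (hx : x ∈ D) (h1 : Commute x c) (h2 : Commute x p) : Commute x q :=
  ((ts_tt m.tt).c3 (t3_sub h.t.2) hx (h.pc m ▸ h2.mul_right h1)).1

theorem uniq (h' : Te D c p q' r' s') : q' = q ∨ q' = r ∨ q' = s :=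
  ((ts_tt m.tt).res p).uniq3 h.t.2 ((((H3W.lqx m h.mem).2 q h.dx).2 r h.t.2.2.1).1) h'.t.2
    ((h.pc m).symm.trans (h'.pc m))

theorem cj (k : Commute g c) : Te D c (cj g p) (cj g q) (cj g r) (cj g s) :=
  ⟨⟨m.tt.conj p h.mem g, m.tt.mem_Dx_cj.2 h.t.2.1, ⟨m.tt.mem_Dx_cj.2 h.t.2.2.1.1,
      fun e => h.t.2.2.1.2.1 (cj_inj.1 e), commute_cj.2 h.t.2.2.1.2.2⟩,
      ⟨m.tt.mem_Dx_cj.2 h.t.2.2.2.1.1, fun e => h.t.2.2.2.1.2.1 (cj_inj.1 e),
        commute_cj.2 h.t.2.2.2.1.2.2⟩, fun e => h.t.2.2.2.2.1 (cj_inj.1 e), commute_cj.2 h.t.2.2.2.2.2⟩,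
    by rw [← cj_mul, ← cj_mul, ← cj_mul, h.e, cj_of_commute k]⟩

theorem cjq (hx : x ∈ D) (h1 : Commute x c) (h2 : ¬ Commute x p) :
    H0.cj (H0.cj p x) q = H0.cj (p * q) x := by
  rw [← cj_cj, ← m.tt.braid hx h.dx.1 fun k => h2 (h.s12.zero m hx h1 k), cj_cj_conj,
    cj_of_commute h.dx.2.2]

theorem one (hx : x ∈ D) (h1 : Commute x c) (h2 : ¬ Commute x p) :
    Te D c x (H0.cj (p * q) x) (H0.cj (p * r) x) (H0.cj (p * s) x) := by
  have := h.cj m ((commute_cj_left h.cc).2 h1)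
  rwa [h.cjq m hx h1 h2, h.s23.cjq m hx h1 h2, h.s34.s23.cjq m hx h1 h2, m.tt.braid (m.tt.conj x hx p)
    h.mem fun k => h2 ((commute_cj_left (Commute.refl p)).1 k), m.tt.cj_cj_same h.mem] at this

theorem sm : Sm D c p y ↔ y = p ∨ y = q ∨ y = r ∨ y = s := by
  refine ⟨fun k => k.imp_right fun ⟨_, _, k⟩ => h.uniq m k, ?_⟩
  rintro (rfl | rfl | rfl | rfl)
  exacts [Or.inl rfl, Or.inr ⟨_, _, h⟩, Or.inr ⟨_, _, h.s23⟩, Or.inr ⟨_, _, h.s34.s23⟩]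

end Te

theorem Sm.symm (h : Sm D c x y) : Sm D c y x := h.imp Eq.symm fun ⟨_, _, k⟩ => ⟨_, _, k.s12⟩

theorem Sm.ex (h : Sm D c p y) (t : Te D c p q r s) : ∃ a b d, Te D c y a b d := by
  rcases h with rfl | ⟨_, _, k⟩
  exacts [⟨_, _, _, t⟩, ⟨_, _, _, k.s12⟩]

variable [Finite F] (m : FI D e χ φ x2 col)
include m

theorem Sm.trans (h : Sm D c x y) (h' : Sm D c y z) : Sm D c x z := by
  rcases h with rfl | ⟨_, _, k⟩
  exacts [h', (k.sm m).2 (or_left_comm.1 ((k.s12.sm m).1 h'))]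

theorem Sm.zero (h : Sm D c y z) (hx : x ∈ D) (h1 : Commute x c) (h2 : Commute x y) : Commute x z := by
  rcases h with rfl | ⟨_, _, k⟩
  exacts [h2, k.zero m hx h1 h2]

omit m in
theorem N.one : N D c 1 := ⟨Commute.one_left c, fun _ _ _ _ _ => ⟨Or.inl (cj_one _), Or.inl (cj_one _)⟩⟩

theorem N.mul (hu : N D c u) (hv : N D c v) : N D c (u * v) := by
  refine ⟨hu.1.mul_left hv.1, fun _ _ _ _ t => ?_⟩
  obtain ⟨h1, h2⟩ := hv.2 _ _ _ _ t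
  obtain ⟨_, _, _, t'⟩ := h1.ex t
  rw [← cj_cj, ← cj_cj]
  refine ⟨h1.trans m (hu.2 _ _ _ _ t').1, ?_⟩
  rcases h2 with k | k <;> rw [k]
  · exact (hu.2 _ _ _ _ t).2
  · rw [cj_mul, cj_of_commute hu.1]
    rcases (hu.2 _ _ _ _ t).2 with k | k <;> rw [k]
    exacts [Or.inr rfl, Or.inl (by rw [mul_assoc, t.sq m, mul_one])]

theorem Te.N (h : Te D c p q r s) : N D c (p * q) := by
  refine ⟨h.c2, fun x1 x2 x3 x4 t => ?_⟩
  by_cases k : Commute x1 p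
  · have k2 := (t.zero m h.mem h.cc k.symm).symm
    have a1 := (k.mul_right (h.zero m t.mem t.cc k)).symm
    have a2 := (k2.mul_right (h.zero m t.dx.1 t.s12.cc k2)).symm
    exact ⟨Or.inl (cj_of_commute a1), Or.inl (cj_of_commute (a1.mul_right a2))⟩
  have t1 := h.one m t.mem t.cc k
  have t2 := h.one m t.dx.1 t.s12.cc fun k2 => k (t.s12.zero m h.mem h.cc k2.symm).symm
  have a := n_cj2 (n_p2sq m h.p2)
  refine ⟨Or.inr ⟨_, _, t1⟩, ?_⟩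
  have b : H0.cj (p * q) x1 = x2 → Ec c (H0.cj (p * q) (x1 * x2)) (x1 * x2) := fun e =>
    Or.inl (by rw [cj_mul, ← e, a, e, t.dx.2.2.eq])
  rcases t.s12.uniq m t2 with e | e | e
  · exact b (by rw [← e, a])
  all_goals rcases t.uniq m t1 with e' | e' | e'
  · exact b e'
  · exact absurd (cj_inj.1 (e.trans e'.symm)) t.dx.2.1
  · exact Or.inr (by rw [cj_mul, e, e', t.s34.pqc m])
  · exact b e'
  · exact Or.inr (by rw [cj_mul, e, e', t.pqc m])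
  · exact absurd (cj_inj.1 (e.trans e'.symm)) t.dx.2.1

theorem Sm.N (h : Sm D c x y) (hx : x ∈ D) : N D c (y * x) := by
  rcases h with rfl | ⟨_, _, k⟩
  · rw [m.tt.sq y hx]; exact N.one
  · exact k.s12.N m

theorem N.sm (hu : N D c u) (h : Sm D c x y) (hx : x ∈ D) : Ec c (cj u (y * x)) (y * x) := by
  rcases h with rfl | ⟨_, _, k⟩
  · rw [m.tt.sq y hx]; exact Or.inl (cj_of_commute (Commute.one_right u))
  · exact (hu.2 _ _ _ _ k.s12).2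

theorem N.fix (hu : N D c u) (t : Te D c p q r s) (h : Commute u p) : Commute u q := by
  have := (hu.2 _ _ _ _ t).2
  rw [Ec, cj_mul, cj_of_commute h, t.pqc m] at this
  rcases this with k | k
  · exact cj_eq_self.1 (mul_left_cancel k)
  · have a := m.tt.mem_Dx_cj (g := u).2 t.dx
    rw [cj_of_commute h] at a
    rcases n_u2 m t.mem a t.sw.mem t.sw.dx k with k | k
    exacts [absurd k.1 t.s23.dx.2.1, absurd k.2 t.s34.s23.dx.2.1]

variable {l1 l2 l3 l4 : F} (σ : Te D c l1 l2 l3 l4)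
include σ

theorem res_te (hy : y ∈ Dx (Dx (Dx (Dx D l1) l2) l3) l4) : ∃ a b d, Te D c y a b d := by
  obtain ⟨a, b, d, h1, h2⟩ := m_oct m σ.t hy
  exact ⟨a, b, d, h1, h2.trans σ.e⟩

theorem res_not (hy : y ∈ Dx (Dx (Dx (Dx D l1) l2) l3) l4) : ¬ Sm D c l1 y := fun k => by
  rcases (σ.sm m).1 k with k | k | k | k
  exacts [hy.1.1.1.2.1 k, hy.1.1.2.1 k, hy.1.2.1 k, hy.2.1 k]

variable {B : Subgroup F} (hB : c ∈ B) (h0 : ∀ u ∈ B, χ u = 1 ∧ Commute u c) (h2 : ∀ u ∈ B, ¬ P2 D u)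
  (h3 : ∀ f, P2 D f → Commute f c → ∃ p q r s, Te D c p q r s ∧ p * q * f ∈ B)
include hB h3

theorem gB (hu : u ∈ B) (hN : N D c u) (hy : y ∈ Dx (Dx (Dx (Dx D l1) l2) l3) l4) :
    cj u l1 * l1 * (cj u y * y) ∈ B := by
  obtain ⟨_, _, _, τ⟩ := res_te m σ hy
  have s1 := (hN.2 _ _ _ _ σ).1
  have s2 := (hN.2 _ _ _ _ τ).1
  obtain ⟨p, q, r, s, t, hb⟩ := h3 (l1 * y) ⟨l1, σ.mem, y, hy.1.1.1, rfl⟩ (σ.cc.mul_left τ.cc)
  have k1 := hy.1.1.1.2.2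
  have k2 := s2.zero m σ.mem σ.cc k1
  have a := t.N m
  have e1 : cj u l1 * l1 * (cj u y * y) = cj u (l1 * y) * (l1 * y)⁻¹ := by
    rw [cj_mul, mul_inv_rev, m.tt.inv σ.mem, m.tt.inv τ.mem, mul_assoc, (k2.mul_right k1).eq]
    simp only [mul_assoc]
  rw [← ((a.sm m s1 σ.mem).mul (σ.sq m) (a.sm m s2 τ.mem) (s2.N m τ.mem).1.symm).mem hB, ← cj_mul, e1]
  have b := mul_mem (mul_mem (mul_mem hu hb) (inv_mem hu)) (inv_mem hb)
  rw [← cj_def, cj_mul, mul_inv_rev] at b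
  rcases (hN.2 _ _ _ _ t).2 with k | k <;> rw [k] at b
  · simpa only [cj_def, mul_assoc] using b
  · rw [t.c2.eq, mul_assoc, mul_assoc, B.mul_mem_cancel_left hB] at b
    simpa only [cj_def, mul_assoc] using b

include h0 h2

theorem fixB (hu : u ∈ B) (hN : N D c u) (h : Commute u l1) : u = 1 ∨ u = c := by
  rcases m_cen m σ.t (h0 u hu).1 (by
      simpa using ⟨h, hN.fix m σ h, hN.fix m σ.s23 h, hN.fix m σ.s34.s23 h⟩) fun y hy => by
        have b := gB m σ hB h3 hu hN hy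
        obtain ⟨_, _, _, τ⟩ := res_te m σ hy
        rw [cj_of_commute h, m.tt.sq _ σ.mem, one_mul] at b
        rcases (hN.2 _ _ _ _ τ).1 with k | ⟨_, _, k⟩
        exacts [cj_eq_self.1 k, absurd k.s12.p2 (h2 _ b)] with k | k | k
  exacts [Or.inl k, absurd k (h2 u hu), Or.inr (k.trans σ.e)]

theorem allB (hy : y ∈ Dx (Dx (Dx (Dx D l1) l2) l3) l4) (hu : u ∈ B) (hN : N D c u) :
    u = 1 ∨ u = c := by
  have b := gB m σ hB h3 hu hN hy
  obtain ⟨_, _, _, τ⟩ := res_te m σ hy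
  have s1 := (hN.2 _ _ _ _ σ).1
  have s2 := (hN.2 _ _ _ _ τ).1
  have k1 := hy.1.1.1.2.2
  have n := res_not m σ hy
  have b' := fixB m σ hB h0 h2 h3 b ((s1.N m σ.mem).mul m (s2.N m τ.mem))
    (((s1.zero m σ.mem σ.cc (Commute.refl _)).mul_right (Commute.refl _)).mul_right
      ((s2.zero m σ.mem σ.cc k1).mul_right k1)).symm
  rcases s1 with k | ⟨r, s, t⟩
  · exact fixB m σ hB h0 h2 h3 hu hN (cj_eq_self.1 k)
  rcases s2 with k | ⟨_, _, t'⟩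
  · rw [k, m.tt.sq _ τ.mem, mul_one] at b
    exact absurd t.s12.p2 (h2 _ b)
  rcases b' with k | k
  · rw [mul_eq_one_iff_eq_inv, inv_eq_of_sq (n_p2sq m t'.s12.p2)] at k
    rcases n_u2 m t.s12.mem t.s12.dx t'.s12.mem t'.s12.dx k with k | k
    exacts [(n (Or.inl k.2)).elim, (n (k.2 ▸ Or.inr ⟨_, _, t⟩)).elim]
  · rw [← t.s12.e, mul_assoc _ r, mul_right_inj] at k
    rcases n_u2 m t.sw.mem t.sw.dx t'.s12.mem t'.s12.dx k.symm with k | k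
    exacts [(n ((t.sm m).2 (by simp [k.2]))).elim, (n ((t.sm m).2 (by simp [k.2]))).elim]

theorem fin : False := by
  obtain ⟨x, hx, w, hw, nc⟩ := F22q.f6 ((H3W.lqx m σ.mem).2 l2 σ.dx).2 σ.t.2.2.1 σ.t.2.2.2
  obtain ⟨_, _, _, τ0⟩ := res_te m σ hx
  obtain ⟨w2, w3, w4, ω⟩ := res_te m σ hw
  have τ := ω.one m τ0.mem τ0.cc nc
  generalize cj (w * w2) x = y2, cj (w * w3) x = y3, cj (w * w4) x = y4 at τ
  have n := res_not m σ hx
  have dl : ∀ y, Sm D c x y → P2 D (y * l1) := fun y hy => by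
    obtain ⟨_, _, _, t⟩ := hy.ex τ
    exact ⟨y, t.mem, l1, ⟨σ.mem, fun k => n (k ▸ hy.symm), (hy.zero m σ.mem σ.cc hx.1.1.1.2.2).symm⟩, rfl⟩
  obtain ⟨p, q, r, s, t, hb⟩ := h3 _ (dl x (Or.inl rfl)) (τ.cc.mul_left σ.cc)
  have key : ∀ {y a b}, Te D c x y a b → Commute (p * q) (x * y) ∧
      (P2 D (p * q * x * y) ∨ P2 D (p * q * a * b)) := fun {y a b} ρ => by
    obtain ⟨p', q', _, _, t', hb'⟩ := h3 _ (dl y (Or.inr ⟨_, _, ρ⟩)) (ρ.s12.cc.mul_left σ.cc)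
    have b := mul_mem hb' (inv_mem hb)
    have e1 : p' * q' * (y * l1) * (p * q * (x * l1))⁻¹ = p' * q' * (y * x * (p * q)) := by
      rw [mul_inv_rev (p * q), inv_eq_of_sq (n_p2sq m t.p2), mul_inv_rev, m.tt.inv σ.mem, m.tt.inv τ.mem]
      simp only [mul_assoc, ← mul_assoc l1 l1, m.tt.sq _ σ.mem, one_mul]
    rw [e1] at b
    have c1 := ρ.s12.c2.mul_left t.c2
    have e2 : Ec c (p' * q') (p * q * (x * y)) := by
      have i : (y * x * (p * q))⁻¹ = p * q * (x * y) := by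
        rw [mul_inv_rev, inv_eq_of_sq (n_p2sq m t.p2), inv_eq_of_sq (n_p2sq m ρ.s12.p2), ρ.dx.2.2.eq]
      rcases allB m σ hB h0 h2 h3 hx b ((t'.N m).mul m ((ρ.s12.N m).mul m (t.N m))) with k | k
      · exact Or.inl (i ▸ eq_inv_of_mul_eq_one_left k)
      · exact Or.inr (by rw [← i, c1.inv_left.eq, ← k, mul_inv_cancel_right])
    have e3 : p * q * (x * y) * (p * q * (x * y)) = 1 := by
      have := n_p2sq m t'.p2
      rcases e2 with k | k <;> rw [k] at this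
      · exact this
      · rwa [(t.c2.mul_left ρ.c2).symm.mul_mul_mul_comm, σ.sq m, mul_one] at this
    refine ⟨?_, e2.imp (fun k => ?_) fun k => ?_⟩
    · rw [commute_iff_eq, ← inv_eq_of_sq e3, mul_inv_rev, inv_eq_of_sq (n_p2sq m t.p2),
        inv_eq_of_sq (n_p2sq m ρ.p2)]
    · rw [mul_assoc, ← k]; exact t'.p2
    · rw [mul_assoc, ← ρ.pqc m, ← mul_assoc, ← k]; exact t'.p2
  have cx : Commute (p * q) x := by
    rcases n_fs m τ.mem τ.dx (key τ).1 with k | k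
    · exact k.1
    · rcases n_fs m τ.mem τ.s23.dx (key τ.s23).1 with k' | k'
      exacts [k'.1, absurd (k.1.symm.trans k'.1) τ.s23.s12.s23.dx.2.1]
  obtain ⟨cp, cq⟩ := (ts_tt m.tt).c2 t.mem t.dx τ.mem cx.symm
  by_cases k : Sm D c p x
  · have f : ∀ {q r s}, Te D c x q r s → q * l1 ∉ B := fun ρ k => h2 _ k (dl _ (Or.inr ⟨_, _, ρ⟩))
    have f1 : ∀ {q r s}, Te D c x q r s → x * q * (x * l1) ∉ B := fun ρ k => f ρ (by
      rwa [ρ.dx.2.2.eq, mul_assoc, ← mul_assoc x x, m.tt.sq _ τ.mem, one_mul] at k)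
    have hb' := mul_mem hB hb
    rw [← mul_assoc c, ← t.c2.eq, t.pqc m] at hb'
    rcases (t.sm m).1 k with rfl | rfl | rfl | rfl
    exacts [f1 t hb, f1 t.s12 (t.dx.2.2.eq ▸ hb), f1 t.sw hb', f1 t.sw.s12 (t.sw.dx.2.2.eq ▸ hb')]
  · have f : ∀ {a b a' b'}, Sm D c x a → Te D c a b a' b' → ¬ P2 D (p * q * a * b) := fun {a b _ _} ha ρ => by
      have hb := ha.trans m (Or.inr ⟨_, _, ρ⟩)
      have n1 : ∀ z, Sm D c x z → p ≠ z := fun z hz e => k (e ▸ hz.symm)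
      have n2 : ∀ z, Sm D c x z → q ≠ z := fun z hz e =>
        k (Sm.trans m (Or.inr ⟨_, _, t⟩) (e ▸ hz.symm))
      exact m_ne m ⟨p, q, a, b, t4_iff.2 ⟨⟨t.mem, t.dx.1, ρ.mem, ρ.dx.1⟩,
        ⟨t.dx.2.1.symm, n1 a ha, n1 b hb, n2 a ha, n2 b hb, ρ.dx.2.1.symm⟩, t.dx.2.2,
        ha.zero m t.mem t.cc cp.symm, hb.zero m t.mem t.cc cp.symm, ha.zero m t.dx.1 t.s12.cc cq.symm,
        hb.zero m t.dx.1 t.s12.cc cq.symm, ρ.dx.2.2⟩, rfl⟩
    exact (key τ).2.elim (f (Or.inl rfl) τ) (f (Or.inr ⟨_, _, τ.s23⟩) τ.sw)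

end O

section
variable [Finite F] (m : FI D e χ φ x2 col) {u v a b c d x y : F} {P : Set F}
include m

theorem o_p4ne (hc : P4 D c) : c ≠ 1 := by
  obtain ⟨p, q, r, s, t, rfl⟩ := hc
  have σ : O.Te D _ p q r s := ⟨t, rfl⟩
  intro k
  have := σ.pqc m
  rw [k, mul_one] at this
  rcases n_u2 m σ.mem σ.dx σ.sw.mem σ.sw.dx this with k | k
  exacts [σ.s23.dx.2.1 k.1, σ.s34.s23.dx.2.1 k.2]

theorem o_p4sq (hc : P4 D c) : c * c = 1 := by
  obtain ⟨p, q, r, s, t, rfl⟩ := hc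
  exact (⟨t, rfl⟩ : O.Te D _ p q r s).sq m

theorem o_p4cj (hc : P4 D c) (g : F) : P4 D (cj g c) := by
  obtain ⟨p, q, r, s, t, rfl⟩ := hc
  exact ⟨_, _, _, _, ⟨m.tt.conj p t.1 g, by
    rw [← m.tt.image_Dx]; exact T3.map t.2 (MulAut.conj g).toMonoidHom (cj_injective g) le_rfl⟩,
    by rw [cj_mul, cj_mul, cj_mul]; rfl⟩

theorem claim2 (hc : P4 D c) (B : Subgroup F) (hB : c ∈ B) (h0 : ∀ u ∈ B, χ u = 1 ∧ Commute u c)
    (h2 : ∀ u ∈ B, ¬ P2 D u)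
    (h3 : ∀ f, P2 D f → Commute f c → ∃ a, P2 D a ∧ P2 D (a * c) ∧ Commute a c ∧ a * f ∈ B) :
    False := by
  obtain ⟨l1, l2, l3, l4, t, k⟩ := id hc
  refine O.fin m ⟨t, k.symm⟩ hB h0 h2 fun f f1 f2 => ?_
  obtain ⟨a, a1, a2, a3, a4⟩ := h3 f f1 f2
  have e1 : a * (a * c) = c := by rw [← mul_assoc, n_p2sq m a1, one_mul]
  rcases m_prod m a1 a2 ((Commute.refl a).mul_right a3) fun k => o_p4ne m hc (left_eq_mul.1 k) with
    k | ⟨p, q, r, s, t, rfl, k⟩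
  · exact absurd (e1 ▸ k) (m_ne m hc)
  · exact ⟨p, q, r, s, ⟨t, by rw [mul_assoc, ← k, e1]⟩, a4⟩

end

end H17.F35
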