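import Mathlib
import Cfsg.Agent.H17.F35N
import Cfsg.Agent.H17.F35O

/-! An embedded `Fi₂₄'` that contains the centraliser of a `2A`-involution is the whole group. -/

set_option autoImplicit false
set_option linter.unusedSectionVars false
set_option linter.unusedVariables false

namespace H17.F35

open H0 hiding CC
open H29 Subgroup H9.FB

variable {G F : Type*} [Group G] [Group F]

variable {D : Set F} {e : ℕ → F} {χ : F →* ℤˣ} {φ : F23 →* F} {x2 : F} {col : F → ZMod 3}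

namespace E

theorem ic (g x : G) : IsConj x (cj g x) := isConj_iff.2 ⟨g, rfl⟩

theorem dih2 [Finite G] {a f : G} (ha : a * a = 1) (hf : f * f = 1) {M1 M2 : Subgroup G} (a1 : a ∈ M1)
    (f2 : f ∈ M2) (h1 : ∀ k, cj k a ∈ M1 → k ∈ M1) (h2 : ∀ k, cj k f ∈ M2 → k ∈ M2) :
    ∃ k, (∀ z, Commute z a → Commute z f → Commute z k) ∧ cj k a ∈ M2 ∧ cj k a * f ∈ M1 := by
  have e1 : cj a (a * f) = (a * f)⁻¹ := by rw [cj, ← mul_assoc, ha, one_mul, mul_inv_rev, inv_eq_of_sq hf]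
  have e2 : cj f (a * f) = (a * f)⁻¹ := by
    rw [cj, mul_inv_rev, inv_eq_of_sq hf, inv_eq_of_sq ha, mul_assoc, mul_assoc, hf, mul_one]
  have : ∀ n : ℕ, 0 < n → (a * f) ^ n ∈ M1 → (a * f) ^ n ∈ M2 →
      ∃ j : ℕ, (a * f) ^ (2 * j + 1) ∈ M1 ∧ (a * f) ^ (2 * j + 1) ∈ M2 := fun n => by
    induction n using Nat.strong_induction_on with
    | _ n ih =>
      intro h0 k1 k2
      rcases Nat.even_or_odd' n with ⟨i, rfl | rfl⟩
      · exact ih i (by omega) (by omega) (h1 _ (by rw [cj_pow_inv e1]; exact mul_mem k1 a1))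
          (h2 _ (by rw [cj_pow_inv e2]; exact mul_mem k2 f2))
      · exact ⟨i, k1, k2⟩
  obtain ⟨j, k1, k2⟩ := this _ (orderOf_pos (a * f)) (by simp) (by simp)
  have e3 : cj ((a * f) ^ j) a * f = (a * f) ^ (2 * j + 1) := by rw [cj_pow_inv e1, pow_succ, mul_assoc]
  exact ⟨_, fun z c1 c2 => (c1.mul_right c2).pow_right j, (M2.mul_mem_cancel_right f2).1 (e3 ▸ k2),
    e3 ▸ k1⟩

/-- the conjugate chart -/
def ch (g : G) (Φ : χ.ker →* G) : χ.ker →* G := (MulAut.conj g).toMonoidHom.comp Φ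

theorem ch_apply (g : G) (Φ : χ.ker →* G) (u : χ.ker) : ch g Φ u = cj g (Φ u) := rfl

theorem mem_ch {g x : G} {Φ : χ.ker →* G} : x ∈ (ch g Φ).range ↔ cj g⁻¹ x ∈ Φ.range :=
  ⟨by rintro ⟨u, rfl⟩; exact ⟨u, by rw [ch_apply, cj_inv_cj]⟩,
    fun ⟨u, hu⟩ => ⟨u, by rw [ch_apply, hu, cj_cj_inv]⟩⟩

variable {Φ : χ.ker →* G} {t0 u : χ.ker} (h : EG D χ Φ t0)
include h

theorem eg_ch (g : G) : EG D χ (ch g Φ) t0 :=
  ⟨(cj_injective g).comp h.inj, h.p2, fun k hk => mem_ch.2 (h.cen _ (by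
    rwa [← commute_cj (g := g), cj_cj_inv])), fun u hu k => h.n4 u hu ((ic g _).trans (k.trans (ic g _).symm))⟩

theorem comm {u v : χ.ker} : Commute (Φ u) (Φ v) ↔ Commute (u : F) v :=
  ⟨fun k => congrArg Subtype.val (h.inj (by rw [map_mul, map_mul]; exact k) : u * v = v * u),
    fun k => Commute.map (Subtype.ext k : u * v = v * u) Φ⟩

variable [Finite F] (m : FI D e χ φ x2 col)
include m

theorem tt : Φ t0 * Φ t0 = 1 := by
  rw [← map_mul, show t0 * t0 = 1 from Subtype.ext (n_p2sq m h.p2), map_one]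

theorem sq_of (k : IsConj (Φ t0) (Φ u)) : (u : F) * u = 1 := by
  obtain ⟨g, hg⟩ := isConj_iff.1 k
  refine congrArg Subtype.val (h.inj (?_ : Φ (u * u) = Φ 1))
  rw [map_mul, map_one, ← hg, ← cj_def, ← cj_mul, tt h m, cj, mul_one, mul_inv_cancel]

theorem L1 (k : IsConj (Φ t0) (Φ u)) {x : F} (hx : x ∈ D) (hc : Commute (u : F) x) : P2 D (u : F) := by
  rcases m_inv m u.2 (sq_of h m k) hx hc with a | a | a
  · rw [show u = 1 from Subtype.ext a, map_one, isConj_one_left] at k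
    exact absurd (congrArg Subtype.val (h.inj (k.trans (map_one Φ).symm))) (n_p2ne m h.p2)
  · exact a
  · exact absurd k (h.n4 u a)

theorem L2 (k : P2 D (u : F)) : ∃ g ∈ Φ.range, Φ u = cj g (Φ t0) := by
  obtain ⟨g, h1, h2⟩ := m_p2conj m h.p2 k
  exact ⟨_, ⟨⟨g, h1⟩, rfl⟩, by rw [← map_cj]; exact congrArg Φ (Subtype.ext h2.symm)⟩

theorem L3 (k : P2 D (u : F)) : IsConj (Φ t0) (Φ u) := by
  obtain ⟨g, -, a⟩ := L2 h m k
  exact a ▸ ic g _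

theorem L4 {g : G} {s : χ.ker} (k : P2 D (s : F)) (hs : Φ s = cj g (Φ t0)) : g ∈ Φ.range := by
  obtain ⟨j, hj, a⟩ := L2 h m k
  exact (Φ.range.mul_mem_cancel_left (inv_mem hj)).1 (h.cen _ (cj_eq_self.1 (by
    rw [← cj_cj, ← hs, a, cj_inv_cj])))

theorem claim1 {g : G} (hg : cj g (Φ t0) ∈ Φ.range) : g ∈ Φ.range := by
  obtain ⟨s, hs⟩ := hg
  by_contra n
  have T := ts_tt m.tt
  have h' := eg_ch h g
  have is : IsConj (Φ t0) (Φ s) := hs ▸ ic g _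
  have s2 := sq_of h m is
  have s1 : ∀ x ∈ D, ¬ Commute (s : F) x := fun x hx k => n (L4 h m (L1 h m is hx k) hs)
  have dx : ∀ x ∈ D, cj (s : F) x ∈ Dx D x := fun x hx =>
    ⟨m.tt.conj x hx s, fun k => s1 x hx (cj_eq_self.1 k), by_contra fun k =>
      s1 _ (m.tt.conj _ (m.tt.conj x hx s) x) (cj_eq_self.1 (by
        rw [cj_cj_conj, n_cj2 s2, m.tt.braid hx (m.tt.conj x hx s) k]))⟩
  have p2 : ∀ x ∈ D, P2 D (x * cj (s : F) x) := fun x hx => ⟨x, hx, _, dx x hx, rfl⟩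
  let Z : ∀ x ∈ D, χ.ker := fun x hx => ⟨_, n_p2χ m (p2 x hx)⟩
  have sZ : ∀ x hx, Commute (s : F) (Z x hx) := fun x hx =>
    cj_eq_self.1 (by rw [cj_mul, n_cj2 s2]; exact (dx x hx).2.2.eq.symm)
  have ht : ch g Φ t0 = Φ s := hs.symm
  have hζ : ∀ x hx, ∃ ζ, ch g Φ ζ = Φ (Z x hx) ∧ IsConj (ch g Φ t0) (ch g Φ ζ) ∧ Commute (ζ : F) t0 ∧
      ∀ y ∈ D, ¬ Commute (ζ : F) y := fun x hx => by
    have c : Commute (Φ (Z x hx)) (ch g Φ t0) := ht ▸ (comm h).2 (sZ x hx).symm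
    obtain ⟨ζ, a⟩ := h'.cen _ c
    have i : IsConj (ch g Φ t0) (ch g Φ ζ) := by
      rw [a, ht]; exact is.symm.trans (L3 h m (p2 x hx))
    refine ⟨ζ, a, i, (comm h').1 (a ▸ c), fun y hy k => n ?_⟩
    obtain ⟨j, hj, b⟩ := L2 h m (L1 h' m i hy k)
    exact (Φ.range.mul_mem_cancel_right hj).1 (L4 h m (p2 x hx) (s := Z x hx) (by
      rw [← a, ch_apply, b, cj_cj]))
  obtain ⟨p, hp, q, hq, e0⟩ := h.p2
  have sw : ∀ {ζ a b : F}, a ∈ D → b ∈ Dx D a → Commute ζ (a * b) → (∀ y ∈ D, ¬ Commute ζ y) →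
      cj ζ a = b ∧ cj ζ b = a := fun ha hb k1 k2 => (n_fs m ha hb k1).resolve_left fun k => k2 _ ha k.1
  refine nofpf m s2 s1 fun x hx y hy w hw c1 c2 c3 c4 c5 c6 => ?_
  have fl : ∀ {a b : F}, Commute a (cj (s : F) b) → Commute (cj (s : F) a) b := fun k => by
    rwa [← commute_cj (g := (s : F)), n_cj2 s2] at k
  have cz : ∀ {a b : F}, Commute a b → Commute a (cj (s : F) b) →
      Commute (a * cj (s : F) a) (b * cj (s : F) b) := fun k1 k2 =>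
    (k1.mul_right k2).mul_left ((fl k2).mul_right (commute_cj.2 k1))
  obtain ⟨ζ1, a1, -, b1, d1⟩ := hζ x hx
  obtain ⟨ζ2, a2, -, b2, d2⟩ := hζ y hy
  obtain ⟨ζ, a3, i3, b3, d3⟩ := hζ w hw
  obtain ⟨e1, e1'⟩ := sw hp hq (e0 ▸ b1) d1
  obtain ⟨e2, e2'⟩ := sw hp hq (e0 ▸ b2) d2
  obtain ⟨e3, e3'⟩ := sw hp hq (e0 ▸ b3) d3
  have ηp : Commute ((ζ1 : F) * ζ2) p := cj_eq_self.1 (by rw [← cj_cj, e2, e1'])
  have ηq : Commute ((ζ1 : F) * ζ2) q := cj_eq_self.1 (by rw [← cj_cj, e2', e1])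
  have tp : Commute (t0 : F) p := e0 ▸ (Commute.refl p).mul_left hq.2.2.symm
  have tq : Commute (t0 : F) q := e0 ▸ hq.2.2.mul_left (Commute.refl q)
  have xy : χ (x * y) = 1 := by rw [map_mul, m.sgn x hx, m.sgn y hy]; rfl
  have k1 : ch g Φ (ζ1 * ζ2 * t0) = cj (Φ ⟨_, xy⟩) (Φ s) := by
    rw [map_mul, map_mul, a1, a2, ht, ← map_mul, ← map_mul, ← map_cj]
    refine congrArg Φ (Subtype.ext ?_)
    change x * cj (s : F) x * (y * cj (s : F) y) * s = x * y * s * (x * y)⁻¹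
    rw [(fl c2).mul_mul_mul_comm, ← cj_mul, inv_eq_of_sq (n_sq (T.sq x hx) (T.sq y hy) c1), cj,
      mul_assoc, inv_mul_cancel_right, mul_assoc (x * y)]
  obtain ⟨r, hr, r', hr', e4⟩ := L1 h' m (u := ζ1 * ζ2 * t0) (by rw [k1, ht]; exact ic _ _) hp
    (ηp.mul_left tp)
  rw [coe_mul, coe_mul] at e4
  obtain ⟨pr, pr'⟩ := T.c2 hr hr' hp (e4 ▸ (ηp.mul_left tp).symm)
  obtain ⟨qr, qr'⟩ := T.c2 hr hr' hq.1 (e4 ▸ (ηq.mul_left tq).symm)
  have z1 : Commute (ζ : F) ζ1 := (comm h').1 (by rw [a1, a3]; exact (comm h).2 (cz c3 c4).symm)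
  have z2 : Commute (ζ : F) ζ2 := (comm h').1 (by rw [a2, a3]; exact (comm h).2 (cz c5 c6).symm)
  obtain ⟨e5, -⟩ := sw hr hr' (e4 ▸ (z1.mul_right z2).mul_right b3) d3
  have rp : χ (r * p) = 1 := by rw [map_mul, m.sgn r hr, m.sgn p hp]; rfl
  have k2 : ζ1 * ζ2 * ζ = cj ⟨_, rp⟩ ζ := by
    refine Subtype.ext ?_
    change (ζ1 : F) * ζ2 * ζ = r * p * ζ * (r * p)⁻¹
    have f1 : (ζ1 : F) * ζ2 = r * r' * (p * q) := by
      rw [← e4, ← e0, mul_assoc _ (t0 : F), n_p2sq m h.p2, mul_one]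
    rw [f1, inv_eq_of_sq (n_sq (T.sq r hr) (T.sq p hp) pr.symm), pr'.symm.mul_mul_mul_comm, ← e5, ← e3,
      ← cj_mul, cj, mul_assoc, inv_mul_cancel_right, mul_assoc (r * p)]
  have k3 : Φ (Z x hx * Z y hy * Z w hw) = cj (ch g Φ ⟨_, rp⟩) (Φ (Z w hw)) := by
    rw [map_mul, map_mul, ← a1, ← a2, ← a3, ← map_mul, ← map_mul, k2, map_cj]
  exact L1 h m (u := Z x hx * Z y hy * Z w hw) (k3 ▸ (L3 h m (p2 w hw) (u := Z w hw)).trans (ic _ _)) hw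
    (((c3.mul_left (fl c4)).mul_left (c5.mul_left (fl c6))).mul_left
      ((Commute.refl w).mul_left (dx w hw).2.2.symm))

theorem c1' (k : IsConj (Φ t0) (Φ u)) : P2 D (u : F) := by
  obtain ⟨g, hg⟩ := isConj_iff.1 k
  obtain ⟨j, rfl⟩ := claim1 h m (g := g) ⟨u, hg.symm⟩
  rw [← cj_def, ← map_cj] at hg
  rw [← h.inj hg]
  exact n_p2cj m h.p2 j

theorem c1'' {g : G} (k : P2 D (u : F)) (hg : cj g (Φ u) ∈ Φ.range) : g ∈ Φ.range := by
  obtain ⟨j, hj, a⟩ := L2 h m k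
  rw [a, cj_cj] at hg
  exact (Φ.range.mul_mem_cancel_right hj).1 (claim1 h m hg)

theorem claim3 [Finite G] {g : G} (k : P4 D (u : F)) (hg : cj g⁻¹ (Φ u) ∈ Φ.range) : g ∈ Φ.range := by
  by_contra n
  have h' := eg_ch h g
  obtain ⟨c1, hc⟩ := mem_ch.2 hg
  obtain ⟨l1, l2, l3, l4, t, e0⟩ := id k
  have σ : O.Te D u l1 l2 l3 l4 := ⟨t, e0.symm⟩
  let a : χ.ker := ⟨_, n_p2χ m σ.p2⟩
  have au : P2 D ((a * u : χ.ker) : F) := by
    have := σ.sw.p2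
    rwa [← σ.pqc m] at this
  have key : ∀ f, P2 D f → Commute f c1 → ∃ a : χ.ker, P2 D (a : F) ∧ P2 D ((a : F) * c1) ∧
      Commute (a : F) c1 ∧ ∃ k, cj g (Φ ⟨a * f, k⟩) ∈ Φ.range := fun f f1 f2 => by
    let f' : χ.ker := ⟨f, n_p2χ m f1⟩
    obtain ⟨j, j1, ⟨a', j2⟩, j3⟩ := dih2 (a := Φ a) (f := ch g Φ f') (M1 := Φ.range) (M2 := (ch g Φ).range)
      (by rw [← map_mul, show a * a = 1 from Subtype.ext (n_p2sq m σ.p2), map_one])
      (by rw [← map_mul, show f' * f' = 1 from Subtype.ext (n_p2sq m f1), map_one]) ⟨_, rfl⟩ ⟨_, rfl⟩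
      (fun _ => c1'' h m σ.p2) fun _ => c1'' h' m f1
    have c : Commute (Φ u) j := j1 _ ((comm h).2 σ.c2.symm) (hc ▸ (comm h').2 f2.symm)
    have i : ∀ v : χ.ker, P2 D (v : F) → IsConj (ch g Φ t0) (cj j (Φ v)) := fun v hv =>
      (ic g _).symm.trans ((L3 h m hv).trans (ic _ _))
    refine ⟨a', c1' h' m (j2 ▸ i a σ.p2), c1' h' m (u := a' * c1) ?_, (comm h').1 ?_,
      mul_mem a'.2 f'.2, ?_⟩
    · have := i _ au
      rwa [map_mul, cj_mul, cj_of_commute c.symm, ← j2, ← hc, ← map_mul] at this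
    · rw [j2, hc]
      exact (commute_cj_left c.symm).2 ((comm h).2 σ.c2)
    · rwa [← j2, ← map_mul] at j3
  have c2 : (c1 : F) * c1 = 1 := congrArg Subtype.val (h'.inj (by
    rw [map_mul, hc, ← map_mul, show u * u = 1 from Subtype.ext (o_p4sq m k), map_one, map_one]) : c1 * c1 = 1)
  have p4 : P4 D (c1 : F) := by
    obtain ⟨f, f1, f2⟩ := m_comm m c1.2 c2
    obtain ⟨a, a1, a2, a3, -⟩ := key f f1 f2
    have e1 : (a : F) * (a * c1) = c1 := by rw [← mul_assoc, n_p2sq m a1, one_mul]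
    rcases m_prod m a1 a2 ((Commute.refl _).mul_right a3) fun k' => o_p4ne m k (by
      rw [show c1 = 1 from Subtype.ext (left_eq_mul.1 k'), map_one, ← map_one Φ] at hc
      exact (congrArg Subtype.val (h.inj hc)).symm) with k' | ⟨p, q, r, s, t, k1, k2⟩
    · exact absurd ((ic g _).trans (hc ▸ L3 h' m (e1 ▸ k'))) (h.n4 u k)
    · exact ⟨p, q, r, s, t, by rw [mul_assoc, ← k2, ← k1, e1]⟩
  refine claim2 m p4 ((Φ.range.comap (ch g Φ)).map χ.ker.subtype ⊓ CC (c1 : F))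
    ⟨⟨c1, ⟨u, hc.symm⟩, rfl⟩, H3W.mem_CC.2 (Commute.refl _)⟩ ?_ ?_ fun f f1 f2 => ?_
  · rintro _ ⟨⟨v, -, rfl⟩, hv⟩
    exact ⟨v.2, H3W.mem_CC.1 hv⟩
  · rintro _ ⟨⟨v, hv, rfl⟩, -⟩ k
    exact n (c1'' h m k hv)
  · obtain ⟨a, a1, a2, a3, a4, a5⟩ := key f f1 f2
    exact ⟨a, a1, a2, a3, ⟨_, a5, rfl⟩, H3W.mem_CC.2 (a3.mul_left f2)⟩

theorem claim4 [Finite G] {g : G} (k : P2 D (u : F) ∨ P4 D (u : F)) (hg : cj g (Φ u) ∈ Φ.range) :
    g ∈ Φ.range :=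
  k.elim (fun k => c1'' h m k hg) fun k => inv_mem_iff.1 (claim3 h m k (by rwa [inv_inv]))

end E

section
variable [Finite F] (m : FI D e χ φ x2 col) {u v a b c d x y : F} {P : Set F}
include m

open E in
theorem EG.top [Finite G] [IsSimpleGroup G] {Φ : χ.ker →* G} {t0 : χ.ker} (h : EG D χ Φ t0) :
    Φ.range = ⊤ := by
  refine eq_top_iff.2 fun g _ => by_contra fun n => ?_
  have h' := eg_ch h g
  have l0 := m.mem 11 (by decide)
  obtain ⟨L, U⟩ := H3W.lqx m l0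
  obtain ⟨l1, h1⟩ := L.nonempty
  obtain ⟨l2, h2⟩ := L.Dx_ne h1
  obtain ⟨l3, h3⟩ := (U l1 h1).1.Dx_ne h2
  have p4 : P4 D (e 11 * l1 * l2 * l3) := ⟨_, _, _, _, ⟨l0, h1, h2, h3⟩, rfl⟩
  let c0 : χ.ker := ⟨e 11 * l1 * l2 * l3, by
    rw [MonoidHom.mem_ker, map_mul, map_mul, map_mul, m.sgn _ l0, m.sgn _ h1.1, m.sgn _ h2.1.1,
      m.sgn _ h3.1.1.1]; rfl⟩
  have p4' : P4 D (c0 : F) := p4
  have c2 := o_p4sq m p4'
  rcases H0.dih (x := Φ c0) (y := ch g Φ t0) (by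
    rw [← map_mul, show c0 * c0 = 1 from Subtype.ext c2, map_one]) (tt h' m) with
    ⟨k, -, a⟩ | ⟨z, k, l, z1, z2, z3, z4, -, -, -, a⟩
  · exact h.n4 c0 p4' ((ic g _).trans ((ic k _).trans (by rw [a]; exact IsConj.refl _)).symm)
  obtain ⟨z0, a0⟩ := claim4 h m (Or.inr p4') (g := z) (by rw [cj_of_commute z3]; exact ⟨_, rfl⟩)
  obtain ⟨z', a'⟩ := h'.cen z z4
  rcases a with ⟨-, a⟩ | ⟨a, -⟩
  · have b := c1' h' m (u := z' * t0) (by rw [map_mul, a', a]; exact ic _ _)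
    have c : Commute (z' : F) t0 := (comm h').1 (a' ▸ z4)
    have e1 : ((z' * t0 : χ.ker) : F) * t0 = z' := by rw [coe_mul, mul_assoc, n_p2sq m h.p2, mul_one]
    refine n (claim4 h m (u := z') ((m_prod m b h.p2 (c.mul_left (Commute.refl _)) fun k => z1 (by
      rw [← a', show z' = 1 from Subtype.ext (mul_eq_right.1 k), map_one])).imp (e1 ▸ ·)
        fun ⟨p, q, r, s, t, k1, k2⟩ => ⟨p, q, r, s, t, by rw [mul_assoc, ← k2, ← k1, e1]⟩) ⟨z0, a0.trans a'.symm⟩)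
  · obtain ⟨p, hp, q, hq, b⟩ := c1' h m (u := z0 * c0) (by
      rw [map_mul, a0, a]; exact (ic g _).trans (ic _ _))
    have c : Commute (z0 : F) c0 := (comm h).1 (a0 ▸ z3)
    rw [coe_mul] at b
    have e1 : (z0 : F) = p * q * c0 := by rw [← b, mul_assoc, c2, mul_one]
    refine n (inv_mem_iff.1 (claim4 h m (u := z0) ?_ (mem_ch.1 ⟨z', a'.trans a0.symm⟩)))
    rcases n_fs m hp hq (b ▸ c.symm.mul_right (Commute.refl _)) with k | k
    · refine (m_inv m z0.2 (congrArg Subtype.val (h.inj (by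
        rw [map_mul, a0, z2, map_one]) : z0 * z0 = 1)) hp
        (e1 ▸ ((Commute.refl p).mul_left hq.2.2.symm).mul_left k.1)).resolve_left fun k => z1 ?_
      rw [← a0, show z0 = 1 from Subtype.ext k, map_one]
    · have := o_p4cj m p4' p
      rw [cj, m.tt.inv hp] at this
      exact Or.inr (by rwa [e1, ← k.1, cj, mul_assoc, inv_mul_cancel_right, ← mul_assoc])

theorem fb_eg [Finite G] [IsSimpleGroup χ.ker] {t : G} {ι : CC t23 →* G} (h : FB t ι) :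
    ∃ (Φ : χ.ker →* G) (t0 : χ.ker), EG D χ Φ t0 := by
  obtain ⟨ψ, hψ⟩ := h.level1
  obtain ⟨Φ, hΦ⟩ := h.level0 hψ m
  have p := H3W.par11 m
  have l0 := m.mem 11 (by decide)
  have mk : ∀ y, φ y ∈ χ.ker := fun y => ((p.rng _).1 ⟨y, rfl⟩).2
  have et : ψ t23 = t := (hψ (pt t23)).trans h.it
  have c0 : Ch ι t23 ι := ⟨Cl.self _, h.inj, 1, cj_one _, by simp⟩
  have o : Ori ι t (Rs ι) := h.it ▸ c0.ori
  have i : Function.Injective Φ := inj_of_simple Φ (g := ⟨_, mk t23⟩) fun k =>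
    (h.lq o).2.2.2.2.1 (by
      obtain ⟨x, hx⟩ := (h.lq o).1.nonempty
      exact absurd (by rwa [← et, ← hΦ _ (mk _), k, one_mul]) ((h.lq o).2.2.2.2.2.1 x hx).2.1)
  have rψ : ∀ y, ψ y ∈ Φ.range := fun y => ⟨_, hΦ y (mk y)⟩
  have rι : ι.range ≤ Φ.range := by rintro _ ⟨y, rfl⟩; exact hψ y ▸ rψ y
  have dx : ∀ y ∈ D23, φ y * e 11 ∈ Dx D (e 11) := fun y hy => (p.res _).2 ⟨y, hy, (p.mm _).symm⟩
  have tr : ∀ (g : F) (hg : χ g = 1) (w w' : F23), cj g (φ w) = φ w' → cj (Φ ⟨g, hg⟩) (ψ w) = ψ w' :=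
    fun g hg w w' k => by
      rw [← hΦ w (mk w), ← hΦ w' (mk w'), ← map_cj]
      exact congrArg Φ (Subtype.ext k)
  obtain ⟨d0, hd⟩ := (d23.2 t23 (Cl.self _)).1.nonempty
  obtain ⟨e0, he⟩ := (d23.2 t23 (Cl.self _)).1.Dx_ne hd
  have md : d0 ∈ CC t23 := H3W.mem_CC.2 hd.2.2.symm
  have me : e0 ∈ CC t23 := H3W.mem_CC.2 he.1.2.2.symm
  have ez : ψ (t23 * d0 * e0) = t * ι ⟨d0, md⟩ * ι ⟨e0, me⟩ := by rw [map_mul, map_mul, et, ← hψ, ← hψ]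
  have et' : Φ ⟨_, mk t23⟩ = t := (hΦ _ _).trans et
  refine ⟨Φ, ⟨_, mk t23⟩, i, ⟨_, (dx _ (Cl.self _)).1, _, n_dx (dx _ (Cl.self _)) l0, (p.mm _).symm⟩,
    fun a ha => ?_, fun u hu k => ?_⟩
  · rw [et'] at ha
    obtain ⟨g, hg, e1, e2⟩ := H3W.swap m l0 (dx _ (Cl.self _))
    have c : Commute (Φ ⟨g, hg⟩) t := et ▸ cj_eq_self.1 (tr g hg _ _ (by
      rw [← p.mm (φ t23), cj_mul, e1, e2]; exact (dx _ (Cl.self _)).2.2.eq))
    have n : Φ ⟨g, hg⟩ ∉ closure (Rs ι) := by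
      rw [← h.range c0]
      rintro ⟨w, hw⟩
      rw [← hψ, ← hΦ _ (mk _)] at hw
      have : φ w = g := congrArg Subtype.val (i hw)
      rw [← this, cj_of_commute (p.cm _)] at e1
      exact (dx _ (Cl.self _)).2.1 e1.symm
    by_cases k : a ∈ closure (Rs ι)
    · exact rι (h.range c0 ▸ k)
    · have := h.idx o ha c k n
      rw [← h.range c0] at this
      exact (Φ.range.mul_mem_cancel_right ⟨_, rfl⟩).1 (rι this)
  · have cm : ∀ {a b : F23}, Commute a b → Commute (φ a * e 11) (φ b * e 11) := fun {a b} k =>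
      ((k.map φ).mul_right (p.cm a)).mul_left ((p.cm b).symm.mul_right (Commute.refl _))
    have ne : ∀ {a b : F23}, b ≠ a → φ a * e 11 ≠ φ b * e 11 := fun k k' =>
      k (p.inj (mul_right_cancel k')).symm
    have p4 : P4 D (φ (t23 * d0 * e0)) := ⟨_, _, _, _, ⟨l0, t3_iff.2 ⟨⟨dx _ (Cl.self _), dx _ hd.1,
      dx _ he.1.1⟩, ⟨ne hd.2.1, ne he.1.2.1, ne he.2.1⟩, cm hd.2.2, cm he.1.2.2, cm he.2.2⟩⟩, by
        rw [← mul_assoc (e 11), ← (p.cm t23).eq, p.mm, mul_assoc (φ t23), (p.cm e0).eq,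
          ← mul_assoc (φ d0 * e 11), p.mm, map_mul, map_mul, mul_assoc]⟩
    obtain ⟨g, hg, a⟩ := m_p4conj m hu p4
    have k' : IsConj t (t * ι ⟨d0, md⟩ * ι ⟨e0, me⟩) := by
      rw [← ez, ← hΦ _ (mk _), show (⟨_, mk (t23 * d0 * e0)⟩ : χ.ker) = cj ⟨g, hg⟩ u from
        Subtype.ext a.symm, map_cj]
      exact (et' ▸ k).trans (E.ic _ _)
    exact h.ori _ ⟨_, hd, rfl⟩ _ ⟨_, he.1, rfl⟩ (fun k => he.2.1 (congrArg Subtype.val (h.inj k)).symm)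
      (Commute.map (Subtype.ext he.2.2.eq) ι) k'

end

end H17.F35
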