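import Mathlib
import Cfsg.Agent.H17.F35B

/-! Automorphisms of `2 · Fi₂₂`, read off from the model. -/

set_option autoImplicit false
set_option linter.unusedVariables false
set_option linter.unusedSectionVars false

namespace H17.F35

open H0 hiding CC
open H29 hiding dec
open Subgroup H9.FB H9.FB.A2

variable {G F : Type*} [Group G] [Group F]

variable {D : Set F} {e : ℕ → F} {χ : F →* ℤˣ} {φ : F23 →* F} {x2 : F} {col : F → ZMod 3}

theorem fb_model [Finite F] (m : FI D e χ φ x2 col) : ∃ (t : χ.ker) (ι : CC t23 →* χ.ker), FB t ι := by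
  have := fin23
  have p := H3W.par11 m
  have T := ts_tt m.tt
  have l0 := m.mem 11 (by decide)
  have mk : ∀ y, φ y ∈ χ.ker := fun y => ((p.rng _).1 ⟨y, rfl⟩).2
  let ψ : F23 →* χ.ker := φ.codRestrict _ mk
  have ψi : Function.Injective ψ := fun a b h => p.inj (congrArg Subtype.val h)
  have dx : ∀ y ∈ D23, φ y * e 11 ∈ Dx D (e 11) := fun y hy => (p.res _).2 ⟨y, hy, (p.mm _).symm⟩
  have dp := dx _ t_mem
  have et : φ t23 = e 11 * (φ t23 * e 11) := by rw [dp.2.2.eq, p.mm]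
  have key : ∀ g : F, Commute g (φ t23) → Commute g (e 11) ∨
      (cj g (e 11) = φ t23 * e 11 ∧ cj g (φ t23 * e 11) = e 11) := fun g hg =>
    (T.uniq2 l0 dp (H3W.lqx m l0).1 (m.tt.conj _ l0 g) ((H3W.Dx_cj m).2 dp)
      (by rw [← cj_mul, ← et, cj_of_commute hg])).imp (fun k => cj_eq_self.1 k.1) id
  have rng : ∀ g : χ.ker, Commute (g : F) (φ t23) → Commute (g : F) (e 11) →
      g ∈ (ψ.comp (CC t23).subtype).range := fun g h1 h2 => by
    obtain ⟨w, hw⟩ := (p.rng g).2 ⟨h2, g.2⟩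
    exact ⟨⟨w, mem_CC.2 (Commute.of_map p.inj (by rw [hw]; exact h1))⟩, Subtype.ext hw⟩
  refine ⟨ψ t23, ψ.comp (CC t23).subtype, ψi.comp Subtype.val_injective, rfl, ?_, ?_, ?_⟩
  · obtain ⟨r, hr, e1, e2⟩ := H3W.swap m l0 dp
    have c : Commute r (φ t23) := cj_eq_self.1 (by rw [et, cj_mul, ← et, e1, e2, p.mm])
    refine ⟨⟨r, hr⟩, commute_coe.1 c, fun g hg => ?_, ?_⟩
    · have hg' : Commute (g : F) (φ t23) := commute_coe.2 hg
      exact (key g hg').imp (rng g hg') fun k => rng (g * ⟨r, hr⟩) (hg'.mul_left c)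
        (cj_eq_self.1 (by rw [Subgroup.coe_mul, ← cj_cj, e1, k.2]))
    · rintro _ ⟨y, hy, rfl⟩
      have h1 : φ y * e 11 ∈ Dx (Dx D (e 11)) (φ t23 * e 11) := by
        have := p.fiso.image_Dx t_mem
        rw [p.img] at this
        exact this.le ⟨y, hy, rfl⟩
      have h2 := (H3W.Dx2_cj m (g := r)).2 h1
      rw [e1, e2] at h2
      have h3 := H3W.Dx_swap h2
      obtain ⟨w, hw, e3⟩ := (p.res _).1 h3.1
      have h4 : w ∈ Dx D23 t23 := by
        have := p.fiso.image_Dx t_mem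
        rw [p.img] at this
        obtain ⟨w', hw', e4⟩ := this.ge h3
        rwa [p.inj (a₁ := w) (a₂ := w') (by rw [e3, ← e4, p.mm])]
      refine ⟨⟨w, mem_CC.2 h4.2.2.symm⟩, h4, Subtype.ext ?_⟩
      change φ w = φ t23 * cj r (φ y)
      have e5 : cj r (φ y) = cj r (φ y * e 11) * (φ t23 * e 11) := by rw [← e1, ← cj_mul, p.mm]
      rw [e3, e5, ← mul_assoc,
        (show Commute (φ t23) (cj r (φ y * e 11)) from by
          rw [et]; exact (h3.1.2.2.mul_left h3.2.2)).eq, mul_assoc, ← mul_assoc (φ t23), ← map_mul,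
        ptt.sq _ t_mem, map_one, one_mul]
  · obtain ⟨s, hs⟩ := ptt.Dx_ne t_mem
    obtain ⟨σ, e1, e2⟩ := ptt.comm_pair_trans t_mem hs.1 hs ⟨t_mem, hs.2.1.symm, hs.2.2.symm⟩
    have e3 : Rs (ψ.comp (CC t23).subtype) = ψ '' Dx D23 t23 :=
      (Set.image_comp ψ (CC t23).subtype Δ0).trans (congrArg _ im0.symm)
    have Fi := (d23.2 _ t_mem).1.fiso ψ ψi.injOn
    refine ⟨ψ s, e3 ▸ ⟨s, hs, rfl⟩, ψ σ, by rw [← map_cj, e1], by rw [← map_cj, e2], ?_⟩
    rw [e3, ← Fi.image_Dx hs, Set.image_image]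
    simp only [← map_cj]
    rw [← Set.image_image ψ (cj σ), img2, e1, e2, H25.FA.dx_swap]
  · rintro _ ⟨a, ha, rfl⟩ _ ⟨b, hb, rfl⟩ ne hc hj
    obtain ⟨g, hg⟩ := isConj_iff.1 hj
    have hab : (b : F23) ∈ Dx (Dx D23 t23) a := ⟨hb, fun k => ne (by rw [Subtype.ext k]),
      Commute.of_map ψi hc⟩
    have e1 : cj (g : F) (e 11) * cj (g : F) (φ t23 * e 11) = φ (t23 * a * b) := by
      rw [← cj_mul, ← et, map_mul, map_mul]; exact congrArg Subtype.val hg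
    have hu := m.tt.conj _ l0 g
    have hv := (H3W.Dx_cj m (g := g)).2 dp
    generalize cj (g : F) (e 11) = u at *
    generalize cj (g : F) (φ t23 * e 11) = v at *
    obtain ⟨c1, c2⟩ := T.c2 hu hv l0 (by rw [e1]; exact (p.cm _).symm)
    have k : ∀ {u v}, u ∈ D → v ∈ Dx D u → u * v = φ (t23 * a * b) → u ≠ e 11 := fun {u v} hu hv e1 k => by
      subst k
      obtain ⟨w, hw, e2⟩ := (p.res _).1 hv
      exact nmul3 ⟨t_mem, ha, hab⟩ (by rw [← p.inj (e2.trans (hv.2.2.eq.symm.trans e1))]; exact hw)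
    obtain ⟨u0, h1, h2⟩ := (p.res _).1 ⟨hu, k hu hv e1, c1⟩
    obtain ⟨v0, h3, h4⟩ := (p.res _).1 ⟨hv.1, k hv.1 ⟨hu, hv.2.1.symm, hv.2.2.symm⟩ (hv.2.2.eq.symm.trans e1), c2⟩
    refine ne32 ⟨_, _, _, ⟨t_mem, ha, hab⟩, rfl⟩ ⟨u0, h1, v0, ⟨h3, fun k => hv.2.1 ?_,
      Commute.of_map p.inj ?_⟩, p.inj ?_⟩
    · exact mul_right_cancel (h4.symm.trans (k ▸ h2))
    · rw [h2, h4]
      exact (hv.2.2.mul_right c1.symm).mul_left (c2.mul_right (Commute.refl _))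
    · rw [← e1, map_mul φ u0, h2, h4, mul_assoc, ← mul_assoc (e 11), c2.eq, p.mm]

structure MD : Prop where
  aut : ∀ β : CC t23 →* CC t23, Function.Injective β → (∀ y ∈ Δ0, β y ∈ Δ0) → ∃ l, ∀ x, β x = cj l x
  flp : ∃ β : CC t23 →* CC t23, Function.Injective β ∧ β (pt t23) = pt t23 ∧
    β '' Δ0 = (pt t23 * ·) '' Δ0

theorem exists_e {ι : CC t23 →* G} (hι : Function.Injective ι) :
    ∃ e : CC t23 ≃* closure (Rs ι), ∀ x, (e x : G) = ι x :=
  ⟨(MonoidHom.ofInjective hι).trans (MulEquiv.subgroupCongr (H25.FA.rs_range t_mem)), fun _ => rfl⟩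

theorem exists_β {ι : CC t23 →* G} (hι : Function.Injective ι) {g : G}
    (hg : ∀ d ∈ Rs ι, cj g d ∈ closure (Rs ι)) :
    ∃ β : CC t23 →* CC t23, Function.Injective β ∧ ∀ x, ι (β x) = cj g (ι x) := by
  obtain ⟨e, he⟩ := exists_e hι
  have k : ∀ x, ((H25.FA.cjH g).comp ι) x ∈ closure (Rs ι) := fun x =>
    (closure_le ((closure (Rs ι)).comap (H25.FA.cjH g))).2 hg (he x ▸ (e x).2)
  have k2 : ∀ x, ι ((e.symm.toMonoidHom.comp (((H25.FA.cjH g).comp ι).codRestrict _ k)) x) = cj g (ι x) :=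
    fun x => by rw [← he]; simp
  exact ⟨_, fun a b h => hι (cj_inj.1 (by rw [← k2, ← k2, h])), k2⟩

theorem md_of_fb [Finite G] {t : G} {ι : CC t23 →* G} (h : FB t ι) : MD := by
  obtain ⟨e, he⟩ := exists_e h.inj
  constructor
  · intro β h1 h2
    obtain ⟨l, hl, k⟩ := h.aut2 (u := t) ⟨1, by rw [cj_one, h.it], by simp⟩
      (ι.comp (β.comp e.symm.toMonoidHom)) (h.inj.comp (h1.comp e.symm.injective)) fun x hx => by
        obtain ⟨y, hy, e1⟩ := hx
        obtain rfl : e y = x := Subtype.ext ((he y).trans e1)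
        exact ⟨_, h2 y hy, by simp⟩
    refine ⟨e.symm ⟨l, hl⟩, fun x => h.inj ?_⟩
    rw [map_cj, ← he (e.symm _), e.apply_symm_apply, ← he x, ← k]; simp
  · obtain ⟨r, h1, -, h2⟩ := H25.FA.b_out h
    obtain ⟨β, b1, b2⟩ := exists_β h.inj (g := r) fun d hd => by
      obtain ⟨x, hx, e⟩ := h2.le ⟨d, hd, rfl⟩
      exact e ▸ mul_mem (H25.FA.b_mem h) (subset_closure hx)
    refine ⟨β, b1, h.inj (by rw [b2, h.it, cj_of_commute h1]), Set.image_injective.2 h.inj ?_⟩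
    rw [Set.image_image, Set.image_image]
    simp only [b2, map_mul, h.it]
    rw [← Set.image_image (cj r) ι, ← Set.image_image (t * ·) ι]
    exact h2

theorem md_of_fi [Finite F] (m : FI D e χ φ x2 col) : MD :=
  let ⟨_, _, h⟩ := fb_model m; md_of_fb h

namespace DL
variable (md : MD) {z : G} {Δ : Set G} (h : DL z Δ) {g : G}
include md h

theorem aut (hg : ∀ d ∈ Δ, cj g d ∈ Δ) : ∃ l ∈ closure Δ, ∀ x ∈ closure Δ, cj g x = cj l x := by
  obtain ⟨ι, hι, rfl, rfl⟩ := h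
  obtain ⟨β, b1, b2⟩ := exists_β hι fun d hd => subset_closure (hg d hd)
  obtain ⟨l, hl⟩ := md.aut β b1 fun y hy => by
    obtain ⟨w, hw, e⟩ := hg _ ⟨y, hy, rfl⟩
    exact hι (e.trans (b2 y).symm) ▸ hw
  rw [← H25.FA.rs_range t_mem]
  refine ⟨_, ⟨l, rfl⟩, ?_⟩
  rintro _ ⟨x, rfl⟩
  rw [← b2, hl, map_cj]

theorem flip : DL z ((z * ·) '' Δ) := by
  obtain ⟨ι, hι, rfl, rfl⟩ := h
  obtain ⟨β, b1, b2, b3⟩ := md.flp
  refine ⟨ι.comp β, hι.comp b1, congrArg ι b2, ?_⟩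
  change (ι ∘ β) '' Δ0 = _ '' (ι '' Δ0)
  rw [Set.image_comp, b3, Set.image_image, Set.image_image]
  simp only [map_mul]

end DL

end H17.F35
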