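import Mathlib
import Cfsg.Agent.H17.F35F

/-! Involutions of `2 · Fi₂₂` and their centralisers. -/

set_option autoImplicit false
set_option linter.unusedVariables false
set_option linter.unusedSectionVars false

namespace H17.F35

open H0 hiding CC
open H29 hiding dec
open Subgroup H9.FB H9.FB.A2

variable {G : Type*} [Group G]

theorem prod3 {a b c x y w : G} (h1 : Commute a b) (h2 : Commute a c) (h3 : Commute b c)
    (hx : x = a ∨ x = b ∨ x = c) (hy : y = a ∨ y = b ∨ y = c) (hw : w = a ∨ w = b ∨ w = c)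
    (n1 : x ≠ y) (n2 : x ≠ w) (n3 : y ≠ w) : x * y * w = a * b * c := by
  rcases hx with rfl | rfl | rfl <;> rcases hy with rfl | rfl | rfl <;> rcases hw with rfl | rfl | rfl <;>
    first
    | exact absurd rfl n1
    | exact absurd rfl n2
    | exact absurd rfl n3
    | simp only [mul_assoc, h1.eq, h2.eq, h3.eq, h1.left_comm, h2.left_comm, h3.left_comm]

/-- `S` is the set of factors of `w`. -/
structure Cm (Δ : Set G) (w : G) (S : Set G) : Prop where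
  sub : S ⊆ Δ
  ne : S.Nonempty
  self : ∀ s ∈ S, Commute s w
  com : ∀ v ∈ Δ, Commute v w → ∀ s ∈ S, Commute v s
  inv : ∀ x ∈ closure Δ, Commute x w → ∀ s ∈ S, cj x s ∈ S
  d1 : ∀ a, S ⊆ {a} → w = a
  d2 : ∀ a ∈ S, ∀ b ∈ S, a ≠ b → S ⊆ {a, b} → w = a * b
  d3 : ∀ a ∈ S, ∀ b ∈ S, ∀ c ∈ S, a ≠ b → a ≠ c → b ≠ c → w = a * b * c

namespace DL
variable [Finite G] {z : G} {Δ : Set G} (h : DL z Δ) {w y a l : G}
include h

theorem exists_cm (hw : w ∈ Δ ∨ P2 Δ w ∨ P3 Δ w) : ∃ S, Cm Δ w S := by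
  rcases hw with hw | ⟨a, ha, b, hb, rfl⟩ | ⟨a, b, c, t, rfl⟩
  · refine ⟨{w}, by simpa, by simp, by simp, by simp, by simpa using fun x _ k => cj_of_commute k,
      by simp, by simp, by simp⟩
  · refine ⟨{a, b}, Set.pair_subset ha hb.1, by simp, ?_, fun v hv k => by simpa using h.ts.c2 ha hb hv k,
      fun x hx k => ?_, fun x k => ?_, ?_, ?_⟩
    · rintro s (rfl | rfl)
      exacts [(Commute.refl _).mul_right hb.2.2, hb.2.2.symm.mul_right (Commute.refl _)]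
    · have := h.uniq2 ha hb (h.lq.conj ha hx) ((h.lq.mem_Dx_cj hx).2 hb) (by rw [← cj_mul, cj_of_commute k])
      rintro s (rfl | rfl) <;> rcases this with ⟨k1, k2⟩ | ⟨k1, k2⟩ <;> simp [k1, k2]
    · exact absurd ((k (by simp : b ∈ _)).trans (k (by simp : a ∈ _)).symm) hb.2.1
    · rintro x (rfl | rfl) y (rfl | rfl) n -
      exacts [absurd rfl n, rfl, hb.2.2.eq, absurd rfl n]
    · rintro x (rfl | rfl) y (rfl | rfl) w (rfl | rfl) n1 n2 n3 <;> simp_all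
  · obtain ⟨⟨m1, m2, m3⟩, ⟨n1, n2, n3⟩, c1, c2, c3⟩ := t3_iff.1 t
    refine ⟨{a, b, c}, Set.insert_subset m1 (Set.pair_subset m2 m3), by simp, ?_,
      fun v hv k => by simpa using h.ts.c3 t hv k, fun x hx k => ?_, fun x k => ?_, fun x _ y _ _ k => ?_,
      fun x hx y hy w hw k1 k2 k3 => (prod3 c1 c2 c3 hx hy hw k1 k2 k3).symm⟩
    · rintro s (rfl | rfl | rfl)
      exacts [((Commute.refl _).mul_right c1).mul_right c2, (c1.symm.mul_right (Commute.refl _)).mul_right c3,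
        (c2.symm.mul_right c3.symm).mul_right (Commute.refl _)]
    · have key : ∀ {a' b' c'}, T3 Δ a' b' c' → a' * b' * c' = a * b * c → cj x a' ∈ ({a, b, c} : Set G) :=
        fun t' e => h.uniq3 t (t'.cj fun y hy => h.lq.conj hy hx) (by
          rw [← cj_mul, ← cj_mul, e, cj_of_commute k])
      rintro s (rfl | rfl | rfl)
      exacts [key t rfl, key (t3_rot t).1 (t3_rot t).2,
        key (t3_rot (t3_rot t).1).1 ((t3_rot (t3_rot t).1).2.trans (t3_rot t).2)]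
    · exact absurd ((k (by simp : a ∈ _)).trans (k (by simp : b ∈ _)).symm) n1
    · have k1 := k (by simp : a ∈ _)
      have k2 := k (by simp : b ∈ _)
      have k3 := k (by simp : c ∈ _)
      rcases k1 with rfl | rfl <;> rcases k2 with rfl | rfl <;> rcases k3 with rfl | rfl <;> simp_all

theorem ccl0 {S : Set G} (hy : y ∈ Δ ∨ P2 Δ y ∨ P3 Δ y) (c : Cm Δ w S)
    (k : ∀ x ∈ closure Δ, Commute x y → Commute x w) : w = y ∨ w = z * y := by
  have k1 : ∀ s ∈ S, ∀ v ∈ Δ, Commute v y → Commute v s := fun s hs v hv e =>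
    c.com v hv (k v (subset_closure hv) e) s hs
  have k2 : ∀ x ∈ closure Δ, Commute x y → ∀ s ∈ S, cj x s ∈ S := fun x hx e => c.inv x hx (k x hx e)
  obtain ⟨s, hs⟩ := c.ne
  rcases hy with hy | ⟨a, ha, b, hb, rfl⟩ | ⟨a, b, d, t, rfl⟩
  · exact Or.inl (c.d1 y fun s hs => (h.lq.eq_of_comm hy (c.sub hs) fun f hf _ e => k1 s hs f hf e).symm)
  · have h1 : S ⊆ {a, b} := fun s hs => rad2 ha hb (h.f22 a ha).1 (c.sub hs)
      fun v hv e1 e2 => k1 s hs v hv (e1.mul_right e2)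
    obtain ⟨x, hx, e1, e2⟩ := h.lq.comm_pair_trans ha hb.1 hb ⟨ha, hb.2.1.symm, hb.2.2.symm⟩
    have h2 := k2 x hx (cj_eq_self.1 (by rw [cj_mul, e1, e2, hb.2.2.eq])) s hs
    rcases h1 hs with rfl | rfl
    exacts [Or.inl (c.d2 _ hs _ (e1 ▸ h2) hb.2.1.symm h1), Or.inl (c.d2 _ (e2 ▸ h2) _ hs hb.2.1.symm h1)]
  · obtain ⟨g, m, i, t', e1, e2⟩ := h.hex t
    have rot : ∀ {a' b' c'}, T3 Δ a' b' c' → (∀ x ∈ closure Δ, Commute x (a' * b' * c') → Commute x (a * b * d)) →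
        a' ∈ S → w = a' * b' * c' := fun {a' b' c'} t1 k3 hs => by
      obtain ⟨x, hx, f1, f2, f3⟩ := t3_tr h.lq h.f22 t1 (t3_rot t1).1
      have h2 := k2 x hx (k3 x hx (cj_eq_self.1 (by rw [cj_mul, cj_mul, f1, f2, f3, (t3_rot t1).2])))
      obtain ⟨-, ⟨n1, n2, n3⟩, -⟩ := t3_iff.1 t1
      exact c.d3 _ hs _ (f1 ▸ h2 _ hs) _ (f2 ▸ h2 _ (f1 ▸ h2 _ hs)) n1 n2 n3
    have rot3 : ∀ {a' b' c'}, T3 Δ a' b' c' → (∀ x ∈ closure Δ, Commute x (a' * b' * c') → Commute x (a * b * d)) →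
        s = a' ∨ s = b' ∨ s = c' → w = a' * b' * c' := fun {a' b' c'} t1 k3 hs' => by
      have r1 := t3_rot t1
      have r2 := t3_rot r1.1
      rcases hs' with rfl | rfl | rfl
      exacts [rot t1 k3 hs, r1.2 ▸ rot r1.1 (r1.2.symm ▸ k3) hs,
        r1.2 ▸ r2.2 ▸ rot r2.1 (r2.2.symm ▸ r1.2.symm ▸ k3) hs]
    have e3 : g * m * i = z * (a * b * d) := by
      rw [(h.cen (h.p3_sq ⟨_, _, _, t, rfl⟩).2).eq, ← e1, ← mul_assoc, h.lq.q3 t.1 t.2.1 t.2.2, one_mul]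
    have := h.hexL t t' e1 e2 (c.sub hs) fun v hv f1 f2 f3 => k1 s hs v hv ((f1.mul_right f2).mul_right f3)
    simp only [List.mem_cons, List.not_mem_nil, or_false] at this
    rw [← or_assoc, ← or_assoc, or_assoc (a := s = a)] at this
    exact this.imp (rot3 t fun _ _ e => e) fun k => e3 ▸ rot3 t' (fun x hx e => by
      rw [← h.zz (a * b * d), ← e3]; exact (h.cen hx).symm.mul_right e) k

/-- an involution centralised by the centraliser of `a` -/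
theorem ccl (ha : a ∈ closure Δ) (a2 : a * a = 1) (a1 : a ≠ 1) (az : a ≠ z) (hl : l ∈ closure Δ)
    (l2 : l * l = 1) (k : ∀ x ∈ closure Δ, Commute x a → Commute x l) :
    l = 1 ∨ l = z ∨ l = a ∨ l = z * a := by
  obtain ⟨y, e1, hy⟩ := h.inv ha a2
  obtain ⟨w, e2, hw⟩ := h.inv hl l2
  have hy' := hy.resolve_left fun e => by rcases e1 with rfl | rfl <;> simp_all
  rcases hw with rfl | hw
  · rcases e2 with rfl | rfl <;> simp
  obtain ⟨S, c⟩ := h.exists_cm hw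
  have := h.ccl0 hy' c fun x hx e => by
    have k1 := k x hx (by rcases e1 with rfl | rfl; exacts [e, (h.cen hx).symm.mul_right e])
    rcases e2 with rfl | rfl
    exacts [k1, h.zz w ▸ (h.cen hx).symm.mul_right k1]
  rcases e1 with rfl | rfl <;> rcases e2 with rfl | rfl <;> rcases this with rfl | rfl <;> simp [h.zz]

theorem exists_fix (hl : l ∈ closure Δ) (l2 : l * l = 1) : ∃ f ∈ Δ, Commute f l := by
  obtain ⟨w, e2, hw⟩ := h.inv hl l2
  obtain ⟨f, hf, k⟩ : ∃ f ∈ Δ, Commute f w := by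
    rcases hw with rfl | hw
    · obtain ⟨f, hf⟩ := h.lq.nonempty
      exact ⟨f, hf, Commute.one_right f⟩
    · obtain ⟨S, c⟩ := h.exists_cm hw
      obtain ⟨s, hs⟩ := c.ne
      exact ⟨s, c.sub hs, c.self s hs⟩
  rcases e2 with rfl | rfl
  exacts [⟨f, hf, k⟩, ⟨f, hf, (h.cen1 hf).symm.mul_right k⟩]

theorem geo {f f1 : G} (hy : P2 Δ y ∨ P3 Δ y) (hf : f ∈ Δ) (hf1 : f1 ∈ Δ) (c : Commute f y)
    (c1 : Commute f1 y) (n : ¬ Commute f f1) : ∃ g ∈ Dx Δ f, ¬ Commute g f1 ∧ Commute g y := by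
  have key : ∀ {d e}, d ∈ Δ → e ∈ Dx Δ d → Commute f d → Commute f e → Commute f1 d → Commute f1 e →
      ∃ g ∈ Dx Δ f, ¬ Commute g f1 ∧ Commute g d ∧ Commute g e ∧
        ∀ v ∈ Dx Δ d, Commute v e → Commute v f → Commute g v := fun {d e} hd he a1 a2 a3 a4 => by
    obtain ⟨L, U⟩ := h.f22 d hd
    have m : f ∈ Dx Δ d := ⟨hf, fun k => n (k ▸ a3.symm), a1.symm⟩
    have m1 : f1 ∈ Dx Δ d := ⟨hf1, fun k => n (k ▸ a1), a3.symm⟩
    have ne : f ≠ e := fun k => n (k ▸ a4.symm)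
    obtain ⟨g, hg, g1, g2⟩ := L.exists_third (L.thick_of_MU U) he ⟨m, ne, a2.symm⟩
    refine ⟨g, ⟨hg.1.1, g2, hg.2 f m a2 (Commute.refl f)⟩, fun k => n ?_, hg.1.2.2.symm,
      (hg.2 e he (Commute.refl e) a2.symm).symm, fun v hv b1 b2 => (hg.2 v hv b1 b2).symm⟩
    exact (L.all_of_two (isLine_Ln he m ne.symm a2.symm) (left_mem_Ln he) hg g1.symm m1 a4 k.symm
      (right_mem_Ln m)).symm
  rcases hy with ⟨d, hd, e, he, rfl⟩ | ⟨d, e, e2, t, rfl⟩
  · obtain ⟨a1, a2⟩ := h.ts.c2 hd he hf c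
    obtain ⟨a3, a4⟩ := h.ts.c2 hd he hf1 c1
    obtain ⟨g, g1, g2, g3, g4, -⟩ := key hd he a1 a2 a3 a4
    exact ⟨g, g1, g2, g3.mul_right g4⟩
  · obtain ⟨a1, a2, a5⟩ := h.ts.c3 t hf c
    obtain ⟨a3, a4, -⟩ := h.ts.c3 t hf1 c1
    obtain ⟨g, g1, g2, g3, g4, g5⟩ := key t.1 t.2.1 a1 a2 a3 a4
    exact ⟨g, g1, g2, (g3.mul_right g4).mul_right (g5 _ t.2.2.1 t.2.2.2.2.symm a5.symm)⟩

/-- an element fixing the points orthogonal to `d` and `e` -/
theorem fix2 {d e : G} (hd : d ∈ Δ) (he : e ∈ Dx Δ d) (ha : a ∈ closure Δ) (c : Commute a (d * e))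
    (k : ∀ f ∈ Dx (Dx Δ d) e, Commute a f) : a * a = 1 := by
  obtain ⟨L, U⟩ := h.f22 d hd
  obtain ⟨π, hπ⟩ := L.exists_um U
  obtain ⟨f, hf⟩ := L.Dx_ne he
  obtain ⟨g, hg, g', hg', n⟩ := hπ.f6 L he hf
  have t : T3 Δ d f g := ⟨hd, hf.1, hg.1.1, hg.2⟩
  have key : ∀ {p q r}, T3 Δ p q r → d * f * g * (p * q * r) = z → (Commute d p ∧ d ≠ p) →
      (Commute g q ∧ g ≠ q) → (Commute g r ∧ g ≠ r) → Commute a p := fun {p q r} t' e1 a1 a2 a3 => by
    have s := h.lq.q3 t.1 t.2.1 t.2.2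
    have e2 : p * q * r = d * f * g * z := by rw [← e1, ← mul_assoc, s, one_mul]
    refine k p ⟨⟨t'.1, a1.2.symm, a1.1⟩, ?_, h.ts.c31 t' he.1 (by
      rw [e2]; exact ((he.2.2.symm.mul_right hf.2.2).mul_right hg.1.2.2).mul_right (h.cen1 he.1).symm)⟩
    rintro rfl
    have t2 : T3 Δ g q r := ⟨t.2.2.1.1, ⟨t'.2.1.1, a2.2.symm, a2.1⟩, ⟨t'.2.2.1.1, a3.2.symm, a3.1⟩, t'.2.2.2⟩
    refine n (h.ts.c31 t2 hg'.1.1.1 ?_).symm
    have e3 : g * q * r = p * (f * (d * z)) := by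
      rw [← e1]
      simp only [← mul_assoc]
      rw [mul_assoc _ d d, h.lq.sq hd, mul_one, mul_assoc _ f f, h.lq.sq hf.1.1, mul_one, hg.1.2.2.eq,
        mul_assoc g p p, h.lq.sq t'.1, mul_one]
    rw [e3]
    exact hg'.1.2.2.symm.mul_right (hg'.2.2.symm.mul_right (hg'.1.1.2.2.symm.mul_right (h.cen1 hg'.1.1.1).symm))
  obtain ⟨p, q, r, t', e1, e2⟩ := h.hex t
  simp only [List.forall_mem_cons, List.not_mem_nil, IsEmpty.forall_iff, implies_true, and_true] at e2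
  obtain ⟨⟨d1, d2, d3⟩, -, g1, g2, g3⟩ := e2
  have r1 := t3_rot t'
  have r2 := t3_rot r1.1
  have cd : Commute a d := by
    have : d = z * (p * q * r) * g * f := by
      rw [← e1, mul_assoc (d * f * g), h.lq.q3 t'.1 t'.2.1 t'.2.2, mul_one, mul_assoc _ g g, h.lq.sq t.2.2.1.1,
        mul_one, mul_assoc, h.lq.sq hf.1.1, mul_one]
    rw [this]
    exact (((h.cen ha).symm.mul_right (((key t' e1 d1 g2 g3).mul_right (key r1.1 (r1.2 ▸ e1) d2 g3 g1)).mul_right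
      (key r2.1 (r2.2 ▸ r1.2 ▸ e1) d3 g1 g2))).mul_right (k g hg.1)).mul_right (k f hf)
  have ce : Commute a e := by
    have := cd.mul_right c
    rwa [← mul_assoc, h.lq.sq hd, one_mul] at this
  have sq : ∀ x ∈ closure Δ, (∀ w ∈ Dx Δ d, Commute x w) → x * x = 1 := fun x hx k => by
    rcases h.zen1 hd hx k with rfl | rfl | rfl | rfl
    exacts [mul_one 1, h.sq, h.lq.sq hd, by rw [(h.cen1 hd).symm.mul_mul_mul_comm, h.sq, h.lq.sq hd, mul_one]]
  rcases cenU L U he (fun x hx => by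
    have := (h.lq.mem_Dx_cj ha).2 hx
    rwa [cj_of_commute cd] at this) ce k with k1 | k1
  · exact sq a ha k1
  · have := sq _ (mul_mem ha (subset_closure he.1)) k1
    rwa [ce.symm.mul_mul_mul_comm, h.lq.sq he.1, mul_one] at this

end DL

end H17.F35
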