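import Mathlib
import Cfsg.Agent.H17.F35G

/-! Standard subgroup `2 · Fi₂₂`: inner and outer elements. -/

set_option autoImplicit false
set_option linter.unusedVariables false
set_option linter.unusedSectionVars false

namespace H17.F35

open H0 hiding CC
open H29 hiding dec
open Subgroup H9.FB H9.FB.A2

variable {G : Type*} [Group G] {z t g k r u x d : G} {Δ Γ : Set G}

/-- `g` preserves `Δ`. -/
def In (Δ : Set G) (g : G) : Prop := ∀ d ∈ Δ, cj g d ∈ Δ
/-- `g` maps `Δ` to `z Δ`. -/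
def Out (z : G) (Δ : Set G) (g : G) : Prop := ∀ d ∈ Δ, z * cj g d ∈ Δ
/-- `u` centralises `Δ`. -/
def Kc (Δ : Set G) (u : G) : Prop := ∀ d ∈ Δ, Commute u d

/-- The centraliser of `z` is `2 · Fi₂₂` or `2 · Fi₂₂ . 2`. -/
structure Cz (z : G) (Δ : Set G) : Prop where
  dl : DL z Δ
  cen : ∀ g, Commute g z → g ∈ closure Δ ∨ Out z Δ g

/-- A standard subgroup `2 · Fi₂₂`. -/
structure St (z : G) (Δ : Set G) : Prop where
  dl : DL z Δ
  io : ∀ g, Commute g z → In Δ g ∨ Out z Δ g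
  tight : ∀ u g, Kc Δ u → u * u = 1 → u ≠ 1 → Kc Δ (cj g u) → Commute g z

theorem In.mul (h : In Δ g) (h' : In Δ k) : In Δ (g * k) := fun d hd => cj_cj g k d ▸ h _ (h' d hd)
theorem In.mulo (c : Commute g z) (h : In Δ g) (h' : Out z Δ k) : Out z Δ (g * k) := fun d hd => by
  have := h _ (h' d hd)
  rwa [cj_mul, cj_of_commute c, cj_cj] at this
theorem Out.muli (h : Out z Δ g) (h' : In Δ k) : Out z Δ (g * k) := fun d hd => cj_cj g k d ▸ h _ (h' d hd)
theorem Kc.in (h : Kc Δ u) : In Δ u := fun d hd => (cj_of_commute (h d hd)).symm ▸ hd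
theorem Kc.clo (h : Kc Δ u) (hx : x ∈ closure Δ) : Commute u x := cen_clo h hx
theorem Kc.mul (h : Kc Δ u) (h' : Kc Δ k) : Kc Δ (u * k) := fun d hd => (h d hd).mul_left (h' d hd)
theorem Kc.inv (h : Kc Δ u) : Kc Δ u⁻¹ := fun d hd => (h d hd).inv_left
theorem Kc.pow (h : Kc Δ u) (n : ℕ) : Kc Δ (u ^ n) := fun d hd => (h d hd).pow_left n
theorem kc_cj : Kc (cj g '' Δ) (cj g u) ↔ Kc Δ u := by simp [Kc]
theorem in_cj : In (cj g '' Δ) (cj g u) ↔ In Δ u := by
  simp only [In, Set.forall_mem_image, ← cj_cj_conj, (cj_injective g).mem_set_image]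
theorem out_cj : Out (cj g z) (cj g '' Δ) (cj g u) ↔ Out z Δ u := by
  simp only [Out, Set.forall_mem_image, ← cj_cj_conj, ← cj_mul, (cj_injective g).mem_set_image]
theorem clo_iff : cj g x ∈ closure (cj g '' Δ) ↔ x ∈ closure Δ := ⟨fun h => by
  simpa [Set.image_image] using clo_cj g⁻¹ h, clo_cj g⟩
theorem In.clo (h : In Δ g) (hx : x ∈ closure Δ) : cj g x ∈ closure Δ :=
  closure_mono (Set.image_subset_iff.2 h) (clo_cj g hx)
theorem In.img [Finite G] (h : In Δ g) : cj g '' Δ = Δ :=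
  Set.eq_of_subset_of_ncard_le (Set.image_subset_iff.2 h) (Set.ncard_image_of_injective _ (cj_injective g)).ge
theorem In.inv [Finite G] (h : In Δ g) : In Δ g⁻¹ := fun d hd => by
  obtain ⟨e, he, rfl⟩ := h.img.ge hd
  rwa [cj_inv_cj]

namespace DL
variable (h : DL z Δ)
include h

theorem inn (hx : x ∈ closure Δ) : In Δ x := fun d hd => h.lq.conj hd hx
theorem kz : Kc Δ z := fun d hd => h.cen1 hd
theorem omul (c : Commute g z) (h1 : Out z Δ g) (h2 : Out z Δ k) : In Δ (g * k) := fun d hd => by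
  have := h1 _ (h2 d hd)
  rwa [cj_mul, cj_of_commute c, h.zz, cj_cj] at this
theorem nio (h1 : In Δ g) (h2 : Out z Δ g) : False :=
  let ⟨d, hd⟩ := h.lq.nonempty; h.nm (h1 d hd) (h2 d hd)
/-- an outer element fixes no point -/
theorem nfix (h2 : Out z Δ g) (hd : d ∈ Δ) : ¬ Commute g d := fun c =>
  h.nm hd (by simpa only [cj_of_commute c] using h2 d hd)
theorem oclo (c : Commute g z) (h1 : Out z Δ g) (hx : x ∈ closure Δ) : cj g x ∈ closure Δ :=
  (closure_le _).2 (by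
    rintro _ ⟨d, hd, rfl⟩
    exact h.zz (cj g d) ▸ mul_mem h.mem (subset_closure (h1 d hd))) (clo_cj g hx)
theorem oimg [Finite G] (h1 : Out z Δ g) : cj g '' Δ = (z * ·) '' Δ :=
  Set.eq_of_subset_of_ncard_le (by rintro _ ⟨d, hd, rfl⟩; exact ⟨_, h1 d hd, h.zz _⟩) (by
    rw [Set.ncard_image_of_injective _ (cj_injective g), Set.ncard_image_of_injective _ (mul_right_injective z)])
/-- a product of an odd number of outer elements is outer -/
theorem oprod : ∀ l : List G, (∀ x ∈ l, Commute x z ∧ Out z Δ x) →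
    (Even l.length → In Δ l.prod) ∧ (Odd l.length → Out z Δ l.prod)
  | [], _ => ⟨fun _ d hd => by simpa, by simp⟩
  | a :: l, hl => by
    obtain ⟨k1, k2⟩ := oprod l fun x hx => hl x (by simp [hx])
    obtain ⟨a1, a2⟩ := hl a (by simp)
    rw [List.length_cons, List.prod_cons, Nat.even_add_one, Nat.odd_add_one, Nat.not_even_iff_odd,
      Nat.not_odd_iff_even]
    exact ⟨fun e => h.omul a1 a2 (k2 e), fun e => a2.muli (k1 e)⟩

theorem io [Finite G] (c : Commute g z) (h1 : ∀ x ∈ closure Δ, cj g x ∈ closure Δ)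
    (h2 : ∀ x ∈ closure Δ, cj g⁻¹ x ∈ closure Δ) : In Δ g ∨ Out z Δ g := by
  obtain ⟨d, hd⟩ := h.lq.nonempty
  have := h.of_nsq (h1 d (subset_closure hd)) (by rw [← cj_mul, h.lq.sq hd]; simp [cj]) (fun e => h.nm0 (by
      rwa [cj_inj.1 ((cj_of_commute c).trans e.symm)])) fun y hy e =>
    (h.nsqT (h2 y hy) hd).1 (by rw [← cj_mul, e, cj_inv_cj])
  refine this.imp (fun k x hx => ?_) fun k x hx => ?_ <;> obtain ⟨l, hl, rfl⟩ := h.lq.trans hd hx
  · exact cj_cj_conj g l d ▸ h.lq.conj k (h1 l hl)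
  · have := h.lq.conj k (h1 l hl)
    rwa [cj_mul, cj_of_commute (h.cen (h1 l hl)).symm, ← cj_cj_conj] at this

end DL

theorem Cz.cjg (h : Cz z Δ) (g : G) : Cz (cj g z) (cj g '' Δ) := ⟨h.dl.cjg g, fun k hk => by
  rw [← cj_cj_inv g k] at hk ⊢
  exact (h.cen _ (commute_cj.1 hk)).imp clo_iff.2 out_cj.2⟩

theorem St.cjg (h : St z Δ) (g : G) : St (cj g z) (cj g '' Δ) := ⟨h.dl.cjg g, fun k hk => by
  rw [← cj_cj_inv g k] at hk ⊢
  exact (h.io _ (commute_cj.1 hk)).imp in_cj.2 out_cj.2, fun u k h1 h2 h3 h4 => by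
  rw [← cj_cj_inv g k, ← cj_cj_inv g u] at *
  refine commute_cj.2 (h.tight (cj g⁻¹ u) _ (kc_cj.1 h1) (by
    rw [← cj_mul] at h2; simpa [cj] using h2) (fun e => h3 (by rw [e]; simp [cj])) (kc_cj.1 (by rwa [cj_cj_conj])))⟩

namespace Cz
variable (h : Cz z Δ)
include h

theorem io (c : Commute g z) : In Δ g ∨ Out z Δ g := (h.cen g c).imp_left h.dl.inn
theorem of_in (c : Commute g z) (h1 : In Δ g) : g ∈ closure Δ := (h.cen g c).resolve_right (h.dl.nio h1)
theorem of_fix (c : Commute g z) (hd : d ∈ Δ) (c' : Commute g d) : g ∈ closure (Dx Δ d) :=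
  h.dl.gen1 hd ((h.cen g c).resolve_right fun k => h.dl.nfix k hd c') c'
theorem clo (c : Commute g z) (hx : x ∈ closure Δ) : cj g x ∈ closure Δ :=
  (h.io c).elim (fun k => k.clo hx) fun k => h.dl.oclo c k hx
theorem flip [Finite G] (c : Commute r z) (o : Out z Δ r) : Cz z ((z * ·) '' Δ) := by
  simpa only [cj_of_commute c, h.dl.oimg o] using h.cjg r

end Cz

end H17.F35
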