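import Mathlib
import Cfsg.Agent.H17.F35H

/-! Standard subgroup `2 · Fi₂₂`: a mutually inner pair. -/

set_option autoImplicit false
set_option linter.unusedVariables false
set_option linter.unusedSectionVars false

namespace H17.F35

open H0 hiding CC
open H29 hiding dec
open Subgroup H9.FB H9.FB.A2

variable {G : Type*} [Group G] [Finite G] {z t g k r u x d : G} {Δ Γ P : Set G}

theorem cj_list (g : G) : ∀ l : List G, cj g l.prod = (l.map (cj g)).prod
  | [] => by simp [cj]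
  | a :: l => by rw [List.prod_cons, cj_mul, cj_list g l, List.map_cons, List.prod_cons]

theorem cj_sw (ht : t * t = 1) (hx : x * x = 1) : cj x t = x * cj t x * t := by
  rw [cj, cj, inv_eq_of_sq ht, inv_eq_of_sq hx, mul_assoc _ _ t, mul_assoc (t * x), ht, mul_one, mul_assoc]

theorem comm_sw (ht : t * t = 1) (hx : x * x = 1) (c : Commute x (cj t x)) : Commute t (cj x t) := by
  simpa only [cj, commute_iff_eq, inv_eq_of_sq ht, inv_eq_of_sq hx, mul_assoc] using c.eq.symm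

namespace DL
variable (h : DL z Δ)
include h

theorem exists_t3 : ∃ a b c, T3 Δ a b c :=
  let ⟨a, ha⟩ := h.lq.nonempty
  let ⟨b, hb⟩ := h.lq.Dx_ne ha
  let ⟨c, hc⟩ := (h.f22 a ha).1.Dx_ne hb
  ⟨a, b, c, ha, hb, hc⟩

theorem mc_in (hP : MC Δ P) {l : List G} (h1 : ∀ x ∈ l, x ∈ Δ) (h2 : l.Pairwise Commute) :
    ∃ g, ∀ x ∈ l, cj g x ∈ P := by
  have : Std.Symm (Commute : G → G → Prop) := ⟨fun _ _ => Commute.symm⟩
  obtain ⟨Q, hQ, k⟩ := exists_mc_ge (S := {x | x ∈ l}) h1 fun x hx y hy =>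
    h2.forall_of_forall (fun _ _ => Commute.refl _) hx hy
  obtain ⟨g, -, rfl⟩ := MC.conj h.ts hQ hP
  exact ⟨g, fun x hx => ⟨x, k hx, rfl⟩⟩

theorem out_pair (c : Commute t z) (t2 : t * t = 1) (o : Out z Δ t) : ∃ x y,
    (∀ w ∈ [x, y, x * y], w * w = 1 ∧ cj w t ≠ t ∧ Commute t (cj w t)) ∧
      cj (x * y) t = cj x t * cj y t * t := by
  have tt : ∀ x, cj t (cj t x) = x := fun x => by rw [cj_cj, t2, cj_one]
  obtain ⟨P, hP, k⟩ := exists_mc_inv h.ts (fun x => z * cj t x) o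
    (fun x _ => by simp only [cj_mul, cj_of_commute c, h.zz, tt]) fun x hx y hy => by
      have m := h.oclo c o (subset_closure hy)
      simp only [cj_cj_conj t, ← cj_cj z, cj_mul, cj_of_commute (h.cen (h.oclo c o (subset_closure hx))).symm]
      rw [cj_self, cj_of_commute (h.cen ((h.inn (h.oclo c o (subset_closure hx))).clo m))]
  obtain ⟨a, b, e, t3⟩ := h.exists_t3
  obtain ⟨x, hx, n⟩ : ∃ x ∈ P, z * cj t x ≠ x := by
    by_contra n
    push Not at n
    obtain ⟨l, l1, l2, l3, l4⟩ := h.hept t3.1 t3.2.1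
    obtain ⟨g, hg⟩ := h.mc_in hP (l := a :: b :: l) (by simpa using ⟨t3.1, t3.2.1.1, l1⟩) l2
    have key : ∀ l : List G, (∀ x ∈ l, x ∈ P) → cj t l.prod = z ^ l.length * l.prod := fun l => by
      induction l with
      | nil => simp [cj]
      | cons a l ih =>
        intro hl
        have a1 := hl a (by simp)
        rw [List.prod_cons, cj_mul, ih fun x hx => hl x (by simp [hx]), ← h.zz (cj t a), n a a1, List.length_cons,
          pow_succ', mul_assoc, mul_assoc, ← mul_assoc a, ← ((h.cen1 (hP.sub a1)).pow_left _).eq, mul_assoc]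
    have := key ((a :: b :: l).map (cj g)) (by simpa using hg)
    rw [← cj_list, List.prod_cons, List.prod_cons, ← mul_assoc, l4] at this
    simp only [List.length_map, List.length_cons, l3, cj, mul_one, mul_inv_cancel, pow_succ', h.zz, pow_zero] at this
    exact h.ne this.symm
  obtain ⟨y, hy, n1, n2⟩ : ∃ y ∈ P, y ≠ x ∧ y ≠ z * cj t x := by
    obtain ⟨⟨m1, m2, m3⟩, ⟨d1, d2, d3⟩, c1, c2, c3⟩ := t3_iff.1 t3
    obtain ⟨g, hg⟩ := h.mc_in hP (l := [a, b, e]) (by simp [m1, m2, m3]) (by simp [c1, c2, c3])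
    by_contra n
    push Not at n
    have k1 := n _ (hg a (by simp))
    have k2 := n _ (hg b (by simp))
    have k3 := n _ (hg e (by simp))
    rw [← cj_inj (g := g).ne] at d1 d2 d3
    by_cases e1 : cj g a = x
    · exact d3 ((k2 (e1 ▸ d1.symm)).trans (k3 (e1 ▸ d2.symm)).symm)
    by_cases e2 : cj g b = x
    exacts [d2 ((k1 e1).trans (k3 (e2 ▸ d3.symm)).symm), d1 ((k1 e1).trans (k2 e2).symm)]
  have cc : ∀ x ∈ P, ∀ y ∈ P, Commute x (cj t y) := fun x hx y hy =>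
    h.zz (cj t y) ▸ (h.cen1 (hP.sub hx)).symm.mul_right (hP.comm x hx _ (k y hy))
  have s1 := h.lq.sq (hP.sub hx)
  have s2 := h.lq.sq (hP.sub hy)
  have cxy := hP.comm x hx y hy
  have s3 : x * y * (x * y) = 1 := by rw [cxy.symm.mul_mul_mul_comm, s1, s2, mul_one]
  have nf : ∀ x ∈ P, cj x t ≠ t := fun x hx e => h.nfix o (hP.sub hx) (cj_eq_self.1 e).symm
  refine ⟨x, y, ?_, ?_⟩
  · simp only [List.forall_mem_cons, List.not_mem_nil, IsEmpty.forall_iff, implies_true, and_true]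
    refine ⟨⟨s1, nf x hx, comm_sw t2 s1 (cc x hx x hx)⟩, ⟨s2, nf y hy, comm_sw t2 s2 (cc y hy y hy)⟩, s3,
      fun e => ?_, comm_sw t2 s3 (by
        rw [cj_mul]; exact ((cc x hx x hx).mul_right (cc x hx y hy)).mul_left
          ((cc y hy x hx).mul_right (cc y hy y hy)))⟩
    have e1 : x * y = z * cj t x * (z * cj t y) := by
      rw [mul_assoc, ← mul_assoc _ z, ← (h.cen (h.oclo c o (subset_closure (hP.sub hx)))).eq, mul_assoc, h.zz,
        ← cj_mul, cj_of_commute (cj_eq_self.1 e).symm]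
    rcases h.uniq2 (hP.sub hx) ⟨hP.sub hy, n1, cxy⟩ (hP.sub (k x hx)) ⟨hP.sub (k y hy),
      by simpa using n1, hP.comm _ (k x hx) _ (k y hy)⟩ e1 with e | e
    exacts [n e.1, n2 e.1.symm]
  · rw [cj_sw t2 s3, cj_sw t2 s1, mul_assoc _ t, (comm_sw t2 s2 (cc y hy y hy)).eq, mul_assoc _ _ t,
      mul_assoc _ (_ * t) t, mul_assoc _ t t, t2, mul_one, cj_sw t2 s2, cj_mul]
    simp only [mul_assoc, (cc y hy x hx).left_comm]

end DL

theorem St.mi (h : St z Δ) (h1 : cj g z ≠ z) (h2 : Commute z (cj g z)) :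
    ∃ k, cj k z ≠ z ∧ Commute z (cj k z) ∧ In Δ (cj k z) ∧ In Δ (cj k⁻¹ z) := by
  have key : ∀ g, Commute z (cj g z) → Out z Δ (cj g z) →
      ∃ k, cj k z ≠ z ∧ Commute z (cj k z) ∧ In Δ (cj k z) ∧ In Δ (cj k⁻¹ z) := fun g c o => by
    have s := h.cjg g
    obtain ⟨x, y, k1, k2⟩ := h.dl.out_pair c.symm s.dl.sq o
    obtain ⟨w, ⟨w1, w2, w3⟩, w4⟩ : ∃ w, (w * w = 1 ∧ cj w (cj g z) ≠ cj g z ∧ Commute (cj g z) (cj w (cj g z))) ∧
        In (cj g '' Δ) (cj w (cj g z)) := by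
      simp only [List.forall_mem_cons] at k1
      rcases s.io _ k1.1.2.2.symm with a | a
      · exact ⟨x, k1.1, a⟩
      rcases s.io _ k1.2.1.2.2.symm with b | b
      · exact ⟨y, k1.2.1, b⟩
      exact ⟨x * y, k1.2.2.1, k2 ▸ (s.dl.omul k1.1.2.2.symm a b).mul s.dl.kz.in⟩
    rw [← cj_cj_inv g w, ← cj_cj_conj] at w2 w3 w4
    refine ⟨cj g⁻¹ w, fun e => w2 (by rw [e]), commute_cj.1 w3, in_cj.1 w4, ?_⟩
    rw [inv_eq_of_sq (by rw [← cj_mul, w1]; simp [cj])]
    exact in_cj.1 w4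
  have c : Commute z (cj g⁻¹ z) := by rw [← commute_cj (g := g), cj_cj_inv]; exact h2.symm
  rcases h.io _ h2.symm with a | a
  · exact (h.io _ c.symm).elim (fun b => ⟨g, h1, h2, a, b⟩) (key _ c)
  · exact key _ h2 a

end H17.F35
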