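import Mathlib
import Cfsg.Prelude.Def_Local
import Cfsg.Agent.H2.Cores
import Cfsg.Agent.H17.F35I

/-! Standard subgroup `2 · Fi₂₂`: the centraliser has order two. -/

set_option autoImplicit false
set_option linter.unusedVariables false
set_option linter.unusedSectionVars false

namespace H17.F35

open H0 hiding CC
open H29 hiding dec
open Subgroup H9.FB H9.FB.A2

variable {G : Type*} [Group G] [Finite G] {z t g k r u v x d f a : G} {Δ Γ P : Set G}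

theorem TS.p3 (T : TS Δ) (hx : x ∈ Δ) (hd : d ∈ Δ) (n : ¬ Commute x d) : (x * d) ^ 3 = 1 := by
  have := T.braid x hx d hd n
  rw [cj, cj, T.inv hx, T.inv hd] at this
  rw [show (x * d) ^ 3 = x * d * x * (d * x * d) by simp only [pow_three, mul_assoc], this,
    show d * x * d * (d * x * d) = d * (x * (d * d) * x) * d by simp only [mul_assoc], T.sq d hd, mul_one,
    T.sq x hx, mul_one, T.sq d hd]

theorem St.clo (h : St z Δ) (c : Commute g z) (hx : x ∈ closure Δ) : cj g x ∈ closure Δ :=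
  (h.io g c).elim (fun k => k.clo hx) fun k => h.dl.oclo c k hx

theorem St.kcj (h : St z Δ) (c : Commute g z) (hu : Kc Δ u) : Kc Δ (cj g u) := fun d hd => by
  rw [← cj_cj_inv g d]
  exact commute_cj.2 (hu.clo (h.clo c.inv_left (subset_closure hd)))

theorem St.kk (h : St z Δ) (ne : cj g z ≠ z) (h1 : Kc Δ u) (h2 : Kc (cj g '' Δ) u) (h3 : u * u = 1) : u = 1 := by
  by_contra n
  rw [← cj_cj_inv g u] at h1 h2 h3 n
  exact ne (cj_of_commute (h.tight (cj g⁻¹ u) g (kc_cj.1 h2) (by rw [← cj_mul] at h3; simpa [cj] using h3)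
    (fun e => n (by rw [e]; simp [cj])) h1))

/-- `g` acts on `closure Δ` as `a`. -/
def Ac (Δ : Set G) (g a : G) : Prop := a ∈ closure Δ ∧ ∀ x ∈ closure Δ, cj g x = cj a x

theorem Ac.mul {b : G} (h : Ac Δ g a) (h' : Ac Δ k b) : Ac Δ (g * k) (a * b) := ⟨mul_mem h.1 h'.1, fun x hx => by
  rw [← cj_cj, ← cj_cj, h'.2 x hx]; exact h.2 _ (mul_mem (mul_mem h'.1 hx) (inv_mem h'.1))⟩
theorem Ac.comm (h : Ac Δ g a) (hx : x ∈ closure Δ) : Commute g x ↔ Commute a x := by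
  rw [← cj_eq_self, ← cj_eq_self, h.2 x hx]
theorem Ac.kc (h : Ac Δ g a) : Kc Δ (a⁻¹ * g) := fun d hd => cj_eq_self.1 (by
  rw [← cj_cj, h.2 d (subset_closure hd), cj_inv_cj])
theorem Ac.self (h : Ac Δ g a) : Commute g a := (h.comm h.1).2 (Commute.refl a)
theorem DL.ac1 (h : DL z Δ) (h1 : Ac Δ g a) (h2 : Kc Δ g) : a = 1 ∨ a = z :=
  h.zen h1.1 fun d hd => (h1.comm (subset_closure hd)).1 (h2 d hd)
theorem DL.ac2 (h : DL z Δ) (h1 : Ac Δ g a) (h2 : g * g = 1) : a * a = 1 :=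
  (h.ac1 (h1.mul h1) (h2 ▸ fun d _ => Commute.one_left d)).resolve_right (h.nsq h1.1)
theorem DL.ack (h : DL z Δ) (h1 : Ac Δ g a) (h2 : a = 1 ∨ a = z) : Kc Δ g := fun d hd =>
  (h1.comm (subset_closure hd)).2 (by rcases h2 with rfl | rfl; exacts [Commute.one_left d, h.cen1 hd])

theorem syl_out {N : Type*} [Group N] [Finite N] {M : Subgroup N} (hM : M.index = 2) {a : N} {n : ℕ}
    (ha : a ^ 2 ^ n = 1) : ∃ s ∉ M, ∃ P : Subgroup N, IsPGroup 2 P ∧ a ∈ P ∧ s ∈ P := by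
  obtain ⟨P, hP⟩ := IsPGroup.exists_le_sylow (p := 2) (P := zpowers a) (by
    rintro ⟨_, m, rfl⟩
    exact ⟨n, Subtype.ext (by
      change (a ^ m) ^ 2 ^ n = 1
      rw [← zpow_natCast, ← zpow_mul, mul_comm, zpow_mul, zpow_natCast, ha, one_zpow])⟩)
  obtain ⟨s, h1, h2⟩ := SetLike.not_le_iff_exists.1 fun e : (P : Subgroup N) ≤ M =>
    P.not_dvd_index (by simpa only [hM] using index_dvd_of_le e)
  exact ⟨s, h2, P, P.2, hP (mem_zpowers a), h1⟩

theorem eq_of_core {N : Type*} [Group N] [Finite N] (hO : Cfsg.pPrimeCore 2 N = ⊥) {C : Subgroup N}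
    [hC : C.Normal] {z : N} (hz : z ∈ C) (zc : ∀ g, g * z = z * g) (z2 : z * z = 1)
    (h : ∀ u ∈ C, u ^ 2 ^ 2 = 1 → u = 1 ∨ u = z) : ∀ u ∈ C, u = 1 ∨ u = z := by
  let Z : Subgroup C := zpowers ⟨z, hz⟩
  have Zc : ∀ a ∈ Z, ∀ g, g * a = a * g := by
    rintro _ ⟨n, rfl⟩ g
    exact Commute.zpow_right (Subtype.ext (zc g)) n
  have Z2 : ∀ a ∈ Z, a * a = 1 := by
    rintro _ ⟨n, rfl⟩
    rw [← (Commute.refl _).mul_zpow, show (⟨z, hz⟩ : C) * ⟨z, hz⟩ = 1 from Subtype.ext z2, one_zpow]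
  have : Z.Normal := ⟨fun a ha g => by rwa [Zc a ha, mul_inv_cancel_right]⟩
  have h1 : ¬ 2 ∣ Z.index := fun h2 => by
    obtain ⟨x, hx⟩ := exists_prime_orderOf_dvd_card' (G := C ⧸ Z) 2 h2
    induction x using QuotientGroup.induction_on with
    | H u =>
      have h3 := pow_orderOf_eq_one (u : C ⧸ Z)
      rw [hx, ← QuotientGroup.mk_pow, QuotientGroup.eq_one_iff] at h3
      have h4 : u ∈ Z := by
        rcases h u u.2 (by
          rw [pow_two 2, pow_mul, pow_two]; exact congrArg Subtype.val (Z2 _ h3)) with e | e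
        · rw [show u = 1 from Subtype.ext e]; exact one_mem _
        · rw [show u = ⟨z, hz⟩ from Subtype.ext e]; exact mem_zpowers _
      rw [(QuotientGroup.eq_one_iff u).2 h4, orderOf_one] at hx
      omega
  have h2 : Z.index.Coprime 2 := ((Nat.Prime.coprime_iff_not_dvd Nat.prime_two).2 h1).symm
  obtain ⟨O, hZO⟩ := exists_right_complement'_of_coprime (N := Z) (Nat.Coprime.coprime_dvd_left
    (by rw [Nat.card_zpowers]; exact orderOf_dvd_of_pow_eq_one (by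
      rw [pow_two]; exact Z2 _ (mem_zpowers _))) h2.symm)
  let S : Set N := {x | ∃ u ∈ C, u * u = x}
  have h3 : closure S ≤ O.map C.subtype := (closure_le _).2 (by
    rintro _ ⟨u, hu, rfl⟩
    obtain ⟨⟨a, o⟩, e⟩ := hZO.2 ⟨u, hu⟩
    refine ⟨o * o, mul_mem o.2 o.2, ?_⟩
    change _ = C.subtype (⟨u, hu⟩ * ⟨u, hu⟩)
    rw [← e]
    change _ = C.subtype (a * o * (a * o))
    rw [mul_assoc, ← mul_assoc (o : C), Zc a a.2 o, ← mul_assoc, ← mul_assoc, Z2 a a.2, one_mul])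
  have h4 : (closure S).Normal := ⟨fun x hx g => (?_ : closure S ≤ (closure S).comap
    (MulAut.conj g).toMonoidHom) hx⟩
  · have h5 := H2.le_pPrimeCore h4 (p := 2) (Nat.Coprime.coprime_dvd_left (card_dvd_of_le h3) (by
      rwa [card_map_of_injective C.subtype_injective, ← hZO.symm.index_eq_card]))
    intro u hu
    refine h u hu ?_
    rw [hO, le_bot_iff, eq_bot_iff_forall] at h5
    rw [pow_two 2, pow_mul, pow_two u, h5 _ (subset_closure ⟨u, hu, rfl⟩), one_pow]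
  · refine (closure_le _).2 ?_
    rintro _ ⟨u, hu, rfl⟩
    exact subset_closure ⟨_, hC.conj_mem u hu g, conj_mul⟩

/-- A mutually inner pair. -/
structure Mi (z : G) (Δ : Set G) (t : G) (Γ : Set G) : Prop where
  md : MD
  s1 : St z Δ
  s2 : St t Γ
  ne : z ≠ t
  c : Commute z t
  i1 : In Δ t
  i2 : In Γ z
  kk : ∀ u, Kc Δ u → Kc Γ u → u * u = 1 → u = 1

namespace Mi
variable (h : Mi z Δ t Γ)
include h

theorem symm : Mi t Γ z Δ := ⟨h.md, h.s2, h.s1, h.ne.symm, h.c.symm, h.i2, h.i1, fun u a b => h.kk u b a⟩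

theorem ac (i : In Δ v) : ∃ a, Ac Δ v a := h.s1.dl.aut h.md i

theorem nk (hv : Kc Γ v) (v2 : v * v = 1) (v1 : v ≠ 1) (ha : Ac Δ v a) : a * a = 1 ∧ a ≠ 1 ∧ a ≠ z :=
  ⟨h.s1.dl.ac2 ha v2, fun e => v1 (h.kk v (h.s1.dl.ack ha (Or.inl e)) hv v2),
    fun e => v1 (h.kk v (h.s1.dl.ack ha (Or.inr e)) hv v2)⟩

theorem zk : ¬ Kc Γ z := fun k => h.s1.dl.ne (h.kk z h.s1.dl.kz k h.s1.dl.sq)

theorem l1 (hv : Kc Γ v) (v2 : v * v = 1) (i : In Δ v) : v = 1 ∨ v = t := by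
  refine or_iff_not_imp_left.2 fun v1 => ?_
  obtain ⟨l, hl⟩ := h.ac i
  obtain ⟨a, ha⟩ := h.ac h.i1
  obtain ⟨l2, l1, lz⟩ := h.nk hv v2 v1 hl
  obtain ⟨a2, a1, az⟩ := h.nk h.s2.dl.kz h.s2.dl.sq h.s2.dl.ne ha
  have := h.s1.dl.ccl hl.1 l2 l1 lz ha.1 a2 fun x hx e => ((ha.comm hx).1 (h.s2.tight v x hv v2 v1 (by
    rwa [cj_of_commute ((hl.comm hx).2 e.symm).symm])).symm).symm
  have c := (hv.clo h.s2.dl.mem)
  have := h.kk (v * t) (h.s1.dl.ack (hl.mul ha) (by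
    rcases (this.resolve_left a1).resolve_left az with rfl | rfl
    exacts [Or.inl l2, Or.inr (by rw [← mul_assoc, ← (h.s1.dl.cen hl.1).eq, mul_assoc, l2, mul_one])]))
    (hv.mul h.s2.dl.kz) (by rw [c.symm.mul_mul_mul_comm, v2, h.s2.dl.sq, mul_one])
  rw [eq_inv_of_mul_eq_one_left this, inv_eq_of_sq h.s2.dl.sq]

theorem kf (hv : Kc Γ v) (hf : f ∈ Δ) (c : Commute f t) : Kc Γ (cj v f * f) := by
  have := hv.mul (h.s2.kcj c hv.inv)
  rwa [cj, h.s1.dl.lq.inv hf, ← mul_assoc, ← mul_assoc] at this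

theorem l2 (hv : Kc Γ v) (c : Commute v z) : In Δ v := by
  refine (h.s1.io v c).resolve_right fun o => ?_
  have D := h.s1.dl
  have key : ∀ f ∈ Δ, Commute f t → z * cj v f ∈ Dx Δ f ∧ z * t = f * (z * cj v f) := fun f hf ft => by
    have k := h.kf hv hf ft
    have m := o f hf
    rw [← D.zz (cj v f)] at k
    generalize z * cj v f = g at *
    have gz := D.cen1 m
    have fz := D.cen1 hf
    by_cases cm : Commute f g
    · have n : g ≠ f := by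
        rintro rfl
        exact h.zk (by rwa [mul_assoc, D.lq.sq hf, mul_one] at k)
      have p : P2 Δ (f * g) := ⟨f, hf, g, ⟨m, n, cm⟩, rfl⟩
      rw [mul_assoc, ← cm.eq] at k
      refine ⟨⟨m, n, cm⟩, ?_⟩
      rcases h.l1 k (by rw [(D.cen (D.p2_sq p).2).symm.mul_mul_mul_comm, D.sq, (D.p2_sq p).1, mul_one])
        (D.inn (mul_mem D.mem (D.p2_sq p).2)) with e | e
      · exact absurd (by rw [← D.zz (f * g), e, mul_one]) (D.p2_nm p).2.1
      · rw [← e, D.zz]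
    · refine absurd ?_ h.zk
      have := k.pow 3
      rwa [mul_assoc, (gz.mul_right fz).mul_pow, D.ts.p3 m hf fun e => cm e.symm, mul_one, pow_three, D.zz] at this
  obtain ⟨a, ha⟩ := h.ac h.i1
  obtain ⟨f, hf, e⟩ := D.exists_fix ha.1 (D.ac2 ha h.s2.dl.sq)
  obtain ⟨k1, k2⟩ := key f hf ((ha.comm (subset_closure hf)).2 e.symm).symm
  obtain ⟨g, hg⟩ := (D.f22 f hf).1.Dx_ne k1
  obtain ⟨k3, k4⟩ := key g hg.1.1 (by
    rw [← D.zz t, k2]; exact (D.cen1 hg.1.1).symm.mul_right (hg.1.2.2.symm.mul_right hg.2.2.symm))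
  rcases D.uniq2 hf k1 hg.1.1 k3 (k2.symm.trans k4) with e | e
  exacts [hg.1.2.1 e.1, hg.2.1 e.1]

theorem l3 : t ∈ closure Δ := by
  obtain ⟨a, ha⟩ := h.ac h.i1
  have a2 := h.s1.dl.ac2 ha h.s2.dl.sq
  have c : Commute (a⁻¹ * t) t := ha.self.symm.inv_left.mul_left (Commute.refl t)
  rcases h.symm.l1 ha.kc (by
    rw [ha.self.inv_right.mul_mul_mul_comm, h.s2.dl.sq, ← mul_inv_rev, a2, inv_one, mul_one])
    (h.symm.l2 ha.kc c) with e | e <;> rw [inv_mul_eq_iff_eq_mul] at e <;> rw [e]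
  exacts [mul_mem ha.1 (one_mem _), mul_mem ha.1 h.s1.dl.mem]

theorem l0 (hv : Kc Γ v) : In Δ v := h.l2 hv (hv.clo h.symm.l3)

theorem l4a (hv : Kc Γ v) (v2 : v * v = t) (ha : Ac Δ v a) (hy : P2 Δ t ∨ P2 Δ (z * t)) : a * a = 1 := by
  have D := h.s1.dl
  obtain ⟨y, p, e⟩ : ∃ y, P2 Δ y ∧ (t = y ∨ t = z * y) :=
    hy.elim (fun p => ⟨_, p, Or.inl rfl⟩) fun p => ⟨_, p, Or.inr (D.zz t).symm⟩
  have cy : ∀ x ∈ closure Δ, Commute x t ↔ Commute x y := fun x hx => by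
    rcases e with rfl | rfl
    exacts [Iff.rfl, ⟨fun k => D.zz y ▸ (D.cen hx).symm.mul_right k, (D.cen hx).symm.mul_right⟩]
  have l1 : ∀ {w}, Kc Γ w → P2 Δ w → w = t := fun k p =>
    (h.l1 k (D.p2_sq p).1 (h.l0 k)).resolve_left (D.p2_nm p).1
  have vt : Commute v t := v2 ▸ (Commute.refl v).mul_right (Commute.refl v)
  obtain ⟨d, hd, b, he, rfl⟩ := id p
  refine D.fix2 hd he ha.1 ((cy a ha.1).1 ((ha.comm h.l3).1 vt)) fun f hf => (ha.comm (subset_closure hf.1.1)).1 ?_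
  have fy : Commute f (d * b) := hf.1.2.2.symm.mul_right hf.2.2.symm
  have ft := (cy f (subset_closure hf.1.1)).2 fy
  have k := h.kf hv hf.1.1 ft
  have m := h.l0 hv f hf.1.1
  have mt : Commute (cj v f) t := (commute_cj_left vt).2 ft
  by_contra n
  rw [← cj_eq_self] at n
  generalize cj v f = f1 at *
  have key : ∀ g ∈ Dx Δ f, f * g ≠ t := fun g hg k => by
    rcases e with rfl | rfl
    · rcases D.uniq2 hd he hf.1.1 hg k.symm with e | e
      exacts [hf.1.2.1 e.1, hf.2.1 e.1]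
    · exact D.nez2 p ⟨f, hf.1.1, g, hg, k.symm⟩
  by_cases cm : Commute f f1
  · exact key f1 ⟨m, n, cm⟩ (l1 (cm.eq ▸ k) ⟨f, hf.1.1, f1, ⟨m, n, cm⟩, rfl⟩)
  · obtain ⟨g, g1, g2, g3⟩ := D.geo (Or.inl p) hf.1.1 m fy ((cy _ (subset_closure m)).1 mt) cm
    refine key g g1 (l1 ?_ ⟨f, hf.1.1, g, g1, rfl⟩)
    have := (k.inv.mul (h.s2.kcj ((cy g (subset_closure g1.1)).2 g3) k)).mul k.inv
    rw [cj_mul, cj_of_commute g1.2.2.symm, D.lq.braid g1.1 m g2, cj] at this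
    rwa [show (f1 * f)⁻¹ * (f1 * g * f1⁻¹ * f) * (f1 * f)⁻¹ = f⁻¹ * g * (f1 * f1)⁻¹ by group, D.lq.sq m,
      D.lq.inv hf.1.1, inv_one, mul_one] at this

theorem l4b (hv : Kc Γ v) (v2 : v * v = t) (ha : Ac Δ v a) (hy : P3 Δ t) : False := by
  have D := h.s1.dl
  let N : Subgroup G :=
    { carrier := {x | x ∈ closure Δ ∧ (cj x t = t ∨ cj x t = z * t)}
      one_mem' := ⟨one_mem _, Or.inl (cj_one t)⟩
      mul_mem' := fun {x y} hx hy => ⟨mul_mem hx.1 hy.1, by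
        rw [← cj_cj]
        rcases hy.2 with e | e <;> rw [e]
        · exact hx.2
        · rw [cj_mul, cj_of_commute (D.cen hx.1).symm]
          rcases hx.2 with e | e <;> rw [e]
          exacts [Or.inr rfl, Or.inl (D.zz t)]⟩
      inv_mem' := fun {x} hx => ⟨inv_mem hx.1, hx.2.imp (fun e => by nth_rw 1 [← e, cj_inv_cj]) fun e => by
        rw [← D.zz t, ← e, cj_mul, cj_inv_cj, cj_of_commute (D.cen hx.1).symm.inv_left, e, D.zz]⟩ }
  have vt : Commute v t := v2 ▸ (Commute.refl v).mul_right (Commute.refl v)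
  have at' := (ha.comm h.l3).1 vt
  have zt : z * t ≠ t := by simpa using D.ne
  have a2 : a * a = t ∨ a * a = z * t := by
    have := D.ac1 (a := a * a * t) (g := 1) (by
      rw [← h.s2.dl.sq]; nth_rw 1 [← v2]; exact (ha.mul ha).mul ⟨h.l3, fun _ _ => rfl⟩) fun d _ => Commute.one_left d
    simpa only [← eq_mul_inv_iff_mul_eq, inv_eq_of_sq h.s2.dl.sq, one_mul] using this
  obtain ⟨s0, s1, s2⟩ := D.p3_tr hy (D.zp3 hy)
  obtain ⟨⟨s, hs, k⟩, n, Q, hQ, q1, q2⟩ := syl_out (M := (CC t).subgroupOf N) (index_eq_two_iff.2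
    ⟨⟨s0, s1, Or.inr s2⟩, fun ⟨x, hx, k⟩ => by
      simp only [mem_subgroupOf, mem_CC, ← cj_eq_self, coe_mul, ← cj_cj, s2, cj_mul, cj_of_commute (D.cen hx).symm]
      rcases k with k | k <;> simp [k, Xor, D.zz, zt]⟩) (a := ⟨a, ha.1, Or.inl (cj_of_commute at')⟩) (n := 2) (by
      refine Subtype.ext (show a ^ 2 ^ 2 = 1 from ?_)
      rw [pow_two 2, pow_mul, pow_two a, pow_two]
      rcases a2 with e | e <;> rw [e]
      exacts [h.s2.dl.sq, by rw [h.c.symm.mul_mul_mul_comm, D.sq, h.s2.dl.sq, mul_one]])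
  replace k := k.resolve_left fun e => n (mem_CC.2 (cj_eq_self.1 e))
  have vz : Commute v z := hv.clo h.symm.l3
  have sz := (D.cen hs).symm
  have S := h.s2.cjg s
  have vt' : Commute (cj s v) t := by
    have := ((commute_cj_left sz).2 vz).mul_right (commute_cj.2 vt)
    rwa [k, D.zz] at this
  have k1 : Kc Γ (v * (cj (cj s v) v)⁻¹) := hv.mul (h.s2.kcj vt' hv).inv
  have k2 : Kc (cj s '' Γ) (cj v (cj s v) * (cj s v)⁻¹) :=
    (S.kcj (k ▸ vz.mul_right vt) (kc_cj.2 hv)).mul (kc_cj.2 hv).inv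
  obtain ⟨u, rfl, hu⟩ : ∃ u, v = a * u ∧ Kc Δ u := ⟨_, by simp, ha.kc⟩
  have m : cj s a ∈ closure Δ := (D.inn hs).clo ha.1
  have e1 : cj s (a * u) = cj s a * u := by rw [cj_mul, cj_of_commute (hu.clo hs).symm]
  have e2 : a * u * (cj (cj s (a * u)) (a * u))⁻¹ = a * (cj (cj s a) a)⁻¹ := by
    rw [e1, ← cj_cj, cj_mul u, cj_self, cj_of_commute (hu.clo ha.1), cj_mul, cj_of_commute (hu.clo m).symm]
    group
  have e3 : cj (a * u) (cj s (a * u)) * (cj s (a * u))⁻¹ = a * (cj (cj s a) a)⁻¹ := by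
    rw [← e2]; simp only [cj]; group
  obtain ⟨n, hn⟩ := hQ ⟨_, mul_mem q1 (inv_mem (mul_mem (mul_mem (mul_mem (mul_mem q2 q1) (inv_mem q2)) q1)
    (inv_mem (mul_mem (mul_mem q2 q1) (inv_mem q2)))))⟩
  replace hn : (a * (cj (cj s a) a)⁻¹) ^ 2 ^ n = 1 := congrArg (fun x : Q => ((x : N) : G)) hn
  rw [e2] at k1
  rw [e3] at k2
  have two : ∀ (n : ℕ) (w : G), Kc Γ w → Kc (cj s '' Γ) w → w ^ 2 ^ n = 1 → w = 1 := fun n => by
    induction n with
    | zero => intro w _ _ e; simpa using e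
    | succ n ih =>
      intro w a b e
      exact h.s2.kk (k ▸ zt) a b (ih _ (a.mul a) (b.mul b) (by rwa [← pow_two, ← pow_mul, ← pow_succ']))
  have c : Commute (cj s a) a := cj_eq_self.1 (mul_inv_eq_one.1 (two n _ k1 k2 hn)).symm
  refine D.nsq (mul_mem m (inv_mem ha.1)) ?_
  rw [c.inv_right.symm.mul_mul_mul_comm, ← cj_mul, ← mul_inv_rev]
  rcases a2 with e | e <;> rw [e]
  · rw [k, mul_inv_cancel_right]
  · rw [cj_mul, k, cj_of_commute sz, D.zz, mul_inv_rev, mul_inv_cancel_left, inv_eq_of_sq D.sq]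

theorem l4 (hv : Kc Γ v) (v4 : v ^ 2 ^ 2 = 1) : v = 1 ∨ v = t := by
  have D := h.s1.dl
  rcases h.l1 (hv.mul hv) (by rwa [← pow_two, ← pow_two, ← pow_mul]) (h.l0 (hv.mul hv)) with e | e
  · exact h.l1 hv e (h.l0 hv)
  obtain ⟨a, ha⟩ := h.ac (h.l0 hv)
  obtain ⟨y, e1, hy⟩ := D.inv h.l3 h.s2.dl.sq
  have a2 : a * a = t ∨ a * a = z * t := by
    have := D.ac1 (a := a * a * t) (g := 1) (by
      rw [← h.s2.dl.sq]; nth_rw 1 [← e]; exact (ha.mul ha).mul ⟨h.l3, fun _ _ => rfl⟩) fun d _ => Commute.one_left d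
    simpa only [← eq_mul_inv_iff_mul_eq, inv_eq_of_sq h.s2.dl.sq, one_mul] using this
  exfalso
  rcases hy with rfl | hy | hy | hy
  · exact e1.elim h.s2.dl.ne fun k => h.ne (by rw [k, mul_one])
  · obtain ⟨k1, k2⟩ := D.nsqT ha.1 hy
    rcases e1 with rfl | rfl <;> rcases a2 with k | k
    exacts [k1 k, k2 k, k2 k, k1 (k.trans (D.zz y))]
  · have := h.l4a hv e ha (by rcases e1 with rfl | rfl; exacts [Or.inl hy, Or.inr (by rwa [D.zz])])
    rcases a2 with k | k <;> rw [this] at k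
    exacts [h.s2.dl.ne k.symm, h.ne (by rw [← D.zz t, ← k, mul_one])]
  · exact h.l4b hv e ha (by rcases e1 with rfl | rfl; exacts [hy, D.zp3 hy])

theorem cz (hO : Cfsg.centralizerPPrimeCore 2 t = ⊥) : Cz t Γ := by
  refine ⟨h.s2.dl, fun g hg => (h.s2.io g hg).imp_left fun i => ?_⟩
  obtain ⟨a, ha⟩ := h.symm.ac i
  let C := (centralizer Γ).subgroupOf (CC t)
  have hC : ∀ u : CC t, u ∈ C ↔ Kc Γ u := fun u => ⟨fun k d hd => (k d hd).symm, fun k d hd => (k d hd).symm⟩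
  have : C.Normal := ⟨fun u hu g => (hC _).2 (h.s2.kcj (mem_CC.1 g.2) ((hC u).1 hu))⟩
  have h2 := eq_of_core ((map_eq_bot_iff_of_injective _ (CC t).subtype_injective).1 hO) (C := C)
    (z := pt t) ((hC _).2 h.s2.dl.kz) (fun g => Subtype.ext (mem_CC.1 g.2)) (Subtype.ext h.s2.dl.sq)
    (fun u hu e => (h.l4 ((hC u).1 hu) (congrArg Subtype.val e)).imp Subtype.ext Subtype.ext)
    ⟨_, mem_CC.2 (ha.kc.clo h.s2.dl.mem)⟩ ((hC _).2 ha.kc)
  rcases h2 with e | e <;> rw [inv_mul_eq_iff_eq_mul.1 (congrArg Subtype.val e)]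
  exacts [mul_mem ha.1 (one_mem _), mul_mem ha.1 h.s2.dl.mem]

end Mi

theorem St.cz (md : MD) (h : St z Δ) (hO : Cfsg.centralizerPPrimeCore 2 z = ⊥) (h1 : cj g z ≠ z)
    (h2 : Commute z (cj g z)) :
    Cz z Δ ∧ ∃ k, cj k z ≠ z ∧ cj k z ∈ closure Δ ∧ cj k⁻¹ z ∈ closure Δ := by
  obtain ⟨k, k1, k2, k3, k4⟩ := h.mi h1 h2
  have m : Mi z Δ (cj k z) (cj k '' Δ) := ⟨md, h, h.cjg k, k1.symm, k2, k3,
    cj_cj_inv k z ▸ in_cj.2 k4, fun u => h.kk k1⟩
  exact ⟨m.symm.cz hO, k, k1, m.l3, clo_iff.1 (by rw [cj_cj_inv]; exact m.symm.l3)⟩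

end H17.F35
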