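import Mathlib
import Cfsg.Prelude.Def_Local
import Cfsg.Agent.H17.ZStar
import Cfsg.Agent.H17.F35H

/-! Standard subgroup `2 · Fi₂₂`: the points are conjugate to the central involution. -/

set_option autoImplicit false
set_option linter.unusedVariables false
set_option linter.unusedSectionVars false

namespace H17.F35

open H0 hiding CC
open H29 hiding dec
open Subgroup H9.FB H9.FB.A2

export H0 (cj cj_cj cj_cj_inv cj_inv_cj cj_mul cj_one)

section
variable {K L X : Type*} [Group K] [Group L] [Group X]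

theorem mem_zp {t g : K} (h : t * t = 1) : g ∈ zpowers t ↔ g = 1 ∨ g = t := by
  refine ⟨?_, by rintro (rfl | rfl); exacts [one_mem _, mem_zpowers _]⟩
  rintro ⟨n, rfl⟩
  rcases Int.even_or_odd' n with ⟨m, rfl | rfl⟩
  · left; simp only [zpow_mul, zpow_two, h, one_zpow]
  · right; simp only [zpow_add, zpow_mul, zpow_two, h, one_zpow, one_mul, zpow_one]

theorem perf_of_surj (f : L →* X) (hf : Function.Surjective f) (h : commutator L = ⊤) : commutator X = ⊤ := by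
  have := congrArg (Subgroup.map f) h
  rwa [map_commutator_eq, ← MonoidHom.range_eq_map, MonoidHom.range_eq_top.2 hf, ← commutator_def] at this

theorem ce22 [Finite K] {t s r : K} (j : L →* K) (hj : Function.Injective j) {t' s' : L} (jt : j t' = t)
    (js : j s' = s) (ht : t * t = 1) (hs : s * s = 1) (cen : ∀ k, Commute t k) (t1 : t ≠ 1) (s1 : s ≠ 1) (st : s ≠ t)
    (rng : ∀ k, Commute k s → k ∈ j.range) (nst : ∀ k, cj k s ≠ t * s) (sc : ∀ l, Commute s' l)
    (r1 : cj r s ≠ s) (r2 : Commute s (cj r s)) (θ : L →* Cfsg.PSU 6 H9.F4 2) (h1 : Function.Surjective θ)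
    (h2 : ∀ k, θ k = 1 ↔ k = 1 ∨ k = t' ∨ k = s' ∨ k = s' * t') (h3 : commutator L = ⊤) :
    ∃ θ : K →* Fi22.P.G, CE θ t := by
  have : (zpowers t).Normal := ⟨fun n hn g => by
    rcases (mem_zp ht).1 hn with rfl | rfl
    · simp
    · rw [← (cen g).eq, mul_inv_cancel_right]; exact mem_zpowers _⟩
  let π := QuotientGroup.mk' (zpowers t)
  have πs : Function.Surjective π := QuotientGroup.mk'_surjective _
  have πk : ∀ k, π k = 1 ↔ k = 1 ∨ k = t := fun k => (QuotientGroup.eq_one_iff k).trans (mem_zp ht)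
  have πe : ∀ a b, π a = π b → a = b ∨ a = t * b := fun a b e => by
    rcases (πk (a * b⁻¹)).1 (by rw [map_mul, map_inv, e, mul_inv_cancel]) with e | e
    exacts [Or.inl (mul_inv_eq_one.1 e), Or.inr (mul_inv_eq_iff_eq_mul.1 e)]
  let f : L →* CC (π s) := (π.comp j).codRestrict _ fun l => mem_CC.2 (js ▸ ((sc l).symm.map j).map π)
  have fs : Function.Surjective f := fun ⟨x, hx⟩ => by
    obtain ⟨k, rfl⟩ := πs x
    obtain ⟨l, rfl⟩ := rng k (cj_eq_self.1 ((πe _ _ (by rw [map_cj, cj_of_commute (mem_CC.1 hx)])).resolve_right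
      (nst k)))
    exact ⟨l, rfl⟩
  have fk : ∀ a b, f a = f b ↔ a = b ∨ a = t' * b := fun a b => ⟨fun e => by
    rcases πe _ _ (congrArg Subtype.val e) with e | e
    exacts [Or.inl (hj e), Or.inr (hj (by rw [e, map_mul, jt]))], by
      rintro (rfl | rfl)
      · rfl
      · exact Subtype.ext (show π (j _) = π (j _) by rw [map_mul, map_mul, jt, (πk t).2 (Or.inr rfl), one_mul])⟩
  let θ' := f.liftOfSurjective fs ⟨θ, fun l hl => by
    rcases (fk l 1).1 (hl.trans (map_one f).symm) with e | e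
    exacts [(h2 l).2 (Or.inl e), (h2 l).2 (Or.inr (Or.inl (e.trans (mul_one _))))]⟩
  have θf : ∀ l, θ' (f l) = θ l := fun l => MonoidHom.liftOfRightInverse_comp_apply _ _ _ _ l
  have fδ : f s' = pt (π s) := Subtype.ext (congrArg π js)
  have c : Cen (CC (π s)).subtype (pt (π s)) := ⟨Subtype.val_injective, fun g hg => ⟨⟨g, mem_CC.2 hg⟩, rfl⟩⟩
  have h : CE θ' (pt (π s)) := ⟨fun x => let ⟨l, e⟩ := h1 x; ⟨f l, (θf l).trans e⟩, fun k => by
      obtain ⟨l, rfl⟩ := fs k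
      rw [θf, h2, ← fδ, ← map_one f, fk, fk, mul_one, or_assoc, (sc t').eq],
    fun k => commute_coe.1 (mem_CC.1 k.2).symm, Subtype.ext (show π s * π s = 1 by rw [← map_mul, hs, map_one]),
    fun e => ((πk s).1 (congrArg Subtype.val e)).elim s1 st, perf_of_surj f fs h3⟩
  obtain ⟨Δ, C, k, U, e⟩ := loc22 c H9.F4.card h ⟨π (cj r s), ⟨π r, (map_cj π r s).symm⟩,
    fun e => (πe _ _ e).elim r1 (nst r), r2.map π⟩
  obtain ⟨ψ, g1, g2, g, g3⟩ := (c.f22 k U e).hom (c.ws k) (Cl.self _) (c.hZ k e)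
  have := Fi22.simple
  have := Fi22.bd.1
  obtain ⟨i⟩ := c.final k e ψ g1 g3 (by rw [Cl.cj]; exact fi22_facts.2.1) g2
    (par_of (perf_of_simple fi22_cen) (Or.inl (by rw [Cl.cj, fi22_facts.2.2])))
  let φ := MulEquiv.ofBijective ψ (g1.bijective_of_nat_card_le (Nat.card_congr i.toEquiv).le)
  have sj : Function.Surjective (φ.symm.toMonoidHom.comp π) := φ.symm.surjective.comp πs
  refine ⟨φ.symm.toMonoidHom.comp π, sj, fun k => φ.symm.map_eq_one_iff.trans (πk k), cen, ht, t1, ?_⟩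
  have tm : t ∈ commutator K := by
    rw [← jt]
    exact (map_commutator_eq L j ▸ commutator_mono le_top le_top : (commutator L).map j ≤ commutator K)
      ⟨t', h3 ▸ mem_top _, rfl⟩
  refine eq_top_iff.2 fun k _ => ?_
  have := perf_of_simple fi22_cen ▸ mem_top (φ.symm.toMonoidHom.comp π k)
  rw [_root_.commutator_def, ← MonoidHom.range_eq_top.2 sj, ← map_commutator_eq] at this
  obtain ⟨m, hm, e⟩ := this
  rcases πe _ _ (φ.symm.injective e.symm) with rfl | rfl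
  exacts [hm, mul_mem tm hm]

end

variable {G : Type*} [Group G] [Finite G] {z r g s d e : G} {Δ : Set G}

theorem DL.th22 (h : DL z Δ) (hd : d ∈ Δ) : ∃ θ : closure Δ →* Fi22.P.G, Function.Surjective θ ∧
    (∀ k, θ k = 1 ↔ (k : G) = 1 ∨ k = z) ∧ θ ⟨d, subset_closure hd⟩ = Fi22.P.e 0 := by
  have L := h.lq
  obtain ⟨ι, hι, rfl, rfl⟩ := h
  obtain ⟨e, he⟩ := exists_e hι
  obtain ⟨θ, c, c0, -⟩ := th0
  obtain ⟨l, hl, k⟩ := L.trans ⟨y0, y0_mem, rfl⟩ hd
  let β := e.trans (MulAut.conj ⟨l, hl⟩)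
  have hβ : ∀ x, (β x : G) = cj l (ι x) := fun x => he x ▸ rfl
  refine ⟨θ.comp β.symm.toMonoidHom, c.surj.comp β.symm.surjective, fun x => ?_, ?_⟩
  · obtain ⟨x, rfl⟩ := β.surjective x
    have : cj l (ι (pt t23)) = ι (pt t23) := by
      obtain ⟨y, hy⟩ := e.surjective ⟨l, hl⟩
      rw [show l = ι y by rw [← he, hy], ← map_cj, cj_of_commute (c.cen y).symm]
    rw [hβ, ← this, cj_inj, hι.eq_iff, cj, conj_eq_one_iff, map_eq_one_iff _ hι, ← c.ker]
    simp
  · rw [← c0, show (⟨d, subset_closure hd⟩ : closure (Rs ι)) = β y0 from Subtype.ext (by rw [hβ, k])]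
    simp

theorem DL.theta0 {X U : Type*} [Group X] [Group U] (h : DL z Δ) (hd : d ∈ Δ) {θ : closure Δ →* X} {x0 : X}
    (t1 : Function.Surjective θ) (t2 : ∀ k, θ k = 1 ↔ (k : G) = 1 ∨ k = z) (t3 : θ ⟨d, subset_closure hd⟩ = x0)
    {θ2 : CC x0 →* U} (c : CE θ2 (pt x0)) : ∃ θ : closure (Dx Δ d) →* U,
    Function.Surjective θ ∧ ∀ k, θ k = 1 ↔ (k : G) = 1 ∨ k = d ∨ k = z ∨ k = z * d := by
  have sub : closure (Dx Δ d) ≤ closure Δ := closure_mono fun _ k => k.1
  have eq : ∀ k, θ k = x0 ↔ (k : G) = d ∨ k = z * d := fun k => by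
    rw [← t3, ← mul_inv_eq_one, ← map_inv, ← map_mul, t2]
    simp [mul_inv_eq_iff_eq_mul]
  have cm : ∀ k : closure (Dx Δ d), θ (inclusion sub k) ∈ CC x0 := fun k => mem_CC.2 (by
    have : Commute (inclusion sub k) ⟨d, subset_closure hd⟩ := Subtype.ext (PTT.commute_of_mem_closure k.2).eq
    rw [← t3]; exact this.map θ)
  obtain ⟨f, hf⟩ : ∃ f : closure (Dx Δ d) →* CC x0, ∀ k, (f k : X) = θ (inclusion sub k) :=
    ⟨(θ.comp (inclusion sub)).codRestrict _ cm, fun _ => rfl⟩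
  refine ⟨θ2.comp f, c.surj.comp fun ⟨x, hx⟩ => ?_, fun k => ?_⟩
  · obtain ⟨k, rfl⟩ := t1 x
    have := (eq (cj k ⟨d, subset_closure hd⟩)).1 (by rw [map_cj, t3, cj_of_commute (mem_CC.1 hx)])
    replace this : cj (k : G) d = d ∨ cj (k : G) d = z * d := this
    exact ⟨⟨k, h.gen1 hd k.2 (cj_eq_self.1 (this.resolve_right fun e => h.nm hd (by
      rw [← e]; exact h.lq.conj hd k.2)))⟩, Subtype.ext (hf _)⟩
  · rw [MonoidHom.comp_apply, c.ker, Subtype.ext_iff, Subtype.ext_iff, hf]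
    change θ (inclusion sub k) = 1 ∨ θ (inclusion sub k) = x0 ↔ _
    rw [t2, eq, coe_inclusion, or_assoc, or_left_comm (a := (k : G) = z)]

theorem Cz.d1a (h : Cz z Δ) (hbal : ∀ t : G, orderOf t = 2 → Cfsg.centralizerPPrimeCore 2 t = ⊥)
    (hd : d ∈ Δ) (n : ∀ k, cj k z ≠ d * z) : Nonempty (G ≃* F23) ∨ ∀ g, Commute g d → Commute g z := by
  have D := h.dl
  have d2 := D.lq.sq hd
  have d1 : d ≠ 1 := fun k => (D.nsqT (one_mem _) hd).1 (by rw [k, mul_one])
  let s : CC d := ⟨z, mem_CC.2 (D.cen1 hd)⟩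
  by_cases k : ∀ g : CC d, Commute s (g * s * g⁻¹) → g * s * g⁻¹ = s
  · have : Fact (Nat.Prime 2) := ⟨Nat.prime_two⟩
    exact Or.inr fun g hg => (commute_coe.2 (H17.zstar_central
      ((map_eq_bot_iff_of_injective _ (CC d).subtype_injective).1 (hbal d (orderOf_eq_prime (by rwa [pow_two]) d1)))
      ⟨orderOf_eq_prime (Subtype.ext (by simpa [s, pow_two] using D.sq)) fun e => D.ne (congrArg Subtype.val e), k⟩
      ⟨g, mem_CC.2 hg⟩)).symm
  push Not at k
  obtain ⟨r, r2, r1⟩ := k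
  obtain ⟨θ0, a1, a2, a3⟩ := D.th22 hd
  obtain ⟨-, θ2, c2⟩ := f22a
  obtain ⟨θ, t1, t2⟩ := D.theta0 hd a1 a2 a3 c2
  have le : closure (Dx Δ d) ≤ CC d := fun x hx => mem_CC.2 (PTT.commute_of_mem_closure hx)
  obtain ⟨θ', c⟩ := ce22 (t := pt d) (s := s) (r := r) (inclusion le) (inclusion_injective le)
    (t' := ⟨d, D.gen1 hd (subset_closure hd) (Commute.refl d)⟩) (s' := ⟨z, D.gen1 hd D.mem (D.cen1 hd)⟩) rfl rfl
    (Subtype.ext d2) (Subtype.ext D.sq) (fun k => commute_coe.1 (mem_CC.1 k.2).symm)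
    (fun e => d1 (congrArg Subtype.val e)) (fun e => D.ne (congrArg Subtype.val e))
    (fun e => D.nm0 ((congrArg Subtype.val e).symm ▸ hd : (s : G) ∈ Δ))
    (fun k hk => ⟨⟨k, h.of_fix (commute_coe.2 hk) hd (mem_CC.1 k.2)⟩, rfl⟩)
    (fun k e => n k (congrArg Subtype.val e))
    (fun l => commute_coe.1 (D.cen (closure_mono (fun _ k => k.1) l.2))) r1 r2 θ t1
    (fun k => by simp only [t2, Subtype.ext_iff, coe_one, coe_mul]) (map_injective (subtype_injective _) (by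
      rw [map_subtype_commutator, D.perf1 hd, ← MonoidHom.range_eq_map, range_subtype]))
  obtain ⟨e, he⟩ := D.lq.Dx_ne hd
  obtain ⟨l, -, k⟩ := D.lq.trans hd he.1
  exact Or.inl (fi23_main (ι := (CC d).subtype) (δ := pt d) ⟨Subtype.val_injective, fun g hg => ⟨⟨g, mem_CC.2 hg⟩, rfl⟩⟩ c ⟨e, ⟨l, k⟩, he.2⟩)

theorem Cz.d1 (h : Cz z Δ) (hbal : ∀ t : G, orderOf t = 2 → Cfsg.centralizerPPrimeCore 2 t = ⊥)
    (hr : Commute r z) (ho : Out z Δ r) (h1 : cj g z ≠ z) (h2 : cj g z ∈ closure Δ)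
    (h3 : cj g⁻¹ z ∈ closure Δ) : Nonempty (G ≃* F23) ∨ ∃ k, cj k z ∈ Δ := by
  have D := h.dl
  refine or_iff_not_imp_left.2 fun n0 => by_contra fun n => ?_
  push Not at n
  have n' : ∀ k, z * cj k z ∉ Δ := fun k m => by
    obtain ⟨d, hd, e⟩ := (D.oimg ho).ge ⟨_, m, rfl⟩
    exact n (r⁻¹ * k) (by rwa [← cj_cj, ← e.trans (D.zz _), cj_inv_cj])
  have A : ∀ d ∈ Δ, ∀ g, Commute g d → Commute g z := fun d hd => (h.d1a hbal hd fun k e =>
    n' k (by rwa [e, ← (D.cen1 hd).eq, D.zz])).resolve_left n0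
  have B : ∀ d, d ∈ Δ ∨ z * d ∈ Δ → ∀ g, Commute g d → Commute g z := by
    rintro d (hd | hd) g c
    · exact A d hd g c
    · obtain ⟨x, hx, e⟩ := (D.oimg ho).ge ⟨_, hd, rfl⟩
      rw [← cj_of_commute hr, ← cj_cj_inv r g, commute_cj]
      exact A x hx _ (by rwa [← commute_cj (g := r), e.trans (D.zz _), cj_cj_inv])
  have C := h.cjg g
  have O : ∀ f ∈ Δ, Commute f (cj g z) → Commute f (cj g z) ∧ Out (cj g z) (cj g '' Δ) f := fun f hf c => by
    refine ⟨c, (C.cen f c).resolve_left fun m => ?_⟩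
    have k := C.dl.of_nsq m (D.lq.sq hf) (fun e => n g (e ▸ hf)) fun y _ e => by
      have c1 : Commute y f := e ▸ (Commute.refl y).mul_right (Commute.refl y)
      exact (D.nsqT (closure_mono (fun _ k => k.1) (h.of_fix (A f hf y c1) hf c1)) hf).1 e
    rw [← cj_cj_inv g f, ← cj_mul, (cj_injective g).mem_set_image, (cj_injective g).mem_set_image] at k
    rcases D.zen1 hf h2 fun w hw => by
      rw [← cj_cj_inv g w, commute_cj]
      exact (B _ k _ (commute_cj.2 hw.2.2.symm)).symm with e | e | e | e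
    exacts [C.dl.ne e, h1 e, n g (e ▸ hf), n' g (by rwa [e, D.zz])]
  obtain ⟨y, e1, hy⟩ := D.inv h2 C.dl.sq
  have zm : z ∈ closure (cj g '' Δ) := by simpa only [cj_cj_inv] using clo_cj g h3
  have ym : In (cj g '' Δ) y := C.dl.inn (by
    rcases e1 with e | e
    exacts [e ▸ C.dl.mem, D.zz y ▸ e ▸ mul_mem zm C.dl.mem])
  have cy : ∀ f ∈ Δ, Commute f y → Commute f (cj g z) := fun f hf c => by
    rcases e1 with e | e <;> rw [e]
    exacts [c, (D.cen1 hf).symm.mul_right c]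
  rcases hy with rfl | hy | ⟨a, ha, b, hb, rfl⟩ | ⟨a, b, c, t, rfl⟩
  · exact e1.elim C.dl.ne fun e => h1 (e.trans (mul_one z))
  · exact e1.elim (fun e => n g (e ▸ hy)) fun e => n' g (by rwa [e, D.zz])
  · obtain ⟨l, l1, l2, l3, l4⟩ := D.hept ha hb
    simp only [List.pairwise_cons, List.forall_mem_cons] at l2
    refine C.dl.nio (g := (a :: b :: l).prod) (by
      rw [List.prod_cons, List.prod_cons, ← mul_assoc, l4]; exact C.dl.inn (one_mem _))
      ((C.dl.oprod _ ?_).2 (by simp [l3]; decide))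
    simp only [List.forall_mem_cons]
    exact ⟨O a ha (cy a ha ((Commute.refl a).mul_right hb.2.2)),
      O b hb.1 (cy b hb.1 (hb.2.2.symm.mul_right (Commute.refl b))),
      fun x hx => O x (l1 x hx) (cy x (l1 x hx) ((l2.1.2 x hx).symm.mul_right (l2.2.1 x hx).symm))⟩
  · obtain ⟨⟨m1, m2, m3⟩, -, c1, c2, c3⟩ := t3_iff.1 t
    refine C.dl.nio (g := [a, b, c].prod) (by simpa [mul_assoc] using ym) ((C.dl.oprod _ ?_).2 (by simp; decide))
    simp only [List.forall_mem_cons, List.not_mem_nil, IsEmpty.forall_iff, implies_true, and_true]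
    exact ⟨O a m1 (cy a m1 (((Commute.refl a).mul_right c1).mul_right c2)),
      O b m2 (cy b m2 ((c1.symm.mul_right (Commute.refl b)).mul_right c3)),
      O c m3 (cy c m3 ((c2.symm.mul_right c3.symm).mul_right (Commute.refl c)))⟩

end H17.F35
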