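import Mathlib
import Cfsg.Agent.H17.F35J

/-! Standard subgroup `2 · Fi₂₂`: the triality element. -/

set_option autoImplicit false
set_option linter.unusedVariables false
set_option linter.unusedSectionVars false

namespace H17.F35

open H0 hiding CC
open H29 hiding dec
open Subgroup H9.FB H9.FB.A2

local notation "ee" => Fi23.P.e
local notation "Δ₀" => Dx D23 t23

variable {G : Type*} [Group G] [Finite G] {z r g s d e a b c x : G} {Δ : Set G}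

/-- The conjugates of `x` under `closure H` are `3`-transpositions. -/
def Gd (H : Set G) (x : G) : Prop := ∀ k ∈ closure H, (x * cj k x) ^ 2 = 1 ∨ (x * cj k x) ^ 3 = 1

theorem cj_pow (g x : G) (n : ℕ) : cj g x ^ n = cj g (x ^ n) := conj_pow
theorem cj_eq_one {g x : G} : cj g x = 1 ↔ x = 1 := conj_eq_one_iff

theorem t3l {a b c : ℕ} (h : a < 9 ∧ b < 9 ∧ c < 9 ∧ a ≠ b ∧ a ≠ c ∧ b ≠ c ∧
    ∀ p ∈ [(a, b), (a, c), (b, c)], p ∉ A342 ∧ p.swap ∉ A342) : T3 Δ₀ (ee a) (ee b) (ee c) := by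
  obtain ⟨h1, h2, h3, h4, h5, h6, k⟩ := h
  simp only [List.forall_mem_cons, Prod.swap_prod_mk] at k
  exact t3_iff.2 ⟨⟨e_dx h1, e_dx h2, e_dx h3⟩, ⟨ne_l _ h1 _ h2 h4, ne_l _ h1 _ h3 h5, ne_l _ h2 _ h3 h6⟩,
    cm_l ⟨by omega, by omega, k.1⟩, cm_l ⟨by omega, by omega, k.2.1⟩, cm_l ⟨by omega, by omega, k.2.2.1⟩⟩

theorem Xc.npow {X : F23 → G} (h : Xc X z Δ) {w : List ℕ} (hw : ∀ c ∈ w, c < 9) {n : ℕ}
    (k : ev ee (powW n w) ≠ 1) : (w.map fun c => X (ee c)).prod ^ n ≠ 1 := fun e => k (by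
  have h1 : ∀ x ∈ w.map ee, Commute x t23 := by
    simpa only [List.forall_mem_map] using fun c hc => c0 (e_dx (hw c hc))
  have h2 := Commute.list_prod_left _ _ h1
  have h3 : ev ee w = (w.map ee).prod := by clear * -; induction w <;> simp_all [ev_cons]
  have h4 := h.prod (List.replicate n (w.map ee).prod) fun x hx => by rw [List.eq_of_mem_replicate hx]; exact h2
  rw [List.map_replicate, List.prod_replicate, List.prod_replicate, h.prod _ h1, List.map_map] at h4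
  rw [ev_powW, h3]
  exact h.inj (h2.pow_left n) (Commute.one_left _) (h4.trans (e.trans h.one.symm)))

namespace DL
variable (h : DL z Δ)
include h

theorem chart8 (hs : s ∈ Δ) : ∃ X, Xc X z Δ ∧ X (ee 8) = s := by
  obtain ⟨X, c⟩ := h.chart
  obtain ⟨l, hl, rfl⟩ := h.lq.trans (c.mem (e_dx (c := 8) (by decide))) hs
  exact ⟨fun a => cj l (X a), ⟨fun a b => by rw [c.mul a b, cj_mul], fun a b e => c.inj a b (cj_inj.1 e),
    by rw [c.xz, cj_of_commute (h.cen hl).symm], by rw [← Set.image_image, c.im, (h.inn hl).img], fun g => by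
      rw [← (h.inn hl).img, ← cj_cj_inv l g, clo_iff, c.clo]
      simp only [cj_inj]⟩, rfl⟩

theorem p2prop (t : T3 Δ s a b) : ¬ Gd (Dx Δ s) (a * b) := fun n => by
  obtain ⟨X, c⟩ := h.chart
  have tl : ∀ {a b c}, T3 Δ₀ a b c → T3 Δ (X a) (X b) (X c) := fun t => (c.t3 t.1 t.2.1.1 t.2.2.1.1).2 t
  obtain ⟨l, hl, rfl, rfl, rfl⟩ := t3_tr h.lq h.f22 (tl (t3l (a := 8) (b := 0) (c := 2) (by decide))) t
  obtain ⟨k, hk, k1, k2, k3⟩ := t3_tr h.lq h.f22 t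
    ((tl (t3l (a := 8) (b := 1) (c := 3) (by decide))).cj fun x hx => h.lq.conj hx hl)
  have := n k (h.gen1 t.1 hk (cj_eq_self.1 k1))
  rw [cj_mul, k2, k3, ← cj_mul, ← cj_mul, ← cj_mul, cj_pow, cj_pow, cj_eq_one, cj_eq_one] at this
  refine this.elim (fun e => c.npow (w := [0, 2, 1, 3]) (n := 2) (by decide) (nw _ (by simp)) ?_)
    fun e => c.npow (w := [0, 2, 1, 3]) (n := 3) (by decide) (nw _ (by simp)) ?_ <;>
    simpa only [List.map, List.prod_cons, List.prod_nil, mul_one, mul_assoc] using e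

theorem p3prop (hs : s ∈ Δ) (t : I3 (Dx Δ s) a b c) : ¬ Gd (Dx Δ s) (a * b * c) := fun n => by
  obtain ⟨X, C, rfl⟩ := h.chart8 hs
  obtain ⟨L, U⟩ := h.f22 _ hs
  obtain ⟨π, hπ⟩ := L.exists_um U
  have tl : ∀ {a b c}, T3 Δ₀ a b c → T3 Δ (X a) (X b) (X c) := fun t => (C.t3 t.1 t.2.1.1 t.2.2.1.1).2 t
  have i3 : ∀ {a b c w : ℕ}, T3 Δ₀ (ee 8) (ee a) (ee b) → T3 Δ₀ (ee 8) (ee a) (ee c) → T3 Δ₀ (ee 8) (ee b) (ee c) →
      T3 Δ₀ (ee 8) (ee a) (ee w) → T3 Δ₀ (ee 8) (ee b) (ee w) → (c < 9 ∧ w < 9 ∧ c ≠ w ∧ (c, w) ∈ A342) →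
      I3 (Dx Δ (X (ee 8))) (X (ee a)) (X (ee b)) (X (ee c)) := fun t1 t2 t3 t4 t5 k =>
    ⟨(tl t1).2.1, (tl t1).2.2, (tl t2).2.2.1, (tl t2).2.2.2.2, (tl t3).2.2.2.2, fun e => by
      have := (C.comm (c0 t4.2.2.1.1) (c0 t2.2.2.1.1)).1
        (e.2 _ (tl t4).2.2.1 (tl t4).2.2.2.2.symm (tl t5).2.2.2.2.symm)
      have b := br_l ⟨by omega, by omega, k.2.2.2⟩
      rw [cj_of_commute this, cj_of_commute this.symm] at b
      exact ne_l _ k.1 _ k.2.1 k.2.2.1 b.symm⟩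
  obtain ⟨k1, m1, e1⟩ := hπ.i3_std L t
  obtain ⟨k2, m2, e2⟩ := hπ.i3_std L (i3 (a := 0) (b := 2) (c := 4) (w := 5) (t3l (by decide)) (t3l (by decide))
    (t3l (by decide)) (t3l (by decide)) (t3l (by decide)) (by decide))
  obtain ⟨k3, m3, e3⟩ := hπ.i3_std L (i3 (a := 1) (b := 3) (c := 5) (w := 6) (t3l (by decide)) (t3l (by decide))
    (t3l (by decide)) (t3l (by decide)) (t3l (by decide)) (by decide))
  have := n _ (mul_mem (mul_mem (mul_mem (inv_mem m1) m2) (inv_mem m3)) m1)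
  rw [← cj_cj, e1, ← cj_cj, ← e3, cj_inv_cj, ← cj_inv_cj k1 (a * b * c), e1, ← e2, cj_cj, ← cj_mul, cj_pow, cj_pow,
    cj_eq_one, cj_eq_one] at this
  refine this.elim (fun e => C.npow (w := [0, 2, 4, 1, 3, 5]) (n := 2) (by decide) (nw _ (by simp)) ?_)
    fun e => C.npow (w := [0, 2, 4, 1, 3, 5]) (n := 3) (by decide) (nw _ (by simp)) ?_ <;>
    simpa only [List.map, List.prod_cons, List.prod_nil, mul_one, mul_assoc] using e

theorem gd_mul (hc : c * c = 1) (k : Kc (Dx Δ s) c) (cx : Commute c x) (n : Gd (Dx Δ s) (c * x)) :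
    Gd (Dx Δ s) x := fun l hl => by
  have := n l hl
  rwa [cj_mul, cj_of_commute (k.clo hl).symm, cx.symm.mul_mul_mul_comm, hc, one_mul] at this

theorem of_gd0 (hs : s ∈ Δ) (c : Commute s x) (n : Gd (Dx Δ s) x) (hx : x ∈ Δ ∨ P2 Δ x ∨ P3 Δ x) :
    x = s ∨ x ∈ Dx Δ s ∨ s * x ∈ Dx Δ s := by
  have s2 := h.lq.sq hs
  have ks : Kc (Dx Δ s) s := fun _ k => k.2.2
  have ss : ∀ y, s * (s * y) = y := fun y => by rw [← mul_assoc, s2, one_mul]
  rcases hx with hx | ⟨a, ha, b, hb, rfl⟩ | ⟨a, b, d, t, rfl⟩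
  · exact (em _).imp_right fun k => Or.inl ⟨hx, k, c⟩
  · obtain ⟨c1, c2⟩ := h.ts.c2 ha hb hs c
    refine Or.inr (Or.inr ?_)
    by_cases e1 : a = s
    · rwa [e1, ss, ← e1]
    by_cases e2 : b = s
    · rw [hb.2.2.eq, e2, ss]; exact ⟨ha, e1, c1⟩
    exact absurd n (h.p2prop ⟨hs, ⟨ha, e1, c1⟩, ⟨hb.1, e2, c2⟩, hb.2⟩)
  exfalso
  have r1 := t3_rot t
  have r2 := t3_rot r1.1
  have key : ∀ {a' b' d'}, T3 Δ a' b' d' → a' * b' * d' = a * b * d → a' ≠ s := by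
    rintro a' b' d' t' e rfl
    exact h.p2prop t' (h.gd_mul s2 ks (t'.2.1.2.2.mul_right t'.2.2.1.2.2) (by rwa [← mul_assoc, e]))
  obtain ⟨c1, c2, c3⟩ := h.ts.c3 t hs c
  have m1 : a ∈ Dx Δ s := ⟨t.1, key t rfl, c1⟩
  have m2 : b ∈ Dx (Dx Δ s) a := ⟨⟨t.2.1.1, key r1.1 r1.2, c2⟩, t.2.1.2⟩
  have m3 : d ∈ Dx Δ s := ⟨t.2.2.1.1, key r2.1 (r2.2.trans r1.2), c3⟩
  refine h.p3prop hs ⟨m1, m2, m3, t.2.2.1.2.2, t.2.2.2.2, fun l => ?_⟩ n
  obtain ⟨p, q, w, t', e1, e2⟩ := h.hex ⟨hs, m1, m2⟩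
  have := h.hexL ⟨hs, m1, m2⟩ t' e1 e2 m3.1 fun v hv f1 f2 f3 => (em (v = s)).elim (fun k => k ▸ c3)
    fun k => l.2 v ⟨hv, k, f1.symm⟩ f2 f3
  have k2 : ∀ {q w}, T3 Δ d q w → s * a * b * (d * q * w) = z → (Commute s q ∧ s ≠ q) →
      (Commute s w ∧ s ≠ w) → False := fun {q w} t1 f1 f2 f3 => by
    have t2 : T3 Δ s q w := ⟨hs, ⟨t1.2.1.1, f2.2.symm, f2.1⟩, ⟨t1.2.2.1.1, f3.2.symm, f3.1⟩, t1.2.2.2⟩
    have p2 := h.p2_sq ⟨q, t1.2.1.1, w, ⟨t1.2.2.1.1, t1.2.2.2⟩, rfl⟩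
    refine h.p2prop t2 (h.gd_mul s2 ks (f2.1.mul_right f3.1) (h.gd_mul h.sq (fun _ k => h.cen1 k.1)
      ((h.cen1 hs).mul_right (h.cen p2.2)) ?_))
    rwa [(h.cen1 hs).left_comm, ← f1, mul_assoc s, mul_assoc s, mul_assoc s, ss, mul_assoc d, ← mul_assoc (a * b),
      mul_assoc _ (q * w), p2.1, mul_one]
  simp only [List.mem_cons, List.not_mem_nil, or_false] at this
  simp only [List.forall_mem_cons] at e2
  obtain ⟨⟨d1, d2, d3, -⟩, -⟩ := e2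
  have q1 := t3_rot t'
  have q2 := t3_rot q1.1
  rcases this with k | k | k | rfl | rfl | rfl
  exacts [m3.2.1 k, t.2.2.1.2.1 k, t.2.2.2.1 k, k2 t' e1 d2 d3, k2 q1.1 (q1.2 ▸ e1) d3 d1,
    k2 q2.1 (q2.2 ▸ q1.2 ▸ e1) d1 d2]

end DL

theorem Cz.comm_mem (h : Cz z Δ) (ha : Commute a z) (hb : Commute b z) : a * b * a⁻¹ * b⁻¹ ∈ closure Δ := by
  rcases h.cen a ha with k | k
  · simpa only [cj, mul_assoc] using mul_mem k (h.clo hb (inv_mem k))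
  rcases h.cen b hb with l | l
  · exact mul_mem (h.clo ha l) (inv_mem l)
  simpa only [mul_assoc, mul_inv_rev] using mul_mem (h.of_in (ha.mul_left hb)
    (h.dl.omul ha k l)) (inv_mem (h.of_in (hb.mul_left ha) (h.dl.omul hb l k)))

theorem Cz.swap (h : Cz z Δ) (hr : Commute r z) (ho : Out z Δ r) (hg : cj g z ∈ Δ) (hs : s ∈ Δ) :
    ∃ σ, cj σ z = s ∧ cj σ s = z := by
  have D := h.dl
  obtain ⟨l, -, e⟩ := D.lq.trans hg hs
  rw [cj_cj] at e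
  generalize l * g = g at e
  subst e
  have C := h.cjg g
  have m : z ∈ closure (cj g '' Δ) := by
    have := D.gen1 hs D.mem (D.cen1 hs)
    rw [← D.perf1 hs] at this
    exact (commutator_le.2 fun a ha b hb => C.comm_mem (PTT.commute_of_mem_closure ha)
      (PTT.commute_of_mem_closure hb)) this
  obtain ⟨k, k1, d, hd, k2⟩ : ∃ k, cj k z = cj g z ∧ z ∈ cj k '' Δ := by
    rcases C.dl.of_nsq m D.sq (fun e => D.nm0 (e ▸ hs)) fun y hy e => D.nsq (closure_mono (fun _ k => k.1)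
      (h.of_fix (e ▸ (Commute.refl y).mul_right (Commute.refl y)) hs (C.dl.cen hy).symm)) e with k | ⟨d, hd, k⟩
    · exact ⟨g, rfl, k⟩
    · obtain ⟨x, hx, e⟩ := (D.oimg ho).ge ⟨d, hd, rfl⟩
      exact ⟨g * r, by rw [← cj_cj, cj_of_commute hr], x, hx, by rw [← cj_cj, e, cj_mul, k, C.dl.zz]⟩
  obtain ⟨l, hl, e⟩ := D.lq.trans hs hd
  exact ⟨k * l, by rw [← cj_cj, cj_of_commute (D.cen hl).symm, k1], by rw [← cj_cj, e, k2]⟩

theorem Cz.tri (h : Cz z Δ) (hr : Commute r z) (ho : Out z Δ r) (hg : cj g z ∈ Δ) (hs : s ∈ Δ) :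
    ∃ σ, cj σ z = s ∧ cj σ s = z ∧ cj σ '' Dx Δ s = Dx Δ s := by
  have D := h.dl
  obtain ⟨σ, s1, s2⟩ := h.swap hr ho hg hs
  refine ⟨σ, s1, s2, Set.eq_of_subset_of_ncard_le ?_ (Set.ncard_image_of_injective _ (cj_injective σ)).ge⟩
  have L := (D.f22 s hs).1
  have sub : closure (Dx Δ s) ≤ closure Δ := closure_mono fun _ k => k.1
  have key : ∀ σ, cj σ z = s → cj σ s = z → ∀ k ∈ closure (Dx Δ s), cj σ k ∈ closure (Dx Δ s) :=
    fun σ s1 s2 k hk => h.of_fix (s2 ▸ commute_cj.2 (PTT.commute_of_mem_closure hk)) hs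
      (by nth_rw 1 [← s1]; exact commute_cj.2 (D.cen (sub hk)).symm)
  have zs := D.cen1 hs
  have ss := D.lq.sq hs
  obtain ⟨e, he⟩ := L.nonempty
  have m := key σ s1 s2 e (subset_closure he)
  have gd : Gd (Dx Δ s) (cj σ e) := fun k hk => by
    have m1 := L.conj he (key σ⁻¹ (by rw [← s2, cj_inv_cj]) (by rw [← s1, cj_inv_cj]) k hk)
    rw [← cj_cj_inv σ k, ← cj_cj_conj, ← cj_mul, cj_pow, cj_pow, cj_eq_one, cj_eq_one]
    exact (em _).imp (fun c : Commute _ _ => by rw [c.mul_pow, pow_two, pow_two, L.sq he, L.sq m1, mul_one])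
      ((ts_lq L).p3 he m1)
  obtain ⟨c, hc, k⟩ : ∃ c, (c = 1 ∨ c = z ∨ c = s ∨ c = z * s) ∧ c * cj σ e ∈ Dx Δ s := by
    obtain ⟨y, e1, hy⟩ := D.inv (sub m) (by rw [← cj_mul, L.sq he, cj_eq_one])
    have n1 : cj σ e ≠ 1 := cj_eq_one.not.2 fun k => (D.nsqT (one_mem _) he.1).1 (by rw [k, mul_one])
    have n2 : cj σ e ≠ z := s2 ▸ cj_inj.not.2 he.2.1
    have n3 : cj σ e ≠ s := by nth_rw 1 [← s1]; exact cj_inj.not.2 fun k => D.nm0 (k ▸ he.1)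
    have n4 : cj σ e ≠ z * s := by
      nth_rw 1 [← s1, ← s2, ← cj_mul, ← zs.eq]; exact cj_inj.not.2 fun k => D.nm hs (k ▸ he.1)
    have c := (PTT.commute_of_mem_closure m).symm
    generalize cj σ e = x at *
    rcases e1 with rfl | rfl
    · rcases D.of_gd0 hs c gd (hy.resolve_left n1) with k | k | k
      exacts [absurd k n3, ⟨1, by simp, by rwa [one_mul]⟩, ⟨s, by simp, k⟩]
    · have yz : Commute z y := D.zz y ▸ (Commute.refl z).mul_right (D.cen (sub m))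
      rcases D.of_gd0 hs (D.zz y ▸ zs.symm.mul_right c) (D.gd_mul D.sq (fun _ k => D.cen1 k.1) yz gd)
        (hy.resolve_left fun k => n2 (by rw [k, mul_one])) with k | k | k
      exacts [absurd (by rw [k]) n4, ⟨z, by simp, by rwa [D.zz]⟩,
        ⟨z * s, by simp, by rwa [mul_assoc, ← zs.left_comm, D.zz]⟩]
  have kc : Kc (Dx Δ s) c := fun x hx => by
    rcases hc with rfl | rfl | rfl | rfl
    exacts [Commute.one_left x, D.cen1 hx.1, hx.2.2, (D.cen1 hx.1).mul_left hx.2.2]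
  have all : ∀ x ∈ Dx Δ s, c * cj σ x ∈ Dx Δ s := fun x hx => by
    obtain ⟨l, hl, rfl⟩ := L.trans he hx
    have := L.conj k (key σ s1 s2 l hl)
    rwa [cj_mul, cj_of_commute (kc.clo (key σ s1 s2 l hl)).symm, ← cj_cj_conj] at this
  suffices c = 1 by rintro _ ⟨x, hx, rfl⟩; simpa [this] using all x hx
  have c2 : c * c = 1 := by
    rcases hc with rfl | rfl | rfl | rfl
    exacts [mul_one 1, D.sq, ss, by rw [zs.symm.mul_mul_mul_comm, D.sq, ss, mul_one]]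
  have cc : ∀ x ∈ Dx Δ s, Commute c (cj σ x) := fun x hx => kc.clo (key σ s1 s2 x (subset_closure hx))
  have dx : ∀ x ∈ Dx Δ s, ∀ y ∈ Dx Δ s, x ≠ y → Commute x y → c * cj σ y ∈ Dx Δ (c * cj σ x) :=
    fun x hx y hy n k => ⟨(all y hy).1, by simpa using n.symm,
      (kc _ (all y hy)).mul_left ((cc x hx).symm.mul_right (commute_cj.2 k))⟩
  obtain ⟨f, hf⟩ := L.Dx_ne he
  obtain ⟨p, q, w, t, e1, e2⟩ := D.hex ⟨hs, he, hf⟩
  simp only [List.forall_mem_cons] at e2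
  obtain ⟨⟨d1, d2, d3, -⟩, ⟨d4, -⟩, ⟨d5, -⟩, -⟩ := e2
  obtain ⟨⟨m1, m2, m3⟩, ⟨n1, n2, n3⟩, c3, c4, c5⟩ := t3_iff.1 t
  replace m1 : p ∈ Dx Δ s := ⟨m1, d1.2.symm, d1.1⟩
  replace m2 : q ∈ Dx Δ s := ⟨m2, d2.2.symm, d2.1⟩
  replace m3 : w ∈ Dx Δ s := ⟨m3, d3.2.symm, d3.1⟩
  have t1 : T3 Δ (c * cj σ p) (c * cj σ q) (c * cj σ w) :=
    ⟨(all p m1).1, dx p m1 q m2 n1 c3, dx p m1 w m3 n2 c4, (dx q m2 w m3 n3 c5).2⟩
  have m4 := dx e he f hf.1 hf.2.1.symm hf.2.2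
  have p2 : P2 Δ (c * cj σ e * (c * cj σ f)) := ⟨_, k.1, _, m4, rfl⟩
  have e3 : c * cj σ p * (c * cj σ q) * (c * cj σ w) = c * (c * cj σ e * (c * cj σ f) * (z * s)) := by
    rw [(cc p m1).symm.mul_mul_mul_comm, (cc e he).symm.mul_mul_mul_comm, c2, one_mul, one_mul,
      ← ((cc p m1).mul_right (cc q m2)).left_comm, show z * s = cj σ (s * z) by rw [cj_mul, s1, s2], ← cj_mul,
      ← cj_mul, ← cj_mul, ← cj_mul, ← e1, ← mul_assoc (e * f), ← mul_assoc (e * f * s), ← (he.2.2.mul_right hf.1.2.2).eq, ← mul_assoc s, D.lq.q3 hs he hf, one_mul]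
  have cp : Commute (c * cj σ e * (c * cj σ f)) s := k.2.2.symm.mul_left (all f hf.1).2.2.symm
  have zp := D.cen (D.p2_sq p2).2
  have p3 : P3 Δ _ := ⟨_, _, _, t1, rfl⟩
  rcases hc with rfl | rfl | rfl | rfl
  · rfl
  · rw [← zp.left_comm, D.zz, cp.eq, ← mul_assoc s] at e3
    rcases D.uniq3 ⟨hs, k, all f hf.1, m4.2⟩ t1 e3.symm with k | k | k
    exacts [absurd k (all p m1).2.1, absurd (by simpa using k.symm) d4.2, absurd (by simpa using k.symm) d5.2]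
  · rw [← cp.left_comm, ← zs.left_comm, ss, mul_one, ← zp.eq] at e3
    exact absurd p2 (D.ne32 (by simpa only [e3, D.zz] using D.zp3 p3))
  · rw [← (zp.symm.mul_right cp).left_comm, c2, mul_one] at e3
    exact absurd p2 (D.ne32 (e3 ▸ p3))

end H17.F35
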