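import Mathlib
import Cfsg.Agent.H17.F35H

/-! Standard subgroup `2 · Fi₂₂`: `z d e` is not conjugate to `z`. -/

set_option autoImplicit false
set_option linter.unusedVariables false
set_option linter.unusedSectionVars false

namespace H17.F35

open H0 hiding CC
open H29 hiding dec
open Subgroup H9.FB H9.FB.A2

variable {G : Type*} [Group G] [Finite G] {z r g s d e : G} {Δ : Set G}

theorem orb_card (a b : G) :
    {x | ∃ g, Commute g a ∧ cj g b = x}.ncard * Nat.card ↥(CC b ⊓ CC a) = Nat.card (CC a) := by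
  let : MulAction (CC a) G :=
    { smul := fun g x => cj g x, one_smul := cj_one, mul_smul := fun g k x => (cj_cj _ _ _).symm }
  have h1 : MulAction.stabilizer (CC a) b = (CC b ⊓ CC a).subgroupOf (CC a) := by
    ext g
    rw [inf_subgroupOf_right, mem_subgroupOf, mem_CC, ← cj_eq_self]
    rfl
  have h2 : MulAction.orbit (CC a) b = {x | ∃ g, Commute g a ∧ cj g b = x} :=
    Set.ext fun x => ⟨fun ⟨g, e⟩ => ⟨g, mem_CC.1 g.2, e⟩, fun ⟨g, k, e⟩ => ⟨⟨g, mem_CC.2 k⟩, e⟩⟩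
  rw [← h2, ← MulAction.index_stabilizer, h1, ← Nat.card_congr (subgroupOfEquivOfLe inf_le_right).toEquiv,
    index_mul_card]

theorem Cz.ori (h : Cz z Δ) (hr : Commute r z) (ho : Out z Δ r)
    (tri : ∀ s ∈ Δ, ∃ σ, cj σ z = s ∧ cj σ s = z ∧ cj σ '' Dx Δ s = Dx Δ s) (hd : d ∈ Δ)
    (he : e ∈ Dx Δ d) : ¬ IsConj z (z * d * e) := fun hc => by
  have D := h.dl
  have op : ∀ {g a b}, Out z Δ g → Commute g z → a ∈ Δ → b ∈ Dx Δ a → z * cj g b ∈ Dx Δ (z * cj g a) ∧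
      cj g (a * b) = z * cj g a * (z * cj g b) := fun {g a b} o c ha hb => by
    have k := D.cen (D.oclo c o (subset_closure ha))
    refine ⟨⟨o b hb.1, by simpa using hb.2.1, (D.cen1 (o b hb.1)).mul_left (k.symm.mul_right (commute_cj.2 hb.2.2))⟩, ?_⟩
    rw [k.symm.mul_mul_mul_comm, D.sq, one_mul, cj_mul]
  obtain ⟨σ, s1, s2, s3⟩ : ∃ σ, cj σ z = d ∧ cj σ d = z ∧ cj σ e = e := by
    obtain ⟨σ, s1, s2, s3⟩ := tri d hd
    obtain ⟨k, hk, k1⟩ := (D.f22 d hd).1.trans (s3.le ⟨e, he, rfl⟩) he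
    exact ⟨k * σ, by rw [← cj_cj, s1, cj_of_commute (PTT.commute_of_mem_closure hk)], by
      rw [← cj_cj, s2, cj_of_commute (D.cen (closure_mono (fun _ h => h.1) hk)).symm], by rw [← cj_cj, k1]⟩
  obtain ⟨ρ, r1, r2, r3⟩ : ∃ ρ, cj ρ z = z ∧ cj ρ d = z * e ∧ cj ρ e = z * d := by
    obtain ⟨k, hk, k1, k2⟩ := D.lq.comm_pair_trans (ho d hd) he.1 (op ho hr hd he).1 ⟨hd, he.2.1.symm, he.2.2.symm⟩
    have kz := cj_of_commute (D.cen hk).symm
    rw [cj_mul, kz, cj_cj] at k1 k2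
    exact ⟨k * r, by rw [← cj_cj, cj_of_commute hr, kz], by rw [← k1, D.zz], by rw [← k2, D.zz]⟩
  have zd := D.cen1 hd
  have ze := D.cen1 he.1
  have g1 : cj (σ * (ρ * σ)) z = z * d * e * z := by
    rw [← cj_cj, ← cj_cj, s1, r2, cj_mul, s1, s3, ← (((Commute.refl z).mul_right zd).mul_right ze).eq, mul_assoc, D.zz]
  have g2 : Commute (σ * (ρ * σ)) (z * d * e) := by
    have a1 : cj σ (z * d * e) = z * d * e := by rw [cj_mul, cj_mul, s1, s2, s3, zd.eq]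
    refine (cj_eq_self.1 a1).mul_left ((cj_eq_self.1 ?_).mul_left (cj_eq_self.1 a1))
    rw [cj_mul, cj_mul, r1, r2, r3, D.zz, ← mul_assoc, ← ze.eq, mul_assoc, ← he.2.2.eq, mul_assoc]
  have p : P2 Δ (d * e) := ⟨d, hd, e, he, rfl⟩
  have c2 : z * d * e * (z * d * e) = 1 := by
    rw [mul_assoc z, (zd.mul_right ze).symm.mul_mul_mul_comm, D.sq, (D.p2_sq p).1, mul_one]
  have c1 : z * d * e ≠ 1 := fun k => (D.p2_nm p).2.1 (by rw [← D.zz (d * e), ← mul_assoc z d, k, mul_one])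
  have h1 := ncard_invol (Set.toFinite {x | ∃ g, Commute g (z * d * e) ∧ cj g z = x}) (z * d * e * ·) (by
    rintro _ ⟨k, hk, rfl⟩
    exact ⟨_, hk.mul_left g2, by rw [← cj_cj, g1, cj_mul, cj_of_commute hk]⟩) fun x _ => by
      rw [← mul_assoc, c2, one_mul]
  have h2 : {x | ∃ g, Commute g z ∧ cj g (z * d * e) = x} = (z * ·) '' {u | P2 Δ u} := by
    ext x
    constructor
    · rintro ⟨g, hg, rfl⟩
      refine ⟨cj g (d * e), ?_, by rw [mul_assoc, cj_mul g z, cj_of_commute hg]⟩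
      rcases h.cen g hg with k | k
      exacts [⟨_, D.lq.conj hd k, _, (D.lq.mem_Dx_cj k).2 he, cj_mul _ _ _⟩,
        ⟨_, k d hd, _, (op k hg hd he).1, (op k hg hd he).2⟩]
    · rintro ⟨_, ⟨a, ha, b, hb, rfl⟩, rfl⟩
      obtain ⟨k, hk, rfl, rfl⟩ := D.lq.comm_pair_trans hd ha he hb
      exact ⟨k, (D.cen hk).symm, by rw [mul_assoc, cj_mul, cj_mul, cj_of_commute (D.cen hk).symm]⟩
  have h3 := orb_card z (z * d * e)
  have h4 := card_p2 D.ts (fun a ha => (D.f22 a ha).1) fun a ha => card693 (D.f22 a ha).1 (D.f22 a ha).2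
  obtain ⟨k, hk⟩ := isConj_iff.1 hc
  have h5 : Nat.card (CC z) = Nat.card (CC (z * d * e)) := Nat.card_congr
    ⟨fun x => ⟨cj k x, mem_CC.2 (hk ▸ commute_cj.2 (mem_CC.1 x.2))⟩, fun x => ⟨cj k⁻¹ x, mem_CC.2 (by
      rw [← commute_cj (g := k), cj_cj_inv, cj, hk]; exact mem_CC.1 x.2)⟩, fun x => by simp, fun x => by simp⟩
  rw [h5, ← orb_card (z * d * e) z, inf_comm, h2, Set.ncard_image_of_injective _ (mul_right_injective z),
    mul_left_inj' Nat.card_pos.ne'] at h3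
  simp only [mul_eq_right, c1, and_false, Set.ofPred_false, Set.ncard_empty, Nat.ModEq] at h1
  rw [D.card] at h4
  omega

end H17.F35
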