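import Mathlib
import Cfsg.Agent.H17.F35E
import Cfsg.Agent.H17.F35P
import Cfsg.Agent.H17.F35Q
import Cfsg.Agent.H17.F35R

/-! Standard subgroup `2 · Fi₂₂`: assembly. -/

set_option autoImplicit false
set_option linter.unusedVariables false
set_option linter.unusedSectionVars false

namespace H17.F35

open H0 hiding CC
open H29 hiding dec
open Subgroup H9.FB H9.FB.A2

variable {G F : Type*} [Group G] [Group F] [Finite G]

theorem exists_dl {L : Subgroup G} (hp : commutator L = ⊤) (h1 : Nat.card (center L) = 2)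
    (e : L ⧸ center L ≃* Fi22.P.G) : ∃ (z : G) (Δ : Set G), DL z Δ ∧ Subgroup.closure Δ = L := by
  obtain ⟨⟨δ, hδ⟩, n, u⟩ := (Nat.card_eq_two_iff' (1 : center L)).1 h1
  have k : ∀ x ∈ center L, x = 1 ∨ x = δ := fun x hx => (em _).imp_right fun e =>
    congrArg Subtype.val (u ⟨x, hx⟩ fun k => e (congrArg Subtype.val k))
  have n1 : δ ≠ 1 := fun e => n (Subtype.ext e)
  obtain ⟨ι, i1, -⟩ := exists_iota (θ := e.toMonoidHom.comp (QuotientGroup.mk' _)) (δ := δ)
    ⟨e.surjective.comp (QuotientGroup.mk'_surjective _), fun x => by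
      rw [MonoidHom.comp_apply, MulEquiv.coe_toMonoidHom, e.map_eq_one_iff, QuotientGroup.mk'_apply,
        QuotientGroup.eq_one_iff]
      exact ⟨k x, by rintro (rfl | rfl); exacts [one_mem _, hδ]⟩, fun x => (mem_center_iff.1 hδ x).symm,
      (k _ (mul_mem hδ hδ)).resolve_right (by simpa using n1), n1, hp⟩
  refine ⟨_, _, ⟨L.subtype.comp ι.toMonoidHom, Subtype.val_injective.comp ι.injective, rfl, rfl⟩, ?_⟩
  rw [← H25.FA.rs_range t_mem, MonoidHom.range_comp, MonoidHom.range_eq_top.2 ι.surjective,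
    ← MonoidHom.range_eq_map, range_subtype]

theorem DL.st {z : G} {Δ : Set G} (h : DL z Δ) (hL : Cfsg.IsStandardSubgroup (closure Δ)) : St z Δ := by
  have : Fact (Nat.Prime 2) := ⟨Nat.prime_two⟩
  have hK : ∀ {u}, Kc Δ u → u ∈ centralizer (closure Δ : Set G) := fun k x hx => (k.clo hx).symm
  have tig : ∀ u g, Kc Δ u → u * u = 1 → u ≠ 1 → Kc Δ (cj g u) → g ∈ normalizer (closure Δ : Set G) :=
    fun u g hu h2 h1 k => by
      rw [hL.2.2.2]
      by_contra h3
      have h4 : g * u * g⁻¹ ∈ centralizer (closure Δ : Set G) ⊓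
        (centralizer (closure Δ : Set G)).map (MulAut.conj g).toMonoidHom := ⟨hK k, u, hK hu, rfl⟩
      have h5 := orderOf_dvd_natCard _ h4
      rw [orderOf_eq_prime (p := 2) (by simp [pow_two, h2]) (by simpa using h1)] at h5
      exact (hL.2.1.2 g h3).not_two_dvd_nat h5
  refine ⟨h, fun g c => ?_, fun u g a b c d => ?_⟩
  · have := tig z g h.kz h.sq h.ne (by rw [cj_of_commute c]; exact h.kz)
    exact h.io c (fun x => (mem_normalizer_iff.1 this x).1) fun x => (mem_normalizer_iff.1 (inv_mem this) x).1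
  · have := tig u g a b c d
    refine cj_eq_self.1 ((h.zen ((mem_normalizer_iff.1 this z).1 h.mem) fun x hx => ?_).resolve_left
      (by simpa using h.ne))
    rw [← cj_cj_inv g x]
    exact commute_cj.2 (h.cen ((mem_normalizer_iff.1 (inv_mem this) x).1 (subset_closure hx)))

theorem main [IsSimpleGroup G] (hG : ¬ IsMulCommutative G)
    (hbal : ∀ t : G, orderOf t = 2 → Cfsg.centralizerPPrimeCore 2 t = ⊥) {L : Subgroup G}
    (hL : Cfsg.IsStandardSubgroup L) (h1 : Nat.card (center L) = 2) (e : L ⧸ center L ≃* Fi22.P.G)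
    [Finite F] {D : Set F} {ε : ℕ → F} {χ : F →* ℤˣ} {φ : F23 →* F} {x2 : F} {col : F → ZMod 3}
    (m : FI D ε χ φ x2 col) [IsSimpleGroup χ.ker] : Nonempty (G ≃* F23) ∨ Nonempty (G ≃* χ.ker) := by
  have : Fact (Nat.Prime 2) := ⟨Nat.prime_two⟩
  obtain ⟨z, Δ, h, rfl⟩ := exists_dl hL.1.1.1 h1 e
  have hz : orderOf z = 2 := orderOf_eq_prime (by rw [pow_two, h.sq]) h.ne
  have hO : Cfsg.pPrimeCore 2 G = ⊥ := by
    refine (IsSimpleGroup.eq_bot_or_eq_top_of_normal _ inferInstance).resolve_right fun h1 => ?_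
    have h2 := H17.odd_card_pPrimeCore (G := G)
    rw [h1, card_top] at h2
    exact h2.not_two_dvd_nat (hz ▸ orderOf_dvd_natCard _)
  have hZ : center G = ⊥ := (IsSimpleGroup.eq_bot_or_eq_top_of_normal _ inferInstance).resolve_right
    fun e => hG ⟨⟨fun a b => mem_center_iff.mp (e ▸ mem_top b) a⟩⟩
  obtain ⟨g, g1, g2⟩ : ∃ g, cj g z ≠ z ∧ Commute z (cj g z) := by
    by_contra n
    exact h.ne (mem_bot.1 (hZ ▸ mem_center_iff.2 fun g => (H17.zstar_central hO ⟨hz, fun g hg =>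
      by_contra fun e => n ⟨g, e, hg⟩⟩ g).symm))
  obtain ⟨C, k, k1, k2, k3⟩ := (h.st hL).cz (md_of_fi m) (hbal z hz) g1 g2
  by_cases o : ∃ r, Commute r z ∧ Out z Δ r
  swap
  · exact Or.inl (h.fi23 (fun r c => (C.cen r c).resolve_right fun k => o ⟨r, c, k⟩) g1 g2)
  obtain ⟨r, hr, ho⟩ := o
  refine (C.d1 hbal hr ho k1 k2 k3).imp_right fun ⟨l, hl⟩ => ?_
  have tri := fun s => C.tri (s := s) hr ho hl
  obtain ⟨ι, hι, rfl, rfl⟩ := id h
  obtain ⟨Φ, t0, E⟩ := fb_eg m (t := ι (pt t23)) ⟨hι, rfl, ⟨r, hr, fun g c => by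
      rw [H25.FA.rs_range t_mem]
      exact (C.cen g c).imp_right fun k => C.of_in (c.mul_left hr) (h.omul c k ho), ho⟩,
    ⟨_, hl, tri _ hl⟩, fun d hd e he n c => C.ori hr ho tri hd ⟨he, n.symm, c⟩⟩
  exact ⟨(MulEquiv.ofBijective Φ ⟨E.inj, MonoidHom.range_eq_top.1 (E.top m)⟩).symm⟩

end H17.F35
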