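import Mathlib
import Cfsg.Agent.H17.Princ

/-!
# Külshammer, Green, Fong, Reynolds, blocks with `G = P C(P)`
-/

set_option autoImplicit false
set_option linter.unusedSectionVars false

open Cfsg H4 Subgroup
open scoped ComplexConjugate

namespace H17

section Kul

variable {G : Type*} [Group G] [Fintype G] {p : ℕ} [hp : Fact p.Prime] {M : Ideal AlgInt} [PM p M]

omit [Fintype G] hp in
theorem pElt_swap {a b : G} : PElt p (a⁻¹ * b) ↔ PElt p (a * b⁻¹) := by
  have : orderOf (a⁻¹ * b) = orderOf (a * b⁻¹) := by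
    rw [← orderOf_inv, ← orderOf_conj a]; congr 1; group
  rw [PElt, PElt, this]

theorem sum_co_pElt_mem [DecidablePred (PElt (G := G) p)] {w : Irr G → ℂ} (hw : w ∈ ZS G M)
    (h : ∀ χ, w χ ∈ Pm M) (g : G) : ∑ k, co w k * (if PElt p (k * g) then 1 else 0) ∈ Pm M := by
  classical
  obtain ⟨Θ, h1, h2⟩ := exists_CR_approx (p := p) (M := M) (cind_classFun (1 : G)) fun y _ => by
    rw [cind_apply]; split_ifs
    · exact one_mem _
    · exact zero_mem _
  have h3 : ∑ k, co w k * Θ (k * g) ∈ Pm M := by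
    simp only [h1.1.apply_eq_sum, Finset.mul_sum]
    rw [Finset.sum_comm]
    refine sum_mem fun χ _ => ?_
    simp only [mul_left_comm (co w _), ← Finset.mul_sum, sum_co_mul]
    exact Pm_mul_left (h1.2 χ) (Pm_mul_right (h χ) (irr_mem_S χ g))
  refine mem_Pm_of_sub ?_ h3
  rw [← Finset.sum_sub_distrib]
  refine sum_mem fun k _ => ?_
  rw [← mul_sub]
  refine Pm_mul_left (hw k) (sub_mem_Pm_symm ?_)
  have := h2 (k * g)
  rwa [cind_apply, if_congr (isConj_one_right.trans pr_eq_one_iff) rfl rfl] at this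

theorem sum_co_ind_pElt [DecidablePred (PElt (G := G) p)] {A : Set (Irr G)} (hA : ind A ∈ ZS G M)
    {g : G} (hg : ¬ p ∣ orderOf g) :
    ∑ k, co (ind A) k * (if PElt p (k * g⁻¹) then 1 else 0) = co (ind A) g := by
  classical
  rw [← blockPart_eq_conv A (ϑ := fun k => if PElt p k then 1 else 0)
    (isClassFunction_of_isConj fun a b hab =>
      if_congr ⟨fun h => h.of_isConj hab, fun h => h.of_isConj hab.symm⟩ rfl rfl),
    blockPart_congr_reg hA (by simpa using hg) (ϑ' := cind 1), blockPart_cind_one, inv_inv]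
  intro h hh
  rw [cind_apply]
  exact if_congr ⟨fun h1 => isConj_one_right.mpr (eq_one_of_PElt_of_reg h1 hh),
    fun h1 => isConj_one_right.mp h1 ▸ PElt.one⟩ rfl rfl

theorem kulshammer {g : G} (hg : ¬ p ∣ orderOf g) :
    co (fb M (irrOne G)) g -
      (Nat.card {xy : G × G // PElt p xy.1 ∧ ¬ p ∣ orderOf xy.2 ∧ xy.1 * xy.2 = g} : ℂ) /
        (Nat.card {y : G // ¬ p ∣ orderOf y} : ℂ) ∈ Pm M := by
  classical
  have h1 : zr p (irrOne G).1 (irrOne G) = Nat.card {y : G // ¬ p ∣ orderOf y} := by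
    rw [zr_apply, card_mul_classInner, Nat.card_eq_fintype_card, Fintype.card_subtype,
      Finset.card_filter]
    push_cast
    simp only [irrOne_apply, map_one, mul_one, div_one]
    exact Finset.sum_congr rfl fun y _ => by by_cases h : p ∣ orderOf y <;> simp [regPart, h]
  have h2 : ∑ k, co (zr p (irrOne G).1) k * (if PElt p (k * g⁻¹) then 1 else 0) =
      Nat.card {xy : G × G // PElt p xy.1 ∧ ¬ p ∣ orderOf xy.2 ∧ xy.1 * xy.2 = g} := by
    have e : Nat.card {xy : G × G // PElt p xy.1 ∧ ¬ p ∣ orderOf xy.2 ∧ xy.1 * xy.2 = g} =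
        Nat.card {k : G // ¬ p ∣ orderOf k ∧ PElt p (k * g⁻¹)} := Nat.card_congr
      { toFun := fun a => ⟨a.1.2, a.2.2.1, by
          have := a.2.1.inv
          rwa [eq_mul_inv_iff_mul_eq.mpr a.2.2.2, mul_inv_rev, inv_inv] at this⟩
        invFun := fun k => ⟨(g * k.1⁻¹, k.1), by simpa using k.2.2.inv, k.2.1, by simp⟩
        left_inv := fun a => Subtype.ext (Prod.ext (mul_inv_eq_iff_eq_mul.mpr a.2.2.2.symm) rfl)
        right_inv := fun k => rfl }
    rw [e, Nat.card_eq_fintype_card, Fintype.card_subtype, Finset.card_filter,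
      co_zr (irrOne G).2.classFun]
    push_cast
    exact Finset.sum_congr rfl fun y _ => by by_cases h : p ∣ orderOf y <;> simp [regPart, h]
  have hu := (hz_irrOne (p := p) (M := M) (G := G)).zr_notMem
  have hS := apply_mem_S (zr_mem_ZS (p := p) (M := M) (irrOne G)) (irrOne G)
  have h3 := sum_co_pElt_mem (M := M)
    (w := zr p (irrOne G).1 (irrOne G) • fb M (irrOne G) - zr p (irrOne G).1)
    (sub_mem (smul_mem_ZS hS (fb_mem_ZS _)) (zr_mem_ZS _)) (fun χ => by
      rw [Pi.sub_apply, Pi.smul_apply, smul_eq_mul]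
      by_cases h : SB M (irrOne G) χ
      · rw [fb, ind_of_mem (A := blockOf M (irrOne G).1) h, mul_one]
        exact h.sub_mem (zr_mem_ZS _)
      · rw [fb, ind_of_notMem (A := blockOf M (irrOne G).1) h, zr_eq_zero h]; simp) g⁻¹
  simp only [map_sub, map_smul, Pi.sub_apply, Pi.smul_apply, smul_eq_mul, sub_mul,
    Finset.sum_sub_distrib, mul_assoc, ← Finset.mul_sum] at h3
  rw [sum_co_ind_pElt (fb_mem_ZS (M := M) _) hg, h2] at h3
  rw [← h1]
  have := div_mem_Pm h3 hS hu
  rwa [sub_div, mul_div_cancel_left₀ _ (ne_zero_of_notMem_Pm hu)] at this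

end Kul

section Green

variable {G : Type*} [Group G] [Finite G] {p : ℕ} [hp : Fact p.Prime] {M : Ideal AlgInt} [PM p M]

theorem DG.co_mul_index_mem {χ : Irr G} {D : Subgroup G} (hD : DG p M χ D) (g : G) :
    co (fb M χ) g * (centralizer ({g} : Set G)).index / D.index ∈ S M := by
  classical
  obtain ⟨s, hs, -, h2⟩ := exists_comb_blockPart (p := p) (M := M) (cind_classFun g) fun y _ => by
    rw [cind_apply]; split_ifs
    · exact (S M).one_mem
    · exact (S M).zero_mem
  have h3 := h2 _ (fb_mem_ZS χ) 1 reg_one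
  rw [blockPart_cind] at h3
  have hC := card_ne_zero (centralizer ({g} : Set G))
  have hi : ((centralizer ({g} : Set G)).index : ℂ) ≠ 0 :=
    Nat.cast_ne_zero.mpr index_ne_zero_of_finite
  have h4 : co (fb M χ) g * (centralizer ({g} : Set G)).index / D.index =
      ∑ ψ : Irr G, fb M χ ψ * (s ψ * ((deg ψ : ℂ) / D.index)) := by
    have : ∑ ψ : Irr G, fb M χ ψ * (s ψ * ((deg ψ : ℂ) / D.index)) =
        (∑ ψ : Irr G, fb M χ ψ * (s ψ * ψ.1 1)) / D.index := by
      rw [Finset.sum_div]
      exact Finset.sum_congr rfl fun χ _ => by rw [deg_eq]; ring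
    rw [this, ← h3, co_apply, card_eq_card_mul_index (centralizer ({g} : Set G))]
    have : ∑ ψ : Irr G, ψ.1 1 * fb M χ ψ * conj (ψ.1 g) =
        ∑ ψ : Irr G, fb M χ ψ * (ψ.1 1 * conj (ψ.1 g)) :=
      Finset.sum_congr rfl fun χ _ => by ring
    rw [this]
    field_simp
  rw [h4]
  refine sum_mem fun ψ _ => ?_
  rw [fb, ind_apply]
  split_ifs with h
  · rw [one_mul]
    exact mul_mem (hs ψ) (div_mem_S_of_le index_ne_zero_of_finite (SB.dg h hD).fact_index_le)
  · rw [zero_mul]; exact zero_mem _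

/-- Scaled copies of an additive subgroup of `ℂ`. -/
def scaled (I : AddSubgroup ℂ) (a : ℂ) : AddSubgroup ℂ := I.comap (AddMonoidHom.mulLeft a)

theorem mem_scaled {I : AddSubgroup ℂ} {a x : ℂ} : x ∈ scaled I a ↔ a * x ∈ I := Iff.rfl

theorem DG.coset_sum_mem {G : Type*} [Group G] [Fintype G] {χ : Irr G} {D : Subgroup G}
    (hD : DG p M χ D) {R : Subgroup G} (hR : IsPGroup p R) (T : G → Prop) [DecidablePred T]
    (hT : ∀ r ∈ R, ∀ g, T (r * g * r⁻¹) ↔ T g) :
    (Nat.card D : ℂ) / Nat.card R * ∑ g, (if T g then co (fb M χ) g else 0) ∈ S M := by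
  let Γ : Subgroup (ConjAct G) := R.map ConjAct.toConjAct.toMonoidHom
  have h1 : ∀ (γ : Γ), ∃ q ∈ R, ∀ x : G, γ • x = q * x * q⁻¹ := by
    rintro ⟨_, q, hq, rfl⟩
    exact ⟨q, hq, fun x => rfl⟩
  have hΓ : Nat.card Γ = Nat.card R := card_map_of_injective ConjAct.toConjAct.injective
  refine sum_mem_of_orbit (Γ := Γ) (scaled (S M).toAddSubgroup _) _ (fun γ x => ?_) fun x => ?_
  · obtain ⟨q, hq, h⟩ := h1 γ
    rw [h, if_congr (hT q hq x) (co_conj _ _ _) rfl]
  · split_ifs
    · let U : Subgroup G := ((MulAction.stabilizer Γ x).map Γ.subtype).map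
        ConjAct.ofConjAct.toMonoidHom
      have hU : Nat.card U = Nat.card (MulAction.stabilizer Γ x) := by
        rw [card_map_of_injective ConjAct.ofConjAct.injective,
          card_map_of_injective Γ.subtype_injective]
      have hUC : U ≤ centralizer {x} := by
        rintro _ ⟨_, ⟨⟨_, q, hq, rfl⟩, hγ, rfl⟩, rfl⟩
        have := MulAction.mem_stabilizer_iff.mp hγ
        change q * x * q⁻¹ = x at this
        rw [H17.mem_centralizer_singleton]
        change Commute q x
        exact mul_inv_eq_iff_eq_mul.mp this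
      obtain ⟨m, hm⟩ := card_dvd_of_le hUC
      have := Fintype.ofFinite Γ
      have := Fintype.ofFinite (MulAction.orbit Γ x)
      have := Fintype.ofFinite (MulAction.stabilizer Γ x)
      have h6 := MulAction.card_orbit_mul_card_stabilizer_eq_card_group Γ x
      simp only [← Nat.card_eq_fintype_card] at h6
      rw [hΓ, ← hU] at h6
      rw [mem_scaled, nsmul_eq_mul]
      have h7 := card_eq_card_mul_index D
      have h8 := card_eq_card_mul_index (centralizer ({x} : Set G))
      have h9 : (Nat.card D : ℂ) / Nat.card R * (Nat.card (MulAction.orbit Γ x) * co (fb M χ) x) =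
          m * (co (fb M χ) x * (centralizer ({x} : Set G)).index / D.index) := by
        have hi : (D.index : ℂ) ≠ 0 := Nat.cast_ne_zero.mpr index_ne_zero_of_finite
        have ho := card_ne_zero U
        have : Nonempty (MulAction.orbit Γ x) := ⟨⟨x, MulAction.mem_orbit_self x⟩⟩
        have ho' : (Nat.card (MulAction.orbit Γ x) : ℂ) ≠ 0 := Nat.cast_ne_zero.mpr Nat.card_pos.ne'
        rw [← h6]
        rw [hm] at h8
        push_cast at h8 ⊢
        field_simp
        linear_combination co (fb M χ) x * (h8 - h7)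
      rw [h9]
      exact (S M).mul_mem (natCast_mem _ m) (hD.co_mul_index_mem x)
    · simp

theorem green_normal {χ : Irr G} {D : Subgroup G} [D.Normal] (hD : DG p M χ D) (P : Sylow p G) :
    ∃ x ∈ centralizer (D : Set G), co (fb M χ) x ∉ Pm M ∧ (P : Subgroup G) ⊓ cj x P = D := by
  classical
  have := Fintype.ofFinite G
  have := Fintype.ofFinite P
  have := Fintype.ofFinite (G ⧸ (P : Subgroup G))
  by_contra hcon
  push Not at hcon
  have hDP : D ≤ P := (sylIn_top P).normal_le hD.isPGroup le_top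
    (by rw [normalizer_eq_top])
  have hDR : ∀ k, D ≤ (P : Subgroup G) ⊓ cj k P := fun k =>
    le_inf hDP (by rw [← cj_eq_of_normal k D]; exact cj_mono k hDP)
  let T : G → ℂ := fun k => ∑ g, if k⁻¹ * g ∈ (P : Subgroup G) then co (fb M χ) g else 0
  have hT : ∀ k, T k = ∑ u : P, co (fb M χ) (k * u) := fun k => by
    symm
    refine Finset.sum_of_injOn (fun u : P => k * u) (fun a _ b _ h => Subtype.ext (by simpa using h))
      (by simp) (fun g _ hg => if_neg fun h => hg ⟨⟨_, h⟩, by simp, by simp⟩) fun u _ => ?_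
    rw [if_pos (by simp)]
  have hTr : ∀ k, ∀ u ∈ (P : Subgroup G), T (k * u) = T k := fun k u hu => by
    simp only [T, mul_inv_rev, mul_assoc, mul_mem_cancel_left (inv_mem hu)]
  have hTl : ∀ k, ∀ u ∈ (P : Subgroup G), T (u * k) = T k := fun k u hu => by
    refine (Fintype.sum_equiv (MulAut.conj u).toEquiv _ _ fun g => ?_).symm
    have : (u * k)⁻¹ * (u * g * u⁻¹) = k⁻¹ * g * u⁻¹ := by group
    simp only [MulEquiv.toEquiv_eq_coe, EquivLike.coe_coe, MulAut.conj_apply, co_conj, this,
      mul_mem_cancel_right (inv_mem hu)]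
  have hinv : ∀ k, ∀ r ∈ (P : Subgroup G) ⊓ cj k P, ∀ g,
      k⁻¹ * (r * g * r⁻¹) ∈ (P : Subgroup G) ↔ k⁻¹ * g ∈ (P : Subgroup G) := fun k r hr g => by
    rw [show k⁻¹ * (r * g * r⁻¹) = (k⁻¹ * r * k) * (k⁻¹ * g) * r⁻¹ by group,
      mul_mem_cancel_right (inv_mem (mem_inf.mp hr).1),
      mul_mem_cancel_left (mem_cj.mp (mem_inf.mp hr).2)]
  have hRp : ∀ k, IsPGroup p ↥((P : Subgroup G) ⊓ cj k P) := fun k => P.isPGroup'.to_inf_left
  have hTS : ∀ k, (Nat.card D : ℂ) / Nat.card ↥((P : Subgroup G) ⊓ cj k P) * T k ∈ S M :=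
    fun k => hD.coset_sum_mem (hRp k) _ (hinv k)
  have h1 : co (fb M χ) 1 = ∑ q : G ⧸ (P : Subgroup G), T q.out * T q.out⁻¹ := by
    have h2 : ∑ k, T k * T k⁻¹ = Nat.card P * co (fb M χ) 1 := by
      have h3 : ∀ u : P, ∑ k, co (fb M χ) (k * u) * T k⁻¹ = co (fb M χ) 1 := fun u => by
        rw [← sum_co_ind_pgroup (fb_mem_ZS (M := M) χ) P.isPGroup']
        conv_rhs => rw [← ind_mul_self]
        simp only [co_mul]
        rw [Finset.sum_comm]
        refine Fintype.sum_equiv (Equiv.mulRight (u : G)) _ _ fun k => ?_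
        rw [← Finset.mul_sum, ← hT, Equiv.coe_mulRight, mul_inv_rev, hTl _ _ (inv_mem u.2)]
      calc ∑ k, T k * T k⁻¹ = ∑ k, ∑ u : P, co (fb M χ) (k * u) * T k⁻¹ :=
            Finset.sum_congr rfl fun k _ => by rw [hT k, Finset.sum_mul]
        _ = _ := by
          rw [Finset.sum_comm]
          simp only [h3, Finset.sum_const, nsmul_eq_mul, Finset.card_univ, Nat.card_eq_fintype_card]
    rw [sum_eq_card_smul_sum_quotient (P : Subgroup G) _ fun g z hz => by
      rw [hTr _ _ hz, mul_inv_rev, hTl _ _ (inv_mem hz)], nsmul_eq_mul] at h2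
    exact (mul_left_cancel₀ (card_ne_zero P) h2).symm
  refine hD.co_one.2 ?_
  rw [h1, div_eq_inv_mul]
  refine sum_mem_of_orbit (Γ := P) (scaled (Pm M) _) _ (fun u q => ?_) fun q => ?_
  · have h2 : ((u : G) • q).out⁻¹ * (u * q.out) ∈ (P : Subgroup G) := by
      rw [← QuotientGroup.eq, QuotientGroup.out_eq']
      conv_lhs => rw [← QuotientGroup.out_eq' q]
      rfl
    change T ((u : G) • q).out * T ((u : G) • q).out⁻¹ = _
    rw [← hTr _ _ h2, mul_inv_cancel_left, hTl _ _ u.2,
      ← hTl ((u : G) • q).out⁻¹ _ (inv_mem h2), mul_inv_rev,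
      inv_inv, mul_inv_cancel_right, mul_inv_rev, hTr _ _ (inv_mem u.2)]
  · set k := q.out
    set R := (P : Subgroup G) ⊓ cj k P with hR
    have h2 : (MulAction.stabilizer P q).map (P : Subgroup G).subtype = R := by
      ext g
      have h3 : g • q = q ↔ g ∈ cj k P := by
        rw [← QuotientGroup.out_eq' q, mem_cj, ← inv_mem_iff]
        change ((g * k : G) : G ⧸ (P : Subgroup G)) = _ ↔ _
        rw [QuotientGroup.eq]
        simp [mul_assoc, k]
      constructor
      · rintro ⟨u, hu, rfl⟩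
        exact ⟨u.2, h3.mp hu⟩
      · rintro ⟨h4, h5⟩
        exact ⟨⟨g, h4⟩, h3.mpr h5, rfl⟩
    have := Fintype.ofFinite (MulAction.orbit P q)
    have := Fintype.ofFinite (MulAction.stabilizer P q)
    have h6 := MulAction.card_orbit_mul_card_stabilizer_eq_card_group P q
    simp only [← Nat.card_eq_fintype_card] at h6
    rw [← card_map_of_injective (P : Subgroup G).subtype_injective, h2] at h6
    have h7 : Nat.card ↥((P : Subgroup G) ⊓ cj k⁻¹ P) = Nat.card R := by
      rw [← card_cj k, cj_inf, cj_cj_inv, inf_comm]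
    have h8 := hTS k
    have h9 := hTS k⁻¹
    rw [h7] at h9
    rw [← hR] at h8
    have h10 : (D.index : ℂ)⁻¹ * (Nat.card (MulAction.orbit P q) • (T k * T k⁻¹)) =
        ((P : Subgroup G).index : ℂ)⁻¹ * (T k * ((Nat.card D : ℂ) / Nat.card R * T k⁻¹)) := by
      have a1 := card_eq_card_mul_index D
      have a2 := card_eq_card_mul_index (P : Subgroup G)
      have a3 := card_ne_zero R
      have a4 : (D.index : ℂ) ≠ 0 := Nat.cast_ne_zero.mpr index_ne_zero_of_finite
      have a5 : ((P : Subgroup G).index : ℂ) ≠ 0 := Nat.cast_ne_zero.mpr index_ne_zero_of_finite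
      rw [← h6] at a2
      push_cast at a2
      rw [nsmul_eq_mul]
      field_simp
      linear_combination T k * T k⁻¹ * (a1 - a2)
    rw [mem_scaled, h10]
    refine Pm_mul_left (inv_natCast_mem_S P.not_dvd_index) (Pm_mul_right ?_ h9)
    by_cases hRD : R = D
    · refine conj_sum_mem hD.isPGroup _ (fun r hr g => ?_) (fun g => ?_) fun g hg => ?_
      · rw [if_congr (hinv k r (hDR k hr) g) (co_conj _ _ _) rfl]
      · split_ifs
        · exact fb_mem_ZS χ g
        · exact zero_mem _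
      · split_ifs with h
        · by_contra h'
          refine hcon g hg h' ?_
          rw [← mul_inv_cancel_left k g, ← cj_cj, cj_eq_of_mem h]
          exact hRD
        · exact zero_mem _
    · have a1 : T k = (Nat.card R : ℂ) / Nat.card D * ((Nat.card D : ℂ) / Nat.card R * T k) := by
        have := card_ne_zero R
        have := card_ne_zero D
        field_simp
      rw [a1]
      refine Pm_mul_right (div_mem_Pm_of_lt Nat.card_pos.ne' ?_) h8
      obtain ⟨a, ha⟩ := IsPGroup.iff_card.mp hD.isPGroup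
      obtain ⟨b, hb⟩ := IsPGroup.iff_card.mp (hRp k)
      have := H2.card_lt_of_lt (lt_of_le_of_ne (hDR k) (Ne.symm hRD))
      rw [ha, hb] at this ⊢
      simpa [hp.out.factorization_pow] using (Nat.pow_lt_pow_iff_right hp.out.one_lt).mp this

theorem green {χ : Irr G} {D : Subgroup G} (hD : DG p M χ D) {P : Subgroup G} (hP : IsPGroup p P)
    (hDP : D ≤ P) :
    ∃ x, ¬ p ∣ orderOf x ∧ SylIn p D (centralizer {x}) ∧ P ⊓ cj x P = D := by
  obtain ⟨ξ, -, h2⟩ := hD.exists_corr
  obtain ⟨Q, hQ⟩ := (hP.comap_of_injective _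
    (normalizer (D : Set G)).subtype_injective).exists_le_sylow
  obtain ⟨x, h3, h4, h5⟩ := green_normal h2 Q
  have h6 := (h2.sylIn_of_co h3 h4).map_of_normalizer (subtype_injective _)
    (by rw [map_subgroupOf_normalizer, range_subtype])
  rw [map_subgroupOf_normalizer] at h6
  have h7 : D ≤ P ⊓ cj x P :=
    le_inf hDP ((cj_eq_of_mem_normalizer x.2).symm.le.trans (cj_mono _ hDP))
  refine ⟨x, ?_, h6, le_antisymm (le_of_inf_normalizer_le hP.to_inf_left h7 ?_) h7⟩
  · rw [Subgroup.orderOf_coe]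
    exact reg_of_co_ind_ne_zero (fb_mem_ZS (M := M) ξ) (ne_zero_of_notMem_Pm h4)
  · intro g hg
    rw [mem_inf, mem_inf, mem_cj] at hg
    have : (⟨g, hg.2⟩ : normalizer (D : Set G)) ∈ (Q : Subgroup _) ⊓ cj x Q :=
      ⟨hQ hg.1.1, mem_cj.mpr (hQ hg.1.2)⟩
    rw [h5] at this
    exact this

end Green

end H17
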