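import Mathlib
import Cfsg.Agent.H17.More
import Cfsg.Agent.H5.Extend

/-!
# Fong, Reynolds, blocks with `G = P C(P)`, extended first main theorem
-/

set_option autoImplicit false
set_option linter.unusedSectionVars false

open Cfsg H4 Subgroup
open scoped ComplexConjugate

namespace H17

section PC

variable {G : Type*} [Group G] [Finite G] {p : ℕ} [hp : Fact p.Prime] {M : Ideal AlgInt} [PM p M]
  {P : Subgroup G}

omit [Finite G] hp [PM p M] in
theorem normal_of_sup_centralizer (hG : P ⊔ centralizer (P : Set G) = ⊤) : P.Normal := by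
  rw [← normalizer_eq_top_iff, eq_top_iff, ← hG]
  exact sup_le le_normalizer (centralizer_le_normalizer _)

omit [Finite G] hp [PM p M] in
theorem exists_mul_of_sup_centralizer (hG : P ⊔ centralizer (P : Set G) = ⊤) (g : G) :
    ∃ u ∈ P, ∃ c ∈ centralizer (P : Set G), g = u * c := by
  have := normal_of_sup_centralizer hG
  have h : g ∈ P ⊔ centralizer (P : Set G) := hG ▸ mem_top g
  obtain ⟨u, hu, c, hc, h⟩ := mem_sup_of_normal_left.mp h
  exact ⟨u, hu, c, hc, h.symm⟩

omit [PM p M] in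
theorem reg_mem_centralizer (hP : IsPGroup p P) (hG : P ⊔ centralizer (P : Set G) = ⊤) {g : G}
    (hg : ¬ p ∣ orderOf g) : g ∈ centralizer (P : Set G) := by
  obtain ⟨u, hu, c, hc, rfl⟩ := exists_mul_of_sup_centralizer hG g
  rw [← pr_of_reg hg, pr_mul_of_central (PElt.of_mem hP hu) (hc u hu)]
  exact pr_mem hc

theorem DG.fact_quot_le [P.Normal] {θ : Irr (G ⧸ P)}
    (hD : DG p M (infl _ (QuotientGroup.mk'_surjective P) θ) P) :
    (Nat.card (G ⧸ P)).factorization p ≤ (deg θ).factorization p := by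
  refine fact_le_of_vanish fun k hk h1 => ?_
  obtain ⟨g, rfl⟩ := QuotientGroup.mk'_surjective P k
  by_contra h
  have h2 := hD.pp_mem_of_normal (g := g) h
  rw [← QuotientGroup.eq_one_iff, ← QuotientGroup.mk'_apply, ← pp_map, pp_of_pElt hk] at h2
  exact h1 h2

theorem DG.fact_deg_of_ker [P.Normal] {θ : Irr G} (hD : DG p M θ P)
    (hθ : ∀ x ∈ P, θ.1 x = θ.1 1) : (deg θ).factorization p = P.index.factorization p := by
  obtain ⟨θ, rfl⟩ := exists_infl _ (QuotientGroup.mk'_surjective P) (χ := θ)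
    (by rwa [QuotientGroup.ker_mk'])
  rw [deg_infl]
  exact le_antisymm (fact_deg_le θ) hD.fact_quot_le

theorem DG.infl_unique [P.Normal] (hG : P ⊔ centralizer (P : Set G) = ⊤) {θ ψ : Irr (G ⧸ P)}
    (hD : DG p M (infl _ (QuotientGroup.mk'_surjective P) θ) P)
    (h : SB M (infl _ (QuotientGroup.mk'_surjective P) θ)
      (infl _ (QuotientGroup.mk'_surjective P) ψ)) : ψ = θ := by
  have h1 : ψ ∈ blockOf M θ.1 := (SB_infl_iff_of_pgroup _ _
    (by rw [QuotientGroup.ker_mk']; exact hD.isPGroup)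
    (by rw [QuotientGroup.ker_mk']; exact fun g => reg_mem_centralizer hD.isPGroup hG)).mp h
  rwa [blockOf_eq_singleton hD.fact_quot_le] at h1

theorem DG.ker_unique (hG : P ⊔ centralizer (P : Set G) = ⊤) {θ ψ : Irr G} (hD : DG p M θ P)
    (h : SB M θ ψ) (hθ : ∀ x ∈ P, θ.1 x = θ.1 1) (hψ : ∀ x ∈ P, ψ.1 x = ψ.1 1) : ψ = θ := by
  have := normal_of_sup_centralizer hG
  obtain ⟨θ, rfl⟩ := exists_infl _ (QuotientGroup.mk'_surjective P) (χ := θ)
    (by rwa [QuotientGroup.ker_mk'])
  obtain ⟨ψ, rfl⟩ := exists_infl _ (QuotientGroup.mk'_surjective P) (χ := ψ)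
    (by rwa [QuotientGroup.ker_mk'])
  rw [hD.infl_unique hG h]

theorem DG.apply_reg (hG : P ⊔ centralizer (P : Set G) = ⊤) {θ χ : Irr G} (hD : DG p M θ P)
    (h : SB M θ χ) (hθ : ∀ x ∈ P, θ.1 x = θ.1 1) {y : G} (hy : ¬ p ∣ orderOf y) :
    χ.1 y * θ.1 1 = χ.1 1 * θ.1 y := by
  have := normal_of_sup_centralizer hG
  obtain ⟨θ, rfl⟩ := exists_infl _ (QuotientGroup.mk'_surjective P) (χ := θ)
    (by rwa [QuotientGroup.ker_mk'])
  have h1 : push _ (QuotientGroup.mk'_surjective P) (zr p χ.1) =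
      zr p χ.1 (infl _ (QuotientGroup.mk'_surjective P) θ) • ind {θ} := by
    ext ψ
    rw [push_apply, Pi.smul_apply, smul_eq_mul]
    by_cases h2 : ψ = θ
    · rw [h2, ind_of_mem (Set.mem_singleton θ), mul_one]
    · rw [ind_of_notMem (A := {θ}) h2, mul_zero]
      exact zr_eq_zero (M := M) fun h3 => h2 (hD.infl_unique hG (h.trans h3))
  have h2 : ∀ y, ¬ p ∣ orderOf y → χ.1 y =
      conj (zr p χ.1 (infl _ (QuotientGroup.mk'_surjective P) θ) * (deg θ / Nat.card (G ⧸ P))) *
        θ.1 (QuotientGroup.mk' P y) := fun y hy => by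
    have h3 := co_push_of_reg _ (QuotientGroup.mk'_surjective P)
      (by rw [QuotientGroup.ker_mk']; exact hD.isPGroup)
      (by rw [QuotientGroup.ker_mk']; exact fun g => reg_mem_centralizer hD.isPGroup hG)
      (z := zr p χ.1) (fun g hg => by rw [co_zr χ.2.classFun, regPart_of_sing _ hg]) hy
    rw [h1, map_smul, Pi.smul_apply, co_ind_singleton, co_zr χ.2.classFun, regPart_of_reg _ hy,
      smul_eq_mul, ← mul_assoc] at h3
    have := congrArg conj h3
    rwa [map_mul, Complex.conj_conj, Complex.conj_conj, eq_comm] at this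
  rw [h2 y hy, h2 1 reg_one, infl_apply, infl_apply]
  ring

omit hp [PM p M] in
theorem apply_mul_of_sup_centralizer (hG : P ⊔ centralizer (P : Set G) = ⊤) (χ : Irr G) {u c : G}
    (hu : u ∈ P) (hc : c ∈ centralizer (P : Set G)) : χ.1 (u * c) * χ.1 1 = χ.1 u * χ.1 c := by
  have := Fintype.ofFinite G
  have h1 := χ.2.sum_conj_mul u c
  have h2 : ∀ x, χ.1 (x * u * x⁻¹ * c) = χ.1 (u * c) := fun x => by
    obtain ⟨v, hv, d, hd, rfl⟩ := exists_mul_of_sup_centralizer hG x
    rw [← χ.2.classFun (u * c) v]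
    refine congrArg χ.1 ?_
    have h3 := hd u hu
    have h4 := hc v⁻¹ (inv_mem hv)
    calc v * d * u * (v * d)⁻¹ * c = v * (d * u) * d⁻¹ * (v⁻¹ * c) := by group
      _ = _ := by rw [← h3, h4]; group
  simp only [h2, Finset.sum_const, Finset.card_univ, nsmul_eq_mul, ← Nat.card_eq_fintype_card] at h1
  have := χ.2.apply_one_ne_zero
  have := card_ne_zero G
  field_simp at h1
  exact h1

theorem DG.inner_res {G : Type*} [Group G] [Fintype G] {P : Subgroup G} [Fintype P]
    (hG : P ⊔ centralizer (P : Set G) = ⊤) {θ χ ψ : Irr G} (hD : DG p M θ P)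
    (hθ : ∀ x ∈ P, θ.1 x = θ.1 1) (hχ : SB M θ χ) (hψ : SB M θ ψ) :
    classInner (fun u : P => χ.1 u) (fun u : P => ψ.1 u) = θ.1 1 ^ 2 * classInner χ.1 ψ.1 := by
  classical
  have := normal_of_sup_centralizer hG
  have hθ1 := θ.2.apply_one_ne_zero
  have key : ∀ χ ψ : Irr G, SB M θ χ → SB M θ ψ → θ.1 1 ^ 2 * (Nat.card G * classInner χ.1 ψ.1) =
      Nat.card P * classInner (fun u : P => χ.1 u) (fun u : P => ψ.1 u) *
        ∑ y : G, if p ∣ orderOf y then 0 else θ.1 y * conj (θ.1 y) := by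
    intro χ ψ hχ hψ
    have h1 := sum_pp_mem hD.isPGroup (fun g => reg_mem_centralizer hD.isPGroup hG)
      (fun g => χ.1 g * conj (ψ.1 g))
    rw [card_mul_classInner, card_mul_classInner, Finset.sum_mul_sum]
    have h2 : ∑ g, χ.1 g * conj (ψ.1 g) =
        ∑ g, (if pp p g ∈ P then χ.1 g * conj (ψ.1 g) else 0) := Finset.sum_congr rfl fun g _ => by
      split_ifs with h
      · rfl
      · rw [show χ.1 g = 0 from by_contra fun h' => h ((hχ.dg hD).pp_mem_of_normal h'), zero_mul]
    rw [h2, h1, Finset.mul_sum]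
    refine Finset.sum_congr rfl fun u _ => ?_
    rw [Finset.mul_sum]
    refine Finset.sum_congr rfl fun y _ => ?_
    split_ifs with hy
    · simp
    · have k : ∀ χ : Irr G, SB M θ χ → χ.1 (u * y) * θ.1 1 = χ.1 u * θ.1 y := fun χ hχ => by
        have h3 := apply_mul_of_sup_centralizer hG χ u.2 (reg_mem_centralizer hD.isPGroup hG hy)
        have h4 := hD.apply_reg hG hχ hθ hy
        refine mul_right_cancel₀ χ.2.apply_one_ne_zero ?_
        linear_combination θ.1 1 * h3 + χ.1 u * h4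
      have h3 := k χ hχ
      have h4 := congrArg conj (k ψ hψ)
      rw [map_mul, map_mul, conj_apply_one θ.2.isCharacter] at h4
      linear_combination (conj (ψ.1 (u * y)) * θ.1 1) * h3 + (χ.1 u * θ.1 y) * h4
  have h1 := key θ θ (SB.refl _) (SB.refl _)
  have h2 : classInner (fun u : P => θ.1 u) (fun u : P => θ.1 u) = θ.1 1 ^ 2 := by
    have : (fun u : P => θ.1 u) = θ.1 1 • fun _ => 1 := funext fun u => by simp [hθ u u.2]
    rw [this, classInner_smul_left, classInner_smul_right, classInner_one_one,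
      conj_apply_one θ.2.isCharacter]
    ring
  rw [h2, θ.2.inner_self] at h1
  have h3 := key χ ψ hχ hψ
  have h4 := card_ne_zero G
  have h5 : (Nat.card G : ℂ) = Nat.card P *
      ∑ y : G, if p ∣ orderOf y then 0 else θ.1 y * conj (θ.1 y) := by
    refine mul_left_cancel₀ (pow_ne_zero 2 hθ1) ?_
    linear_combination h1
  refine mul_left_cancel₀ h4 ?_
  linear_combination classInner (fun u : P => χ.1 u) (fun u : P => ψ.1 u) * h5 - h3

omit hp [PM p M] in
theorem cjI_eq_of_sup_centralizer [P.Normal] (hG : P ⊔ centralizer (P : Set G) = ⊤) (g : G)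
    (ζ : Irr P) : cjI P g ζ = ζ := by
  obtain ⟨u, hu, c, hc, rfl⟩ := exists_mul_of_sup_centralizer hG g
  rw [← cjI_cjI, cjI_of_mem P hu, cjI_of_centralizer P hc]

theorem DG.res_eq (hG : P ⊔ centralizer (P : Set G) = ⊤) {θ χ : Irr G} (hD : DG p M θ P)
    (hθ : ∀ x ∈ P, θ.1 x = θ.1 1) (hχ : SB M θ χ) {ζ : Irr P} (h : Over P χ ζ) :
    (fun u : P => χ.1 u) = θ.1 1 • ζ.1 := by
  have := normal_of_sup_centralizer hG
  have := Fintype.ofFinite G
  have := Fintype.ofFinite P
  obtain ⟨e, -, -, h1⟩ := H5.exists_nat_res_eq_smul_of_invariant P χ.2 ζ.2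
    (fun g => congrArg Subtype.val (cjI_eq_of_sup_centralizer hG g ζ)) (over_iff.mp h)
  have h2 := hD.inner_res hG hθ hχ hχ
  rw [h1, classInner_smul_left, classInner_smul_right, ζ.2.inner_self, χ.2.inner_self, map_natCast,
    ← deg_eq, mul_one, mul_one, ← sq] at h2
  have h3 : e ^ 2 = deg θ ^ 2 := by exact_mod_cast h2
  rw [h1, ← deg_eq, Nat.pow_left_injective two_ne_zero h3]

theorem DG.deg_of_over (hG : P ⊔ centralizer (P : Set G) = ⊤) {θ χ : Irr G} (hD : DG p M θ P)
    (hθ : ∀ x ∈ P, θ.1 x = θ.1 1) (hχ : SB M θ χ) {ζ : Irr P} (h : Over P χ ζ) :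
    deg χ = deg θ * deg ζ := by
  have := congrFun (hD.res_eq hG hθ hχ h) 1
  simp only [OneMemClass.coe_one, Pi.smul_apply, smul_eq_mul, ← deg_eq] at this
  exact_mod_cast this

theorem DG.eq_of_over (hG : P ⊔ centralizer (P : Set G) = ⊤) {θ χ ψ : Irr G} (hD : DG p M θ P)
    (hθ : ∀ x ∈ P, θ.1 x = θ.1 1) (hχ : SB M θ χ) (hψ : SB M θ ψ) {ζ : Irr P} (h : Over P χ ζ)
    (h' : Over P ψ ζ) : χ = ψ := by
  have := Fintype.ofFinite G
  have := Fintype.ofFinite P
  have h2 := hD.inner_res hG hθ hχ hψ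
  rw [hD.res_eq hG hθ hχ h, hD.res_eq hG hθ hψ h', classInner_smul_left, classInner_smul_right,
    ζ.2.inner_self, conj_apply_one θ.2.isCharacter] at h2
  refine Subtype.ext (χ.2.eq_of_inner_ne_zero ψ.2 fun h0 => ?_)
  rw [h0] at h2
  simp [θ.2.apply_one_ne_zero] at h2

variable (M) in
theorem exists_SB_over (hP : IsPGroup p P) (χ : Irr G) (ζ : Irr P) :
    ∃ ψ, SB M χ ψ ∧ Over P ψ ζ := by
  have := Fintype.ofFinite P
  by_contra hc
  push Not at hc
  have h1 : res P.subtype (fb M χ) ζ = co (fb M χ) 1 := by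
    rw [res_apply, hat_apply, Finset.sum_eq_single 1]
    · simp [ζ.2.apply_one_ne_zero]
    · intro n _ hn
      rw [subtype_apply, co_ind_eq_zero (fb_mem_ZS (M := M) χ) ((PElt.of_mem hP n.2).dvd_orderOf
        (by simpa using hn)), zero_mul]
    · simp
  refine co_ind_one_ne_zero ⟨χ, self_mem_blockOf (M := M) χ⟩ ?_
  rw [← h1, res_apply_eq, Finset.sum_eq_zero, mul_zero, zero_div]
  intro ψ _
  by_cases h : SB M χ ψ
  · have := hc ψ h
    rw [over_iff, not_not] at this
    erw [this]; rw [mul_zero]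
  · rw [fb, ind_of_notMem (A := blockOf M χ.1) h]; simp

theorem DG.card_blockOf (hG : P ⊔ centralizer (P : Set G) = ⊤) {χ : Irr G} (hD : DG p M χ P) :
    Nat.card (blockOf M χ.1) = Nat.card (ConjClasses P) := by
  have := normal_of_sup_centralizer hG
  have := Fintype.ofFinite P
  obtain ⟨θ, h1, hθ⟩ := exists_SB_ker M hD.isPGroup χ
  rw [h1.blockOf_eq, ← card_irr_eq_card_conjClasses]
  have hD' := h1.dg hD
  choose f hf using fun ψ : blockOf M θ.1 => exists_under P ψ.1
  refine Nat.card_eq_of_bijective f ⟨fun a b h => Subtype.ext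
    (hD'.eq_of_over hG hθ a.2 b.2 (hf a) (h ▸ hf b)), fun ζ => ?_⟩
  obtain ⟨ψ, h2, h3⟩ := exists_SB_over M hD.isPGroup θ ζ
  refine ⟨⟨ψ, h2⟩, Subtype.ext ?_⟩
  have h4 := (hD'.res_eq hG hθ h2 h3).symm.trans (hD'.res_eq hG hθ h2 (hf ⟨ψ, h2⟩))
  exact (smul_right_injective _ θ.2.apply_one_ne_zero h4).symm

end PC

section Reynolds

variable {G : Type*} [Group G] [Finite G] {p : ℕ} [hp : Fact p.Prime] {M : Ideal AlgInt} [PM p M]

omit [Finite G] hp in
theorem subgroupOf_sup_centralizer (P : Subgroup G) :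
    P.subgroupOf (P ⊔ centralizer (P : Set G)) ⊔
      centralizer (P.subgroupOf (P ⊔ centralizer (P : Set G)) : Set ↥(P ⊔ centralizer (P : Set G)))
      = ⊤ := by
  refine map_injective (P ⊔ centralizer (P : Set G)).subtype_injective ?_
  rw [Subgroup.map_sup, map_subgroupOf_eq_of_le le_sup_left, ← MonoidHom.range_eq_map,
    range_subtype]
  refine le_antisymm (sup_le le_sup_left (map_subtype_le _)) (sup_le_sup_left (fun c hc => ?_) _)
  refine ⟨⟨c, (le_sup_right : _ ≤ P ⊔ centralizer (P : Set G)) hc⟩, fun x hx => ?_, rfl⟩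
  exact Subtype.ext (hc x hx)

omit hp in
theorem Over.deg_eq {N : Subgroup G} [N.Normal] {χ : Irr G} {θ : Irr N} (h : Over N χ θ) :
    ∃ e : ℕ, (haveI := Fintype.ofFinite N; classInner (fun n : N => χ.1 n) θ.1) = e ∧
      deg χ = e * (H5.inertia N θ.1).index * deg θ := by
  have := Fintype.ofFinite G
  let _ := Fintype.ofFinite N
  obtain ⟨e, he⟩ := (χ.2.isCharacter.restrict N).inner_nat θ.2.isCharacter
  refine ⟨e, he, ?_⟩
  have := H5.clifford_degree N χ.2 θ.2 h
  rw [he, ← H17.deg_eq, ← H17.deg_eq] at this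
  exact_mod_cast this

omit [PM p M] in
/-- If all characters over `θ` have `p`-part of the degree `|G:N|_p θ(1)_p` then the inertia
index is prime to `p`. -/
theorem fact_inertia_eq {N : Subgroup G} [N.Normal] {θ : Irr N}
    (h : ∀ χ, Over N χ θ →
      N.index.factorization p + (deg θ).factorization p ≤ (deg χ).factorization p) :
    (H5.inertia N θ.1).index.factorization p = N.index.factorization p := by
  classical
  have := Fintype.ofFinite G
  let _ := Fintype.ofFinite N
  set T := H5.inertia N θ.1 with hT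
  have hNT : N ≤ T := H5.le_inertia N θ.2.classFun
  have h1 := relIndex_mul_index hNT
  have h0 : N.relIndex T ≠ 0 := by exact index_ne_zero_of_finite
  have h2 : (N.relIndex T).factorization p + T.index.factorization p = N.index.factorization p := by
    rw [← h1, Nat.factorization_mul h0 index_ne_zero_of_finite]; rfl
  have h3 := H5.card_mul_inner_indFun_self N θ.2
  rw [← H2.card_mul_relIndex hNT, Nat.cast_mul, mul_right_inj' (card_ne_zero N),
    (indFun_classFun N θ.1).inner_eq_sum] at h3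
  have h4 : ∀ χ : Irr G, ∃ e : ℕ, p ^ (N.relIndex T).factorization p ∣ e ∧
      classInner (indFun N θ.1) χ.1 = e := fun χ => by
    rw [classInner_indFun_left N _ χ.2.classFun,
      θ.2.isCharacter.inner_comm (χ.2.isCharacter.restrict N)]
    by_cases h5 : Over N χ θ
    · obtain ⟨e, he, h6⟩ := h5.deg_eq
      refine ⟨e, ?_, he⟩
      have h7 := h χ h5
      have he0 : e ≠ 0 := by rintro rfl; exact h5 (he.trans Nat.cast_zero)
      rw [h6, Nat.factorization_mul (mul_ne_zero he0 index_ne_zero_of_finite) (deg_ne_zero θ),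
        Nat.factorization_mul he0 index_ne_zero_of_finite] at h7
      simp only [Finsupp.add_apply, ← hT] at h7
      exact (hp.out.pow_dvd_iff_le_factorization he0).mpr (by omega)
    · exact ⟨0, dvd_zero _, by simpa [Over] using h5⟩
  choose e he1 he2 using h4
  simp only [he2, map_natCast] at h3
  have h5 : ∑ χ, e χ * e χ = N.relIndex T := by exact_mod_cast h3
  have h6 : p ^ ((N.relIndex T).factorization p + (N.relIndex T).factorization p) ∣
      N.relIndex T := by
    conv_rhs => rw [← h5]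
    rw [pow_add]
    exact Finset.dvd_sum fun χ _ => mul_dvd_mul (he1 χ) (he1 χ)
  have := (hp.out.pow_dvd_iff_le_factorization h0).mp h6
  omega

theorem reynolds {χ : Irr G} {P : Subgroup G} [P.Normal] (hD : DG p M χ P) :
    (∀ a ∈ P, ∀ c ∈ P, a * c = c * a) ↔ ∀ ψ, SB M χ ψ → HZ p M ψ := by
  constructor
  · intro h ψ hψ
    rw [(hψ.dg hD).hz_iff]
    refine le_antisymm ?_ (hψ.dg hD).fact_index_le
    have h2 := H5.degree_dvd_index_of_abelian_normal P h ψ.2 (H17.deg_eq ψ).symm
    exact (Nat.factorization_le_iff_dvd (deg_ne_zero ψ) index_ne_zero_of_finite).mpr h2 p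
  · intro h
    set L := P ⊔ centralizer (P : Set G) with hL
    have hPL : P ≤ L := le_sup_left
    have hG := subgroupOf_sup_centralizer P
    set P' := P.subgroupOf L
    have hm : P'.map L.subtype = P := map_subgroupOf_eq_of_le hPL
    obtain ⟨θ0, h0⟩ := exists_under L χ
    have hI : IndRel M L.subtype θ0 χ := (h0.cov M).indRel hD.isPGroup le_sup_right
    have hD0 : DG p M θ0 P' := hI.dg_of_normal L.subtype_injective (by rwa [hm])
    obtain ⟨θ, h1, hθ⟩ := exists_SB_ker M hD0.isPGroup θ0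
    have hDθ := h1.dg hD0
    have h2 := hDθ.fact_deg_of_ker hθ
    have h3 : P'.index.factorization p + L.index.factorization p = P.index.factorization p := by
      rw [← relIndex_mul_index hPL, Nat.factorization_mul (by exact index_ne_zero_of_finite)
        index_ne_zero_of_finite]; rfl
    have h4 : ∀ η ψ, SB M θ η → Over L ψ η → (deg ψ).factorization p = P.index.factorization p :=
      fun η ψ hη hψ => by
        have h5 := (hI.congr (h1.trans hη) (SB.refl _)).unique
          ((hψ.cov M).indRel hD.isPGroup le_sup_right)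
        exact (h5.dg hD).hz_iff.mp (h ψ h5)
    have h5 := fact_inertia_eq (p := p) (θ := θ) fun ψ hψ => by
      rw [h4 θ ψ (SB.refl _) hψ]; omega
    have h6 : ∀ ζ : Irr P', ζ.1 1 = 1 := by
      intro ζ
      obtain ⟨η, h6, h7⟩ := exists_SB_over M hDθ.isPGroup θ ζ
      have h8 := hDθ.deg_of_over hG hθ h6 h7
      obtain ⟨ψ, h9⟩ := exists_over L η
      obtain ⟨e, he, h10⟩ := h9.deg_eq
      have he0 : e ≠ 0 := by rintro rfl; exact h9 (he.trans Nat.cast_zero)
      have h11 := h4 η ψ h6 h9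
      have h12 : H5.inertia L η.1 ≤ H5.inertia L θ.1 := fun g hg => by
        have h13 : cjI L g η = η := Subtype.ext hg
        have h14 := h6.cjI g
        rw [h13] at h14
        refine congrArg Subtype.val (hDθ.ker_unique hG (h6.trans h14.symm) hθ fun x hx => ?_)
        rw [cjI_apply, hθ _ (mem_subgroupOf.mpr (Normal.conj_mem inferInstance (x : G) hx g))]
        exact (H5.cj_apply_one L g θ.1).symm
      have h13 := (Nat.factorization_le_iff_dvd index_ne_zero_of_finite
        index_ne_zero_of_finite).mpr (index_dvd_of_le h12) p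
      rw [h10, h8, Nat.factorization_mul (mul_ne_zero he0 index_ne_zero_of_finite)
        (mul_ne_zero (deg_ne_zero θ) (deg_ne_zero ζ)),
        Nat.factorization_mul he0 index_ne_zero_of_finite,
        Nat.factorization_mul (deg_ne_zero θ) (deg_ne_zero ζ)] at h11
      simp only [Finsupp.add_apply] at h11
      have h14 : (deg ζ).factorization p = 0 := by omega
      obtain ⟨n, hn⟩ := IsPGroup.iff_card.mp hDθ.isPGroup
      obtain ⟨k, -, hk⟩ := (Nat.dvd_prime_pow hp.out).mp (hn ▸ deg_dvd_card ζ)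
      rw [hk, hp.out.factorization_pow, Finsupp.single_eq_same] at h14
      rw [← H17.deg_eq, hk, h14]; simp
    have h7 := comm_iff_irr_linear.mpr fun ζ hζ => h6 ⟨ζ, hζ⟩
    intro a ha c hc
    exact congrArg (fun x : P' => ((x : L) : G)) (h7 ⟨⟨a, hPL ha⟩, ha⟩ ⟨⟨c, hPL hc⟩, hc⟩)

end Reynolds

section Fong

variable {G : Type*} [Group G] [Finite G] {p : ℕ} [hp : Fact p.Prime] {M : Ideal AlgInt} [PM p M]
  {N : Subgroup G} [hN : N.Normal]

omit hp in
theorem cls_cjI (g : G) (θ : Irr N) (n : N) :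
    cls n (cjI N g θ) = cls ⟨g * n * g⁻¹, hN.conj_mem n n.2 g⟩ θ := cls_irrE _ θ n

omit hp in
theorem res_cls_eq_sum (k : N) [Fintype (G ⧸ (N ⊔ centralizer {(k : G)}))] (θ : Irr N) :
    res N.subtype (cls (k : G)) θ =
      ∑ q : G ⧸ (N ⊔ centralizer {(k : G)}), cls k (cjI N q.out θ) := by
  classical
  simp only [cls_cjI]
  rw [← Finset.sum_apply]
  refine congrFun (ext_co fun n => ?_) θ
  rw [co_res, map_sum, Finset.sum_apply, co_cls]
  simp only [co_cls]
  have key : ∀ g t : G, t * k * t⁻¹ = n →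
      (IsConj (⟨g * k * g⁻¹, hN.conj_mem k k.2 g⟩ : N) n ↔ g⁻¹ * t ∈ N ⊔ centralizer {(k : G)}) := by
    intro g t ht
    constructor
    · intro h
      obtain ⟨s, hs⟩ := isConj_iff.mp h
      have h1 : (s : G) * (g * k * g⁻¹) * (s : G)⁻¹ = t * k * t⁻¹ := ht ▸ congrArg Subtype.val hs
      have h2 : g⁻¹ * t = (g⁻¹ * s * g⁻¹⁻¹) * ((s * g)⁻¹ * t) := by group
      rw [h2]
      refine mul_mem (mem_sup_left (hN.conj_mem _ s.2 _)) (mem_sup_right ?_)
      rw [mem_centralizer_singleton]
      change _ * _ = _ * _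
      calc ((s : G) * g)⁻¹ * t * k = ((s : G) * g)⁻¹ * (t * k * t⁻¹) * t := by group
        _ = _ := by rw [← h1]; group
    · intro h
      obtain ⟨a, ha, c, hc, h1⟩ := mem_sup_of_normal_left.mp h
      refine isConj_iff.mpr ⟨⟨g * a * g⁻¹, hN.conj_mem a ha g⟩, Subtype.ext ?_⟩
      change g * a * g⁻¹ * (g * k * g⁻¹) * (g * a * g⁻¹)⁻¹ = n
      rw [← ht, ← mul_inv_cancel_left g t, ← h1]
      have h2 := (mem_centralizer_singleton.mp hc).eq
      calc _ = g * a * k * (g * a)⁻¹ := by group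
        _ = g * a * (c * k * c⁻¹) * (g * a)⁻¹ := by rw [h2, mul_inv_cancel_right]
        _ = _ := by group
  split_ifs with h
  · obtain ⟨t, ht⟩ := isConj_iff.mp h
    rw [Finset.sum_eq_single (t : G ⧸ (N ⊔ centralizer {(k : G)})), if_pos]
    · rw [key _ t ht, ← QuotientGroup.eq, QuotientGroup.out_eq']
    · intro q _ hq
      rw [if_neg]
      rwa [key _ t ht, ← QuotientGroup.eq, QuotientGroup.out_eq']
    · simp
  · symm
    refine Finset.sum_eq_zero fun q _ => if_neg fun h1 => h ?_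
    exact (isConj_iff.mpr ⟨q.out, rfl⟩ : IsConj (k : G) _).trans (N.subtype.map_isConj h1)

theorem fong {ξ : Irr N} (hinv : ∀ g, SB M ξ (cjI N g ξ)) {χ : Irr G} (hcov : Cov N M χ ξ)
    {P : Subgroup G} (hP : DG p M χ P)
    (hmax : ∀ χ' D, Cov N M χ' ξ → DG p M χ' D → Nat.card D ≤ Nat.card P) :
    ¬ p ∣ (P ⊔ N).index ∧ DG p M ξ ((P ⊓ N).subgroupOf N) ∧
      (Nat.card P).factorization p =
        (Nat.card ((P ⊓ N).subgroupOf N)).factorization p + N.index.factorization p := by
  classical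
  have hb : ∀ g θ, fb M ξ (cjI N g θ) = fb M ξ θ :=
    ind_inv fun g θ hθ => (hinv g).trans (SB.cjI hθ g)
  have he : up N (fb M ξ) = ind {ψ | Cov N M ψ ξ} := by
    ext ψ
    obtain ⟨θ, h⟩ := exists_under N ψ
    rw [h.up_eq hb, fb, ind_apply, ind_apply]
    refine if_congr ⟨fun h1 => (h.cov M).congr (SB.refl _) (SB.symm h1), fun h1 => ?_⟩ rfl rfl
    obtain ⟨g, hg⟩ := Cov.exists_cjI h1 (h.cov M)
    exact (hinv g).trans hg
  have heS : up N (fb M ξ) ∈ ZS G M := up_mem_ZR hb (fb_mem_ZS ξ)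
  obtain ⟨y, h1, h2⟩ := exists_notMem_of_apply heS (χ := χ) (by
    rw [he, ind_of_mem (A := {ψ | Cov N M ψ ξ}) hcov]; exact one_notMem_Pm)
  obtain ⟨k, hk, hc⟩ := hP.min_cls h2
  rw [co_of_isConj _ hc] at h1
  rw [cls_of_isConj hc] at h2
  have hkN : k ∈ N := by
    by_contra h
    rw [co_up hb, extendByZero_of_not_mem _ _ h] at h1
    exact h1 (zero_mem _)
  obtain ⟨k, rfl⟩ : ∃ k' : N, k' = k := ⟨⟨k, hkN⟩, rfl⟩
  have h3 : res N.subtype (cls (k : G)) ξ ∉ Pm M := by
    rwa [← mem_Pm_congr (cov_iff_cls.mp hcov k)]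
  have h4 : SylIn p P (centralizer {(k : G)}) := by
    have h5 : ∃ χ', Cov N M χ' ξ ∧ co (fb M χ') k ∉ Pm M := by
      by_contra hcon
      push Not at hcon
      have h6 : ∀ A : Set (Irr G), co (ind A) k = ∑ ψ, ind A ψ *
          ((Nat.card G : ℂ)⁻¹ * (ψ.1 1 * conj (ψ.1 k))) := fun A => by
        rw [co_apply, Finset.mul_sum]
        exact Finset.sum_congr rfl fun ψ _ => by ring
      refine h1 ?_
      rw [he, h6]
      refine sum_ind_mem_of_blocks (M := M) (fun a ha b hab => Cov.congr ha hab (SB.refl _)) _ _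
        fun a ha => ?_
      rw [← h6]
      exact hcon a ha
    obtain ⟨χ', h5, h6⟩ := h5
    obtain ⟨D, hD⟩ := exists_sylIn p (centralizer ({(k : G)} : Set G))
    have h7 := hmax χ' D h5 ⟨k, ⟨h6, by rwa [mem_Pm_congr (cov_iff_cls.mp h5 k)]⟩, hD⟩
    exact sylIn_of_card_ge (le_centralizer_singleton_iff.mpr hk) hP.isPGroup (by rwa [← hD.card])
  have := Fintype.ofFinite (G ⧸ (N ⊔ centralizer {(k : G)}))
  have h5 : res N.subtype (cls (k : G)) ξ - (N ⊔ centralizer {(k : G)}).index * cls k ξ ∈ Pm M := by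
    rw [res_cls_eq_sum, index_eq_card, Nat.card_eq_fintype_card, ← nsmul_eq_mul, ← Finset.card_univ,
      ← Finset.sum_const, ← Finset.sum_sub_distrib]
    exact sum_mem fun q _ => (hinv _).symm.sub_mem (cls_mem_ZR _ k)
  have h6 := notMem_Pm_of_sub (sub_mem_Pm_symm h5) h3
  have h7 : ¬ p ∣ (N ⊔ centralizer {(k : G)}).index := fun h =>
    h6 (natCast_mul_mem_Pm h (cls_mem_S k ξ))
  have h8 := h4.inf_normal N
  have h9 : ((P ⊔ N).index).factorization p = 0 := by
    have a1 := congrArg (fun n => n.factorization p) (H2.card_sup_mul_card_inf (H := P) (K := N)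
      (by rw [normalizer_eq_top]; exact le_top))
    have a2 := congrArg (fun n => n.factorization p) (H2.card_sup_mul_card_inf
      (H := centralizer {(k : G)}) (K := N) (by rw [normalizer_eq_top]; exact le_top))
    simp only [Nat.factorization_mul Nat.card_pos.ne' Nat.card_pos.ne', Finsupp.add_apply] at a1 a2
    have a3 := h4.factorization_card
    have a4 := h8.factorization_card
    have a5 := fact_card_add_index (p := p) (P ⊔ N)
    have a6 := fact_card_add_index (p := p) (centralizer {(k : G)} ⊔ N)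
    rw [sup_comm] at h7
    rw [Nat.factorization_eq_zero_of_not_dvd h7] at a6
    omega
  refine ⟨fun h => ?_, ⟨k, ⟨?_, fun h => h6 (Pm_mul_left (natCast_mem _ _) h)⟩, ?_⟩, ?_⟩
  · have := (hp.out.dvd_iff_one_le_factorization index_ne_zero_of_finite).mp h
    omega
  · rwa [co_up hb, extendByZero_coe] at h1
  · refine SylIn.of_map (f := N.subtype) N.subtype_injective ?_
    rwa [map_centralizer_singleton N.subtype_injective, range_subtype,
      map_subgroupOf_eq_of_le inf_le_right]
  · have a1 := congrArg (fun n => n.factorization p) (H2.card_sup_mul_card_inf (H := P) (K := N)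
      (by rw [normalizer_eq_top]; exact le_top))
    simp only [Nat.factorization_mul Nat.card_pos.ne' Nat.card_pos.ne', Finsupp.add_apply] at a1
    have a5 := fact_card_add_index (p := p) (P ⊔ N)
    have a6 := fact_card_add_index (p := p) N
    rw [H2.card_subgroupOf_of_le inf_le_right]
    omega

end Fong

end H17
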