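import Mathlib
import Cfsg.Agent.H23.T1
import Cfsg.Agent.H23.Components
import Cfsg.Agent.H25.Rank2
import Cfsg.Agent.S0095
import Cfsg.Prelude.Def_ClassificationK

/-!
# Ambient criterion for `F*(C(z))` of symplectic type
-/

set_option autoImplicit false

open Cfsg H24 H25 Subgroup

namespace H17.K3

variable {G : Type*} [Group G] [Finite G]

theorem fstar_eq {H : Subgroup G} (loc : H ⊓ C[O[{2}, H]] ≤ O[{2}, H]) :
    generalizedFittingSubgroup ↥H = O[{2}, H].subgroupOf H := by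
  have e0 : pCore 2 ↥H = O[{2}, H].subgroupOf H := by
    rw [pcore_singleton Nat.prime_two, subgroupOf_map_subtype']
  rw [← e0, H23.fstar_eq_pCore_iff, e0]
  exact fun g hg => loc (mem_inf.2 ⟨g.2, mem_C.2 fun q hq =>
    congrArg Subtype.val (mem_C.1 hg ⟨q, pcore_le _ _ hq⟩ hq)⟩)

theorem card_fstar {H : Subgroup G} (loc : H ⊓ C[O[{2}, H]] ≤ O[{2}, H]) :
    Nat.card (generalizedFittingSubgroup ↥H) = ♯O[{2}, H] := by
  rw [fstar_eq loc, card_subgroupOf_of_le (pcore_le _ _)]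

theorem cyc_of_omega {A : Subgroup G} (h2 : IsPi {2} A) (hA : Abl A) (h : ♯(omegaOne 2 A) ≤ 2) :
    Cyc A := by
  rw [abelian_rank1_cyclic hA, rank_pgroup Nat.prime_two h2]
  obtain ⟨B, hB⟩ := prank_witness Nat.prime_two A
  have h1 : B ≤ omegaOne 2 A := hB.elem.le_omegaOne hB.le
  have h3 := (card_le_of_le h1).trans h
  rw [hB.card] at h3
  exact (Nat.pow_le_pow_iff_right (by norm_num : 1 < 2)).1 (by simpa using h3)

theorem cyc_of_map {K L : Type*} [Group K] [Group L] {A : Subgroup K} (f : K →* L)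
    (hf : Function.Injective f) (h : IsCyclic (A.map f)) : IsCyclic A :=
  (A.equivMapOfInjective f hf).isCyclic.2 h

theorem sympl_core0 {H B : Subgroup G}
    (hX : ∀ X : Subgroup G, X ≤ O[{2}, H] → IsElementaryAbelian 2 X → H ≤ N[X] → ♯X ≤ 2)
    (n2 : B ⊴ H) (le : B ≤ O[{2}, H]) (ab : Abl B) : Cyc B := by
  have h1 : IsPi {2} B := (pcore_pi {2} H).of_le le
  have h2 : omegaOne 2 B ≤ O[{2}, H] := (omegaOne_le 2 B).trans le
  have h3 : H ≤ N[omegaOne 2 B] := (chr_omegaOne 2 B).norm n2.norm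
  exact cyc_of_omega h1 ab (hX _ h2 (omegaOne_elem ab) h3)

theorem sympl_core1 {H : Subgroup G}
    (hX : ∀ X : Subgroup G, X ≤ O[{2}, H] → IsElementaryAbelian 2 X → H ≤ N[X] → ♯X ≤ 2)
    (B : Subgroup H) [B.Normal] (le : B.map H.subtype ≤ O[{2}, H]) (ab : Abl B) : IsCyclic B :=
  cyc_of_map _ H.subtype_injective (sympl_core0 hX (nml_map_subtype B) le (ab.map H.subtype))

theorem sympl_core {H : Subgroup G}
    (hX : ∀ X : Subgroup G, X ≤ O[{2}, H] → IsElementaryAbelian 2 X → H ≤ N[X] → ♯X ≤ 2)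
    (F : Subgroup H) [F.Normal] (hF : F.map H.subtype ≤ O[{2}, H]) (A : Subgroup F)
    [A.Characteristic] (hA : Abl A) : IsCyclic A :=
  cyc_of_map _ F.subtype_injective (sympl_core1 hX (A.map F.subtype)
    ((map_mono (map_subtype_le A)).trans hF) (hA.map F.subtype))

theorem sympl_of {H : Subgroup G} (loc : H ⊓ C[O[{2}, H]] ≤ O[{2}, H])
    (hX : ∀ X : Subgroup G, X ≤ O[{2}, H] → IsElementaryAbelian 2 X → H ≤ N[X] → ♯X ≤ 2) :
    IsOfSymplecticType ↥(generalizedFittingSubgroup ↥H) := by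
  have e0 : pCore 2 ↥H = O[{2}, H].subgroupOf H := by
    rw [pcore_singleton Nat.prime_two, subgroupOf_map_subtype']
  rw [fstar_eq loc, ← e0]
  exact ⟨H2.pCore_isPGroup 2 _, fun A _ hA =>
    sympl_core hX _ (pcore_singleton Nat.prime_two H).ge A hA⟩

/-- output format of the symplectic cases -/
theorem sympl_out {z : G} (loc : C{z} ⊓ C[O[{2}, C{z}]] ≤ O[{2}, C{z}])
    (hc : ♯O[{2}, C{z}] = 32 ∨ ♯O[{2}, C{z}] = 64 ∨ ♯O[{2}, C{z}] = 128) :
    ¬ IsExtraspecial 2 ↥(generalizedFittingSubgroup ↥C{z}) ∨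
      Nat.card ↥(generalizedFittingSubgroup ↥C{z}) = 32 ∨
      Nat.card ↥(generalizedFittingSubgroup ↥C{z}) = 128 ∨
      Nat.card ↥(generalizedFittingSubgroup ↥C{z}) = 512 := by
  rw [card_fstar loc]
  rcases hc with h | h | h
  · exact .inr (.inl h)
  · refine .inl fun he => ?_
    obtain ⟨n, -, e⟩ := Cfsg.Agent.S0095.result he
    rw [card_fstar loc, h, show 64 = 2 ^ 6 by norm_num] at e
    have := Nat.pow_right_injective le_rfl e
    omega
  · exact .inr (.inr (.inl h))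

end H17.K3
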