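import Mathlib
import Cfsg.Agent.H17.Second
import Cfsg.Agent.H17.Princ
import Cfsg.Prelude.Def_CaseTheorems

/-!
# Non-principal 2-blocks of groups of characteristic 2 type have defect zero
-/

set_option autoImplicit false

open Cfsg H4 Subgroup

namespace H17.K3

variable {G : Type*} [Group G] [Finite G]

/-- A group with `C(O_p) ≤ O_p` has one `p`-block. -/
theorem sb_of_char {p : ℕ} [Fact p.Prime] (M : Ideal AlgInt) [PM p M]
    (hC : centralizer (pCore p G : Set G) ≤ pCore p G) (χ ψ : Irr G) : SB M χ ψ := by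
  classical
  have h1 : ∀ θ : Irr G, fb M χ θ - co (fb M χ) 1 ∈ Pm M := fun θ =>
    apply_mem_of_normal (H2.pCore_isPGroup p G) (z := fb M χ - fun _ => co (fb M χ) 1)
      (sub_mem (fb_mem_ZS χ) (const_mem_ZS (fb_mem_ZS χ 1))) (fun g hg => by
        rw [map_sub, Pi.sub_apply, co_const, co_one]
        split_ifs with h
        · rw [h]; simp
        · rw [co_ind_eq_zero (fb_mem_ZS (M := M) χ)
            ((PElt.of_mem (H2.pCore_isPGroup p G) (hC hg)).dvd_orderOf h)]
          simp) θ
  refine SB_iff_fb.mpr ?_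
  rw [mem_Pm_congr (h1 ψ), ← mem_Pm_congr (h1 χ), fb_self]
  exact one_notMem_Pm

/-- In a group all of whose `p`-locals have characteristic `p`, a character outside the principal
block vanishes on `p`-singular elements. -/
theorem vanish_p {p : ℕ} [Fact p.Prime] (M : Ideal AlgInt) [PM p M]
    (hc : ∀ T : Subgroup G, IsPGroup p T → T ≠ ⊥ →
      centralizer (pCore p ↥(normalizer (T : Set G)) : Set ↥(normalizer (T : Set G))) ≤
        pCore p ↥(normalizer (T : Set G)))
    {χ : Irr G} (hχ : ¬ SB M (irrOne G) χ) {g : G} (hg : p ∣ orderOf g) : χ.1 g = 0 := by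
  by_contra h
  obtain ⟨D, hD, hgD⟩ := exists_DG_of_ne_zero M h
  have hne : D ≠ ⊥ := by
    rintro rfl
    exact pp_eq_one_iff.mp (mem_bot.mp hgD) hg
  obtain ⟨ξ, h1, -⟩ := hD.exists_corr
  exact hχ ((h1.third (subtype_injective _)).mpr (sb_of_char M (hc D hD.isPGroup hne) _ _))

theorem vanish (hc : IsCharacteristicTwoType G) (M : Ideal AlgInt) [PM 2 M]
    {χ : Irr G} (hχ : ¬ SB M (irrOne G) χ) {g : G} (hg : Even (orderOf g)) : χ.1 g = 0 :=
  vanish_p M hc.2 hχ (even_iff_two_dvd.mp hg)

end H17.K3
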