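import Mathlib

/-! Numerical part of Lyons' theorem on groups with a Sylow 2-subgroup of type `U₃(4)`:
a verified enumeration of the possible columns of generalized decomposition numbers, and
branch-and-bound certificates excluding each configuration. -/

set_option autoImplicit false

namespace H17.Ly

structure Row where
  (a0 a1 a2 a3 a4 t : ℤ)
  deriving DecidableEq

structure V8 where
  (a b c d e f g h : ℕ)
  deriving DecidableEq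

structure Ty where
  id : ℕ
  r : Row
  w : ℕ
  inv : V8
  msk : V8
  (A S T s2 P N : ℤ)

inductive Tr where
  | l (n : ℕ)
  | r (n : ℕ)
  | c (n : ℕ) (x y : Tr)

structure Ent where
  ty : Ty
  (lo hi : ℤ)

def linOk (α β γ : ℤ) : List Ent → ℤ → Bool
  | [], acc => decide (acc < α - γ)
  | e :: es, acc =>
    if 0 < α * e.ty.A + β * e.ty.S + γ * e.ty.T then
      (decide (e.hi ≠ 0) && linOk α β γ es (acc + (α * e.ty.A + β * e.ty.S + γ * e.ty.T) * e.hi))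
    else if α * e.ty.A + β * e.ty.S + γ * e.ty.T < 0 then
      (decide (e.lo ≠ 0) && linOk α β γ es (acc + (α * e.ty.A + β * e.ty.S + γ * e.ty.T) * e.lo))
    else linOk α β γ es acc

/-- a denominator `q` such that `c / x ≤ c / q` (with `c / 0 = 0`) -/
def den (c : ℤ) (e : Ent) : ℤ :=
  if 0 < c then (if 0 < e.lo then e.lo else if e.hi < 0 then (if e.lo < 0 then e.lo else 0) else e.ty.P)
  else (if e.hi < 0 then e.hi else if 0 < e.lo then (if 0 < e.hi then e.hi else 0) else -e.ty.N)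

def cf (α β γ : ℤ) (τ : Ty) : ℤ := (α * (4 * τ.A - τ.S) + β * τ.T + γ * τ.S) * τ.s2

def ratUb (α β γ : ℤ) : List Ent → ℚ
  | [] => 0
  | e :: es => (cf α β γ e.ty : ℚ) / (den (cf α β γ e.ty) e : ℚ) + ratUb α β γ es

def ratOk (α β γ : ℤ) (E : List Ent) : Bool :=
  decide (0 ≤ γ) && (if 0 < γ then decide (ratUb α β γ E ≤ ((4 * α - β : ℤ) : ℚ))
    else decide (ratUb α β γ E < ((4 * α - β : ℤ) : ℚ)))

def spL (k : ℕ) (e : Ent) : Ent :=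
  if k = 0 then ⟨e.ty, e.ty.P, e.hi⟩ else ⟨e.ty, e.lo, e.ty.P + 64 * ((k : ℤ) - 4096)⟩

def spR (k : ℕ) (e : Ent) : Ent :=
  if k = 0 then ⟨e.ty, e.lo, -e.ty.N⟩ else ⟨e.ty, e.ty.P + 64 * ((k : ℤ) - 4095), e.hi⟩

def upd (f : Ent → Ent) : List Ent → ℕ → List Ent
  | [], _ => []
  | e :: es, 0 => f e :: es
  | e :: es, i + 1 => e :: upd f es i

def check : Tr → List Ent → Bool
  | .l n, E => linOk ((n % 17 : ℕ) - 8) ((n / 17 % 17 : ℕ) - 8) ((n / 289 : ℕ) - 8) E 0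
  | .r n, E => ratOk ((n % 17 : ℕ) - 8) ((n / 17 % 17 : ℕ) - 8) (n / 289 : ℕ) E
  | .c n x y, E => check x (upd (spL (n / 16)) E (n % 16)) && check y (upd (spR (n / 16)) E (n % 16))

def V8.le (u v : V8) : Bool :=
  Nat.ble u.a v.a && Nat.ble u.b v.b && Nat.ble u.c v.c && Nat.ble u.d v.d &&
    Nat.ble u.e v.e && Nat.ble u.f v.f && Nat.ble u.g v.g && Nat.ble u.h v.h

def V8.sub (u v : V8) : V8 :=
  ⟨u.a - v.a, u.b - v.b, u.c - v.c, u.d - v.d, u.e - v.e, u.f - v.f, u.g - v.g, u.h - v.h⟩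

def V8.add (u v : V8) : V8 :=
  ⟨u.a + v.a, u.b + v.b, u.c + v.c, u.d + v.d, u.e + v.e, u.f + v.f, u.g + v.g, u.h + v.h⟩

def V8.zero : V8 := ⟨0, 0, 0, 0, 0, 0, 0, 0⟩

/-- some component is masked out but nonzero -/
def V8.bad (m v : V8) : Bool :=
  (Nat.beq m.a 0 && Nat.blt 0 v.a) || (Nat.beq m.b 0 && Nat.blt 0 v.b) ||
  (Nat.beq m.c 0 && Nat.blt 0 v.c) || (Nat.beq m.d 0 && Nat.blt 0 v.d) ||
  (Nat.beq m.e 0 && Nat.blt 0 v.e) || (Nat.beq m.f 0 && Nat.blt 0 v.f) ||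
  (Nat.beq m.g 0 && Nat.blt 0 v.g) || (Nat.beq m.h 0 && Nat.blt 0 v.h)

def search (cert : List Ty → Bool) : ℕ → List Ty → V8 → List Ty → Bool
  | 0, _, _, _ => false
  | _ + 1, [], rem, acc => V8.bad V8.zero rem || cert acc
  | f + 1, τ :: ts, rem, acc => V8.bad τ.msk rem ||
      ((!(V8.le τ.inv rem) || search cert f (τ :: ts) (V8.sub rem τ.inv) (τ :: acc)) &&
        search cert f ts rem acc)

set_option maxRecDepth 100000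

structure Good (L : List (Ty × ℤ)) : Prop where
  hx : ∀ p ∈ L, 0 < p.1.P ∧ 0 < p.1.N ∧ (p.1.P ≤ p.2 ∨ p.2 ≤ -p.1.N) ∧ (64 : ℤ) ∣ p.2 - p.1.P
  h1 : (L.map fun p => p.1.A * p.2).sum = 1
  h2 : (L.map fun p => p.1.S * p.2).sum = 0
  h3 : (L.map fun p => p.1.T * p.2).sum = -1
  h4 : (L.map fun p => (((4 * p.1.A - p.1.S) * p.1.s2 : ℤ) : ℚ) / (p.2 : ℚ)).sum = 4
  h5 : (L.map fun p => ((p.1.T * p.1.s2 : ℤ) : ℚ) / (p.2 : ℚ)).sum = -1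
  h6 : 0 < (L.map fun p => ((p.1.S * p.1.s2 : ℤ) : ℚ) / (p.2 : ℚ)).sum

theorem Good.perm {L M : List (Ty × ℤ)} (h : Good L) (hp : L.Perm M) : Good M where
  hx p hm := h.hx p (hp.symm.subset hm)
  h1 := by rw [← (hp.map _).sum_eq]; exact h.h1
  h2 := by rw [← (hp.map _).sum_eq]; exact h.h2
  h3 := by rw [← (hp.map _).sum_eq]; exact h.h3
  h4 := by rw [← (hp.map _).sum_eq]; exact h.h4
  h5 := by rw [← (hp.map _).sum_eq]; exact h.h5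
  h6 := by rw [← (hp.map _).sum_eq]; exact h.h6

def Fits (e : Ent) (p : Ty × ℤ) : Prop :=
  e.ty = p.1 ∧ (e.lo ≠ 0 → e.lo ≤ p.2) ∧ (e.hi ≠ 0 → p.2 ≤ e.hi)

theorem linOk_sound (α β γ : ℤ) {E : List Ent} {L : List (Ty × ℤ)} (h : List.Forall₂ Fits E L) :
    ∀ acc, linOk α β γ E acc = true →
      acc + (α * (L.map fun p => p.1.A * p.2).sum + β * (L.map fun p => p.1.S * p.2).sum +
        γ * (L.map fun p => p.1.T * p.2).sum) < α - γ := by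
  induction h with
  | nil => intro acc h; simpa [linOk] using h
  | @cons e p E L hf _ ih =>
    intro acc h
    obtain ⟨h0, h1, h2⟩ := hf
    simp only [List.map_cons, List.sum_cons, ← h0]
    unfold linOk at h
    split_ifs at h with c1 c2
    · simp only [Bool.and_eq_true, decide_eq_true_eq] at h
      have := ih _ h.2
      have := mul_le_mul_of_nonneg_left (h2 h.1) c1.le
      linarith
    · simp only [Bool.and_eq_true, decide_eq_true_eq] at h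
      have := ih _ h.2
      have := mul_le_mul_of_nonpos_left (h1 h.1) c2.le
      linarith
    · have := ih _ h
      have h0 : α * e.ty.A + β * e.ty.S + γ * e.ty.T = 0 := by omega
      have : (α * e.ty.A + β * e.ty.S + γ * e.ty.T) * p.2 = 0 := by rw [h0, zero_mul]
      linarith

theorem div_le_aux {c x q : ℚ} (h : 0 < x * q) (h2 : c * q ≤ c * x) : c / x ≤ c / q := by
  have hx : x ≠ 0 := by rintro rfl; simp at h
  have hq : q ≠ 0 := by rintro rfl; simp at h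
  have : c / q - c / x = (c * x - c * q) / (x * q) := by field_simp
  have h3 : 0 ≤ (c * x - c * q) / (x * q) := div_nonneg (by linarith) h.le
  linarith

theorem den_sound (c : ℤ) {e : Ent} {p : Ty × ℤ} (hf : Fits e p)
    (hx : 0 < p.1.P ∧ 0 < p.1.N ∧ (p.1.P ≤ p.2 ∨ p.2 ≤ -p.1.N)) :
    (c : ℚ) / (p.2 : ℚ) ≤ (c : ℚ) / (den c e : ℚ) := by
  obtain ⟨h0, h1, h2⟩ := hf
  obtain ⟨hP, hN, hx⟩ := hx
  rw [← h0] at hP hN hx
  have A : ∀ q : ℤ, 0 < p.2 * q → c * q ≤ c * p.2 → (c : ℚ) / (p.2 : ℚ) ≤ (c : ℚ) / (q : ℚ) :=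
    fun q a b => div_le_aux (by exact_mod_cast a) (by exact_mod_cast b)
  have B : ∀ q : ℤ, c * p.2 ≤ 0 → 0 ≤ c * q → (c : ℚ) / (p.2 : ℚ) ≤ (c : ℚ) / (q : ℚ) := by
    intro q a b
    have a' : (c : ℚ) * (p.2 : ℚ) ≤ 0 := by exact_mod_cast a
    have b' : (0 : ℚ) ≤ (c : ℚ) * (q : ℚ) := by exact_mod_cast b
    have e1 : (c : ℚ) / (p.2 : ℚ) = (c * p.2) * (p.2 : ℚ)⁻¹ ^ 2 := by
      by_cases h : (p.2 : ℚ) = 0
      · simp [h]
      · field_simp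
    have e2 : (c : ℚ) / (q : ℚ) = (c * q) * (q : ℚ)⁻¹ ^ 2 := by
      by_cases h : (q : ℚ) = 0
      · simp [h]
      · field_simp
    rw [e1, e2]
    nlinarith [sq_nonneg (p.2 : ℚ)⁻¹, sq_nonneg (q : ℚ)⁻¹]
  unfold den
  split_ifs with c1 c2 c3 c4 c5 c6 c7
  · have := h1 (by omega); exact A _ (by nlinarith) (by nlinarith)
  · have := h1 (by omega); have := h2 (by omega); exact A _ (by nlinarith) (by nlinarith)
  · have := h2 (by omega); exact B _ (by nlinarith) (by simp)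
  · rcases hx with hx | hx
    · exact A _ (by nlinarith) (by nlinarith)
    · exact B _ (by nlinarith) (by nlinarith)
  · have := h2 (by omega); exact A _ (by nlinarith) (by nlinarith)
  · have := h1 (by omega); have := h2 (by omega); exact A _ (by nlinarith) (by nlinarith)
  · have := h1 (by omega); exact B _ (by nlinarith) (by simp)
  · rcases hx with hx | hx
    · exact B _ (by nlinarith) (by nlinarith)
    · exact A _ (by nlinarith) (by nlinarith)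

theorem ratUb_sound (α β γ : ℤ) {E : List Ent} {L : List (Ty × ℤ)} (h : List.Forall₂ Fits E L)
    (hx : ∀ p ∈ L, 0 < p.1.P ∧ 0 < p.1.N ∧ (p.1.P ≤ p.2 ∨ p.2 ≤ -p.1.N) ∧ (64 : ℤ) ∣ p.2 - p.1.P) :
    α * (L.map fun p => (((4 * p.1.A - p.1.S) * p.1.s2 : ℤ) : ℚ) / (p.2 : ℚ)).sum +
      β * (L.map fun p => ((p.1.T * p.1.s2 : ℤ) : ℚ) / (p.2 : ℚ)).sum +
      γ * (L.map fun p => ((p.1.S * p.1.s2 : ℤ) : ℚ) / (p.2 : ℚ)).sum ≤ ratUb α β γ E := by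
  induction h with
  | nil => simp [ratUb]
  | @cons e p E L hf _ ih =>
    have h1 := ih fun q hq => hx q (List.mem_cons_of_mem _ hq)
    obtain ⟨a, b, c, -⟩ := hx p List.mem_cons_self
    have h2 := den_sound (cf α β γ e.ty) hf ⟨a, b, c⟩
    simp only [List.map_cons, List.sum_cons, ratUb]
    have h3 : (cf α β γ e.ty : ℚ) / (p.2 : ℚ) =
        α * ((((4 * p.1.A - p.1.S) * p.1.s2 : ℤ) : ℚ) / (p.2 : ℚ)) +
        β * (((p.1.T * p.1.s2 : ℤ) : ℚ) / (p.2 : ℚ)) + γ * (((p.1.S * p.1.s2 : ℤ) : ℚ) / (p.2 : ℚ)) := by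
      rw [hf.1]; unfold cf; push_cast; ring
    linarith

theorem upd_split {f g : Ent → Ent} {Q : Ty × ℤ → Prop}
    (hfg : ∀ e p, Q p → Fits e p → Fits (f e) p ∨ Fits (g e) p)
    {E : List Ent} {L : List (Ty × ℤ)} (h : List.Forall₂ Fits E L) (hQ : ∀ p ∈ L, Q p) :
    ∀ i, List.Forall₂ Fits (upd f E i) L ∨ List.Forall₂ Fits (upd g E i) L := by
  induction h with
  | nil => intro i; left; exact List.Forall₂.nil
  | @cons e p E L hf hr ih =>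
    intro i
    cases i with
    | zero =>
      rcases hfg e p (hQ p List.mem_cons_self) hf with h | h
      · left; exact List.Forall₂.cons h hr
      · right; exact List.Forall₂.cons h hr
    | succ i =>
      rcases ih (fun q hq => hQ q (List.mem_cons_of_mem _ hq)) i with h | h
      · left; exact List.Forall₂.cons hf h
      · right; exact List.Forall₂.cons hf h

theorem check_sound {L : List (Ty × ℤ)} (hL : Good L) (t : Tr) :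
    ∀ E, List.Forall₂ Fits E L → check t E = true → False := by
  induction t with
  | l n =>
    intro E hE h
    have := linOk_sound _ _ _ hE 0 h
    rw [hL.h1, hL.h2, hL.h3] at this
    linarith
  | r n =>
    intro E hE h
    simp only [check, ratOk, Bool.and_eq_true, decide_eq_true_eq] at h
    have h1 := ratUb_sound ((n % 17 : ℕ) - 8) ((n / 17 % 17 : ℕ) - 8) (n / 289 : ℕ) hE hL.hx
    rw [hL.h4, hL.h5] at h1
    have h6 := hL.h6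
    obtain ⟨h0, h⟩ := h
    generalize ((n % 17 : ℕ) : ℤ) - 8 = α at *
    generalize ((n / 17 % 17 : ℕ) : ℤ) - 8 = β at *
    generalize ((n / 289 : ℕ) : ℤ) = γ at *
    split_ifs at h with c
    · have c' : (0 : ℚ) < γ := by exact_mod_cast c
      have := mul_pos c' h6
      simp only [decide_eq_true_eq] at h
      push_cast at h
      linarith
    · have c' : (0 : ℚ) ≤ γ := by exact_mod_cast h0
      have := mul_nonneg c' h6.le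
      simp only [decide_eq_true_eq] at h
      push_cast at h
      linarith
  | c n x y ihx ihy =>
    intro E hE h
    simp only [check, Bool.and_eq_true] at h
    have := upd_split (f := spL (n / 16)) (g := spR (n / 16))
      (Q := fun p => 0 < p.1.P ∧ 0 < p.1.N ∧ (p.1.P ≤ p.2 ∨ p.2 ≤ -p.1.N) ∧ (64 : ℤ) ∣ p.2 - p.1.P)
      (by
        rintro e p ⟨-, -, q3, q4⟩ ⟨f1, f2, f3⟩
        unfold spL spR
        split_ifs with c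
        · rcases q3 with q | q
          · left; exact ⟨f1, fun _ => by rw [f1]; exact q, f3⟩
          · right; exact ⟨f1, f2, fun _ => by rw [f1]; exact q⟩
        · by_cases q : p.2 ≤ e.ty.P + 64 * (((n / 16 : ℕ) : ℤ) - 4096)
          · left; exact ⟨f1, f2, fun _ => q⟩
          · right
            refine ⟨f1, fun _ => ?_, f3⟩
            rw [← f1] at q4
            show e.ty.P + 64 * (((n / 16 : ℕ) : ℤ) - 4095) ≤ p.2
            omega) hE hL.hx (n % 16)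
    rcases this with h' | h'
    · exact ihx _ h' h.1
    · exact ihy _ h' h.2

def vsum : List (Ty × ℤ) → V8
  | [] => V8.zero
  | p :: L => V8.add p.1.inv (vsum L)

theorem vsum_perm {L M : List (Ty × ℤ)} (h : L.Perm M) : vsum L = vsum M := by
  induction h with
  | nil => rfl
  | cons _ _ ih => simp only [vsum, ih]
  | swap => simp only [vsum, V8.add, Nat.add_left_comm]
  | trans _ _ h1 h2 => exact h1.trans h2

/-- the masks are correct -/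
def wf : List Ty → Bool
  | [] => true
  | τ :: ts => (τ :: ts).all (fun σ => !(V8.bad τ.msk σ.inv)) && wf ts

theorem bad_false (m v : V8) : V8.bad m v = false ↔
    (m.a = 0 → v.a = 0) ∧ (m.b = 0 → v.b = 0) ∧ (m.c = 0 → v.c = 0) ∧ (m.d = 0 → v.d = 0) ∧
    (m.e = 0 → v.e = 0) ∧ (m.f = 0 → v.f = 0) ∧ (m.g = 0 → v.g = 0) ∧ (m.h = 0 → v.h = 0) := by
  have h : ∀ a b : ℕ, (Nat.beq a 0 && Nat.blt 0 b) = false ↔ (a = 0 → b = 0) := by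
    intro a b; cases a <;> cases b <;> simp [Nat.beq, Nat.blt, Nat.ble]
  simp only [V8.bad, Bool.or_eq_false_iff, h, and_assoc]

theorem bad_vsum (m : V8) (L : List (Ty × ℤ)) (h : ∀ p ∈ L, V8.bad m p.1.inv = false) :
    V8.bad m (vsum L) = false := by
  induction L with
  | nil => simp [vsum, bad_false, V8.zero]
  | cons p L ih =>
    have h1 := h p List.mem_cons_self
    have h2 := ih fun q hq => h q (List.mem_cons_of_mem _ hq)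
    simp only [bad_false, vsum, V8.add] at h1 h2 ⊢
    obtain ⟨a1, a2, a3, a4, a5, a6, a7, a8⟩ := h1
    obtain ⟨b1, b2, b3, b4, b5, b6, b7, b8⟩ := h2
    exact ⟨fun h => by rw [a1 h, b1 h], fun h => by rw [a2 h, b2 h], fun h => by rw [a3 h, b3 h],
      fun h => by rw [a4 h, b4 h], fun h => by rw [a5 h, b5 h], fun h => by rw [a6 h, b6 h],
      fun h => by rw [a7 h, b7 h], fun h => by rw [a8 h, b8 h]⟩

theorem search_sound {cert : List Ty → Bool}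
    (hc : ∀ A : List (Ty × ℤ), cert (A.map Prod.fst) = true → Good A → False) :
    ∀ (f : ℕ) (ts : List Ty) (A R : List (Ty × ℤ)), wf ts = true → (∀ p ∈ R, p.1 ∈ ts) →
      search cert f ts (vsum R) (A.map Prod.fst) = true → Good (A ++ R) → False := by
  intro f
  induction f with
  | zero => intro ts A R _ _ h; simp [search] at h
  | succ f ih =>
    intro ts A R hw hR h hG
    cases ts with
    | nil =>
      have : R = [] := List.eq_nil_iff_forall_not_mem.2 fun p hp => by simpa using hR p hp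
      subst this
      simp only [search, vsum, Bool.or_eq_true] at h
      rcases h with h | h
      · exact absurd h (by decide)
      · exact hc A h (by simpa using hG)
    | cons τ ts =>
      simp only [wf, Bool.and_eq_true, List.all_eq_true, Bool.not_eq_true'] at hw
      simp only [search, Bool.or_eq_true, Bool.and_eq_true, Bool.not_eq_true'] at h
      rcases h with h | ⟨h1, h2⟩
      · rw [bad_vsum _ _ fun p hp => hw.1 _ (hR p hp)] at h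
        exact absurd h (by simp)
      by_cases hτ : ∃ p ∈ R, p.1 = τ
      · obtain ⟨p, hp, rfl⟩ := hτ
        obtain ⟨R1, R2, rfl⟩ := List.append_of_mem hp
        have hperm : (R1 ++ p :: R2).Perm (p :: (R1 ++ R2)) := List.perm_middle
        rw [vsum_perm hperm] at h1
        have e1 : V8.le p.1.inv (vsum (p :: (R1 ++ R2))) = true := by
          simp [V8.le, vsum, V8.add]
        have e2 : V8.sub (vsum (p :: (R1 ++ R2))) p.1.inv = vsum (R1 ++ R2) := by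
          simp [V8.sub, vsum, V8.add]
        rw [e1, e2] at h1
        refine ih (p.1 :: ts) (p :: A) (R1 ++ R2) (by simpa [wf] using hw) (fun q hq => hR q ?_)
          (by simpa using h1) (hG.perm ?_)
        · exact hperm.symm.subset (List.mem_cons_of_mem _ hq)
        · exact (hperm.append_left A).trans List.perm_middle
      · refine ih ts A R hw.2 (fun q hq => ?_) h2 hG
        rcases List.mem_cons.1 (hR q hq) with h | h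
        · exact absurd ⟨q, hq, h⟩ hτ
        · exact h

def D : List Ty := [
  ⟨100, ⟨(-1), 0, 0, (-1), (-1), 3⟩, 4, ⟨36, 4, 8, 16, 104, 8, 8, 8⟩, ⟨1, 1, 1, 1, 1, 1, 1, 1⟩, (-4), (-8), 12, 9, 67, 61⟩,
  ⟨101, ⟨(-1), 0, (-1), (-1), 0, 3⟩, 2, ⟨18, 2, 4, 8, 52, 4, 0, 8⟩, ⟨1, 1, 1, 1, 1, 1, 1, 1⟩, (-2), (-4), 6, 9, 67, 61⟩,
  ⟨102, ⟨(-1), 0, 0, 0, (-1), 2⟩, 4, ⟨16, 4, 4, 4, 52, 12, 4, 8⟩, ⟨1, 1, 1, 1, 1, 1, 1, 1⟩, (-4), (-4), 8, 4, 66, 62⟩,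
  ⟨103, ⟨(-1), 1, 1, 0, 0, 0⟩, 4, ⟨0, 4, 8, 4, 8, 40, 8, 8⟩, ⟨1, 1, 1, 1, 1, 1, 1, 1⟩, (-4), 8, 0, 16, 52, 76⟩,
  ⟨104, ⟨(-1), 1, 1, 1, 0, (-1)⟩, 4, ⟨4, 4, 12, 16, 4, 52, 4, 8⟩, ⟨1, 1, 1, 1, 1, 1, 1, 1⟩, (-4), 12, (-4), 9, 51, 77⟩,
  ⟨105, ⟨0, 0, (-1), (-1), (-1), 3⟩, 4, ⟨36, 0, 12, 36, 84, 12, 4, 8⟩, ⟨1, 1, 1, 1, 1, 1, 1, 1⟩, 0, (-12), 12, 9, 67, 61⟩,
  ⟨106, ⟨0, 0, 0, (-1), (-1), 2⟩, 4, ⟨16, 0, 8, 16, 40, 8, 8, 8⟩, ⟨1, 1, 1, 1, 1, 1, 1, 1⟩, 0, (-8), 8, 4, 66, 62⟩,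
  ⟨107, ⟨0, 1, 0, (-1), (-1), 1⟩, 4, ⟨4, 0, 12, 4, 20, 12, 20, 24⟩, ⟨1, 1, 1, 1, 1, 1, 1, 1⟩, 0, (-4), 4, 1, 65, 63⟩,
  ⟨108, ⟨0, 1, (-1), 0, (-1), 1⟩, 4, ⟨4, 0, 12, 4, 20, 12, 20, 24⟩, ⟨1, 1, 1, 1, 1, 1, 1, 1⟩, 0, (-4), 4, 1, 65, 63⟩,
  ⟨109, ⟨0, 0, 0, 0, (-1), 2⟩, 4, ⟨16, 0, 4, 16, 52, 4, 4, 8⟩, ⟨1, 1, 1, 1, 1, 1, 1, 1⟩, 0, (-4), 8, 36, 54, 74⟩,
  ⟨110, ⟨0, 1, (-1), (-1), 0, 1⟩, 4, ⟨4, 0, 12, 4, 20, 12, 4, 40⟩, ⟨1, 1, 1, 1, 1, 1, 1, 1⟩, 0, (-4), 4, 1, 65, 63⟩,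
  ⟨111, ⟨0, 1, 1, 0, (-1), 0⟩, 4, ⟨0, 0, 12, 0, 12, 12, 20, 24⟩, ⟨1, 1, 1, 1, 1, 1, 1, 1⟩, 0, 4, 0, 16, 52, 76⟩,
  ⟨112, ⟨0, 1, 1, (-1), 0, 0⟩, 4, ⟨0, 0, 12, 0, 12, 12, 20, 24⟩, ⟨1, 1, 1, 1, 1, 1, 1, 1⟩, 0, 4, 0, 16, 52, 76⟩,
  ⟨113, ⟨0, 1, 0, (-1), 1, 0⟩, 4, ⟨0, 0, 12, 0, 12, 12, 4, 40⟩, ⟨1, 1, 1, 1, 1, 1, 1, 1⟩, 0, 4, 0, 16, 52, 76⟩,
  ⟨114, ⟨0, 1, 1, 1, 0, (-2)⟩, 4, ⟨16, 0, 12, 16, 28, 12, 4, 8⟩, ⟨1, 1, 1, 1, 1, 1, 1, 1⟩, 0, 12, (-8), 4, 50, 78⟩,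
  ⟨115, ⟨1, 0, 0, (-1), (-1), 1⟩, 4, ⟨4, 4, 8, 16, 8, 40, 8, 8⟩, ⟨1, 1, 1, 1, 1, 1, 1, 1⟩, 4, (-8), 4, 1, 65, 63⟩,
  ⟨116, ⟨1, 0, 0, 0, (-1), 1⟩, 4, ⟨4, 4, 4, 16, 12, 28, 4, 8⟩, ⟨1, 1, 1, 1, 1, 1, 1, 1⟩, 4, (-4), 4, 25, 53, 75⟩,
  ⟨117, ⟨1, 1, 1, 0, (-1), (-1)⟩, 4, ⟨4, 4, 12, 0, 20, 20, 20, 24⟩, ⟨1, 1, 1, 1, 1, 1, 1, 1⟩, 4, 4, (-4), 9, 51, 77⟩,
  ⟨118, ⟨1, 1, 1, (-1), 0, (-1)⟩, 4, ⟨4, 4, 12, 0, 20, 20, 20, 24⟩, ⟨1, 1, 1, 1, 1, 1, 1, 1⟩, 4, 4, (-4), 9, 51, 77⟩,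
  ⟨119, ⟨1, 1, 0, (-1), 1, (-1)⟩, 4, ⟨4, 4, 12, 0, 20, 20, 4, 40⟩, ⟨1, 1, 1, 1, 1, 1, 1, 1⟩, 4, 4, (-4), 9, 51, 77⟩,
  ⟨120, ⟨1, 1, 0, 0, 0, 1⟩, 4, ⟨4, 4, 4, 16, 28, 12, 4, 8⟩, ⟨1, 1, 1, 1, 1, 1, 1, 1⟩, 4, 4, 4, 169, 29, 35⟩,
  ⟨121, ⟨1, 1, 1, 0, 0, (-2)⟩, 4, ⟨16, 4, 8, 4, 40, 8, 8, 8⟩, ⟨1, 1, 1, 1, 1, 1, 1, 1⟩, 4, 8, (-8), 4, 50, 78⟩,
  ⟨122, ⟨1, 1, 1, 1, 0, (-3)⟩, 4, ⟨36, 4, 12, 16, 84, 4, 4, 8⟩, ⟨1, 1, 1, 1, 1, 1, 1, 1⟩, 4, 12, (-12), 1, 49, 79⟩,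
  ⟨123, ⟨1, 1, 1, 1, 0, (-2)⟩, 4, ⟨16, 4, 12, 4, 28, 4, 4, 8⟩, ⟨1, 1, 1, 1, 1, 1, 1, 1⟩, 4, 12, (-8), 36, 38, 26⟩,
  ⟨0, ⟨1, 1, 1, 1, 0, 0⟩, 4, ⟨0, 4, 12, 4, 12, 4, 4, 8⟩, ⟨1, 1, 1, 1, 1, 1, 1, 1⟩, 4, 12, 0, 256, 80, 48⟩,
  ⟨1, ⟨(-1), 1, 0, 0, (-1), 1⟩, 4, ⟨4, 4, 8, 0, 24, 24, 16, 16⟩, ⟨1, 1, 1, 1, 1, 1, 1, 1⟩, (-4), 0, 4, 1, 65, 63⟩,
  ⟨2, ⟨(-1), 1, (-1), 0, 0, 1⟩, 4, ⟨4, 4, 8, 0, 24, 24, 8, 24⟩, ⟨1, 1, 1, 1, 1, 1, 1, 1⟩, (-4), 0, 4, 1, 65, 63⟩,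
  ⟨3, ⟨(-1), 1, 0, (-1), 0, 1⟩, 4, ⟨4, 4, 8, 0, 24, 24, 8, 24⟩, ⟨1, 1, 1, 1, 1, 1, 1, 1⟩, (-4), 0, 4, 1, 65, 63⟩,
  ⟨4, ⟨1, 1, 0, 0, (-1), 0⟩, 4, ⟨0, 4, 8, 4, 8, 24, 16, 16⟩, ⟨1, 1, 1, 1, 1, 1, 1, 1⟩, 4, 0, 0, 16, 52, 76⟩,
  ⟨5, ⟨1, 1, (-1), 0, 0, 0⟩, 4, ⟨0, 4, 8, 4, 8, 24, 8, 24⟩, ⟨1, 1, 1, 1, 1, 1, 1, 1⟩, 4, 0, 0, 16, 52, 76⟩,
  ⟨6, ⟨1, 1, 0, (-1), 0, 0⟩, 4, ⟨0, 4, 8, 4, 8, 24, 8, 24⟩, ⟨1, 1, 1, 1, 1, 1, 1, 1⟩, 4, 0, 0, 16, 52, 76⟩,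
  ⟨7, ⟨1, 1, 1, 0, 0, 0⟩, 4, ⟨0, 4, 8, 4, 8, 8, 8, 8⟩, ⟨1, 1, 1, 1, 1, 1, 1, 1⟩, 4, 8, 0, 144, 28, 36⟩,
  ⟨8, ⟨(-1), 1, 0, 0, 0, 1⟩, 4, ⟨4, 4, 4, 0, 28, 28, 4, 8⟩, ⟨1, 1, 1, 1, 1, 1, 1, 1⟩, (-4), 4, 4, 25, 53, 75⟩,
  ⟨9, ⟨1, 1, 1, 1, 0, (-1)⟩, 4, ⟨4, 4, 12, 0, 4, 4, 4, 8⟩, ⟨1, 1, 1, 1, 1, 1, 1, 1⟩, 4, 12, (-4), 121, 27, 37⟩,
  ⟨10, ⟨1, 1, 1, 0, 0, (-1)⟩, 4, ⟨4, 4, 8, 0, 8, 8, 8, 8⟩, ⟨1, 1, 1, 1, 1, 1, 1, 1⟩, 4, 8, (-4), 49, 39, 25⟩,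
  ⟨11, ⟨1, 1, 0, 0, 0, 0⟩, 4, ⟨0, 4, 4, 4, 4, 12, 4, 8⟩, ⟨1, 1, 1, 1, 1, 1, 1, 1⟩, 4, 4, 0, 64, 40, 24⟩,
  ⟨12, ⟨1, 1, 0, 0, 0, (-1)⟩, 4, ⟨4, 4, 4, 0, 12, 12, 4, 8⟩, ⟨1, 1, 1, 1, 1, 1, 1, 1⟩, 4, 4, (-4), 9, 51, 77⟩,
  ⟨13, ⟨1, 0, (-1), (-1), 0, 1⟩, 2, ⟨2, 2, 4, 8, 4, 20, 0, 8⟩, ⟨1, 1, 1, 1, 1, 1, 1, 1⟩, 2, (-4), 2, 1, 65, 63⟩,
  ⟨14, ⟨(-1), 1, 0, 0, 1, 0⟩, 2, ⟨0, 2, 4, 2, 4, 20, 0, 8⟩, ⟨1, 1, 1, 1, 1, 1, 1, 1⟩, (-2), 4, 0, 16, 52, 76⟩,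
  ⟨15, ⟨1, 1, 0, 0, 1, 0⟩, 2, ⟨0, 2, 4, 2, 4, 4, 0, 8⟩, ⟨1, 1, 1, 1, 1, 1, 1, 1⟩, 2, 4, 0, 144, 28, 36⟩,
  ⟨16, ⟨1, 1, 0, 0, 1, (-2)⟩, 2, ⟨8, 2, 4, 2, 20, 4, 0, 8⟩, ⟨1, 1, 1, 1, 1, 1, 1, 1⟩, 2, 4, (-4), 4, 50, 78⟩,
  ⟨17, ⟨1, 1, 0, 0, 1, (-1)⟩, 2, ⟨2, 2, 4, 0, 4, 4, 0, 8⟩, ⟨1, 1, 1, 1, 1, 1, 1, 1⟩, 2, 4, (-2), 49, 39, 25⟩,
  ⟨18, ⟨1, 1, 1, 1, 1, (-1)⟩, 1, ⟨1, 1, 4, 0, 0, 0, 0, 0⟩, ⟨1, 1, 1, 1, 1, 1, 1, 1⟩, 1, 4, (-1), 225, 79, 49⟩,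
  ⟨19, ⟨1, 1, 1, 1, 1, (-3)⟩, 1, ⟨9, 1, 4, 4, 16, 0, 0, 0⟩, ⟨1, 1, 1, 1, 1, 1, 1, 1⟩, 1, 4, (-3), 25, 37, 27⟩,
  ⟨20, ⟨1, 1, 1, 1, 1, (-2)⟩, 1, ⟨4, 1, 4, 1, 4, 0, 0, 0⟩, ⟨1, 1, 1, 1, 1, 1, 1, 1⟩, 1, 4, (-2), 100, 26, 38⟩,
  ⟨21, ⟨(-1), 0, 0, 0, 0, 2⟩, 1, ⟨4, 1, 0, 1, 16, 4, 0, 0⟩, ⟨1, 1, 1, 1, 1, 1, 1, 1⟩, (-1), 0, 2, 36, 54, 74⟩,
  ⟨22, ⟨1, 0, 0, 0, 0, 1⟩, 1, ⟨1, 1, 0, 4, 4, 4, 0, 0⟩, ⟨1, 1, 1, 1, 1, 1, 1, 1⟩, 1, 0, 1, 81, 41, 87⟩,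
  ⟨23, ⟨(-1), 0, 0, 0, 0, 1⟩, 1, ⟨1, 1, 0, 0, 4, 4, 0, 0⟩, ⟨1, 1, 1, 1, 1, 1, 1, 1⟩, (-1), 0, 1, 1, 65, 63⟩,
  ⟨24, ⟨1, 0, 0, 0, 0, 0⟩, 1, ⟨0, 1, 0, 1, 0, 4, 0, 0⟩, ⟨1, 1, 1, 1, 1, 1, 1, 1⟩, 1, 0, 0, 16, 52, 76⟩,
  ⟨25, ⟨0, 1, 1, 1, (-1), (-1)⟩, 4, ⟨4, 0, 16, 4, 16, 16, 16, 32⟩, ⟨1, 0, 1, 1, 1, 1, 1, 1⟩, 0, 8, (-4), 9, 51, 77⟩,
  ⟨26, ⟨0, 2, 0, 0, 0, (-1)⟩, 4, ⟨4, 0, 16, 4, 16, 16, 16, 32⟩, ⟨1, 0, 1, 1, 1, 1, 1, 1⟩, 0, 8, (-4), 9, 51, 77⟩,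
  ⟨27, ⟨0, 1, 1, 0, 0, 1⟩, 4, ⟨4, 0, 8, 4, 40, 8, 8, 8⟩, ⟨1, 0, 1, 1, 1, 1, 1, 1⟩, 0, 8, 4, 169, 29, 35⟩,
  ⟨28, ⟨0, 1, 1, 1, 0, 0⟩, 4, ⟨0, 0, 12, 0, 12, 12, 4, 8⟩, ⟨1, 0, 1, 1, 1, 1, 1, 1⟩, 0, 12, 0, 144, 28, 36⟩,
  ⟨29, ⟨0, 1, 0, 0, (-1), 1⟩, 4, ⟨4, 0, 8, 4, 24, 8, 16, 16⟩, ⟨1, 0, 1, 1, 1, 1, 1, 1⟩, 0, 0, 4, 25, 53, 75⟩,
  ⟨30, ⟨0, 1, (-1), 0, 0, 1⟩, 4, ⟨4, 0, 8, 4, 24, 8, 8, 24⟩, ⟨1, 0, 1, 1, 1, 1, 1, 1⟩, 0, 0, 4, 25, 53, 75⟩,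
  ⟨31, ⟨0, 1, 0, (-1), 0, 1⟩, 4, ⟨4, 0, 8, 4, 24, 8, 8, 24⟩, ⟨1, 0, 1, 1, 1, 1, 1, 1⟩, 0, 0, 4, 25, 53, 75⟩,
  ⟨32, ⟨0, 1, 0, 0, 0, 1⟩, 4, ⟨4, 0, 4, 4, 28, 4, 4, 8⟩, ⟨1, 0, 1, 1, 1, 1, 1, 1⟩, 0, 4, 4, 81, 41, 87⟩,
  ⟨33, ⟨0, 1, 1, 1, 0, (-1)⟩, 4, ⟨4, 0, 12, 4, 4, 12, 4, 8⟩, ⟨1, 0, 1, 1, 1, 1, 1, 1⟩, 0, 12, (-4), 49, 39, 25⟩,
  ⟨34, ⟨0, 1, 1, 0, 0, 0⟩, 4, ⟨0, 0, 8, 0, 8, 8, 8, 8⟩, ⟨1, 0, 1, 1, 1, 1, 1, 1⟩, 0, 8, 0, 64, 40, 24⟩,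
  ⟨35, ⟨0, 1, 1, 0, 0, (-1)⟩, 4, ⟨4, 0, 8, 4, 8, 8, 8, 8⟩, ⟨1, 0, 1, 1, 1, 1, 1, 1⟩, 0, 8, (-4), 9, 51, 77⟩,
  ⟨36, ⟨0, 0, 0, 0, (-1), 1⟩, 4, ⟨4, 0, 4, 4, 12, 4, 4, 8⟩, ⟨1, 0, 1, 1, 1, 1, 1, 1⟩, 0, (-4), 4, 1, 65, 63⟩,
  ⟨37, ⟨0, 1, 0, 0, 0, 0⟩, 4, ⟨0, 0, 4, 0, 4, 4, 4, 8⟩, ⟨1, 0, 1, 1, 1, 1, 1, 1⟩, 0, 4, 0, 16, 52, 76⟩,
  ⟨38, ⟨0, 1, 0, 0, 1, 1⟩, 2, ⟨2, 0, 4, 2, 20, 4, 0, 8⟩, ⟨1, 0, 1, 1, 1, 1, 0, 1⟩, 0, 4, 2, 169, 29, 35⟩,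
  ⟨39, ⟨0, 0, (-1), (-1), 0, 2⟩, 2, ⟨8, 0, 4, 8, 20, 4, 0, 8⟩, ⟨1, 0, 1, 1, 1, 1, 0, 1⟩, 0, (-4), 4, 4, 66, 62⟩,
  ⟨40, ⟨0, 1, 0, 0, 1, 0⟩, 2, ⟨0, 0, 4, 0, 4, 4, 0, 8⟩, ⟨1, 0, 1, 1, 1, 1, 0, 1⟩, 0, 4, 0, 64, 40, 24⟩,
  ⟨41, ⟨0, 1, 0, 0, 1, (-1)⟩, 2, ⟨2, 0, 4, 2, 4, 4, 0, 8⟩, ⟨1, 0, 1, 1, 1, 1, 0, 1⟩, 0, 4, (-2), 9, 51, 77⟩,
  ⟨42, ⟨0, 1, 1, 1, 1, (-3)⟩, 1, ⟨9, 0, 4, 9, 16, 4, 0, 0⟩, ⟨1, 0, 1, 1, 1, 1, 0, 0⟩, 0, 4, (-3), 1, 49, 79⟩,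
  ⟨43, ⟨0, 1, 1, 1, 1, (-1)⟩, 1, ⟨1, 0, 4, 1, 0, 4, 0, 0⟩, ⟨1, 0, 1, 1, 1, 1, 0, 0⟩, 0, 4, (-1), 121, 27, 37⟩,
  ⟨44, ⟨0, 1, 1, 1, 1, (-2)⟩, 1, ⟨4, 0, 4, 4, 4, 4, 0, 0⟩, ⟨1, 0, 1, 1, 1, 1, 0, 0⟩, 0, 4, (-2), 36, 38, 26⟩,
  ⟨45, ⟨0, 0, 0, 0, 0, 2⟩, 1, ⟨4, 0, 0, 4, 16, 0, 0, 0⟩, ⟨1, 0, 0, 1, 1, 0, 0, 0⟩, 0, 0, 2, 100, 42, 86⟩,
  ⟨46, ⟨0, 0, 0, 0, 0, 1⟩, 1, ⟨1, 0, 0, 1, 4, 0, 0, 0⟩, ⟨1, 0, 0, 1, 1, 0, 0, 0⟩, 0, 0, 1, 25, 53, 75⟩]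

open Tr in
def t0 : Tr :=
  (c 6 (c 65542 (r 127) (c 65558 (r 127) (r 434))) (r 128))

open Tr in
def t1 : Tr :=
  (c 3 (c 65539 (r 109) (c 5 (c 65541 (c 4 (c 65540 (l 2455) (r 177)) (l 2455)) (c 65555 (c 4 (r 127) (l 2455))
  (c 4 (r 111) (l 2455)))) (c 65555 (r 127) (r 434)))) (c 5 (c 65541 (c 4 (l 2457) (r 161)) (c 4 (r 145) (c
  65492 (c 65557 (c 65476 (c 2 (r 145) (c 65490 (c 0 (r 145) (l 2762)) (r 77))) (c 65443 (c 65427 (l 2457) (r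
  161)) (l 2455))) (r 128)) (c 65557 (r 161) (c 65573 (r 161) (r 434)))))) (r 145)))

open Tr in
def t2 : Tr :=
  (c 7 (c 65543 (c 2 (c 65538 (r 161) (c 65554 (c 3 (l 2439) (c 65491 (c 65475 (l 2473) (c 5 (c 65541 (r 143) (c
  65557 (r 143) (c 65573 (r 143) (c 65589 (r 143) (c 65605 (r 143) (c 65621 (c 6 (c 65638 (c 65622 (l 2455) (r
  143)) (l 2457)) (l 2455)) (c 65637 (c 6 (c 65654 (c 65638 (l 2455) (r 143)) (l 2457)) (l 2455)) (c 65653 (c 6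
  (r 145) (l 2455)) (c 65669 (c 6 (r 145) (l 2455)) (c 65685 (c 6 (r 145) (l 2455)) (c 65701 (c 6 (r 145) (l
  2455)) (c 65717 (c 6 (r 145) (l 2455)) (c 65733 (c 6 (r 145) (l 2455)) (c 65749 (c 6 (r 145) (l 2455)) (c
  65765 (c 6 (r 145) (l 2455)) (r 145)))))))))))))))) (r 145))) (l 2439))) (c 65570 (c 3 (l 2439) (c 65475 (c
  65459 (l 2473) (c 5 (r 143) (c 65493 (c 65477 (c 65461 (r 143) (c 6 (l 2457) (r 143))) (r 145)) (r 145)))) (l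
  2439))) (c 5 (c 3 (l 2439) (r 143)) (c 65493 (c 3 (l 2439) (c 65586 (c 65459 (c 65443 (l 2473) (r 143)) (l
  2439)) (r 143))) (c 6 (l 2457) (l 2455))))))) (c 5 (r 143) (c 65493 (c 3 (c 65539 (c 65506 (c 65490 (l 2473)
  (r 143)) (l 2439)) (r 143)) (l 2473)) (c 6 (l 2457) (l 2455))))) (c 65559 (c 2 (r 145) (c 65506 (c 65490 (c 5
  (c 65541 (c 6 (c 65590 (c 65574 (l 2455) (c 65474 (c 65458 (c 65442 (c 3 (r 145) (l 2473)) (c 3 (r 145) (l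
  2473))) (c 3 (r 145) (l 2473))) (c 3 (c 65539 (r 145) (l 2439)) (l 2473)))) (l 2457)) (l 2455)) (r 145)) (r
  145)) (c 3 (l 2439) (l 2473))) (r 143))) (r 434))) (r 434))

open Tr in
def t3 : Tr :=
  (c 6 (c 65542 (c 0 (c 65536 (r 127) (c 65552 (c 3 (c 65539 (r 161) (c 65555 (c 2 (r 127) (c 65490 (r 127) (c 1
  (l 2439) (c 65441 (c 65425 (l 2473) (c 5 (c 65669 (c 65653 (l 2745) (r 161)) (l 2167)) (l 2745))) (l 2439)))))
  (r 127))) (r 127)) (c 65568 (c 3 (r 161) (c 65491 (r 161) (r 127))) (r 161)))) (r 161)) (c 65558 (c 4 (c 65540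
  (c 5 (c 65589 (c 65573 (l 2455) (c 3 (c 1 (r 145) (c 65489 (r 145) (c 2 (c 65538 (l 2439) (r 145)) (l 2439))))
  (c 65491 (c 1 (r 145) (c 65489 (c 65475 (r 145) (c 65473 (c 65457 (r 145) (c 2 (l 2473) (r 145))) (r 143))) (c
  65475 (c 65459 (c 65443 (c 65427 (c 65411 (c 65395 (c 65379 (c 65363 (c 65347 (c 65331 (c 65315 (c 65299 (c
  65283 (c 65267 (c 65251 (c 65235 (c 65219 (c 2 (l 2473) (c 65203 (c 65187 (c 65171 (c 65155 (c 65139 (c 65123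
  (c 65107 (c 65091 (c 65075 (c 65059 (r 145) (c 64626 (c 64610 (l 2439) (r 145)) (l 2473))) (c 64658 (r 143) (l
  2473))) (c 64690 (r 143) (l 2473))) (c 64722 (r 143) (l 2473))) (c 64754 (r 143) (l 2473))) (c 64786 (r 143)
  (l 2473))) (c 64818 (r 143) (l 2473))) (c 64850 (r 143) (l 2473))) (c 64882 (r 143) (l 2473))) (c 64914 (r
  143) (l 2473)))) (c 2 (l 2473) (c 64946 (r 143) (l 2473)))) (c 2 (l 2473) (c 64978 (r 143) (l 2473)))) (c 2 (l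
  2473) (c 65010 (r 143) (l 2473)))) (c 2 (l 2473) (c 65042 (r 143) (l 2473)))) (c 2 (l 2473) (c 65074 (r 143)
  (l 2473)))) (c 2 (l 2473) (c 65106 (r 143) (l 2473)))) (c 2 (l 2473) (c 65138 (r 143) (l 2473)))) (c 2 (l
  2473) (c 65170 (r 143) (l 2473)))) (r 143)) (r 143)) (r 143)) (r 143)) (r 143)) (r 143)) (r 143)) (r 143)) (r
  143)))) (c 0 (r 127) (c 65488 (c 65472 (c 65456 (c 65440 (c 65424 (c 65408 (r 127) (c 2 (r 127) (l 2745))) (r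
  161)) (r 161)) (r 161)) (r 161)) (r 161)))))) (l 2457)) (l 2455)) (c 3 (r 145) (c 65491 (r 145) (c 1 (r 145)
  (c 65489 (r 145) (c 2 (l 2473) (c 65490 (c 65474 (l 2439) (c 65556 (r 143) (c 65572 (c 5 (c 65621 (r 145) (l
  2457)) (l 2455)) (r 145)))) (l 2473)))))))) (r 145)) (r 434))) (r 145))

open Tr in
def t4 : Tr :=
  (c 9 (c 65545 (c 6 (c 65542 (r 161) (c 4 (c 65540 (c 7 (c 65543 (r 143) (c 65559 (c 8 (c 65576 (c 65560 (l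
  2455) (c 65558 (r 145) (c 65574 (r 145) (c 65590 (c 5 (r 143) (l 2439)) (r 143))))) (l 2457)) (l 2455)) (c
  65575 (c 8 (c 65592 (c 65576 (l 2455) (c 65558 (r 145) (c 65574 (r 145) (c 65590 (r 145) (c 65606 (r 145) (c
  65622 (c 5 (c 65733 (c 65717 (l 2439) (r 145)) (l 2473)) (l 2439)) (c 65638 (c 5 (c 65765 (c 65749 (l 2439) (r
  145)) (l 2473)) (l 2439)) (c 65654 (c 5 (c 65797 (c 65781 (l 2439) (r 145)) (l 2473)) (l 2439)) (c 65670 (c 5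
  (r 143) (l 2439)) (c 65686 (c 5 (r 143) (l 2439)) (c 65702 (c 5 (r 143) (l 2439)) (c 65718 (c 5 (r 143) (l
  2439)) (c 65734 (c 5 (r 143) (l 2439)) (c 65750 (c 5 (r 143) (l 2439)) (c 65766 (c 5 (r 143) (l 2439)) (r
  143)))))))))))))))) (l 2457)) (l 2455)) (c 65591 (c 8 (c 65608 (c 65592 (l 2455) (c 65558 (r 145) (c 65574 (r
  145) (c 65590 (r 145) (c 65606 (r 145) (c 65622 (r 145) (c 65638 (r 145) (c 65654 (r 145) (c 65670 (r 145) (c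
  65686 (r 145) (c 65702 (c 5 (c 65893 (c 65877 (l 2439) (r 145)) (l 2473)) (l 2439)) (c 65718 (c 5 (c 65925 (c
  65909 (l 2439) (r 145)) (l 2473)) (l 2439)) (c 65734 (c 5 (c 65957 (c 65941 (l 2439) (r 145)) (l 2473)) (l
  2439)) (c 65750 (c 5 (c 65989 (c 65973 (l 2439) (r 145)) (l 2473)) (l 2439)) (c 65766 (c 5 (c 66021 (c 66005
  (l 2439) (r 145)) (l 2473)) (l 2439)) (c 65782 (c 5 (c 66053 (c 66037 (l 2439) (r 145)) (l 2473)) (l 2439)) (c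
  65798 (c 5 (c 66085 (c 66069 (l 2439) (r 145)) (l 2473)) (l 2439)) (c 5 (c 65814 (c 66117 (c 66101 (l 2439) (r
  145)) (l 2473)) (c 65830 (c 66149 (c 66133 (l 2439) (r 145)) (l 2473)) (c 65846 (c 66181 (c 66165 (l 2439) (r
  145)) (l 2473)) (c 65862 (c 66213 (c 66197 (l 2439) (r 145)) (l 2473)) (c 65878 (c 66245 (c 66229 (l 2439) (r
  145)) (l 2473)) (c 65894 (c 66277 (c 66261 (l 2439) (r 145)) (l 2473)) (c 65910 (c 66309 (c 66293 (l 2439) (r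
  145)) (l 2473)) (c 65926 (c 66341 (r 143) (l 2473)) (r 143))))))))) (l 2439))))))))))))))))))) (l 2457)) (l
  2455)) (c 65607 (c 8 (c 65624 (c 65608 (l 2455) (c 5 (c 65541 (l 2439) (c 65557 (l 2439) (c 65573 (l 2439) (c
  65589 (l 2439) (c 65605 (c 65558 (r 145) (l 2439)) (c 65621 (c 65558 (l 2473) (l 2439)) (c 65637 (c 65574 (r
  145) (l 2439)) (c 65653 (c 65574 (l 2473) (l 2439)) (r 145))))))))) (l 2439))) (l 2457)) (l 2455)) (c 65623 (c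
  8 (c 65640 (c 65624 (l 2455) (c 5 (c 65541 (l 2439) (r 145)) (l 2439))) (l 2457)) (l 2455)) (c 65639 (c 8 (c
  65656 (r 145) (l 2457)) (l 2455)) (c 65655 (c 8 (r 145) (l 2455)) (c 65671 (c 8 (r 145) (l 2455)) (c 65687 (c
  8 (r 145) (l 2455)) (c 65703 (c 8 (r 145) (l 2455)) (c 65719 (c 8 (r 145) (l 2455)) (r 145))))))))))))) (r
  145)) (c 7 (c 65558 (c 65556 (c 5 (c 65621 (c 65605 (l 2439) (c 65543 (r 143) (c 65559 (r 143) (c 65575 (r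
  143) (c 65591 (r 143) (c 65607 (r 143) (c 65623 (c 8 (c 65640 (c 65624 (l 2455) (r 143)) (l 2457)) (l 2455))
  (c 65639 (c 8 (c 65656 (r 145) (l 2457)) (l 2455)) (c 65655 (c 8 (r 145) (l 2455)) (c 65671 (c 8 (r 145) (l
  2455)) (c 65687 (c 8 (r 145) (l 2455)) (c 65703 (c 8 (r 145) (l 2455)) (c 65719 (c 8 (r 145) (l 2455)) (r
  145)))))))))))))) (l 2473)) (l 2439)) (c 65572 (c 5 (c 65637 (c 65621 (l 2439) (c 8 (c 65544 (l 2455) (r 143))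
  (l 2455))) (l 2473)) (l 2439)) (r 143))) (c 65556 (c 65574 (c 5 (r 143) (l 2439)) (r 143)) (r 143))) (c 65495
  (c 65558 (c 65556 (r 145) (c 65479 (c 65572 (c 5 (c 65637 (c 65621 (l 2439) (c 65463 (c 65447 (c 65431 (c
  65415 (c 65399 (c 65383 (c 65367 (c 65351 (c 65335 (c 65319 (c 65303 (c 65287 (c 65271 (c 65255 (c 8 (l 2457)
  (c 65239 (c 65223 (r 143) (c 65256 (c 65240 (l 2455) (r 143)) (l 2457))) (c 65272 (r 145) (l 2457)))) (c 8 (l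
  2457) (c 65288 (r 145) (l 2457)))) (c 8 (l 2457) (c 65304 (r 145) (l 2457)))) (c 8 (l 2457) (c 65320 (r 145)
  (l 2457)))) (c 8 (l 2457) (c 65336 (r 145) (l 2457)))) (c 8 (l 2457) (c 65352 (r 145) (l 2457)))) (c 8 (l
  2457) (c 65368 (r 145) (l 2457)))) (c 8 (l 2457) (c 65384 (r 145) (l 2457)))) (c 8 (l 2457) (c 65400 (r 145)
  (l 2457)))) (r 145)) (r 145)) (r 145)) (r 145)) (r 145)) (r 145))) (l 2473)) (l 2439)) (c 65463 (c 65588 (c 5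
  (c 65653 (c 65637 (l 2439) (c 65447 (c 65431 (c 65415 (c 65399 (c 65383 (c 65367 (c 65351 (c 65335 (r 143) (c
  8 (l 2457) (r 143))) (c 8 (l 2457) (r 143))) (c 8 (l 2457) (r 143))) (c 8 (l 2457) (r 143))) (c 8 (l 2457) (r
  143))) (c 8 (l 2457) (c 65448 (r 145) (l 2457)))) (c 8 (l 2457) (c 65464 (r 145) (l 2457)))) (r 145))) (l
  2473)) (l 2439)) (c 65447 (c 65604 (c 5 (c 65669 (c 65653 (l 2439) (c 65431 (c 65415 (c 65399 (r 143) (c 8 (l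
  2457) (r 143))) (c 8 (l 2457) (r 143))) (c 8 (l 2457) (r 143)))) (l 2473)) (l 2439)) (c 65431 (c 65620 (c 5 (r
  143) (l 2439)) (c 65415 (c 65636 (c 5 (r 143) (l 2439)) (r 143)) (c 8 (l 2457) (r 143)))) (c 8 (l 2457) (c
  65464 (c 65448 (l 2455) (c 65620 (c 5 (r 143) (l 2439)) (r 143))) (l 2457))))) (c 8 (l 2457) (c 65480 (c 65464
  (l 2455) (c 65604 (c 5 (c 65669 (c 65653 (l 2439) (r 145)) (l 2473)) (l 2439)) (c 65620 (c 5 (r 143) (l 2439))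
  (c 65636 (c 5 (r 143) (l 2439)) (c 65652 (c 5 (r 143) (l 2439)) (r 143)))))) (l 2457))))) (c 8 (l 2457) (c
  65496 (c 65480 (l 2455) (c 65588 (r 145) (c 65604 (r 145) (c 65620 (c 5 (c 65685 (c 65669 (l 2439) (r 145)) (l
  2473)) (l 2439)) (c 65636 (c 5 (c 65701 (c 65685 (l 2439) (r 145)) (l 2473)) (l 2439)) (c 65652 (c 5 (c 65717
  (c 65701 (l 2439) (r 145)) (l 2473)) (l 2439)) (c 65668 (c 5 (r 143) (l 2439)) (c 65684 (c 5 (r 143) (l 2439))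
  (c 65700 (c 5 (r 143) (l 2439)) (c 65716 (c 5 (r 143) (l 2439)) (c 65732 (c 5 (r 143) (l 2439)) (c 65748 (c 5
  (r 143) (l 2439)) (c 65764 (c 5 (r 143) (l 2439)) (r 160)))))))))))))) (l 2457))))) (c 8 (l 2457) (c 65496 (l
  2455) (c 65572 (r 145) (c 65588 (r 145) (c 65604 (r 145) (c 65620 (r 145) (c 65636 (r 145) (c 65652 (r 145) (c
  65668 (r 145) (c 65684 (r 145) (c 65700 (r 145) (c 65716 (r 145) (c 65732 (r 145) (c 65748 (r 145) (c 65764 (r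
  145) (c 5 (c 65780 (c 65845 (c 65829 (l 2439) (r 145)) (l 2473)) (c 65796 (c 65861 (c 65845 (l 2439) (r 145))
  (l 2473)) (c 65812 (c 65877 (c 65861 (l 2439) (r 145)) (l 2473)) (c 65828 (c 65893 (c 65877 (l 2439) (r 145))
  (l 2473)) (c 65844 (c 65909 (c 65893 (l 2439) (r 145)) (l 2473)) (c 65860 (c 65925 (c 65909 (l 2439) (r 145))
  (l 2473)) (c 65876 (c 65941 (c 65925 (l 2439) (r 145)) (l 2473)) (c 65892 (c 65957 (c 65941 (l 2439) (r 145))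
  (l 2473)) (c 65908 (c 65973 (c 65957 (l 2439) (r 145)) (l 2473)) (c 65924 (c 65989 (c 65973 (l 2439) (r 145))
  (l 2473)) (c 65940 (c 66005 (c 65989 (l 2439) (r 145)) (l 2473)) (c 65956 (c 66021 (c 66005 (l 2439) (r 145))
  (l 2473)) (c 65972 (c 66037 (c 66021 (l 2439) (r 145)) (l 2473)) (c 65988 (c 66053 (c 66037 (l 2439) (r 145))
  (l 2473)) (c 66004 (c 66069 (c 66053 (l 2439) (r 145)) (l 2473)) (c 66020 (c 66085 (c 66069 (l 2439) (r 145))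
  (l 2473)) (c 66036 (c 66101 (c 66085 (l 2439) (r 145)) (l 2473)) (c 66052 (c 66117 (c 66101 (l 2439) (r 145))
  (l 2473)) (c 66068 (c 66133 (c 66117 (l 2439) (r 145)) (l 2473)) (c 66084 (c 66149 (c 66133 (l 2439) (r 145))
  (l 2473)) (c 66100 (c 66165 (c 66149 (l 2439) (r 145)) (l 2473)) (c 66116 (c 66181 (c 66165 (l 2439) (r 145))
  (l 2473)) (c 66132 (c 66197 (c 66181 (l 2439) (r 145)) (l 2473)) (c 66148 (c 66213 (c 66197 (l 2439) (r 145))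
  (l 2473)) (c 66164 (c 66229 (c 66213 (l 2439) (r 145)) (l 2473)) (c 66180 (c 66245 (c 66229 (l 2439) (r 145))
  (l 2473)) (c 66196 (c 66261 (c 66245 (l 2439) (r 145)) (l 2473)) (c 66212 (c 66277 (c 66261 (l 2439) (r 145))
  (l 2473)) (c 66228 (c 66293 (c 66277 (l 2439) (r 145)) (l 2473)) (c 66244 (c 66309 (c 66293 (l 2439) (r 145))
  (l 2473)) (c 66260 (c 66325 (c 66309 (l 2439) (r 145)) (l 2473)) (c 66276 (c 66341 (c 66325 (l 2439) (r 145))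
  (l 2473)) (c 66292 (c 66357 (c 66341 (l 2439) (r 145)) (l 2473)) (c 66308 (c 66373 (c 66357 (l 2439) (r 145))
  (l 2473)) (c 66324 (c 66389 (c 66373 (l 2439) (r 145)) (l 2473)) (c 66340 (c 66405 (c 66389 (l 2439) (r 145))
  (l 2473)) (c 66356 (c 66421 (c 66405 (l 2439) (r 145)) (l 2473)) (c 66372 (c 66437 (c 66421 (l 2439) (r 145))
  (l 2473)) (c 66388 (c 66453 (c 66437 (l 2439) (r 145)) (l 2473)) (c 66404 (c 66469 (c 66453 (l 2439) (r 145))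
  (l 2473)) (c 66420 (c 66485 (c 66469 (l 2439) (r 145)) (l 2473)) (c 66436 (c 66501 (c 66485 (l 2439) (r 145))
  (l 2473)) (c 66452 (c 66517 (c 66501 (l 2439) (r 145)) (l 2473)) (c 66468 (c 66533 (c 66517 (l 2439) (r 145))
  (l 2473)) (c 66484 (c 66549 (c 66533 (l 2439) (r 145)) (l 2473)) (c 66500 (c 66565 (c 66549 (l 2439) (r 145))
  (l 2473)) (c 66516 (c 66581 (c 66565 (l 2439) (r 145)) (l 2473)) (c 66532 (c 66597 (c 66581 (l 2439) (r 145))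
  (l 2473)) (c 66548 (c 66613 (c 66597 (l 2439) (r 145)) (l 2473)) (c 66564 (c 66629 (c 66613 (l 2439) (r 145))
  (l 2473)) (c 66580 (c 66645 (c 66629 (l 2439) (r 145)) (l 2473)) (c 66596 (c 66661 (c 66645 (l 2439) (r 145))
  (l 2473)) (c 66612 (c 66677 (c 66661 (l 2439) (r 145)) (l 2473)) (c 66628 (c 66693 (c 66677 (l 2439) (r 145))
  (l 2473)) (c 66644 (c 66709 (c 66693 (l 2439) (r 145)) (l 2473)) (c 66660 (c 66725 (c 66709 (l 2439) (r 145))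
  (l 2473)) (c 66676 (c 66741 (c 66725 (l 2439) (r 145)) (l 2473)) (c 66692 (c 66757 (c 66741 (l 2439) (r 145))
  (l 2473)) (c 66708 (c 66773 (c 66757 (l 2439) (r 145)) (l 2473)) (c 66724 (c 66789 (c 66773 (l 2439) (r 145))
  (l 2473)) (c 66740 (c 66805 (c 66789 (l 2439) (r 145)) (l 2473)) (c 66756 (c 66821 (c 66805 (l 2439) (r 145))
  (l 2473)) (c 66772 (c 66837 (c 66821 (l 2439) (r 145)) (l 2473)) (c 66788 (c 66853 (c 66837 (l 2439) (r 145))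
  (l 2473)) (c 66804 (c 66869 (c 66853 (l 2439) (r 145)) (l 2473)) (c 66820 (c 66885 (c 66869 (l 2439) (r 145))
  (l 2473)) (c 66836 (c 66901 (c 66885 (l 2439) (r 145)) (l 2473)) (c 66852 (c 66917 (c 66901 (l 2439) (r 145))
  (l 2473)) (c 66868 (c 66933 (c 66917 (l 2439) (r 145)) (l 2473)) (c 66884 (c 66949 (c 66933 (l 2439) (r 145))
  (l 2473)) (c 66900 (c 66965 (c 66949 (l 2439) (r 145)) (l 2473)) (c 66916 (c 66981 (c 66965 (l 2439) (r 145))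
  (l 2473)) (c 66932 (c 66997 (c 66981 (l 2439) (r 145)) (l 2473)) (c 66948 (c 67013 (c 66997 (l 2439) (r 145))
  (l 2473)) (c 66964 (c 67029 (c 67013 (l 2439) (r 145)) (l 2473)) (c 66980 (c 67045 (c 67029 (l 2439) (r 145))
  (l 2473)) (c 66996 (c 67061 (c 67045 (l 2439) (r 145)) (l 2473)) (c 67012 (c 67077 (c 67061 (l 2439) (r 145))
  (l 2473)) (c 67028 (c 67093 (c 67077 (l 2439) (r 145)) (l 2473)) (c 67044 (c 67109 (c 67093 (l 2439) (r 145))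
  (l 2473)) (c 67060 (c 67125 (c 67109 (l 2439) (r 145)) (l 2473)) (c 67076 (c 67141 (c 67125 (l 2439) (r 145))
  (l 2473)) (c 67092 (c 67157 (c 67141 (l 2439) (r 145)) (l 2473)) (c 67108 (c 67173 (c 67157 (l 2439) (r 145))
  (l 2473)) (c 67124 (c 67189 (c 67173 (l 2439) (r 145)) (l 2473)) (c 67140 (c 67205 (c 67189 (l 2439) (r 145))
  (l 2473)) (c 67156 (c 67221 (c 67205 (l 2439) (r 145)) (l 2473)) (c 67172 (c 67237 (c 67221 (l 2439) (r 145))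
  (l 2473)) (c 67188 (c 67253 (c 67237 (l 2439) (r 145)) (l 2473)) (c 67204 (c 67269 (c 67253 (l 2439) (r 145))
  (l 2473)) (c 67220 (c 67285 (c 67269 (l 2439) (r 145)) (l 2473)) (c 67236 (c 67301 (c 67285 (l 2439) (r 145))
  (l 2473)) (c 67252 (c 67317 (c 67301 (l 2439) (r 145)) (l 2473)) (c 67268 (c 67333 (c 67317 (l 2439) (r 145))
  (l 2473)) (c 67284 (c 67349 (c 67333 (l 2439) (r 145)) (l 2473)) (c 67300 (c 67365 (c 67349 (l 2439) (r 145))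
  (l 2473)) (c 67316 (c 67381 (c 67365 (l 2439) (r 145)) (l 2473)) (c 67332 (c 67397 (c 67381 (l 2439) (r 145))
  (l 2473)) (c 67348 (c 67413 (c 67397 (l 2439) (r 145)) (l 2473)) (c 67364 (c 67429 (c 67413 (l 2439) (r 145))
  (l 2473)) (c 67380 (c 67445 (c 67429 (l 2439) (r 145)) (l 2473)) (c 67396 (c 67461 (c 67445 (l 2439) (r 145))
  (l 2473)) (c 67412 (c 67477 (c 67461 (l 2439) (r 145)) (l 2473)) (c 67428 (c 67493 (c 67477 (l 2439) (r 145))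
  (l 2473)) (c 67444 (c 67509 (c 67493 (l 2439) (r 145)) (l 2473)) (c 67460 (c 67525 (c 67509 (l 2439) (r 145))
  (l 2473)) (c 67476 (c 67541 (c 67525 (l 2439) (r 145)) (l 2473)) (c 67492 (c 67557 (c 67541 (l 2439) (r 145))
  (l 2473)) (c 67508 (c 67573 (c 67557 (l 2439) (r 145)) (l 2473)) (c 67524 (c 67589 (c 67573 (l 2439) (r 145))
  (l 2473)) (c 67540 (c 67605 (c 67589 (l 2439) (r 145)) (l 2473)) (c 67556 (c 67621 (c 67605 (l 2439) (r 145))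
  (l 2473)) (c 67572 (c 67637 (c 67621 (l 2439) (r 145)) (l 2473)) (c 67588 (c 67653 (c 67637 (l 2439) (r 145))
  (l 2473)) (c 67604 (c 67669 (c 67653 (l 2439) (r 145)) (l 2473)) (c 67620 (c 67685 (c 67669 (l 2439) (r 145))
  (l 2473)) (c 67636 (c 67701 (c 67685 (l 2439) (r 145)) (l 2473)) (c 67652 (c 67717 (c 67701 (l 2439) (r 145))
  (l 2473)) (c 67668 (c 67733 (c 67717 (l 2439) (r 145)) (l 2473)) (c 67684 (c 67749 (c 67733 (l 2439) (r 145))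
  (l 2473)) (c 67700 (c 67765 (c 67749 (l 2439) (r 145)) (l 2473)) (c 67716 (c 67781 (c 67765 (l 2439) (r 145))
  (l 2473)) (c 67732 (c 67797 (c 67781 (l 2439) (r 145)) (l 2473)) (c 67748 (c 67813 (c 67797 (l 2439) (r 145))
  (l 2473)) (c 67764 (c 67829 (c 67813 (l 2439) (r 145)) (l 2473)) (c 67780 (c 67845 (c 67829 (l 2439) (r 145))
  (l 2473)) (c 67796 (c 67861 (c 67845 (l 2439) (r 145)) (l 2473)) (c 67812 (c 67877 (c 67861 (l 2439) (r 145))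
  (l 2473)) (c 67828 (c 67893 (c 67877 (l 2439) (r 145)) (l 2473)) (c 67844 (c 67909 (c 67893 (l 2439) (r 145))
  (l 2473)) (c 67860 (c 67925 (c 67909 (l 2439) (r 145)) (l 2473)) (c 67876 (c 67941 (c 67925 (l 2439) (r 145))
  (l 2473)) (c 67892 (c 67957 (c 67941 (l 2439) (r 145)) (l 2473)) (c 67908 (c 67973 (c 67957 (l 2439) (r 145))
  (l 2473)) (c 67924 (c 67989 (c 67973 (l 2439) (r 145)) (l 2473)) (c 67940 (c 68005 (c 67989 (l 2439) (r 145))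
  (l 2473)) (c 67956 (c 68021 (c 68005 (l 2439) (r 145)) (l 2473)) (c 67972 (c 68037 (c 68021 (l 2439) (r 145))
  (l 2473)) (c 67988 (c 68053 (c 68037 (l 2439) (r 145)) (l 2473)) (c 68004 (c 68069 (c 68053 (l 2439) (r 145))
  (l 2473)) (c 68020 (c 68085 (c 68069 (l 2439) (r 145)) (l 2473)) (c 68036 (c 68101 (c 68085 (l 2439) (r 145))
  (l 2473)) (c 68052 (c 68117 (c 68101 (l 2439) (r 145)) (l 2473)) (c 68068 (c 68133 (c 68117 (l 2439) (r 145))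
  (l 2473)) (c 68084 (c 68149 (r 143) (l 2473)) (c 68100 (c 68165 (r 143) (l 2473)) (c 68116 (c 68181 (r 143) (l
  2473)) (c 68132 (c 68197 (r 143) (l 2473)) (c 68148 (c 68213 (r 143) (l 2473)) (c 68164 (c 68229 (r 143) (l
  2473)) (c 68180 (c 68245 (r 143) (l 2473)) (c 68196 (c 68261 (r 143) (l 2473)) (c 68212 (c 68277 (r 143) (l
  2473)) (c 68228 (c 68293 (r 143) (l 2473)) (r 143)))))))))))))))))))))))))))))))))))))))))))))))))))))))))))))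
  )))))))))))))))))))))))))))))))))))))))))))))))))))))))))))))))))))))))))))))))))))))))))))))) (l
  2439))))))))))))))))))) (c 65556 (c 65479 (c 65574 (c 5 (c 65653 (c 65637 (l 2439) (c 65463 (c 65447 (c 65431
  (c 65415 (c 65399 (c 65383 (c 65367 (c 65351 (c 65335 (c 65319 (c 65303 (c 65287 (c 65271 (c 65255 (c 8 (l
  2457) (r 143)) (c 8 (l 2457) (r 143))) (c 8 (l 2457) (r 143))) (c 8 (l 2457) (r 143))) (c 8 (l 2457) (r 143)))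
  (c 8 (l 2457) (c 65352 (c 65336 (l 2455) (r 143)) (l 2457)))) (c 8 (l 2457) (c 65368 (r 145) (l 2457)))) (c 8
  (l 2457) (c 65384 (r 145) (l 2457)))) (c 8 (l 2457) (c 65400 (r 145) (l 2457)))) (c 8 (l 2457) (c 65416 (r
  145) (l 2457)))) (c 8 (l 2457) (c 65432 (r 145) (l 2457)))) (r 145)) (r 145)) (r 145)) (r 145))) (l 2473)) (l
  2439)) (c 65463 (c 65590 (c 5 (c 65685 (c 65669 (l 2439) (c 65447 (c 65431 (c 65415 (c 65399 (r 143) (c 8 (l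
  2457) (r 143))) (c 8 (l 2457) (r 143))) (c 8 (l 2457) (c 65464 (c 65448 (l 2455) (r 143)) (l 2457)))) (c 8 (l
  2457) (c 65480 (r 145) (l 2457))))) (l 2473)) (l 2439)) (c 65447 (c 65606 (c 5 (c 65717 (c 65701 (l 2439) (c
  65431 (r 143) (c 8 (l 2457) (r 143)))) (l 2473)) (l 2439)) (c 65622 (c 5 (r 143) (l 2439)) (c 65431 (r 143) (c
  8 (l 2457) (r 143))))) (c 8 (l 2457) (c 65480 (c 65464 (l 2455) (c 65606 (c 5 (r 143) (l 2439)) (c 65622 (c 5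
  (r 143) (l 2439)) (r 143)))) (l 2457))))) (c 8 (l 2457) (c 65496 (c 65480 (l 2455) (c 65590 (r 145) (c 65606
  (c 5 (c 65717 (c 65701 (l 2439) (r 145)) (l 2473)) (l 2439)) (c 65622 (c 5 (c 65749 (r 143) (l 2473)) (l
  2439)) (c 65638 (c 5 (r 143) (l 2439)) (c 65654 (c 5 (r 143) (l 2439)) (r 143))))))) (l 2457))))) (c 8 (l
  2457) (c 65496 (l 2455) (c 65574 (r 145) (c 65590 (r 145) (c 65606 (r 145) (c 65622 (r 145) (c 65638 (r 145)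
  (c 65654 (r 145) (c 65670 (c 5 (c 65845 (c 65829 (l 2439) (r 145)) (l 2473)) (l 2439)) (c 65686 (c 5 (c 65877
  (c 65861 (l 2439) (r 145)) (l 2473)) (l 2439)) (c 65702 (c 5 (c 65909 (c 65893 (l 2439) (r 145)) (l 2473)) (l
  2439)) (c 65718 (c 5 (c 65941 (c 65925 (l 2439) (r 145)) (l 2473)) (l 2439)) (c 65734 (c 5 (c 65973 (c 65957
  (l 2439) (r 145)) (l 2473)) (l 2439)) (c 65750 (c 5 (c 66005 (r 143) (l 2473)) (l 2439)) (c 65766 (c 5 (r 143)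
  (l 2439)) (c 65782 (c 5 (r 143) (l 2439)) (c 65798 (c 5 (r 143) (l 2439)) (c 5 (r 143) (l
  2439)))))))))))))))))))) (c 65479 (c 65574 (c 65572 (c 5 (c 65669 (c 65653 (l 2439) (c 65463 (c 65447 (r 143)
  (c 8 (l 2457) (r 143))) (c 8 (l 2457) (c 65496 (r 145) (l 2457))))) (l 2473)) (l 2439)) (c 65463 (c 65588 (c 5
  (r 143) (l 2439)) (r 143)) (c 8 (l 2457) (c 65496 (c 65480 (l 2455) (r 143)) (l 2457))))) (c 65572 (c 65463 (r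
  143) (c 8 (l 2457) (c 65496 (c 65480 (l 2455) (r 143)) (l 2457)))) (r 143))) (c 8 (l 2457) (c 65496 (l 2455)
  (c 65574 (c 65572 (r 145) (c 65588 (c 5 (c 65685 (c 65669 (l 2439) (r 145)) (l 2473)) (l 2439)) (c 65604 (c 5
  (r 143) (l 2439)) (c 65620 (c 5 (r 143) (l 2439)) (r 143))))) (c 65572 (c 65590 (c 5 (c 65701 (c 65685 (l
  2439) (r 145)) (l 2473)) (l 2439)) (c 65606 (c 5 (r 143) (l 2439)) (r 143))) (r 143)))))))) (c 8 (l 2457) (l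
  2455))))) (c 7 (r 143) (c 65495 (c 65558 (c 65479 (c 65463 (r 143) (c 8 (l 2457) (r 143))) (c 8 (l 2457) (c
  65496 (l 2455) (c 5 (r 143) (c 65493 (c 65477 (c 65461 (c 65445 (c 65429 (c 65413 (c 65397 (c 65381 (c 65365
  (c 65349 (r 143) (c 65300 (c 65284 (l 2473) (r 143)) (l 2439))) (c 65316 (c 65300 (l 2473) (r 143)) (l 2439)))
  (c 65332 (c 65316 (l 2473) (r 143)) (l 2439))) (c 65348 (c 65332 (l 2473) (r 143)) (l 2439))) (c 65364 (c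
  65348 (l 2473) (r 143)) (l 2439))) (c 65380 (c 65364 (l 2473) (r 143)) (l 2439))) (c 65396 (c 65380 (l 2473)
  (r 143)) (l 2439))) (c 65412 (c 65396 (l 2473) (r 143)) (l 2439))) (c 65428 (c 65412 (l 2473) (r 143)) (l
  2439))) (r 161)))))) (r 143)) (c 8 (l 2457) (l 2455)))))) (c 4 (c 65540 (c 7 (c 65543 (r 143) (c 65494 (c
  65559 (r 143) (c 65478 (c 65575 (r 143) (c 65462 (c 65446 (c 65591 (c 8 (c 65608 (c 65592 (l 2455) (c 5 (l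
  2473) (c 65493 (r 143) (l 2473)))) (l 2457)) (l 2455)) (c 65430 (c 65607 (c 8 (c 65624 (c 65608 (l 2455) (c
  65414 (c 65398 (c 65382 (c 65366 (c 65350 (c 65334 (c 65318 (c 65302 (c 65286 (c 65270 (c 65254 (c 65238 (c
  65222 (c 5 (l 2473) (c 65206 (c 65190 (c 65174 (c 65158 (c 65142 (c 65126 (c 65110 (c 65094 (c 65078 (c 65062
  (c 65046 (c 65030 (c 65014 (c 64998 (c 64982 (c 64966 (c 64950 (c 64934 (c 64918 (c 64902 (c 64886 (c 64870 (c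
  64854 (c 64838 (c 64822 (c 64806 (c 64790 (c 64774 (c 64758 (c 64742 (c 64726 (c 64710 (c 64694 (c 64678 (c
  64662 (c 64646 (c 64630 (c 64614 (c 64598 (c 64582 (c 64566 (c 64550 (c 64534 (c 64518 (c 64502 (c 64486 (c
  64470 (c 64454 (c 64438 (c 64422 (c 64406 (c 64390 (c 64374 (c 64358 (c 64342 (c 64326 (c 64310 (c 64294 (c
  64278 (c 64262 (c 64246 (c 64230 (c 64214 (c 64198 (c 64182 (c 64166 (c 64150 (c 64134 (c 64118 (c 64102 (c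
  64086 (c 64070 (c 64054 (c 64038 (c 64022 (c 64006 (c 63990 (c 63974 (c 63958 (c 63942 (c 63926 (c 63910 (c
  63894 (c 63878 (c 63862 (c 63846 (c 63830 (c 63814 (c 63798 (c 63782 (c 63766 (c 63750 (c 63734 (c 63718 (c
  63702 (c 63686 (c 63670 (c 63654 (c 63638 (c 63622 (c 63606 (c 63590 (c 63574 (c 63558 (c 63542 (c 63526 (c
  63510 (c 63494 (c 63478 (c 63462 (c 63446 (c 63430 (c 63414 (c 63398 (c 63382 (c 63366 (c 63350 (c 63334 (c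
  63318 (c 63302 (c 63286 (c 63270 (c 63254 (c 63238 (c 63222 (c 63206 (c 63190 (r 145) (c 60901 (c 60885 (l
  2439) (r 145)) (l 2473))) (c 60933 (c 60917 (l 2439) (r 145)) (l 2473))) (c 60965 (c 60949 (l 2439) (r 145))
  (l 2473))) (c 60997 (c 60981 (l 2439) (r 145)) (l 2473))) (c 61029 (r 143) (l 2473))) (c 61061 (r 143) (l
  2473))) (c 61093 (r 143) (l 2473))) (c 61125 (r 143) (l 2473))) (c 61157 (r 143) (l 2473))) (c 61189 (r 143)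
  (l 2473))) (c 61221 (r 143) (l 2473))) (c 61253 (r 143) (l 2473))) (c 61285 (r 143) (l 2473))) (c 61317 (r
  143) (l 2473))) (c 61349 (r 143) (l 2473))) (c 61381 (r 143) (l 2473))) (c 61413 (r 143) (l 2473))) (c 61445
  (r 143) (l 2473))) (c 61477 (r 143) (l 2473))) (c 61509 (r 143) (l 2473))) (c 61541 (r 143) (l 2473))) (c
  61573 (r 143) (l 2473))) (c 61605 (r 143) (l 2473))) (c 61637 (r 143) (l 2473))) (c 61669 (r 143) (l 2473)))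
  (c 61701 (r 143) (l 2473))) (c 61733 (r 143) (l 2473))) (c 61765 (r 143) (l 2473))) (c 61797 (r 143) (l
  2473))) (c 61829 (r 143) (l 2473))) (c 61861 (r 143) (l 2473))) (c 61893 (r 143) (l 2473))) (c 61925 (r 143)
  (l 2473))) (c 61957 (r 143) (l 2473))) (c 61989 (r 143) (l 2473))) (c 62021 (r 143) (l 2473))) (c 62053 (r
  143) (l 2473))) (c 62085 (r 143) (l 2473))) (c 62117 (r 143) (l 2473))) (c 62149 (r 143) (l 2473))) (c 62181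
  (r 143) (l 2473))) (c 62213 (r 143) (l 2473))) (c 62245 (r 143) (l 2473))) (c 62277 (r 143) (l 2473))) (c
  62309 (r 143) (l 2473))) (c 62341 (r 143) (l 2473))) (c 62373 (r 143) (l 2473))) (c 62405 (r 143) (l 2473)))
  (c 62437 (r 143) (l 2473))) (c 62469 (r 143) (l 2473))) (c 62501 (r 143) (l 2473))) (c 62533 (r 143) (l
  2473))) (c 62565 (r 143) (l 2473))) (c 62597 (r 143) (l 2473))) (c 62629 (r 143) (l 2473))) (c 62661 (r 143)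
  (l 2473))) (c 62693 (r 143) (l 2473))) (c 62725 (r 143) (l 2473))) (c 62757 (r 143) (l 2473))) (c 62789 (r
  143) (l 2473))) (c 62821 (r 143) (l 2473))) (c 62853 (r 143) (l 2473))) (c 62885 (r 143) (l 2473))) (c 62917
  (r 143) (l 2473))) (c 62949 (r 143) (l 2473))) (c 62981 (r 143) (l 2473))) (c 63013 (r 143) (l 2473))) (c
  63045 (r 143) (l 2473))) (c 63077 (r 143) (l 2473))) (c 63109 (r 143) (l 2473))) (c 63141 (r 143) (l 2473)))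
  (c 63173 (r 143) (l 2473))) (c 63205 (r 143) (l 2473))) (c 63237 (r 143) (l 2473))) (c 63269 (r 143) (l
  2473))) (c 63301 (r 143) (l 2473))) (c 63333 (r 143) (l 2473))) (c 63365 (r 143) (l 2473))) (c 63397 (r 143)
  (l 2473))) (c 63429 (r 143) (l 2473))) (c 63461 (r 143) (l 2473))) (c 63493 (r 143) (l 2473))) (c 63525 (r
  143) (l 2473))) (c 63557 (r 143) (l 2473))) (c 63589 (r 143) (l 2473))) (c 63621 (r 143) (l 2473))) (c 63653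
  (r 143) (l 2473))) (c 63685 (r 143) (l 2473))) (c 63717 (r 143) (l 2473))) (c 63749 (r 143) (l 2473))) (c
  63781 (r 143) (l 2473))) (c 63813 (r 143) (l 2473))) (c 63845 (r 143) (l 2473))) (c 63877 (r 143) (l 2473)))
  (c 63909 (r 143) (l 2473))) (c 63941 (r 143) (l 2473))) (c 63973 (r 143) (l 2473))) (c 64005 (r 143) (l
  2473))) (c 64037 (r 143) (l 2473))) (c 64069 (r 143) (l 2473))) (c 64101 (r 143) (l 2473))) (c 64133 (r 143)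
  (l 2473))) (c 64165 (r 143) (l 2473))) (c 64197 (r 143) (l 2473))) (c 64229 (r 143) (l 2473))) (c 64261 (r
  143) (l 2473))) (c 64293 (r 143) (l 2473))) (c 64325 (r 143) (l 2473))) (c 64357 (r 143) (l 2473))) (c 64389
  (r 143) (l 2473))) (c 64421 (r 143) (l 2473))) (c 64453 (r 143) (l 2473))) (c 64485 (r 143) (l 2473))) (c
  64517 (r 143) (l 2473))) (c 64549 (r 143) (l 2473))) (c 64581 (r 143) (l 2473))) (c 64613 (r 143) (l 2473)))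
  (c 64645 (r 143) (l 2473))) (c 64677 (r 143) (l 2473))) (c 64709 (r 143) (l 2473))) (c 64741 (r 143) (l
  2473))) (c 64773 (r 143) (l 2473))) (c 64805 (r 143) (l 2473))) (c 64837 (r 143) (l 2473))) (c 64869 (r 143)
  (l 2473))) (c 64901 (r 143) (l 2473))) (c 64933 (r 143) (l 2473)))) (c 5 (l 2473) (c 64965 (r 143) (l 2473))))
  (c 5 (l 2473) (c 64997 (r 143) (l 2473)))) (c 5 (l 2473) (c 65029 (r 143) (l 2473)))) (r 143)) (r 143)) (r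
  143)) (r 143)) (r 143)) (r 143)) (r 143)) (r 143)) (r 143)) (r 143))) (l 2457)) (l 2455)) (c 65414 (c 65623 (c
  8 (c 65640 (c 65624 (l 2455) (c 65398 (c 65382 (c 65366 (c 65350 (c 65334 (c 65318 (c 65302 (c 65286 (c 65270
  (c 65254 (c 65238 (c 65222 (c 5 (l 2473) (c 65206 (c 65190 (c 65174 (c 65158 (c 65142 (c 65126 (c 65110 (c
  65094 (r 145) (c 64709 (c 64693 (l 2439) (r 145)) (l 2473))) (c 64741 (r 143) (l 2473))) (c 64773 (r 143) (l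
  2473))) (c 64805 (r 143) (l 2473))) (c 64837 (r 143) (l 2473))) (c 64869 (r 143) (l 2473))) (c 64901 (r 143)
  (l 2473))) (c 64933 (r 143) (l 2473)))) (c 5 (l 2473) (c 64965 (r 143) (l 2473)))) (c 5 (l 2473) (c 64997 (r
  143) (l 2473)))) (c 5 (l 2473) (c 65029 (r 143) (l 2473)))) (c 5 (l 2473) (c 65061 (r 143) (l 2473)))) (c 5 (l
  2473) (c 65093 (r 143) (l 2473)))) (c 5 (l 2473) (c 65125 (r 143) (l 2473)))) (c 5 (l 2473) (c 65157 (r 143)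
  (l 2473)))) (c 5 (l 2473) (c 65189 (r 143) (l 2473)))) (r 143)) (r 143)) (r 143)) (r 143))) (l 2457)) (l
  2455)) (c 65398 (c 65639 (c 8 (c 65656 (c 65640 (l 2455) (c 65382 (c 65366 (c 65350 (c 65334 (c 65318 (c 65302
  (c 65286 (c 65270 (c 65254 (c 65238 (c 65222 (c 5 (l 2473) (r 145)) (c 5 (l 2473) (r 145))) (c 5 (l 2473) (r
  145))) (c 5 (l 2473) (c 65029 (r 143) (l 2473)))) (c 5 (l 2473) (c 65061 (r 143) (l 2473)))) (c 5 (l 2473) (c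
  65093 (r 143) (l 2473)))) (c 5 (l 2473) (c 65125 (r 143) (l 2473)))) (c 5 (l 2473) (c 65157 (r 143) (l
  2473)))) (c 5 (l 2473) (c 65189 (r 143) (l 2473)))) (c 5 (l 2473) (c 65221 (r 143) (l 2473)))) (c 5 (l 2473)
  (c 65253 (r 143) (l 2473)))) (r 143))) (l 2457)) (l 2455)) (c 65382 (c 65655 (c 8 (c 65672 (c 65656 (l 2455)
  (c 65366 (c 65350 (c 65334 (c 65318 (c 65302 (c 65286 (c 65270 (c 65254 (c 65238 (c 65222 (c 5 (l 2473) (r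
  145)) (c 5 (l 2473) (r 145))) (c 5 (l 2473) (r 145))) (c 5 (l 2473) (r 145))) (c 5 (l 2473) (r 145))) (c 5 (l
  2473) (r 145))) (c 5 (l 2473) (c 65125 (c 65109 (l 2439) (r 145)) (l 2473)))) (c 5 (l 2473) (c 65157 (r 143)
  (l 2473)))) (c 5 (l 2473) (c 65189 (r 143) (l 2473)))) (c 5 (l 2473) (c 65221 (r 143) (l 2473)))) (c 5 (l
  2473) (c 65253 (r 143) (l 2473))))) (l 2457)) (l 2455)) (c 65366 (c 65671 (c 8 (c 65688 (c 65672 (l 2455) (c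
  65350 (c 65334 (c 65318 (c 65302 (c 65286 (c 65270 (c 65254 (c 65238 (c 65222 (c 5 (l 2473) (r 145)) (c 5 (l
  2473) (r 145))) (c 5 (l 2473) (r 145))) (c 5 (l 2473) (r 145))) (c 5 (l 2473) (r 145))) (c 5 (l 2473) (r
  145))) (c 5 (l 2473) (r 145))) (c 5 (l 2473) (r 145))) (c 5 (l 2473) (c 65189 (c 65173 (l 2439) (r 145)) (l
  2473)))) (c 5 (l 2473) (c 65221 (r 143) (l 2473))))) (l 2457)) (l 2455)) (c 65350 (c 65687 (c 8 (c 65704 (c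
  65688 (l 2455) (c 65334 (c 65318 (c 65302 (c 65286 (c 65270 (c 65254 (c 65238 (c 65222 (c 5 (l 2473) (r 145))
  (c 5 (l 2473) (r 145))) (c 5 (l 2473) (r 145))) (c 5 (l 2473) (r 145))) (c 5 (l 2473) (r 145))) (c 5 (l 2473)
  (r 145))) (c 5 (l 2473) (r 145))) (c 5 (l 2473) (r 145))) (c 5 (l 2473) (r 145)))) (l 2457)) (l 2455)) (c
  65334 (c 65703 (c 8 (c 65720 (c 65704 (l 2455) (c 65318 (c 65302 (c 65286 (c 65270 (c 65254 (c 65238 (c 65222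
  (c 5 (l 2473) (r 145)) (c 5 (l 2473) (r 145))) (c 5 (l 2473) (r 145))) (c 5 (l 2473) (r 145))) (c 5 (l 2473)
  (r 145))) (c 5 (l 2473) (r 145))) (c 5 (l 2473) (r 145))) (c 5 (l 2473) (r 145)))) (l 2457)) (l 2455)) (c
  65318 (c 65302 (c 65719 (c 8 (c 65736 (c 65720 (l 2455) (c 65286 (c 65270 (c 65254 (c 65238 (r 145) (c 5 (l
  2473) (r 145))) (c 5 (l 2473) (r 145))) (c 5 (l 2473) (r 145))) (c 5 (l 2473) (r 145)))) (l 2457)) (l 2455))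
  (c 65286 (c 65735 (c 8 (c 65752 (c 65736 (l 2455) (c 65270 (r 145) (c 5 (l 2473) (r 145)))) (l 2457)) (l
  2455)) (c 65270 (c 65751 (c 8 (r 145) (l 2455)) (c 65254 (c 65767 (c 8 (r 145) (l 2455)) (c 65238 (c 8 (r 145)
  (l 2455)) (c 5 (l 2473) (r 145)))) (c 5 (l 2473) (r 145)))) (c 5 (l 2473) (c 65061 (c 65045 (l 2439) (c 65751
  (c 8 (r 145) (l 2455)) (r 145))) (l 2473))))) (c 5 (l 2473) (c 65093 (c 65077 (l 2439) (c 65735 (c 8 (r 145)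
  (l 2455)) (c 65751 (c 8 (r 145) (l 2455)) (c 65767 (c 8 (r 145) (l 2455)) (r 145))))) (l 2473))))) (c 5 (l
  2473) (c 65125 (c 65109 (l 2439) (c 65719 (c 8 (r 145) (l 2455)) (c 65735 (c 8 (r 145) (l 2455)) (c 65751 (c 8
  (r 145) (l 2455)) (c 65767 (c 8 (r 145) (l 2455)) (c 8 (r 145) (l 2455))))))) (l 2473)))) (c 5 (l 2473) (c
  65157 (c 65141 (l 2439) (c 65719 (c 8 (r 145) (l 2455)) (c 65735 (c 8 (r 145) (l 2455)) (c 65751 (c 8 (r 145)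
  (l 2455)) (c 65767 (c 8 (r 145) (l 2455)) (c 8 (r 145) (l 2455))))))) (l 2473))))) (c 5 (l 2473) (c 65189 (c
  65173 (l 2439) (c 65703 (c 8 (r 145) (l 2455)) (c 65719 (c 8 (r 145) (l 2455)) (c 65735 (c 8 (r 145) (l 2455))
  (c 65751 (c 8 (r 145) (l 2455)) (c 65767 (c 8 (r 145) (l 2455)) (c 8 (r 145) (l 2455)))))))) (l 2473))))) (c 5
  (l 2473) (c 65221 (c 65205 (l 2439) (c 65687 (c 8 (c 65704 (r 145) (l 2457)) (l 2455)) (c 65703 (c 8 (r 145)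
  (l 2455)) (c 65719 (c 8 (r 145) (l 2455)) (c 65735 (c 8 (r 145) (l 2455)) (c 65751 (c 8 (r 145) (l 2455)) (c
  65767 (c 8 (r 145) (l 2455)) (c 8 (r 145) (l 2455))))))))) (l 2473))))) (c 5 (l 2473) (c 65253 (c 65237 (l
  2439) (c 65671 (c 8 (c 65688 (c 65672 (l 2455) (r 143)) (l 2457)) (l 2455)) (c 65687 (c 8 (c 65704 (c 65688 (l
  2455) (r 143)) (l 2457)) (l 2455)) (c 65703 (c 8 (c 65720 (c 65704 (l 2455) (r 143)) (l 2457)) (l 2455)) (c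
  65719 (c 8 (r 145) (l 2455)) (c 65735 (c 8 (r 145) (l 2455)) (c 65751 (c 8 (r 145) (l 2455)) (c 65767 (c 8 (r
  145) (l 2455)) (c 8 (r 145) (l 2455)))))))))) (l 2473))))) (c 5 (l 2473) (c 65285 (c 65269 (l 2439) (c 65655
  (c 8 (c 65672 (c 65656 (l 2455) (r 143)) (l 2457)) (l 2455)) (c 65671 (c 8 (c 65688 (c 65672 (l 2455) (r 143))
  (l 2457)) (l 2455)) (c 65687 (c 8 (c 65704 (c 65688 (l 2455) (r 143)) (l 2457)) (l 2455)) (c 65703 (c 8 (c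
  65720 (c 65704 (l 2455) (r 143)) (l 2457)) (l 2455)) (c 65719 (c 8 (c 65736 (c 65720 (l 2455) (r 143)) (l
  2457)) (l 2455)) (c 65735 (c 8 (c 65752 (c 65736 (l 2455) (r 143)) (l 2457)) (l 2455)) (c 65751 (c 8 (c 65768
  (r 145) (l 2457)) (l 2455)) (c 65767 (c 8 (r 145) (l 2455)) (c 8 (r 145) (l 2455))))))))))) (l 2473))))) (c 5
  (l 2473) (c 65317 (c 65301 (l 2439) (c 65639 (r 143) (c 65655 (r 143) (c 65671 (c 8 (c 65688 (c 65672 (l 2455)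
  (r 143)) (l 2457)) (l 2455)) (c 65687 (c 8 (c 65704 (c 65688 (l 2455) (r 143)) (l 2457)) (l 2455)) (c 65703 (c
  8 (c 65720 (c 65704 (l 2455) (r 143)) (l 2457)) (l 2455)) (c 65719 (c 8 (c 65736 (c 65720 (l 2455) (r 143)) (l
  2457)) (l 2455)) (c 65735 (c 8 (c 65752 (c 65736 (l 2455) (r 143)) (l 2457)) (l 2455)) (c 65751 (c 8 (c 65768
  (c 65752 (l 2455) (r 143)) (l 2457)) (l 2455)) (c 65767 (c 8 (c 65784 (c 65768 (l 2455) (r 143)) (l 2457)) (l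
  2455)) (c 8 (c 65783 (c 65800 (c 65784 (l 2455) (r 143)) (l 2457)) (c 65799 (c 65816 (c 65800 (l 2455) (r
  143)) (l 2457)) (c 65815 (c 65832 (r 145) (l 2457)) (r 145)))) (l 2455)))))))))))) (l 2473))))) (c 5 (l 2473)
  (c 65349 (c 65333 (l 2439) (c 65623 (r 143) (c 65639 (r 143) (c 65655 (r 143) (c 65671 (r 143) (c 65687 (r
  143) (c 65703 (r 143) (c 65719 (c 8 (c 65736 (c 65720 (l 2455) (r 143)) (l 2457)) (l 2455)) (c 65735 (c 8 (c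
  65752 (c 65736 (l 2455) (r 143)) (l 2457)) (l 2455)) (c 65751 (c 8 (c 65768 (c 65752 (l 2455) (r 143)) (l
  2457)) (l 2455)) (c 65767 (c 8 (c 65784 (c 65768 (l 2455) (r 143)) (l 2457)) (l 2455)) (c 8 (c 65783 (c 65800
  (c 65784 (l 2455) (r 143)) (l 2457)) (c 65799 (c 65816 (c 65800 (l 2455) (r 143)) (l 2457)) (c 65815 (c 65832
  (c 65816 (l 2455) (r 143)) (l 2457)) (c 65831 (c 65848 (c 65832 (l 2455) (r 143)) (l 2457)) (c 65847 (c 65864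
  (c 65848 (l 2455) (r 143)) (l 2457)) (c 65863 (c 65880 (c 65864 (l 2455) (r 143)) (l 2457)) (c 65879 (c 65896
  (c 65880 (l 2455) (r 143)) (l 2457)) (c 65895 (c 65912 (c 65896 (l 2455) (r 143)) (l 2457)) (c 65911 (c 65928
  (c 65912 (l 2455) (r 143)) (l 2457)) (c 65927 (c 65944 (c 65928 (l 2455) (r 143)) (l 2457)) (c 65943 (c 65960
  (c 65944 (l 2455) (r 143)) (l 2457)) (c 65959 (c 65976 (c 65960 (l 2455) (r 143)) (l 2457)) (c 65975 (c 65992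
  (c 65976 (l 2455) (r 143)) (l 2457)) (c 65991 (c 66008 (c 65992 (l 2455) (r 143)) (l 2457)) (c 66007 (c 66024
  (c 66008 (l 2455) (r 143)) (l 2457)) (c 66023 (c 66040 (c 66024 (l 2455) (r 143)) (l 2457)) (c 66039 (c 66056
  (c 66040 (l 2455) (r 143)) (l 2457)) (c 66055 (c 66072 (r 145) (l 2457)) (c 66071 (c 66088 (r 145) (l 2457))
  (r 145)))))))))))))))))))) (l 2455))))))))))))) (l 2473))))) (c 5 (l 2473) (c 65381 (c 65365 (l 2439) (c 8 (c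
  65544 (l 2455) (c 65560 (l 2455) (c 65576 (l 2455) (c 65592 (l 2455) (c 65608 (l 2455) (c 65624 (c 65607 (r
  143) (l 2455)) (c 65640 (c 65623 (r 143) (l 2455)) (c 65656 (c 65639 (r 143) (l 2455)) (c 65672 (c 65655 (r
  143) (l 2455)) (c 65688 (c 65671 (r 143) (l 2455)) (c 65704 (c 65687 (r 143) (l 2455)) (c 65720 (c 65703 (r
  143) (l 2455)) (c 65736 (c 65719 (r 143) (l 2455)) (c 65752 (c 65735 (r 143) (l 2455)) (c 65768 (c 65751 (r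
  143) (l 2455)) (r 143)))))))))))))))) (l 2455))) (l 2473))))) (c 5 (l 2473) (c 65413 (c 65397 (l 2439) (c 8 (c
  65544 (l 2455) (r 143)) (l 2455))) (l 2473)))) (r 143))) (r 143))) (r 143))) (c 65494 (c 65478 (c 65462 (c
  65446 (c 65430 (c 65414 (c 65398 (c 65382 (c 65366 (c 65350 (c 65334 (c 65318 (c 65302 (r 145) (c 5 (l 2473)
  (r 145))) (c 5 (l 2473) (r 145))) (c 5 (l 2473) (r 145))) (c 5 (l 2473) (r 145))) (c 5 (l 2473) (r 145))) (c 5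
  (l 2473) (r 145))) (c 5 (l 2473) (c 65317 (c 65301 (l 2439) (c 8 (l 2457) (c 65496 (r 145) (c 65495 (c 65479
  (l 2457) (r 145)) (l 2455))))) (l 2473)))) (c 5 (l 2473) (c 65349 (c 65333 (l 2439) (c 8 (l 2457) (c 65496 (c
  65480 (r 145) (c 65479 (c 65463 (l 2457) (r 145)) (l 2455))) (c 65495 (c 65479 (l 2457) (r 145)) (l 2455)))))
  (l 2473)))) (c 5 (l 2473) (c 65381 (c 65365 (l 2439) (c 65495 (c 65479 (c 65463 (c 65447 (c 65431 (c 65415 (c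
  65399 (c 65383 (c 65367 (c 65351 (c 65335 (c 65319 (c 65303 (c 65287 (c 65271 (c 65255 (c 8 (l 2457) (c 65239
  (c 65223 (c 65207 (c 65191 (c 65175 (c 65159 (c 65143 (c 65127 (c 65111 (c 65095 (c 65079 (c 65063 (c 65047 (c
  65031 (c 65015 (c 64999 (c 64983 (c 64967 (c 64951 (c 64935 (c 64919 (c 64903 (c 64887 (c 64871 (c 64855 (c
  64839 (c 64823 (c 64807 (c 64791 (c 64775 (c 64759 (c 64743 (c 64727 (c 64711 (c 64695 (c 64679 (c 64663 (c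
  64647 (c 64631 (c 64615 (c 64599 (c 64583 (c 64567 (c 64551 (c 64535 (c 64519 (c 64503 (c 64487 (c 64471 (c
  64455 (c 64439 (c 64423 (c 64407 (c 64391 (c 64375 (c 64359 (c 64343 (c 64327 (c 64311 (c 64295 (c 64279 (c
  64263 (c 64247 (c 64231 (c 64215 (c 64199 (c 64183 (c 64167 (c 64151 (c 64135 (c 64119 (c 64103 (c 64087 (c
  64071 (c 64055 (c 64039 (c 64023 (c 64007 (c 63991 (c 63975 (c 63959 (c 63943 (c 63927 (c 63911 (c 63895 (c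
  63879 (c 63863 (c 63847 (c 63831 (c 63815 (c 63799 (c 63783 (c 63767 (c 63751 (c 63735 (c 63719 (c 63703 (c
  63687 (c 63671 (c 63655 (c 63639 (c 63623 (c 63607 (c 63591 (c 63575 (c 63559 (c 63543 (c 63527 (c 63511 (c
  63495 (c 63479 (c 63463 (c 63447 (c 63431 (c 63415 (c 63399 (c 63383 (c 63367 (c 63351 (c 63335 (c 63319 (c
  63303 (c 63287 (c 63271 (c 63255 (c 63239 (c 63223 (c 63207 (c 63191 (c 63175 (c 63159 (c 63143 (c 63127 (c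
  63111 (c 63095 (c 63079 (c 63063 (c 63047 (c 63031 (c 63015 (c 62999 (c 62983 (c 62967 (c 62951 (c 62935 (c
  62919 (c 62903 (c 62887 (c 62871 (c 62855 (c 62839 (c 62823 (c 62807 (c 62791 (c 62775 (c 62759 (c 62743 (c
  62727 (c 62711 (c 62695 (c 62679 (c 62663 (c 62647 (c 62631 (c 62615 (c 62599 (c 62583 (c 62567 (c 62551 (c
  62535 (c 62519 (c 62503 (c 62487 (c 62471 (c 62455 (c 62439 (c 62423 (c 62407 (c 62391 (c 62375 (c 62359 (c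
  62343 (c 62327 (c 62311 (c 62295 (c 62279 (c 62263 (c 62247 (c 62231 (c 62215 (c 62199 (c 62183 (c 62167 (c
  62151 (c 62135 (c 62119 (c 62103 (c 62087 (c 62071 (c 62055 (c 62039 (c 62023 (c 62007 (c 61991 (c 61975 (c
  61959 (c 61943 (c 61927 (c 61911 (c 61895 (c 61879 (c 61863 (c 61847 (c 61831 (c 61815 (c 61799 (c 61783 (c
  61767 (c 61751 (c 61735 (c 61719 (c 61703 (c 61687 (c 61671 (c 61655 (r 143) (c 61688 (c 61672 (l 2455) (r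
  143)) (l 2457))) (c 61704 (c 61688 (l 2455) (r 143)) (l 2457))) (c 61720 (c 61704 (l 2455) (r 143)) (l 2457)))
  (c 61736 (c 61720 (l 2455) (r 143)) (l 2457))) (c 61752 (c 61736 (l 2455) (r 143)) (l 2457))) (c 61768 (c
  61752 (l 2455) (r 143)) (l 2457))) (c 61784 (c 61768 (l 2455) (r 143)) (l 2457))) (c 61800 (c 61784 (l 2455)
  (r 143)) (l 2457))) (c 61816 (c 61800 (l 2455) (r 143)) (l 2457))) (c 61832 (c 61816 (l 2455) (r 143)) (l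
  2457))) (c 61848 (c 61832 (l 2455) (r 143)) (l 2457))) (c 61864 (c 61848 (l 2455) (r 143)) (l 2457))) (c 61880
  (c 61864 (l 2455) (r 143)) (l 2457))) (c 61896 (c 61880 (l 2455) (r 143)) (l 2457))) (c 61912 (c 61896 (l
  2455) (r 143)) (l 2457))) (c 61928 (r 145) (l 2457))) (c 61944 (r 145) (l 2457))) (c 61960 (r 145) (l 2457)))
  (c 61976 (r 145) (l 2457))) (c 61992 (r 145) (l 2457))) (c 62008 (r 145) (l 2457))) (c 62024 (r 145) (l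
  2457))) (c 62040 (r 145) (l 2457))) (c 62056 (r 145) (l 2457))) (c 62072 (r 145) (l 2457))) (c 62088 (r 145)
  (l 2457))) (c 62104 (r 145) (l 2457))) (c 62120 (r 145) (l 2457))) (c 62136 (r 145) (l 2457))) (c 62152 (r
  145) (l 2457))) (c 62168 (r 145) (l 2457))) (c 62184 (r 145) (l 2457))) (c 62200 (r 145) (l 2457))) (c 62216
  (r 145) (l 2457))) (c 62232 (r 145) (l 2457))) (c 62248 (r 145) (l 2457))) (c 62264 (r 145) (l 2457))) (c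
  62280 (r 145) (l 2457))) (c 62296 (r 145) (l 2457))) (c 62312 (r 145) (l 2457))) (c 62328 (r 145) (l 2457)))
  (c 62344 (r 145) (l 2457))) (c 62360 (r 145) (l 2457))) (c 62376 (r 145) (l 2457))) (c 62392 (r 145) (l
  2457))) (c 62408 (r 145) (l 2457))) (c 62424 (r 145) (l 2457))) (c 62440 (r 145) (l 2457))) (c 62456 (r 145)
  (l 2457))) (c 62472 (r 145) (l 2457))) (c 62488 (r 145) (l 2457))) (c 62504 (r 145) (l 2457))) (c 62520 (r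
  145) (l 2457))) (c 62536 (r 145) (l 2457))) (c 62552 (r 145) (l 2457))) (c 62568 (r 145) (l 2457))) (c 62584
  (r 145) (l 2457))) (c 62600 (r 145) (l 2457))) (c 62616 (r 145) (l 2457))) (c 62632 (r 145) (l 2457))) (c
  62648 (r 145) (l 2457))) (c 62664 (r 145) (l 2457))) (c 62680 (r 145) (l 2457))) (c 62696 (r 145) (l 2457)))
  (c 62712 (r 145) (l 2457))) (c 62728 (r 145) (l 2457))) (c 62744 (r 145) (l 2457))) (c 62760 (r 145) (l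
  2457))) (c 62776 (r 145) (l 2457))) (c 62792 (r 145) (l 2457))) (c 62808 (r 145) (l 2457))) (c 62824 (r 145)
  (l 2457))) (c 62840 (r 145) (l 2457))) (c 62856 (r 145) (l 2457))) (c 62872 (r 145) (l 2457))) (c 62888 (r
  145) (l 2457))) (c 62904 (r 145) (l 2457))) (c 62920 (r 145) (l 2457))) (c 62936 (r 145) (l 2457))) (c 62952
  (r 145) (l 2457))) (c 62968 (r 145) (l 2457))) (c 62984 (r 145) (l 2457))) (c 63000 (r 145) (l 2457))) (c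
  63016 (r 145) (l 2457))) (c 63032 (r 145) (l 2457))) (c 63048 (r 145) (l 2457))) (c 63064 (r 145) (l 2457)))
  (c 63080 (r 145) (l 2457))) (c 63096 (r 145) (l 2457))) (c 63112 (r 145) (l 2457))) (c 63128 (r 145) (l
  2457))) (c 63144 (r 145) (l 2457))) (c 63160 (r 145) (l 2457))) (c 63176 (r 145) (l 2457))) (c 63192 (r 145)
  (l 2457))) (c 63208 (r 145) (l 2457))) (c 63224 (r 145) (l 2457))) (c 63240 (r 145) (l 2457))) (c 63256 (r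
  145) (l 2457))) (c 63272 (r 145) (l 2457))) (c 63288 (r 145) (l 2457))) (c 63304 (r 145) (l 2457))) (c 63320
  (r 145) (l 2457))) (c 63336 (r 145) (l 2457))) (c 63352 (r 145) (l 2457))) (c 63368 (r 145) (l 2457))) (c
  63384 (r 145) (l 2457))) (c 63400 (r 145) (l 2457))) (c 63416 (r 145) (l 2457))) (c 63432 (r 145) (l 2457)))
  (c 63448 (r 145) (l 2457))) (c 63464 (r 145) (l 2457))) (c 63480 (r 145) (l 2457))) (c 63496 (r 145) (l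
  2457))) (c 63512 (r 145) (l 2457))) (c 63528 (r 145) (l 2457))) (c 63544 (r 145) (l 2457))) (c 63560 (r 145)
  (l 2457))) (c 63576 (r 145) (l 2457))) (c 63592 (r 145) (l 2457))) (c 63608 (r 145) (l 2457))) (c 63624 (r
  145) (l 2457))) (c 63640 (r 145) (l 2457))) (c 63656 (r 145) (l 2457))) (c 63672 (r 145) (l 2457))) (c 63688
  (r 145) (l 2457))) (c 63704 (r 145) (l 2457))) (c 63720 (r 145) (l 2457))) (c 63736 (r 145) (l 2457))) (c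
  63752 (r 145) (l 2457))) (c 63768 (r 145) (l 2457))) (c 63784 (r 145) (l 2457))) (c 63800 (r 145) (l 2457)))
  (c 63816 (r 145) (l 2457))) (c 63832 (r 145) (l 2457))) (c 63848 (r 145) (l 2457))) (c 63864 (r 145) (l
  2457))) (c 63880 (r 145) (l 2457))) (c 63896 (r 145) (l 2457))) (c 63912 (r 145) (l 2457))) (c 63928 (r 145)
  (l 2457))) (c 63944 (r 145) (l 2457))) (c 63960 (r 145) (l 2457))) (c 63976 (r 145) (l 2457))) (c 63992 (r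
  145) (l 2457))) (c 64008 (r 145) (l 2457))) (c 64024 (r 145) (l 2457))) (c 64040 (r 145) (l 2457))) (c 64056
  (r 145) (l 2457))) (c 64072 (r 145) (l 2457))) (c 64088 (r 145) (l 2457))) (c 64104 (r 145) (l 2457))) (c
  64120 (r 145) (l 2457))) (c 64136 (r 145) (l 2457))) (c 64152 (r 145) (l 2457))) (c 64168 (r 145) (l 2457)))
  (c 64184 (r 145) (l 2457))) (c 64200 (r 145) (l 2457))) (c 64216 (r 145) (l 2457))) (c 64232 (r 145) (l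
  2457))) (c 64248 (r 145) (l 2457))) (c 64264 (r 145) (l 2457))) (c 64280 (r 145) (l 2457))) (c 64296 (r 145)
  (l 2457))) (c 64312 (r 145) (l 2457))) (c 64328 (r 145) (l 2457))) (c 64344 (r 145) (l 2457))) (c 64360 (r
  145) (l 2457))) (c 64376 (r 145) (l 2457))) (c 64392 (r 145) (l 2457))) (c 64408 (r 145) (l 2457))) (c 64424
  (r 145) (l 2457))) (c 64440 (r 145) (l 2457))) (c 64456 (r 145) (l 2457))) (c 64472 (r 145) (l 2457))) (c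
  64488 (r 145) (l 2457))) (c 64504 (r 145) (l 2457))) (c 64520 (r 145) (l 2457))) (c 64536 (r 145) (l 2457)))
  (c 64552 (r 145) (l 2457))) (c 64568 (r 145) (l 2457))) (c 64584 (r 145) (l 2457))) (c 64600 (r 145) (l
  2457))) (c 64616 (r 145) (l 2457))) (c 64632 (r 145) (l 2457))) (c 64648 (r 145) (l 2457))) (c 64664 (r 145)
  (l 2457))) (c 64680 (r 145) (l 2457))) (c 64696 (r 145) (l 2457))) (c 64712 (r 145) (l 2457))) (c 64728 (r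
  145) (l 2457))) (c 64744 (r 145) (l 2457))) (c 64760 (r 145) (l 2457))) (c 64776 (r 145) (l 2457))) (c 64792
  (r 145) (l 2457))) (c 64808 (r 145) (l 2457))) (c 64824 (r 145) (l 2457))) (c 64840 (r 145) (l 2457))) (c
  64856 (r 145) (l 2457))) (c 64872 (r 145) (l 2457))) (c 64888 (r 145) (l 2457))) (c 64904 (r 145) (l 2457)))
  (c 64920 (r 145) (l 2457))) (c 64936 (r 145) (l 2457))) (c 64952 (r 145) (l 2457))) (c 64968 (r 145) (l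
  2457))) (c 64984 (r 145) (l 2457))) (c 65000 (r 145) (l 2457))) (c 65016 (r 145) (l 2457))) (c 65032 (r 145)
  (l 2457))) (c 65048 (r 145) (l 2457))) (c 65064 (r 145) (l 2457))) (c 65080 (r 145) (l 2457))) (c 65096 (r
  145) (l 2457))) (c 65112 (r 145) (l 2457))) (c 65128 (r 145) (l 2457))) (c 65144 (r 145) (l 2457))) (c 65160
  (r 145) (l 2457))) (c 65176 (r 145) (l 2457))) (c 65192 (r 145) (l 2457))) (c 65208 (r 145) (l 2457))) (c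
  65224 (r 145) (l 2457))) (c 65240 (r 145) (l 2457))) (c 65256 (r 145) (l 2457))) (c 65272 (r 145) (l 2457))))
  (c 8 (l 2457) (c 65288 (r 145) (l 2457)))) (c 8 (l 2457) (c 65304 (r 145) (l 2457)))) (r 145)) (r 145)) (r
  145)) (r 145)) (r 145)) (r 145)) (r 145)) (r 145)) (r 145)) (r 145)) (r 145)) (r 145)) (r 145)) (r 145))) (l
  2473)))) (c 5 (l 2473) (c 65413 (c 65397 (l 2439) (c 65495 (c 65479 (c 65463 (c 65447 (c 65431 (c 65415 (c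
  65399 (c 65383 (c 65367 (c 65351 (c 65335 (c 65319 (c 65303 (c 65287 (c 65271 (c 65255 (c 8 (l 2457) (c 65239
  (c 65223 (r 143) (c 65256 (c 65240 (l 2455) (r 143)) (l 2457))) (c 65272 (r 145) (l 2457)))) (c 8 (l 2457) (c
  65288 (r 145) (l 2457)))) (c 8 (l 2457) (c 65304 (r 145) (l 2457)))) (c 8 (l 2457) (c 65320 (r 145) (l
  2457)))) (c 8 (l 2457) (c 65336 (r 145) (l 2457)))) (c 8 (l 2457) (c 65352 (r 145) (l 2457)))) (c 8 (l 2457)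
  (c 65368 (r 145) (l 2457)))) (c 8 (l 2457) (c 65384 (r 145) (l 2457)))) (c 8 (l 2457) (c 65400 (r 145) (l
  2457)))) (r 145)) (r 145)) (r 145)) (r 145)) (r 145)) (r 145)) (r 145)) (r 145))) (l 2473)))) (c 5 (l 2473) (c
  65445 (c 65429 (l 2439) (c 65495 (c 65479 (c 65463 (c 65447 (c 65431 (c 65415 (c 65399 (c 65383 (c 65367 (c
  65351 (c 65335 (c 65319 (c 65303 (r 143) (c 8 (l 2457) (r 143))) (c 8 (l 2457) (r 143))) (c 8 (l 2457) (r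
  143))) (c 8 (l 2457) (r 143))) (c 8 (l 2457) (r 143))) (c 8 (l 2457) (r 143))) (c 8 (l 2457) (c 65432 (c 65416
  (l 2455) (r 143)) (l 2457)))) (c 8 (l 2457) (c 65448 (r 145) (l 2457)))) (c 8 (l 2457) (c 65464 (r 145) (l
  2457)))) (r 145)) (r 145)) (r 145)) (r 145))) (l 2473)))) (c 5 (l 2473) (c 65477 (c 65461 (l 2439) (c 65495 (c
  65479 (c 65463 (c 65447 (r 143) (c 8 (l 2457) (r 143))) (c 8 (l 2457) (c 65496 (c 65480 (l 2455) (r 143)) (l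
  2457)))) (r 145)) (r 145))) (l 2473)))) (c 5 (l 2473) (c 65493 (l 2439) (c 65495 (r 143) (r 145)))))) (c 7 (r
  143) (c 65495 (c 65556 (c 65479 (r 143) (c 8 (l 2457) (c 65496 (l 2455) (r 143)))) (r 143)) (c 8 (l 2457) (l
  2455))))) (r 143))) (c 65561 (c 7 (c 65543 (c 8 (c 65592 (c 65576 (l 2455) (c 6 (c 4 (r 145) (c 65492 (r 145)
  (c 5 (c 65541 (l 2439) (r 145)) (l 2439)))) (c 65494 (c 4 (r 145) (c 65492 (c 65478 (r 145) (c 65476 (c 65460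
  (r 145) (c 5 (l 2473) (r 145))) (r 143))) (c 65478 (c 65462 (c 65446 (c 65430 (c 65414 (c 65398 (c 65382 (c
  65366 (c 65350 (c 65334 (c 65318 (c 65302 (c 65286 (c 65270 (c 65254 (c 65238 (c 65222 (c 5 (l 2473) (c 65206
  (c 65190 (c 65174 (c 65158 (c 65142 (c 65126 (c 65110 (c 65094 (c 65078 (c 65062 (r 145) (c 64629 (c 64613 (l
  2439) (r 145)) (l 2473))) (c 64661 (r 143) (l 2473))) (c 64693 (r 143) (l 2473))) (c 64725 (r 143) (l 2473)))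
  (c 64757 (r 143) (l 2473))) (c 64789 (r 143) (l 2473))) (c 64821 (r 143) (l 2473))) (c 64853 (r 143) (l
  2473))) (c 64885 (r 143) (l 2473))) (c 64917 (r 143) (l 2473)))) (c 5 (l 2473) (c 64949 (r 143) (l 2473)))) (c
  5 (l 2473) (c 64981 (r 143) (l 2473)))) (c 5 (l 2473) (c 65013 (r 143) (l 2473)))) (c 5 (l 2473) (c 65045 (r
  143) (l 2473)))) (c 5 (l 2473) (c 65077 (r 143) (l 2473)))) (c 5 (l 2473) (c 65109 (r 143) (l 2473)))) (c 5 (l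
  2473) (c 65141 (r 143) (l 2473)))) (c 5 (l 2473) (c 65173 (r 143) (l 2473)))) (r 143)) (r 143)) (r 143)) (r
  143)) (r 143)) (r 143)) (r 143)) (r 143)) (r 143)))) (c 4 (c 65540 (r 145) (c 65556 (r 145) (c 65572 (r 145)
  (c 65588 (r 145) (c 65604 (r 145) (c 65620 (r 145) (c 65636 (r 145) (c 65652 (r 145) (c 65668 (c 5 (c 65653 (c
  65637 (l 2439) (r 145)) (l 2473)) (l 2439)) (c 65684 (c 5 (c 65669 (c 65653 (l 2439) (r 145)) (l 2473)) (l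
  2439)) (c 65700 (c 5 (c 65685 (c 65669 (l 2439) (r 145)) (l 2473)) (l 2439)) (c 65716 (c 5 (c 65701 (c 65685
  (l 2439) (r 145)) (l 2473)) (l 2439)) (c 65732 (c 5 (c 65717 (c 65701 (l 2439) (r 145)) (l 2473)) (l 2439)) (c
  65748 (c 5 (c 65733 (c 65717 (l 2439) (r 145)) (l 2473)) (l 2439)) (c 65764 (c 5 (c 65749 (c 65733 (l 2439) (r
  145)) (l 2473)) (l 2439)) (c 5 (c 65780 (c 65765 (c 65749 (l 2439) (r 145)) (l 2473)) (c 65796 (c 65781 (c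
  65765 (l 2439) (r 145)) (l 2473)) (c 65812 (c 65797 (r 143) (l 2473)) (r 143)))) (l 2439))))))))))))))))) (c 5
  (l 2473) (c 65493 (r 143) (l 2473))))))) (l 2457)) (l 2455)) (c 6 (r 145) (c 65494 (r 145) (c 4 (r 145) (c
  65492 (r 145) (c 5 (l 2473) (c 65493 (c 65477 (l 2439) (c 65559 (r 143) (c 65575 (c 8 (c 65624 (r 145) (l
  2457)) (l 2455)) (r 145)))) (l 2473)))))))) (r 145)) (r 434))) (r 145))

open Tr in
def t5 : Tr :=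
  (r 145)

open Tr in
def t6 : Tr :=
  (c 6 (c 7 (c 65543 (c 65542 (r 127) (r 161)) (r 127)) (r 127)) (r 145))

open Tr in
def t7 : Tr :=
  (c 6 (c 65542 (c 2 (c 65538 (r 127) (c 65554 (c 0 (r 161) (l 2167)) (r 161))) (r 161)) (c 5 (c 65541 (c 4 (c
  65540 (c 3 (l 2455) (r 434)) (c 3 (l 2455) (r 434))) (r 434)) (c 4 (c 65540 (c 3 (l 2455) (r 434)) (r 434)) (r
  434))) (r 434))) (r 434))

open Tr in
def t8 : Tr :=
  (c 8 (c 65544 (c 7 (c 65543 (c 6 (c 65542 (c 9 (l 2455) (r 127)) (c 4 (c 3 (r 145) (c 65491 (c 2 (r 145) (c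
  65490 (r 145) (c 65558 (c 9 (l 2455) (r 127)) (c 65475 (c 65574 (c 9 (l 2455) (r 127)) (r 145)) (c 65574 (c 9
  (l 2455) (r 127)) (c 65590 (c 9 (l 2455) (r 127)) (c 65606 (c 9 (l 2455) (r 127)) (r 145)))))))) (c 2 (r 145)
  (c 65490 (c 65558 (c 9 (l 2455) (r 127)) (c 65474 (c 65574 (c 9 (l 2455) (r 127)) (r 145)) (c 65574 (c 9 (l
  2455) (r 127)) (c 65590 (c 9 (l 2455) (r 127)) (c 65606 (c 9 (l 2455) (r 127)) (r 145)))))) (c 9 (l 2455) (r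
  127)))))) (c 65492 (c 3 (c 2 (r 145) (c 65490 (r 145) (c 65558 (c 9 (l 2455) (r 127)) (c 65476 (c 65574 (c 9
  (l 2455) (r 127)) (r 145)) (c 65574 (c 9 (l 2455) (r 127)) (c 65590 (c 9 (l 2455) (r 127)) (c 65606 (c 9 (l
  2455) (r 127)) (r 145)))))))) (c 65491 (c 2 (r 145) (c 65490 (c 65558 (c 9 (l 2455) (r 127)) (c 65476 (c 65475
  (r 145) (c 65474 (r 145) (c 65574 (c 9 (l 2455) (r 127)) (c 65460 (r 145) (c 65590 (c 9 (l 2455) (r 127)) (r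
  145)))))) (c 65475 (c 65474 (r 145) (c 65574 (c 9 (l 2455) (r 127)) (c 65459 (r 145) (c 65590 (c 9 (l 2455) (r
  127)) (r 145))))) (c 65474 (c 65574 (c 9 (l 2455) (r 127)) (c 65458 (r 145) (c 65590 (c 9 (l 2455) (r 127)) (r
  145)))) (c 9 (l 2455) (r 127)))))) (c 9 (l 2455) (r 127)))) (c 9 (l 2455) (r 127)))) (c 9 (l 2455) (r 127)))))
  (c 4 (c 3 (r 145) (c 65491 (r 145) (c 2 (r 145) (c 65490 (r 145) (c 9 (c 65545 (r 161) (r 434)) (r 127))))))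
  (c 65492 (c 3 (r 145) (c 65491 (c 2 (r 145) (c 65490 (r 145) (c 65476 (c 65475 (r 145) (c 65460 (c 65444 (c
  65428 (r 145) (c 5 (c 65541 (c 9 (c 65689 (c 65673 (l 2473) (r 127)) (l 2439)) (l 2473)) (r 145)) (r 145))) (c
  9 (c 65545 (r 161) (r 433)) (r 127))) (c 9 (c 65545 (r 161) (r 433)) (r 127)))) (c 9 (c 65545 (r 161) (r 433))
  (r 127))))) (c 9 (c 65545 (r 161) (r 434)) (r 127)))) (c 9 (c 65545 (r 161) (r 434)) (r 127))))) (c 6 (c 65542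
  (c 4 (c 3 (r 145) (c 65491 (c 2 (r 145) (c 65490 (r 145) (c 65559 (c 9 (l 2455) (r 127)) (c 65475 (c 65575 (c
  9 (l 2455) (r 127)) (r 145)) (c 65575 (c 9 (l 2455) (r 127)) (c 65591 (c 9 (l 2455) (r 127)) (c 65607 (c 9 (l
  2455) (r 127)) (r 145)))))))) (c 2 (r 145) (c 65490 (c 65559 (c 9 (l 2455) (r 127)) (c 65474 (c 65575 (c 9 (l
  2455) (r 127)) (r 145)) (c 65575 (c 9 (l 2455) (r 127)) (c 65591 (c 9 (l 2455) (r 127)) (c 65607 (c 9 (l 2455)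
  (r 127)) (r 145)))))) (c 9 (l 2455) (r 127)))))) (c 65492 (c 3 (c 2 (r 145) (c 65490 (r 145) (c 65559 (c 9 (l
  2455) (r 127)) (c 65476 (c 65575 (c 9 (l 2455) (r 127)) (r 145)) (c 65575 (c 9 (l 2455) (r 127)) (c 65591 (c 9
  (l 2455) (r 127)) (c 65607 (c 9 (l 2455) (r 127)) (r 145)))))))) (c 65491 (c 2 (r 145) (c 65490 (c 65559 (c 9
  (l 2455) (r 127)) (c 65476 (c 65475 (r 145) (c 65474 (r 145) (c 65575 (c 9 (l 2455) (r 127)) (c 65460 (r 145)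
  (c 65591 (c 9 (l 2455) (r 127)) (r 145)))))) (c 65475 (c 65474 (r 145) (c 65575 (c 9 (l 2455) (r 127)) (c
  65459 (r 145) (c 65591 (c 9 (l 2455) (r 127)) (r 145))))) (c 65474 (c 65575 (c 9 (l 2455) (r 127)) (c 65458 (r
  145) (c 65591 (c 9 (l 2455) (r 127)) (r 145)))) (c 9 (l 2455) (r 127)))))) (c 9 (l 2455) (r 127)))) (c 9 (l
  2455) (r 127)))) (c 9 (l 2455) (r 127)))) (c 4 (c 3 (r 145) (c 65491 (r 145) (c 2 (r 145) (c 65490 (r 145) (c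
  65559 (c 65558 (c 9 (l 2455) (r 127)) (r 145)) (r 145)))))) (c 65492 (c 3 (r 145) (c 65491 (c 2 (r 145) (c
  65490 (r 145) (c 65559 (c 65558 (c 9 (l 2455) (r 127)) (r 145)) (r 145)))) (c 2 (r 145) (c 65490 (c 65559 (c
  65558 (c 9 (l 2455) (r 127)) (r 145)) (r 145)) (c 9 (l 2455) (r 127)))))) (c 9 (l 2455) (r 127))))) (c 4 (r
  145) (c 65492 (r 145) (c 9 (c 65545 (r 161) (r 434)) (r 127)))))) (c 6 (c 65542 (c 4 (c 3 (r 145) (c 65491 (r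
  145) (c 2 (r 145) (c 65490 (r 145) (c 9 (c 65545 (r 161) (r 434)) (r 127)))))) (c 65492 (c 3 (r 145) (c 65491
  (c 2 (r 145) (c 65490 (r 145) (c 65476 (c 65475 (r 145) (c 65460 (c 65444 (c 65428 (r 145) (c 5 (c 65541 (c 9
  (c 65689 (c 65673 (l 2473) (r 127)) (l 2439)) (l 2473)) (r 145)) (r 145))) (c 9 (c 65545 (r 161) (r 433)) (r
  127))) (c 9 (c 65545 (r 161) (r 433)) (r 127)))) (c 9 (c 65545 (r 161) (r 433)) (r 127))))) (c 9 (c 65545 (r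
  161) (r 434)) (r 127)))) (c 9 (c 65545 (r 161) (r 434)) (r 127)))) (c 4 (r 145) (c 65492 (r 145) (c 9 (c 65545
  (r 161) (r 434)) (r 127))))) (r 145))) (c 7 (c 65543 (c 6 (c 65542 (c 4 (c 3 (r 145) (c 65491 (c 2 (r 145) (c
  65490 (r 145) (c 65560 (c 9 (l 2455) (r 127)) (c 65475 (c 65576 (c 9 (l 2455) (r 127)) (r 145)) (c 65576 (c 9
  (l 2455) (r 127)) (c 65592 (c 9 (l 2455) (r 127)) (c 65608 (c 9 (l 2455) (r 127)) (r 145)))))))) (c 2 (r 145)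
  (c 65490 (c 65560 (c 9 (l 2455) (r 127)) (c 65474 (c 65576 (c 9 (l 2455) (r 127)) (r 145)) (c 65576 (c 9 (l
  2455) (r 127)) (c 65592 (c 9 (l 2455) (r 127)) (c 65608 (c 9 (l 2455) (r 127)) (r 145)))))) (c 9 (l 2455) (r
  127)))))) (c 65492 (c 3 (c 2 (r 145) (c 65490 (r 145) (c 65560 (c 9 (l 2455) (r 127)) (c 65476 (c 65576 (c 9
  (l 2455) (r 127)) (r 145)) (c 65576 (c 9 (l 2455) (r 127)) (c 65592 (c 9 (l 2455) (r 127)) (c 65608 (c 9 (l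
  2455) (r 127)) (r 145)))))))) (c 65491 (c 2 (r 145) (c 65490 (c 65560 (c 9 (l 2455) (r 127)) (c 65476 (c 65475
  (r 145) (c 65474 (r 145) (c 65576 (c 9 (l 2455) (r 127)) (c 65460 (r 145) (c 65592 (c 9 (l 2455) (r 127)) (r
  145)))))) (c 65475 (c 65474 (r 145) (c 65576 (c 9 (l 2455) (r 127)) (c 65459 (r 145) (c 65592 (c 9 (l 2455) (r
  127)) (r 145))))) (c 65474 (c 65576 (c 9 (l 2455) (r 127)) (c 65458 (r 145) (c 65592 (c 9 (l 2455) (r 127)) (r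
  145)))) (c 9 (l 2455) (r 127)))))) (c 9 (l 2455) (r 127)))) (c 9 (l 2455) (r 127)))) (c 9 (l 2455) (r 127))))
  (c 4 (c 3 (r 145) (c 65491 (r 145) (c 2 (r 145) (c 65490 (r 145) (c 65560 (c 65558 (c 9 (l 2455) (r 127)) (r
  145)) (r 145)))))) (c 65492 (c 3 (r 145) (c 65491 (c 2 (r 145) (c 65490 (r 145) (c 65560 (c 65558 (c 9 (l
  2455) (r 127)) (r 145)) (r 145)))) (c 2 (r 145) (c 65490 (c 65560 (c 65558 (c 9 (l 2455) (r 127)) (r 145)) (r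
  145)) (c 9 (l 2455) (r 127)))))) (c 9 (l 2455) (r 127))))) (c 4 (r 145) (c 65492 (r 145) (c 9 (c 65545 (r 161)
  (r 434)) (r 127))))) (c 6 (c 65542 (c 4 (c 3 (r 145) (c 65491 (r 145) (c 2 (r 145) (c 65490 (r 145) (c 65560
  (c 65559 (c 9 (l 2455) (r 127)) (r 145)) (r 145)))))) (c 65492 (c 3 (r 145) (c 65491 (c 2 (r 145) (c 65490 (r
  145) (c 65560 (c 65559 (c 9 (l 2455) (r 127)) (r 145)) (r 145)))) (c 2 (r 145) (c 65490 (c 65560 (c 65559 (c 9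
  (l 2455) (r 127)) (r 145)) (r 145)) (c 9 (l 2455) (r 127)))))) (c 9 (l 2455) (r 127)))) (c 4 (r 145) (c 65492
  (r 145) (c 3 (r 145) (c 65491 (r 145) (c 9 (l 2455) (r 127))))))) (r 145))) (c 6 (c 65542 (c 4 (r 145) (c
  65492 (r 145) (c 9 (c 65545 (r 161) (r 434)) (r 127)))) (r 145)) (r 145)))) (c 7 (c 65543 (c 6 (c 65542 (c 4
  (c 3 (r 145) (c 65491 (r 145) (c 2 (r 145) (c 65490 (r 145) (c 9 (c 65545 (r 161) (r 434)) (r 127)))))) (c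
  65492 (c 3 (r 145) (c 65491 (c 2 (r 145) (c 65490 (r 145) (c 65476 (c 65475 (r 145) (c 65460 (c 65444 (c 65428
  (r 145) (c 5 (c 65541 (c 9 (c 65689 (c 65673 (l 2473) (r 127)) (l 2439)) (l 2473)) (r 145)) (r 145))) (c 9 (c
  65545 (r 161) (r 433)) (r 127))) (c 9 (c 65545 (r 161) (r 433)) (r 127)))) (c 9 (c 65545 (r 161) (r 433)) (r
  127))))) (c 9 (c 65545 (r 161) (r 434)) (r 127)))) (c 9 (c 65545 (r 161) (r 434)) (r 127)))) (c 4 (r 145) (c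
  65492 (r 145) (c 9 (c 65545 (r 161) (r 434)) (r 127))))) (r 145)) (c 6 (c 65542 (c 4 (r 145) (c 65492 (r 145)
  (c 9 (c 65545 (r 161) (r 434)) (r 127)))) (r 145)) (r 145))) (r 145)))

open Tr in
def t9 : Tr :=
  (c 4 (c 65540 (c 5 (c 65541 (c 2 (c 65538 (c 6 (l 2439) (r 127)) (c 3 (r 143) (l 2443))) (r 143)) (r 143)) (r
  143)) (c 65556 (c 5 (c 3 (c 65539 (c 6 (c 65542 (r 161) (c 65558 (c 65589 (c 65573 (l 2455) (c 2 (l 2439) (l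
  2473))) (l 2457)) (c 65574 (c 65605 (r 111) (l 2457)) (r 111)))) (r 127)) (c 2 (r 145) (c 65490 (c 65555 (c
  65474 (r 145) (c 6 (c 65606 (c 65590 (l 2473) (r 127)) (l 2439)) (l 2473))) (r 145)) (c 6 (c 65574 (c 65558 (l
  2473) (r 127)) (l 2439)) (l 2473))))) (c 2 (l 2443) (c 65490 (r 145) (c 6 (c 65574 (c 65558 (l 2473) (r 127))
  (l 2439)) (l 2473))))) (c 65493 (c 3 (c 65539 (c 2 (c 65538 (l 2469) (c 65554 (l 2469) (c 65570 (c 6 (l 2455)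
  (r 127)) (r 143)))) (l 2469)) (c 65477 (c 2 (c 65461 (c 65555 (c 65445 (c 65429 (c 65413 (r 145) (c 6 (l 2455)
  (r 127))) (c 6 (l 2455) (r 127))) (c 6 (l 2455) (r 127))) (r 145)) (c 65555 (c 6 (l 2455) (r 127)) (c 65571 (c
  6 (l 2455) (r 127)) (c 65587 (c 6 (l 2455) (r 127)) (c 65603 (c 6 (l 2455) (r 127)) (r 145)))))) (l 2469)) (c
  6 (l 2455) (r 111)))) (c 65477 (c 2 (r 145) (c 65490 (c 65461 (c 65445 (c 65474 (r 145) (c 6 (c 65606 (c 65590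
  (l 2473) (r 127)) (l 2439)) (l 2473))) (c 65474 (r 145) (c 6 (c 65606 (c 65590 (l 2473) (r 127)) (l 2439)) (l
  2473)))) (c 65474 (c 65458 (c 65442 (c 65426 (r 145) (c 6 (c 65702 (c 65686 (l 2473) (r 127)) (l 2439)) (l
  2473))) (c 6 (c 65670 (c 65654 (l 2473) (r 127)) (l 2439)) (l 2473))) (c 6 (c 65638 (c 65622 (l 2473) (r 127))
  (l 2439)) (l 2473))) (c 6 (c 65606 (c 65590 (l 2473) (r 127)) (l 2439)) (l 2473)))) (c 6 (c 65574 (c 65558 (l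
  2473) (c 65461 (r 127) (c 65411 (r 143) (l 2455)))) (l 2439)) (l 2473)))) (c 6 (c 65542 (r 161) (c 65558 (c
  65443 (c 65427 (l 2457) (c 2 (l 2439) (l 2473))) (l 2455)) (c 65574 (c 65427 (c 65411 (l 2457) (c 2 (l 2439)
  (c 65490 (l 2473) (r 143)))) (l 2455)) (c 65590 (c 65411 (c 65395 (l 2457) (c 2 (l 2439) (c 65490 (l 2473) (l
  2439)))) (l 2455)) (c 65606 (c 65395 (c 65379 (l 2457) (c 2 (l 2439) (r 143))) (l 2455)) (c 2 (l 2439) (r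
  127))))))) (r 111)))) (c 2 (c 65538 (c 6 (l 2439) (c 65510 (c 65494 (l 2473) (r 127)) (l 2439))) (c 3 (r 143)
  (l 2443))) (r 143)))) (c 5 (c 65572 (c 3 (c 65539 (c 2 (r 145) (c 65490 (r 145) (c 6 (c 65574 (c 65558 (l
  2473) (r 109)) (l 2439)) (l 2473)))) (r 145)) (r 145)) (r 145)) (c 65493 (c 65572 (c 3 (c 65539 (c 65477 (c 2
  (r 145) (l 2469)) (c 6 (l 2455) (r 111))) (c 65477 (c 2 (r 145) (l 2469)) (c 2 (r 145) (l 2469)))) (r 145)) (c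
  65588 (c 3 (c 65539 (c 65477 (c 2 (r 145) (l 2469)) (c 6 (l 2455) (r 128))) (r 145)) (r 145)) (c 3 (c 65539 (c
  65604 (c 65477 (r 145) (c 6 (l 2455) (r 128))) (c 65477 (r 145) (c 2 (r 145) (l 2469)))) (r 145)) (r 145))))
  (c 65572 (c 3 (c 65539 (c 6 (l 2455) (c 65462 (c 65446 (l 2457) (r 434)) (l 2455))) (c 2 (c 65555 (c 6 (l
  2455) (c 65446 (c 65430 (l 2457) (r 434)) (l 2455))) (c 65571 (c 6 (l 2455) (c 65430 (c 65414 (l 2457) (r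
  128)) (l 2455))) (c 65587 (c 6 (l 2455) (c 65414 (c 65398 (l 2457) (r 128)) (l 2455))) (c 65603 (c 6 (l 2455)
  (c 65398 (c 65382 (l 2457) (r 128)) (l 2455))) (c 65619 (c 6 (l 2455) (c 65382 (c 65366 (l 2457) (r 128)) (l
  2455))) (c 65635 (c 6 (l 2455) (c 65366 (c 65350 (l 2457) (r 128)) (l 2455))) (r 145))))))) (l 2469))) (c 2 (r
  145) (c 65490 (c 65474 (c 65458 (c 65442 (c 65426 (c 65410 (c 65394 (c 65378 (r 145) (c 6 (c 65798 (c 65782 (l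
  2473) (c 65203 (c 65187 (l 2457) (r 145)) (l 2455))) (l 2439)) (l 2473))) (c 6 (c 65766 (c 65750 (l 2473) (c
  65235 (c 65219 (l 2457) (r 145)) (l 2455))) (l 2439)) (l 2473))) (c 6 (c 65734 (c 65718 (l 2473) (c 65267 (c
  65251 (l 2457) (r 145)) (l 2455))) (l 2439)) (l 2473))) (c 6 (c 65702 (c 65686 (l 2473) (c 65299 (r 143) (l
  2455))) (l 2439)) (l 2473))) (c 6 (c 65670 (c 65654 (l 2473) (c 65331 (r 143) (l 2455))) (l 2439)) (l 2473)))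
  (c 6 (c 65638 (c 65622 (l 2473) (c 65363 (r 143) (l 2455))) (l 2439)) (l 2473))) (c 6 (c 65606 (c 65590 (l
  2473) (c 65395 (r 143) (l 2455))) (l 2439)) (l 2473))) (c 6 (c 65574 (c 65558 (l 2473) (c 65427 (r 143) (l
  2455))) (l 2439)) (l 2473))))) (c 65588 (c 3 (c 65539 (c 6 (l 2455) (c 65446 (c 65430 (l 2457) (r 434)) (l
  2455))) (c 2 (r 145) (l 2469))) (c 2 (r 145) (c 65490 (r 145) (c 6 (c 65574 (c 65558 (l 2473) (c 65411 (r 143)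
  (l 2455))) (l 2439)) (l 2473))))) (c 3 (c 65539 (c 65604 (c 6 (l 2455) (c 65430 (c 65414 (l 2457) (r 434)) (l
  2455))) (c 2 (c 65620 (c 6 (l 2455) (c 65414 (c 65398 (l 2457) (r 434)) (l 2455))) (r 145)) (l 2469))) (c
  65604 (c 2 (r 145) (l 2469)) (c 2 (r 145) (l 2469)))) (r 145)))))))) (c 5 (r 145) (c 65493 (r 145) (c 3 (c
  65539 (c 2 (l 2443) (c 65490 (r 145) (c 6 (c 65574 (c 65558 (l 2473) (c 65460 (c 65444 (l 2457) (r 161)) (l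
  2455))) (l 2439)) (l 2473)))) (r 145)) (r 145)))))

open Tr in
def t10 : Tr :=
  (c 4 (c 65540 (c 5 (c 65541 (c 2 (c 65538 (c 6 (l 2439) (r 127)) (c 3 (r 143) (l 2443))) (r 143)) (r 143)) (r
  143)) (c 65556 (c 5 (c 3 (c 65539 (c 6 (c 65542 (r 161) (c 65558 (c 65589 (c 65573 (l 2455) (c 2 (l 2439) (l
  2473))) (l 2457)) (c 65574 (c 65605 (r 111) (l 2457)) (r 111)))) (r 127)) (c 2 (r 145) (c 65490 (c 65555 (c
  65474 (r 145) (c 6 (c 65606 (c 65590 (l 2473) (r 127)) (l 2439)) (l 2473))) (r 145)) (c 6 (c 65574 (c 65558 (l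
  2473) (r 127)) (l 2439)) (l 2473))))) (c 2 (l 2443) (c 65490 (r 145) (c 6 (c 65574 (c 65558 (l 2473) (r 127))
  (l 2439)) (l 2473))))) (c 65493 (c 3 (c 65539 (c 2 (c 65538 (l 2469) (c 65554 (l 2469) (c 65570 (c 6 (l 2455)
  (r 127)) (r 143)))) (l 2469)) (c 65477 (c 2 (c 65461 (c 65555 (c 65445 (c 65429 (c 65413 (r 145) (c 6 (l 2455)
  (r 127))) (c 6 (l 2455) (r 127))) (c 6 (l 2455) (r 127))) (r 145)) (c 65555 (c 6 (l 2455) (r 127)) (c 65571 (c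
  6 (l 2455) (r 127)) (c 65587 (c 6 (l 2455) (r 127)) (c 65603 (c 6 (l 2455) (r 127)) (r 145)))))) (l 2469)) (c
  6 (l 2455) (r 111)))) (c 65477 (c 2 (r 145) (c 65490 (c 65461 (c 65445 (c 65474 (r 145) (c 6 (c 65606 (c 65590
  (l 2473) (r 127)) (l 2439)) (l 2473))) (c 65474 (r 145) (c 6 (c 65606 (c 65590 (l 2473) (r 127)) (l 2439)) (l
  2473)))) (c 65474 (c 65458 (c 65442 (c 65426 (r 145) (c 6 (c 65702 (c 65686 (l 2473) (r 127)) (l 2439)) (l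
  2473))) (c 6 (c 65670 (c 65654 (l 2473) (r 127)) (l 2439)) (l 2473))) (c 6 (c 65638 (c 65622 (l 2473) (r 127))
  (l 2439)) (l 2473))) (c 6 (c 65606 (c 65590 (l 2473) (r 127)) (l 2439)) (l 2473)))) (c 6 (c 65574 (c 65558 (l
  2473) (c 65461 (r 127) (c 65411 (r 143) (l 2455)))) (l 2439)) (l 2473)))) (c 6 (c 65542 (r 161) (c 65558 (c
  65443 (c 65427 (l 2457) (c 2 (l 2439) (l 2473))) (l 2455)) (c 65574 (c 65427 (c 65411 (l 2457) (c 2 (l 2439)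
  (c 65490 (l 2473) (r 143)))) (l 2455)) (c 65590 (c 65411 (c 65395 (l 2457) (c 2 (l 2439) (c 65490 (l 2473) (l
  2439)))) (l 2455)) (c 65606 (c 65395 (c 65379 (l 2457) (c 2 (l 2439) (r 143))) (l 2455)) (c 2 (l 2439) (r
  127))))))) (r 111)))) (c 2 (c 65538 (c 6 (l 2439) (c 65510 (c 65494 (l 2473) (r 127)) (l 2439))) (c 3 (r 143)
  (l 2443))) (r 143)))) (c 5 (c 65572 (c 3 (c 65539 (c 2 (r 145) (c 65490 (r 145) (c 6 (c 65574 (c 65558 (l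
  2473) (r 109)) (l 2439)) (l 2473)))) (r 145)) (r 145)) (r 145)) (c 65493 (c 65572 (c 3 (c 65539 (c 65477 (c 2
  (r 145) (l 2469)) (c 6 (l 2455) (r 111))) (c 65477 (c 2 (r 145) (l 2469)) (c 2 (r 145) (l 2469)))) (r 145)) (c
  65588 (c 3 (c 65539 (c 65477 (c 2 (r 145) (l 2469)) (c 6 (l 2455) (r 128))) (r 145)) (r 145)) (c 3 (c 65539 (c
  65604 (c 65477 (r 145) (c 6 (l 2455) (r 128))) (c 65477 (r 145) (c 2 (r 145) (l 2469)))) (r 145)) (r 145))))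
  (c 65572 (c 3 (c 65539 (c 6 (l 2455) (c 65462 (c 65446 (l 2457) (r 434)) (l 2455))) (c 2 (c 65555 (c 6 (l
  2455) (c 65446 (c 65430 (l 2457) (r 434)) (l 2455))) (c 65571 (c 6 (l 2455) (c 65430 (c 65414 (l 2457) (r
  128)) (l 2455))) (c 65587 (c 6 (l 2455) (c 65414 (c 65398 (l 2457) (r 128)) (l 2455))) (c 65603 (c 6 (l 2455)
  (c 65398 (c 65382 (l 2457) (r 128)) (l 2455))) (c 65619 (c 6 (l 2455) (c 65382 (c 65366 (l 2457) (r 128)) (l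
  2455))) (c 65635 (c 6 (l 2455) (c 65366 (c 65350 (l 2457) (r 128)) (l 2455))) (r 145))))))) (l 2469))) (c 2 (r
  145) (c 65490 (c 65474 (c 65458 (c 65442 (c 65426 (c 65410 (c 65394 (c 65378 (r 145) (c 6 (c 65798 (c 65782 (l
  2473) (c 65203 (c 65187 (l 2457) (r 145)) (l 2455))) (l 2439)) (l 2473))) (c 6 (c 65766 (c 65750 (l 2473) (c
  65235 (c 65219 (l 2457) (r 145)) (l 2455))) (l 2439)) (l 2473))) (c 6 (c 65734 (c 65718 (l 2473) (c 65267 (c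
  65251 (l 2457) (r 145)) (l 2455))) (l 2439)) (l 2473))) (c 6 (c 65702 (c 65686 (l 2473) (c 65299 (r 143) (l
  2455))) (l 2439)) (l 2473))) (c 6 (c 65670 (c 65654 (l 2473) (c 65331 (r 143) (l 2455))) (l 2439)) (l 2473)))
  (c 6 (c 65638 (c 65622 (l 2473) (c 65363 (r 143) (l 2455))) (l 2439)) (l 2473))) (c 6 (c 65606 (c 65590 (l
  2473) (c 65395 (r 143) (l 2455))) (l 2439)) (l 2473))) (c 6 (c 65574 (c 65558 (l 2473) (c 65427 (r 143) (l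
  2455))) (l 2439)) (l 2473))))) (c 65588 (c 3 (c 65539 (c 6 (l 2455) (c 65446 (c 65430 (l 2457) (r 434)) (l
  2455))) (c 2 (r 145) (l 2469))) (c 2 (r 145) (c 65490 (r 145) (c 6 (c 65574 (c 65558 (l 2473) (c 65411 (r 143)
  (l 2455))) (l 2439)) (l 2473))))) (c 3 (c 65539 (c 65604 (c 6 (l 2455) (c 65430 (c 65414 (l 2457) (r 434)) (l
  2455))) (c 2 (c 65620 (c 6 (l 2455) (c 65414 (c 65398 (l 2457) (r 434)) (l 2455))) (r 145)) (l 2469))) (c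
  65604 (c 2 (r 145) (l 2469)) (c 2 (r 145) (l 2469)))) (r 145)))))))) (c 5 (r 145) (c 65493 (r 145) (c 3 (c
  65539 (c 2 (l 2443) (c 65490 (r 145) (c 6 (c 65574 (c 65558 (l 2473) (c 65460 (c 65444 (l 2457) (r 161)) (l
  2455))) (l 2439)) (l 2473)))) (r 145)) (r 145)))))

open Tr in
def t11 : Tr :=
  (c 4 (c 65540 (r 143) (c 65556 (c 1 (r 145) (c 65489 (r 145) (c 5 (c 65573 (c 65557 (l 2473) (c 0 (l 2166) (c
  65472 (l 2746) (l 2166)))) (l 2439)) (l 2473)))) (r 145))) (r 145))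

open Tr in
def t12 : Tr :=
  (c 7 (c 65543 (r 143) (c 65559 (c 4 (r 145) (c 65492 (r 145) (c 8 (c 65576 (c 65560 (l 2473) (c 6 (c 65542 (c
  5 (r 145) (l 2455)) (c 5 (c 65541 (r 145) (c 65558 (r 145) (l 2457))) (c 65558 (l 2455) (r 143)))) (c 5 (c
  65541 (l 2455) (c 65557 (l 2455) (r 143))) (l 2455)))) (l 2439)) (l 2473)))) (r 145))) (r 145))

open Tr in
def t13 : Tr :=
  (c 4 (c 65540 (r 143) (c 65556 (c 1 (r 145) (c 65489 (r 145) (c 5 (c 65573 (c 65557 (l 2473) (c 0 (l 2166) (c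
  65472 (l 2746) (l 2166)))) (l 2439)) (l 2473)))) (r 145))) (r 145))

open Tr in
def t14 : Tr :=
  (c 7 (c 65543 (r 143) (c 65559 (c 4 (r 145) (c 65492 (r 145) (c 8 (c 65576 (c 65560 (l 2473) (c 6 (c 65542 (c
  5 (r 145) (l 2455)) (c 5 (c 65541 (r 145) (c 65558 (r 145) (l 2457))) (c 65558 (l 2455) (r 143)))) (c 5 (c
  65541 (l 2455) (c 65557 (l 2455) (r 143))) (l 2455)))) (l 2439)) (l 2473)))) (r 145))) (r 145))

open Tr in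
def t15 : Tr :=
  (c 5 (c 65541 (r 143) (c 65557 (c 1 (r 145) (c 65489 (r 145) (c 0 (r 145) (c 65488 (r 145) (c 6 (c 65574 (c
  65558 (l 2473) (c 2 (l 2166) (c 65490 (l 2746) (l 2166)))) (l 2439)) (l 2473)))))) (r 145))) (r 145))

open Tr in
def t16 : Tr :=
  (c 4 (c 65540 (r 143) (c 65556 (c 0 (r 145) (c 65488 (r 145) (c 5 (c 65573 (c 65557 (l 2473) (c 1 (l 2166) (c
  65489 (l 2746) (l 2166)))) (l 2439)) (l 2473)))) (r 145))) (r 145))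

open Tr in
def t17 : Tr :=
  (c 4 (c 65540 (r 143) (c 65556 (c 0 (r 145) (c 65488 (r 145) (c 5 (c 65573 (c 65557 (l 2473) (c 1 (l 2166) (c
  65489 (l 2746) (l 2166)))) (l 2439)) (l 2473)))) (r 145))) (r 145))

open Tr in
def t18 : Tr :=
  (c 6 (c 65542 (r 143) (c 65558 (c 1 (c 0 (r 145) (c 65488 (r 145) (c 5 (c 4 (l 2152) (c 65492 (c 3 (c 65539 (c
  7 (l 2149) (r 127)) (c 2 (l 1279) (r 145))) (c 2 (c 65538 (c 65476 (c 65460 (c 65444 (c 65428 (r 145) (c 7 (l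
  2149) (r 127))) (c 7 (l 2149) (r 127))) (c 7 (l 2149) (r 127))) (c 7 (l 2149) (r 127))) (r 145)) (r 145))) (c
  7 (l 2150) (r 127)))) (c 65493 (c 4 (c 3 (c 65539 (c 7 (l 2149) (r 127)) (c 2 (l 1279) (r 145))) (c 2 (c 65538
  (c 65477 (c 65461 (c 65445 (c 65429 (r 145) (c 7 (l 2149) (r 127))) (c 7 (l 2149) (r 127))) (c 7 (l 2149) (r
  127))) (c 7 (l 2149) (r 127))) (r 145)) (r 145))) (c 65492 (c 3 (c 65539 (c 7 (l 2455) (r 127)) (c 2 (l 2165)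
  (c 65477 (c 65476 (c 65555 (c 65461 (r 145) (c 65460 (r 145) (c 7 (l 2455) (r 127)))) (r 145)) (c 65555 (c
  65461 (c 65445 (c 65429 (c 65413 (r 145) (c 7 (l 2455) (r 127))) (c 7 (l 2455) (r 127))) (c 7 (l 2455) (r
  127))) (c 7 (l 2455) (r 127))) (c 65461 (r 145) (c 7 (l 2455) (r 127))))) (c 65476 (c 65555 (c 65460 (c 65444
  (c 65428 (c 65412 (r 145) (c 7 (l 2455) (r 127))) (c 7 (l 2455) (r 127))) (c 7 (l 2455) (r 127))) (c 7 (l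
  2455) (r 127))) (c 65460 (r 145) (c 7 (l 2455) (r 127)))) (c 7 (l 2455) (r 127)))))) (c 2 (c 65538 (c 7 (l
  2455) (r 127)) (c 65477 (c 65476 (c 65554 (c 65461 (r 145) (c 65460 (r 145) (c 7 (l 2455) (r 127)))) (r 145))
  (c 65554 (c 65461 (c 65445 (c 65429 (c 65413 (r 145) (c 7 (l 2455) (r 127))) (c 7 (l 2455) (r 127))) (c 7 (l
  2455) (r 127))) (c 7 (l 2455) (r 127))) (c 65461 (r 145) (c 7 (l 2455) (r 127))))) (c 65476 (c 65554 (c 65460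
  (c 65444 (c 65428 (c 65412 (r 145) (c 7 (l 2455) (r 127))) (c 7 (l 2455) (r 127))) (c 7 (l 2455) (r 127))) (c
  7 (l 2455) (r 127))) (c 65460 (r 145) (c 7 (l 2455) (r 127)))) (c 7 (l 2455) (r 127))))) (r 145))) (c 7 (l
  2455) (r 127)))) (c 7 (l 2149) (r 127)))))) (c 65489 (c 0 (r 145) (c 65488 (c 65473 (c 65472 (r 145) (c 65457
  (c 65441 (r 145) (c 7 (c 65655 (c 65639 (l 2763) (r 127)) (l 2149)) (l 2763))) (c 7 (c 65623 (l 2763) (l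
  2149)) (l 2763)))) (c 65472 (c 65456 (c 65440 (r 145) (c 7 (c 65655 (c 65639 (l 2763) (r 127)) (l 2149)) (l
  2763))) (c 7 (c 65623 (l 2763) (l 2149)) (l 2763))) (c 7 (c 65607 (l 2763) (l 2149)) (l 2763)))) (c 7 (c 65543
  (l 2763) (c 65559 (l 2763) (r 127))) (l 2763)))) (c 7 (c 65543 (r 161) (c 65559 (r 161) (r 127))) (r 127))))
  (r 145))) (r 145))

open Tr in
def t19 : Tr :=
  (r 145)

open Tr in
def t20 : Tr :=
  (r 145)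

open Tr in
def t21 : Tr :=
  (r 145)

open Tr in
def t22 : Tr :=
  (r 145)

open Tr in
def t23 : Tr :=
  (r 145)

open Tr in
def t24 : Tr :=
  (r 145)

open Tr in
def t25 : Tr :=
  (r 145)

open Tr in
def t26 : Tr :=
  (c 7 (c 65543 (c 6 (c 65542 (c 3 (r 145) (c 65491 (r 145) (c 2 (r 145) (c 65490 (r 145) (c 5 (r 143) (c 65493
  (c 4 (r 143) (c 65492 (r 143) (c 8 (c 65544 (c 9 (l 2455) (r 127)) (l 2443)) (r 143)))) (c 4 (r 143) (c 65492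
  (c 8 (c 65544 (c 9 (l 2455) (r 127)) (l 2443)) (r 143)) (c 9 (c 65545 (r 161) (l 2439)) (l 2473)))))))))) (r
  145)) (r 145)) (r 145)) (r 145))

def certs : List (List ℕ × Tr) := [
  ([46, 46, 37, 37, 35, 24, 22, 16], t0),
  ([37, 36, 35, 22, 21, 17], t1),
  ([46, 46, 44, 41, 29, 24, 23, 17], t2),
  ([45, 37, 36, 35, 24, 23, 17], t3),
  ([46, 46, 46, 46, 37, 36, 35, 24, 23, 17], t4),
  ([37, 36, 36, 36, 24, 23, 23, 18], t5),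
  ([37, 37, 37, 36, 24, 23, 22, 19], t6),
  ([41, 40, 29, 24, 24, 24, 19], t7),
  ([46, 46, 37, 37, 37, 36, 24, 24, 24, 19], t8),
  ([46, 46, 25, 24, 22, 21, 20], t9),
  ([46, 46, 26, 24, 22, 21, 20], t10),
  ([45, 25, 23, 23, 22, 20], t11),
  ([46, 46, 46, 46, 25, 23, 23, 22, 20], t12),
  ([45, 26, 23, 23, 22, 20], t13),
  ([46, 46, 46, 46, 26, 23, 23, 22, 20], t14),
  ([41, 41, 29, 23, 23, 22, 20], t15),
  ([35, 30, 23, 23, 22, 20], t16),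
  ([35, 31, 23, 23, 22, 20], t17),
  ([37, 37, 36, 36, 23, 23, 22, 20], t18),
  ([46, 46, 45, 25, 24, 24, 23, 20], t19),
  ([46, 46, 46, 46, 46, 46, 25, 24, 24, 23, 20], t20),
  ([46, 46, 45, 26, 24, 24, 23, 20], t21),
  ([46, 46, 46, 46, 46, 46, 26, 24, 24, 23, 20], t22),
  ([46, 46, 41, 41, 29, 24, 24, 23, 20], t23),
  ([46, 46, 35, 30, 24, 24, 23, 20], t24),
  ([46, 46, 35, 31, 24, 24, 23, 20], t25),
  ([46, 46, 37, 37, 36, 36, 24, 24, 23, 20], t26)]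

def cert (acc : List Ty) : Bool :=
  certs.any fun p => (p.1 == acc.map Ty.id) && check p.2 (acc.map fun τ => ⟨τ, 0, 0⟩)

def target : V8 := ⟨15, 4, 20, 13, 48, 28, 16, 32⟩

theorem search_ok : search cert 200 D target [] = true := by decide +kernel

theorem wf_D : wf D = true := by decide +kernel

theorem list_core (L : List (Ty × ℤ)) (hD : ∀ p ∈ L, p.1 ∈ D) (hv : vsum L = target) (hG : Good L) :
    False := by
  refine search_sound (cert := cert) ?_ 200 D [] L wf_D hD (by rw [hv]; exact search_ok) hG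
  intro A h hA
  simp only [cert, List.any_eq_true, Bool.and_eq_true] at h
  obtain ⟨p, -, -, h⟩ := h
  refine check_sound hA p.2 _ ?_ h
  rw [List.map_map, List.forall₂_map_left_iff, List.forall₂_same]
  intro q _
  exact ⟨rfl, fun h => absurd rfl h, fun h => absurd rfl h⟩

end H17.Ly
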