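import Mathlib
import Cfsg.Agent.H2.ZDefs
import Cfsg.Agent.H14.RuA1

/-! # The field of order eight: two finite checks, transferred to an arbitrary model -/

set_option autoImplicit false
set_option synthInstance.maxSize 4000

namespace H2.SZ

open H14.Ru (F8 lin3 ω map_eq_lin3)

variable {F : Type*} [Field F] [Fintype F]

theorem FD.exists_e (K : FD F) (hm : K.m = 1) : ∃ e : F8 ≃+* F, (∀ a, K.σ (e a) = e (a ^ 4)) ∧
    ∀ α : F →+ F, ∃ a b c, ∀ x, α (e x) = e (lin3 a b c x) := by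
  let e : F8 ≃+* F := FiniteField.ringEquivOfCardEq (F8.card.trans (by rw [K.card, hm]; rfl))
  exact ⟨e, fun a => by rw [K.σ_eq, hm, map_pow]; rfl, fun α => ⟨_, _, _, fun x => (e.apply_symm_apply _).symm.trans
    (congrArg e (map_eq_lin3 (e.symm.toAddMonoidHom.comp (α.comp e.toAddMonoidHom)) x))⟩⟩

theorem chk8c : ∀ a b c : F8, (∀ x y, x * x ^ 4 + lin3 a b c x = y * y ^ 4 + lin3 a b c y → x = y) →
    ∃ r, ∀ x, lin3 a b c x = r ^ 4 * x + r * x ^ 4 := by decide +kernel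

theorem chk8o : ∀ a b c : F8, (∀ x, lin3 a b c x = 0 → x = 0) → (∀ x, (lin3 a b c)^[21] x = x) ∨
    ∃ k, k ≠ 0 ∧ (∀ x, lin3 a b c (k * lin3 a b c (k * lin3 a b c (k * x))) = x) ∧
      ∃ x, lin3 a b c (k * x) ≠ x := by decide +kernel

theorem FD.chk_c (K : FD F) (hm : K.m = 1) (Γ : F →+ F)
    (h : ∀ x y, K.nm x + Γ x = K.nm y + Γ y → x = y) : ∃ r, ∀ x, Γ x = K.B r x := by
  obtain ⟨e, e1, e2⟩ := K.exists_e hm
  obtain ⟨a, b, c, k⟩ := e2 Γ
  obtain ⟨r, hr⟩ := chk8c a b c fun x y e3 => e.injective (h _ _ (by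
    rw [FD.nm, FD.nm, e1, e1, k, k, ← map_mul, ← map_mul, ← map_add, ← map_add, e3]))
  refine ⟨e r, fun x => ?_⟩
  obtain ⟨x, rfl⟩ := e.surjective x
  rw [k, hr, FD.B, e1, e1, map_add, map_mul, map_mul]

theorem FD.chk_o (K : FD F) (hm : K.m = 1) (γ : F →+ F) (h : Function.Injective γ) :
    (∀ x, γ^[21] x = x) ∨ ∃ k : Fˣ, (∀ x, γ (K.nm k * γ (K.nm k * γ (K.nm k * x))) = x) ∧
      ∃ x, γ (K.nm k * x) ≠ x := by
  obtain ⟨e, -, e2⟩ := K.exists_e hm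
  obtain ⟨a, b, c, k⟩ := e2 γ
  rcases chk8o a b c fun x e3 => e.injective (h (by rw [k, e3, map_zero, map_zero])) with h1 | ⟨j, j0, h1, x, h2⟩
  · refine .inl fun x => ?_
    obtain ⟨x, rfl⟩ := e.surjective x
    rw [← Function.Semiconj.iterate_right (f := e) (fun x => (k x).symm) 21 x, h1]
  · obtain ⟨i, hi⟩ := K.exists_nm one_ne_zero ((map_ne_zero e).2 j0)
    rw [mul_one] at hi
    refine .inr ⟨i, fun x => ?_, e x, fun e3 => h2 (e.injective (by rw [← k, map_mul, ← hi, e3]))⟩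
    obtain ⟨x, rfl⟩ := e.surjective x
    rw [hi, ← map_mul, k, ← map_mul, k, ← map_mul, k, h1]

end H2.SZ
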